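import Cfsg.Agent.Chev.Borel

/-! Words for the opposition element. -/

set_option autoImplicit false

open Cfsg.Lie

namespace Cfsg.Lib.Chev

theorem opp_G2 : G2.cert.okOpp [0, 1, 0, 1, 0, 1] = true := by decide +kernel
theorem opp_B2 : B2.cert.okOpp [0, 1, 0, 1] = true := by decide +kernel
theorem opp_D4 : D4.cert.okOpp [0, 1, 0, 2, 1, 0, 3, 1, 0, 2, 1, 3] = true := by decide +kernel
theorem opp_F4 : F4.cert.okOpp [0, 1, 0, 2, 1, 0, 2, 1, 2, 3, 2, 1, 0, 2, 1, 2, 3, 2, 1, 0, 2, 1, 2, 3] = true := by decide +kernel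
theorem opp_E6 : E6.cert.okOpp [0, 1, 2, 0, 3, 1, 2, 0, 3, 2, 4, 3, 1, 2, 0, 3, 2, 4, 3, 1, 5, 4, 3, 1, 2, 0, 3, 2, 4, 3, 1, 5, 4, 3, 2, 0] = true := by decide +kernel
theorem opp_E7 : E7.cert.okOpp [0, 1, 2, 0, 3, 1, 2, 0, 3, 2, 4, 3, 1, 2, 0, 3, 2, 4, 3, 1, 5, 4, 3, 1, 2, 0, 3, 2, 4, 3, 1, 5, 4, 3, 2, 0, 6, 5, 4, 3, 1, 2, 0, 3, 2, 4, 3, 1, 5, 4, 3, 2, 0, 6, 5, 4, 3, 1, 2, 3, 4, 5, 6] = true := by decide +kernel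
theorem opp_E8 : E8.cert.okOpp [0, 1, 2, 0, 3, 1, 2, 0, 3, 2, 4, 3, 1, 2, 0, 3, 2, 4, 3, 1, 5, 4, 3, 1, 2, 0, 3, 2, 4, 3, 1, 5, 4, 3, 2, 0, 6, 5, 4, 3, 1, 2, 0, 3, 2, 4, 3, 1, 5, 4, 3, 2, 0, 6, 5, 4, 3, 1, 2, 3, 4, 5, 6, 7, 6, 5, 4, 3, 1, 2, 0, 3, 2, 4, 3, 1, 5, 4, 3, 2, 0, 6, 5, 4, 3, 1, 2, 3, 4, 5, 6, 7, 6, 5, 4, 3, 1, 2, 0, 3, 2, 4, 3, 1, 5, 4, 3, 2, 0, 6, 5, 4, 3, 1, 2, 3, 4, 5, 6, 7] = true := by decide +kernel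

theorem opp_of_mem {D : ChevalleyDatum}
    (hD : D ∈ [chevG2, chevB2, chevD4, chevF4, chevE6, chevE7, chevE8]) :
    ∃ C L, Struct D C ∧ okNeg D = true ∧ C.okOpp L = true := by
  simp only [List.mem_cons, List.not_mem_nil, or_false] at hD
  rcases hD with rfl | rfl | rfl | rfl | rfl | rfl | rfl
  · exact ⟨_, _, ⟨G2.ok, G2.okChain_, G2.okBase_all, okOrder_G2⟩, okNeg_G2, opp_G2⟩
  · exact ⟨_, _, ⟨B2.ok, B2.okChain_, B2.okBase_all, okOrder_B2⟩, okNeg_B2, opp_B2⟩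
  · exact ⟨_, _, ⟨D4.ok, D4.okChain_, D4.okBase_all, okOrder_D4⟩, okNeg_D4, opp_D4⟩
  · exact ⟨_, _, ⟨F4.ok, F4.okChain_, F4.okBase_all, okOrder_F4⟩, okNeg_F4, opp_F4⟩
  · exact ⟨_, _, ⟨E6.ok, E6.okChain_, E6.okBase_all, okOrder_E6⟩, okNeg_E6, opp_E6⟩
  · exact ⟨_, _, ⟨E7.ok, E7.okChain_, E7.okBase_all, okOrder_E7⟩, okNeg_E7, opp_E7⟩
  · exact ⟨_, _, ⟨E8.ok, E8.okChain_, E8.okBase_all, okOrder_E8⟩, okNeg_E8, opp_E8⟩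

end Cfsg.Lib.Chev
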