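import Cfsg.Agent.Chev.WeightsBase

/-! Injectivity of the torus parametrisation, from a scaled inverse of the Cartan matrix. -/

set_option autoImplicit false

open Cfsg.Lie

namespace Cfsg.Lib.Chev

variable {D : ChevalleyDatum} {C : Cert} {F : Type*} [Field F] [Fintype F]

/-- Certificate: `M` times the transposed Cartan matrix is `d` times the identity. -/
def okInv (D : ChevalleyDatum) (M : List (List ℤ)) (d : ℕ) : Bool :=
  (List.range D.rank).all fun i => (List.range D.rank).all fun j =>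
    decide (((List.range D.rank).map fun s => (M.getD i []).getD s 0 * D.cartan j (D.simple s)).sum =
      if j = i then (d : ℤ) else 0)

theorem Struct.tG_injective (S : Struct D C) {M : List (List ℤ)} {d : ℕ} (hM : okInv D M d = true)
    (hd : d.Coprime (Fintype.card F - 1)) : Function.Injective (Ok.tG D F) := by
  classical
  rw [injective_iff_map_eq_one]
  intro c hc
  have hs : ∀ s : Fin D.rank, (∏ j, c j ^ D.cartan j (D.simple s)) = 1 := fun s => by
    have hlt : D.simple s < D.nroots := S.ok.sr_eq s.isLt ▸ S.ok.sr_lt s.isLt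
    have h1 := congrArg (fun g : GL D.Idx F => (g : Matrix D.Idx D.Idx F) (Sum.inr ⟨_, hlt⟩) (Sum.inr ⟨_, hlt⟩)) hc
    simp only [Ok.tG_val, Matrix.diagonal_apply_eq, Sum.elim_inr, Units.val_one, Matrix.one_apply_eq] at h1
    exact Units.ext h1
  simp only [okInv, List.all_eq_true, List.mem_range, decide_eq_true_eq] at hM
  funext i
  have h1 : ∏ s : Fin D.rank, (∏ j, c j ^ D.cartan j (D.simple s)) ^ (M.getD i []).getD s 0 = 1 := by
    simp [hs]
  simp only [← Finset.prod_zpow, ← zpow_mul] at h1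
  rw [Finset.prod_comm] at h1
  have hsum : ∀ (a : Fˣ) (f : Fin D.rank → ℤ), ∏ s, a ^ f s = a ^ ∑ s, f s := fun a f => by
    induction (Finset.univ : Finset (Fin D.rank)) using Finset.induction_on with
    | empty => simp
    | insert x s hx ih => rw [Finset.prod_insert hx, Finset.sum_insert hx, zpow_add, ih]
  simp only [hsum] at h1
  have hcol : ∀ j : Fin D.rank, (∑ s : Fin D.rank, D.cartan j (D.simple s) * (M.getD i []).getD s 0) =
      if j = i then (d : ℤ) else 0 := fun j => by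
    have h := hM i i.isLt j j.isLt
    rw [← List.map_coe_finRange_eq_range, List.map_map, ← List.ofFn_eq_map, List.sum_ofFn] at h
    simp only [Fin.val_inj, Function.comp_apply] at h
    rw [← h]
    exact Finset.sum_congr rfl fun s _ => mul_comm _ _
  simp only [hcol] at h1
  rw [Finset.prod_eq_single i (fun b _ hb => by simp [hb]) (by simp), if_pos rfl, zpow_natCast] at h1
  have h2 : orderOf (c i) ∣ Fintype.card F - 1 := by
    rw [← Fintype.card_units]
    exact orderOf_dvd_card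
  exact orderOf_eq_one_iff.1 (Nat.eq_one_of_dvd_coprimes hd (orderOf_dvd_iff_pow_eq_one.2 h1) h2)

theorem inv_G2 : okInv chevG2 [[2, 1], [3, 2]] 1 = true := by decide +kernel
theorem inv_B2 : okInv chevB2 [[2, 1], [2, 2]] 2 = true := by decide +kernel
theorem inv_D4 : okInv chevD4 [[2, 2, 1, 1], [2, 4, 2, 2], [1, 2, 2, 1], [1, 2, 1, 2]] 2 = true := by decide +kernel
theorem inv_F4 : okInv chevF4 [[2, 3, 2, 1], [3, 6, 4, 2], [4, 8, 6, 3], [2, 4, 3, 2]] 1 = true := by
  decide +kernel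
theorem inv_E6 : okInv chevE6 [[4, 3, 5, 6, 4, 2], [3, 6, 6, 9, 6, 3], [5, 6, 10, 12, 8, 4],
    [6, 9, 12, 18, 12, 6], [4, 6, 8, 12, 10, 5], [2, 3, 4, 6, 5, 4]] 3 = true := by decide +kernel
theorem inv_E7 : okInv chevE7 [[4, 4, 6, 8, 6, 4, 2], [4, 7, 8, 12, 9, 6, 3], [6, 8, 12, 16, 12, 8, 4],
    [8, 12, 16, 24, 18, 12, 6], [6, 9, 12, 18, 15, 10, 5], [4, 6, 8, 12, 10, 8, 4], [2, 3, 4, 6, 5, 4, 3]] 2 =
    true := by decide +kernel
theorem inv_E8 : okInv chevE8 [[4, 5, 7, 10, 8, 6, 4, 2], [5, 8, 10, 15, 12, 9, 6, 3],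
    [7, 10, 14, 20, 16, 12, 8, 4], [10, 15, 20, 30, 24, 18, 12, 6], [8, 12, 16, 24, 20, 15, 10, 5],
    [6, 9, 12, 18, 15, 12, 8, 4], [4, 6, 8, 12, 10, 8, 6, 3], [2, 3, 4, 6, 5, 4, 3, 2]] 1 = true := by
  decide +kernel

end Cfsg.Lib.Chev
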