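import Cfsg.Agent.Chev.Orders

/-! Coset representative tables and torus certificate for type B2, checked by the kernel. -/

set_option autoImplicit false

open Cfsg.Lie

namespace Cfsg.Lib.Chev.B2

/-- Step 0 of the chain. -/
def lev0 : Lev where
  sub := 0
  img := [506097522914230528,
    289921455100330243]
  par := [(0, 0), (0, 0)]
  nx := [[(1, 0)],
    [(0, 0)]]

/-- Step 1 of the chain. -/
def lev1 : Lev where
  sub := 36
  img := [506097522914230528,
    505817143170892288,
    288799923292407043,
    216459754766206468]
  par := [(0, 0), (1, 0), (0, 1), (1, 2)]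
  nx := [[(0, 0), (1, 1)],
    [(2, 1), (0, 1)],
    [(1, 1), (3, 1)],
    [(3, 0), (2, 1)]]

/-- The chain. -/
def levs : List Lev := [lev0, lev1]

theorem poincare : okPoincare cert levs [2, 4] = true := by decide +kernel

theorem weylCard : peval (levsPoly cert levs) 1 = 8 := by decide +kernel

theorem torus : Struct.TorusCert 2 1 (fun i j => cert.cart i.val (cert.sr j.val)) 2 ![0]
    ![![1], ![0]]
    ![![0, 0], ![1, 1]]
    ![![2, 1]] := by
  unfold Struct.TorusCert
  decide +kernel

end Cfsg.Lib.Chev.B2
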