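import Cfsg.Agent.Chev.Orders

/-! Coset representative tables and torus certificate for type D4, checked by the kernel. -/

set_option autoImplicit false

open Cfsg.Lie

namespace Cfsg.Lib.Chev.D4

/-- Step 0 of the chain. -/
def lev0 : Lev where
  sub := 0
  img := [566073426779046459040877649791461066728553822781039575296,
    565592643864087472290204273757603651193062799363369534976]
  par := [(0, 0), (0, 0)]
  nx := [[(1, 0)],
    [(0, 0)]]

/-- Step 1 of the chain. -/
def lev1 : Lev where
  sub := 262176
  img := [566073426779046459040877649791461066728553822781039575296,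
    541649279090809664310305499994679834166397163664360734721,
    419047757717606637246089078280482453795135669039884861446]
  par := [(0, 0), (1, 0), (0, 1)]
  nx := [[(0, 0), (1, 1)],
    [(2, 1), (0, 1)],
    [(1, 1), (2, 0)]]

/-- Step 2 of the chain. -/
def lev2 : Lev where
  sub := 803376
  img := [566073426779046459040877649791461066728553822781039575296,
    565881119482020990812274433957960368099339668429056770816,
    541360818145271287405210002820587615059322471851766383361,
    418277406113374091948515828959365406828433413919657297926]
  par := [(0, 0), (2, 0), (1, 1), (0, 2)]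
  nx := [[(0, 0), (0, 1), (1, 2)],
    [(1, 0), (2, 2), (0, 2)],
    [(3, 2), (1, 2), (2, 1)],
    [(2, 2), (3, 0), (3, 1)]]

/-- Step 3 of the chain. -/
def lev3 : Lev where
  sub := 2975412
  img := [566073426779046459040877649791461066728553822781039575296,
    565978018496368764364970633948976412520310965285293195776,
    541458462525454101413160302537574386157308128248975065601,
    418379895371484661289171565178005280707162266177632208646,
    492227043286599742850362118748279219857892897047837672451,
    369148476132630302726373381388710114407747034976494815496,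
    295109409708559089642447931671592764948407385639469780491,
    270493324471770877588290445702927215677076474864842444556]
  par := [(0, 0), (3, 0), (1, 1), (0, 2), (2, 2), (2, 3), (1, 5), (3, 6)]
  nx := [[(0, 0), (0, 1), (0, 2), (1, 3)],
    [(1, 0), (2, 3), (1, 2), (0, 3)],
    [(3, 3), (1, 3), (4, 3), (2, 1)],
    [(2, 3), (3, 0), (5, 3), (3, 1)],
    [(5, 3), (4, 2), (2, 3), (4, 1)],
    [(4, 3), (6, 3), (3, 3), (5, 1)],
    [(6, 2), (5, 3), (6, 0), (7, 3)],
    [(7, 2), (7, 1), (7, 0), (6, 3)]]

/-- The chain. -/
def levs : List Lev := [lev0, lev1, lev2, lev3]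

theorem poincare : okPoincare cert levs [2, 4, 4, 6] = true := by decide +kernel

theorem weylCard : peval (levsPoly cert levs) 1 = 192 := by decide +kernel

theorem torus : Struct.TorusCert 4 2 (fun i j => cert.cart i.val (cert.sr j.val)) 2 ![0, 2]
    ![![1, 0], ![0, 0], ![0, 1], ![1, 1]]
    ![![0, 0, 0, 0], ![1, 2, 1, 1], ![0, 0, 0, 0], ![-1, -1, -1, 0]]
    ![![2, 2, 1, 1], ![1, 2, 2, 1]] := by
  unfold Struct.TorusCert
  decide +kernel

end Cfsg.Lib.Chev.D4
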