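import Cfsg.Agent.Chev.Orders

/-! Coset representative tables and torus certificate for type G2, checked by the kernel. -/

set_option autoImplicit false

open Cfsg.Lie

namespace Cfsg.Lib.Chev.G2

/-- Step 0 of the chain. -/
def lev0 : Lev where
  sub := 0
  img := [3416467015609337987117220096,
    3411626608196089407097472256]
  par := [(0, 0), (0, 0)]
  nx := [[(1, 0)],
    [(0, 0)]]

/-- Step 1 of the chain. -/
def lev1 : Lev where
  sub := 144
  img := [3416467015609337987117220096,
    3108190913232640688152248321,
    1870246096311481410412281861,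
    1559547419857014393709789446,
    316757491674925329740662026,
    6058833595705547918149131]
  par := [(0, 0), (1, 0), (0, 1), (1, 2), (0, 3), (1, 4)]
  nx := [[(0, 0), (1, 1)],
    [(2, 1), (0, 1)],
    [(1, 1), (3, 1)],
    [(4, 1), (2, 1)],
    [(3, 1), (5, 1)],
    [(5, 0), (4, 1)]]

/-- The chain. -/
def levs : List Lev := [lev0, lev1]

theorem poincare : okPoincare cert levs [2, 6] = true := by decide +kernel

theorem weylCard : peval (levsPoly cert levs) 1 = 12 := by decide +kernel

theorem torus : Struct.TorusCert 2 0 (fun i j => cert.cart i.val (cert.sr j.val)) 1 Fin.elim0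
    (fun _ => Fin.elim0)
    ![![2, 1], ![3, 2]]
    (fun a => a.elim0) := by
  unfold Struct.TorusCert
  decide +kernel

end Cfsg.Lib.Chev.G2
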