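import Cfsg.Agent.Chev.Borel
import Cfsg.Agent.BN.Basic

/-! Bruhat normal form and the counting formula `|G| = |B| ∑ q^{N(w)}`. -/

set_option autoImplicit false

open Cfsg.Lie

namespace Cfsg.Lib.Chev

variable {D : ChevalleyDatum} {C : Cert} {F : Type*} [Field F]

namespace Struct

/-- The positive roots selected by `Ψ`: the generated subgroup. -/
noncomputable def UPsi (S : Struct D C) (F : Type*) [Field F] (Ψ : Fin D.nroots → Prop) :
    Subgroup (GL D.Idx F) :=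
  Subgroup.closure {g | ∃ (r : Fin D.nroots) (t : F), D.nroots / 2 ≤ r.val ∧ Ψ r ∧ g = S.ok.xG r.val t}

/-- The positive roots made negative by a permutation. -/
def Neg (D : ChevalleyDatum) (w : Equiv.Perm (Fin D.nroots)) (r : Fin D.nroots) : Prop :=
  (w r).val < D.nroots / 2

theorem UPsi_le (S : Struct D C) (Ψ : Fin D.nroots → Prop) : S.UPsi F Ψ ≤ D.posUnipotent F := by
  refine (Subgroup.closure_le _).2 ?_
  rintro g ⟨r, t, a, -, rfl⟩
  exact S.xG_mem_U a r.isLt t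

theorem split_Ugen (S : Struct D C) (Ψ : Fin D.nroots → Prop) : ∀ (d k : ℕ), d + k = D.nroots →
    D.nroots / 2 ≤ k → ∀ g ∈ S.Ugen F k,
      ∃ a ∈ S.UPsi F (fun r => ¬ Ψ r), ∃ b ∈ S.UPsi F Ψ, g = a * b := by
  intro d
  induction d with
  | zero =>
    intro k hk _ g hg
    rw [S.Ugen_top (by omega), Subgroup.mem_bot] at hg
    exact ⟨1, one_mem _, 1, one_mem _, by rw [hg, one_mul]⟩
  | succ d ih =>
    intro k hk hkp g hg
    have hkn : k < D.nroots := by omega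
    obtain ⟨t, v, hv, rfl⟩ := S.Ugen_split hkn hkp hg
    by_cases hΨ : Ψ ⟨k, hkn⟩
    · have hv' := (Subgroup.mem_normalizer_iff.1
        (S.le_normalizer_Ugen (j := k) (k := k + 1) hkp (by omega) (S.xG_mem_Ugen le_rfl hkn t)) v).1 hv
      obtain ⟨a, ha, b, hb, e⟩ := ih (k + 1) (by omega) (by omega) _ hv'
      refine ⟨a, ha, b * S.ok.xG k t,
        mul_mem hb (Subgroup.subset_closure ⟨⟨k, hkn⟩, t, hkp, hΨ, rfl⟩), ?_⟩
      rw [← mul_assoc, ← e]
      group
    · obtain ⟨a, ha, b, hb, rfl⟩ := ih (k + 1) (by omega) (by omega) v hv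
      exact ⟨S.ok.xG k t * a, mul_mem (Subgroup.subset_closure ⟨⟨k, hkn⟩, t, hkp, hΨ, rfl⟩) ha, b, hb,
        by rw [mul_assoc]⟩

theorem conj_Neg (S : Struct D C) {n : GL D.Idx F} {w : Equiv.Perm (Fin D.nroots)} (ha : Act S.ok n w)
    {u : GL D.Idx F} (hu : u ∈ S.UPsi F (Neg D w)) : n * u * n⁻¹ ∈ D.negUnipotent F := by
  have hle : S.UPsi F (Neg D w) ≤ (D.negUnipotent F).comap (MulAut.conj n).toMonoidHom := by
    refine (Subgroup.closure_le _).2 ?_
    rintro g ⟨r, t, a, b, rfl⟩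
    obtain ⟨-, c, -, e⟩ := ha r
    show n * S.ok.xG r.val t * n⁻¹ ∈ D.negUnipotent F
    rw [(e t).1]
    exact Subgroup.subset_closure ⟨_, _, S.isNeg_iff.2 b, S.ok.val_xG _ _⟩
  exact hle hu

theorem conj_Pos (S : Struct D C) {n : GL D.Idx F} {w : Equiv.Perm (Fin D.nroots)} (ha : Act S.ok n w)
    {u : GL D.Idx F} (hu : u ∈ S.UPsi F (fun r => ¬ Neg D w r)) : n * u * n⁻¹ ∈ D.posUnipotent F := by
  have hle : S.UPsi F (fun r => ¬ Neg D w r) ≤ (D.posUnipotent F).comap (MulAut.conj n).toMonoidHom := by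
    refine (Subgroup.closure_le _).2 ?_
    rintro g ⟨r, t, a, b, rfl⟩
    obtain ⟨-, c, -, e⟩ := ha r
    show n * S.ok.xG r.val t * n⁻¹ ∈ D.posUnipotent F
    rw [(e t).1]
    exact S.xG_mem_U (Nat.le_of_not_lt b) (Fin.isLt _) _
  exact hle hu

theorem Neg_inter (S : Struct D C) (hN : okNeg D = true) {n : GL D.Idx F} {w : Equiv.Perm (Fin D.nroots)}
    (ha : Act S.ok n w) {u : GL D.Idx F} (h1 : u ∈ S.UPsi F (fun r => ¬ Neg D w r))
    (h2 : u ∈ S.UPsi F (Neg D w)) : u = 1 := by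
  have h3 : n * u * n⁻¹ ∈ D.borelSubgroup F ⊓ D.negUnipotent F :=
    Subgroup.mem_inf.2 ⟨S.B_le_of (S.conj_Pos ha h1), S.conj_Neg ha h2⟩
  rw [S.B_inf_V hN, Subgroup.mem_bot, mul_inv_eq_one] at h3
  exact mul_left_cancel (a := n) (h3.trans (mul_one n).symm)

theorem pow_le_card_UPsi [Fintype F] (S : Struct D C) (Ψ : Fin D.nroots → Prop) [DecidablePred Ψ] :
    Fintype.card F ^ (Finset.univ.filter fun r : Fin D.nroots => D.nroots / 2 ≤ r.val ∧ Ψ r).card ≤
      Nat.card ↥(S.UPsi F Ψ) := by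
  classical
  have hs := S.hsum
  let T := {r : Fin D.nroots // r ∈ Finset.univ.filter fun r : Fin D.nroots => D.nroots / 2 ≤ r.val ∧ Ψ r}
  let ext' : (T → F) → ℕ → F := fun c r =>
    if hr : r < D.nroots then
      (if hm : (⟨r, hr⟩ : Fin D.nroots) ∈ Finset.univ.filter
          (fun r : Fin D.nroots => D.nroots / 2 ≤ r.val ∧ Ψ r) then c ⟨⟨r, hr⟩, hm⟩ else 0)
    else 0
  have hmem : ∀ c, S.pw (D.nroots / 2) (ext' c) ∈ S.UPsi F Ψ := by
    intro c
    refine list_prod_mem fun g hg => ?_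
    obtain ⟨r, hr, rfl⟩ := List.mem_map.1 hg
    rw [List.mem_range'_1] at hr
    have hrn : r < D.nroots := by omega
    simp only [ext', dif_pos hrn]
    split_ifs with hm
    · rw [Finset.mem_filter] at hm
      exact Subgroup.subset_closure ⟨⟨r, hrn⟩, _, hm.2.1, hm.2.2, rfl⟩
    · rw [S.xG_zero]; exact one_mem _
  have hinj : Function.Injective (fun c : T → F => (⟨_, hmem c⟩ : ↥(S.UPsi F Ψ))) := by
    intro c c' e
    funext x
    obtain ⟨r, hr⟩ := x
    have hm := (Finset.mem_filter.1 hr).2.1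
    have h1 := S.pw_inj (D.nroots - D.nroots / 2) (D.nroots / 2) (by omega) le_rfl _ _
      (congrArg Subtype.val e) r.val hm r.isLt
    simpa [ext', r.isLt, (Finset.mem_filter.1 hr).2] using h1
  have := Nat.card_le_card_of_injective _ hinj
  rwa [Nat.card_eq_fintype_card (α := T → F), Fintype.card_fun, Fintype.card_coe] at this

/-- The number of positive roots made negative. -/
noncomputable def Nw (D : ChevalleyDatum) (w : Equiv.Perm (Fin D.nroots)) : ℕ :=
  (Finset.univ.filter fun r : Fin D.nroots => D.nroots / 2 ≤ r.val ∧ (w r).val < D.nroots / 2).card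

theorem card_UPsi_Neg [Fintype F] (S : Struct D C) (hN : okNeg D = true) {n : GL D.Idx F}
    {w : Equiv.Perm (Fin D.nroots)} (ha : Act S.ok n w) :
    Nat.card ↥(S.UPsi F (Neg D w)) = Fintype.card F ^ Nw D w := by
  classical
  have hs := S.hsum
  let f : ↥(S.UPsi F (fun r => ¬ Neg D w r)) × ↥(S.UPsi F (Neg D w)) → ↥(D.posUnipotent F) :=
    fun p => ⟨p.1.1 * p.2.1, mul_mem (S.UPsi_le _ p.1.2) (S.UPsi_le _ p.2.2)⟩
  have hf : Function.Bijective f := by
    constructor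
    · rintro ⟨⟨a, ha'⟩, b, hb⟩ ⟨⟨a', ha''⟩, b', hb'⟩ e
      have e' : a * b = a' * b' := congrArg Subtype.val e
      have he : a'⁻¹ * a = b' * b⁻¹ := by
        rw [eq_mul_inv_iff_mul_eq, mul_assoc, e', inv_mul_cancel_left]
      have h1 := S.Neg_inter hN ha (mul_mem (inv_mem ha'') ha') (he ▸ mul_mem hb' (inv_mem hb))
      have ea : a = a' := (inv_mul_eq_one.1 h1).symm
      subst ea
      have eb := mul_left_cancel e'
      subst eb
      rfl
    · rintro ⟨g, hg⟩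
      rw [S.posUnipotent_eq] at hg
      obtain ⟨a, ha', b, hb, rfl⟩ := S.split_Ugen (Neg D w) (D.nroots - D.nroots / 2) (D.nroots / 2)
        (by omega) le_rfl g hg
      exact ⟨⟨⟨a, ha'⟩, b, hb⟩, rfl⟩
  have hcard := Nat.card_eq_of_bijective f hf
  rw [Nat.card_prod, S.card_posUnipotent] at hcard
  have h1 := S.pow_le_card_UPsi (F := F) (fun r => ¬ Neg D w r)
  have h2 := S.pow_le_card_UPsi (F := F) (Neg D w)
  set q := Fintype.card F
  set A := Finset.univ.filter fun r : Fin D.nroots => D.nroots / 2 ≤ r.val ∧ ¬ Neg D w r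
  set B := Finset.univ.filter fun r : Fin D.nroots => D.nroots / 2 ≤ r.val ∧ Neg D w r
  have hB : B.card = Nw D w := by
    unfold Nw
    congr 1
    ext r
    refine Iff.trans Finset.mem_filter (Iff.trans ?_ Finset.mem_filter.symm)
    simp [Neg]
  have hAB : A.card + B.card = D.nroots / 2 := by
    have hu : A ∪ B = Finset.univ.filter fun r : Fin D.nroots => D.nroots / 2 ≤ r.val := by
      ext r; simp [A, B]; tauto
    have hd : Disjoint A B := by
      rw [Finset.disjoint_left]; intro r; simp [A, B]; tauto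
    rw [← Finset.card_union_of_disjoint hd, hu]
    have e2 : (Finset.univ.filter fun r : Fin D.nroots => D.nroots / 2 ≤ r.val).card =
        ((Finset.range D.nroots).filter fun r => D.nroots / 2 ≤ r).card := by
      refine Finset.card_bij (fun r _ => r.val) (by simp) (fun a _ b _ e => Fin.ext e) fun b hb => ?_
      simp only [Finset.mem_filter, Finset.mem_range] at hb
      exact ⟨⟨b, hb.1⟩, by simp [hb.2], rfl⟩
    rw [e2, show ((Finset.range D.nroots).filter fun r => D.nroots / 2 ≤ r) =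
      Finset.Ico (D.nroots / 2) D.nroots by ext r; simp; omega, Nat.card_Ico]
    omega
  rw [← hB]
  rw [← hAB, pow_add] at hcard
  have hq : 0 < q := Fintype.card_pos
  have hApos : 0 < q ^ A.card := pow_pos hq _
  nlinarith [Nat.mul_le_mul h1 h2, Nat.mul_le_mul_right (q ^ B.card) h1,
    Nat.mul_le_mul_left (Nat.card ↥(S.UPsi F fun r => ¬ Neg D w r)) h2]

theorem normal_form (S : Struct D C) (hN : okNeg D = true) {g : GL D.Idx F} (hg : g ∈ D.group F) :
    ∃ b ∈ D.borelSubgroup F, ∃ n ∈ D.monomialSubgroup F, ∃ L, Act S.ok n (S.wpL L) ∧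
      ∃ u ∈ S.UPsi F (Neg D (S.wpL L)), g = b * n * u := by
  obtain ⟨P, hPB, hPN, -⟩ := S.exists_bnPair (F := F) (fun i j h => S.simple_ne hN i j h)
  obtain ⟨n, hn, hgn⟩ := Cfsg.Lib.BN.bruhat P ⟨g, hg⟩
  obtain ⟨b, hb, c, hc, e⟩ := Cfsg.Lib.BN.mem_dc.1 hgn
  rw [hPB, Subgroup.mem_subgroupOf] at hb hc
  rw [hPN, Subgroup.mem_subgroupOf] at hn
  have e' : g = (b : GL D.Idx F) * (n : GL D.Idx F) * c := by simpa using congrArg Subtype.val e
  obtain ⟨u, hu, d, hd, ec⟩ := S.borel_decomp hc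
  have hu' : d⁻¹ * u * d ∈ D.posUnipotent F := by
    have := (Subgroup.mem_normalizer_iff.1 (S.diag_normalises_U (inv_mem hd)) u).1 hu
    rwa [inv_inv] at this
  obtain ⟨L, hact, -⟩ := S.exists_act hn
  rw [S.posUnipotent_eq] at hu'
  have hs := S.hsum
  obtain ⟨a, ha, v, hv, e2⟩ := S.split_Ugen (Neg D (S.wpL L)) (D.nroots - D.nroots / 2) (D.nroots / 2)
    (by omega) le_rfl _ hu'
  refine ⟨(b : GL D.Idx F) * ((n : GL D.Idx F) * d * (n : GL D.Idx F)⁻¹) *
    ((n : GL D.Idx F) * a * (n : GL D.Idx F)⁻¹), ?_, n, hn, L, hact, v, hv, ?_⟩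
  · exact mul_mem (mul_mem hb (Subgroup.mem_sup_right (S.norm_diag hn hd))) (S.B_le_of (S.conj_Pos hact ha))
  · have e3 : (c : GL D.Idx F) = d * a * v := by
      rw [ec, mul_assoc d a v, ← e2]; group
    rw [e', e3]
    group

theorem normal_form_cong (S : Struct D C) (hN : okNeg D = true) {b b' n n' u u' : GL D.Idx F}
    (hb : b ∈ D.borelSubgroup F) (hb' : b' ∈ D.borelSubgroup F)
    (hn : n ∈ D.monomialSubgroup F) (hn' : n' ∈ D.monomialSubgroup F)
    (hu : u ∈ D.posUnipotent F) (hu' : u' ∈ D.posUnipotent F)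
    (e : b * n * u = b' * n' * u') : n⁻¹ * n' ∈ D.diagonalSubgroup F := by
  obtain ⟨P, hPB, hPN, -⟩ := S.exists_bnPair (F := F) (fun i j h => S.simple_ne hN i j h)
  have hBG := S.borel_le_group (F := F)
  have hN' := S.mono_le_group (F := F)
  let N1 : ↥(D.group F) := ⟨n, hN' hn⟩
  let N2 : ↥(D.group F) := ⟨n', hN' hn'⟩
  have hN1 : N1 ∈ P.N := by rw [hPN]; exact hn
  have hN2 : N2 ∈ P.N := by rw [hPN]; exact hn'
  have hd : N1 ∈ Cfsg.Lib.BN.dc P N2 := by
    refine Cfsg.Lib.BN.mem_dc.2 ⟨⟨b⁻¹ * b', mul_mem (inv_mem (hBG hb)) (hBG hb')⟩, ?_,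
      ⟨u' * u⁻¹, mul_mem (hBG (S.B_le_of hu')) (inv_mem (hBG (S.B_le_of hu)))⟩, ?_, ?_⟩
    · rw [hPB]; exact mul_mem (inv_mem hb) hb'
    · rw [hPB]; exact mul_mem (S.B_le_of hu') (inv_mem (S.B_le_of hu))
    · refine Subtype.ext ?_
      show n = b⁻¹ * b' * n' * (u' * u⁻¹)
      rw [show b⁻¹ * b' * n' * (u' * u⁻¹) = b⁻¹ * (b' * n' * u') * u⁻¹ by group, ← e]
      group
  have h := Cfsg.Lib.BN.cong_of_mem_dc hN1 hN2 hd
  have hz : N1⁻¹ * N2 ∈ P.B ∧ N1⁻¹ * N2 ∈ P.N := Subgroup.mem_inf.1 h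
  rw [hPB, hPN, Subgroup.mem_subgroupOf, Subgroup.mem_subgroupOf, ← Subgroup.mem_inf, S.B_inf_N] at hz
  exact hz

theorem normal_form_unique (S : Struct D C) (hN : okNeg D = true) {b b' n u u' : GL D.Idx F}
    (hb : b ∈ D.borelSubgroup F) (hb' : b' ∈ D.borelSubgroup F) {w : Equiv.Perm (Fin D.nroots)}
    (ha : Act S.ok n w) (hu : u ∈ S.UPsi F (Neg D w)) (hu' : u' ∈ S.UPsi F (Neg D w))
    (e : b * n * u = b' * n * u') : b = b' ∧ u = u' := by
  have h1 : n * (u * u'⁻¹) * n⁻¹ ∈ D.borelSubgroup F ⊓ D.negUnipotent F := by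
    refine Subgroup.mem_inf.2 ⟨?_, S.conj_Neg ha (mul_mem hu (inv_mem hu'))⟩
    rw [show n * (u * u'⁻¹) * n⁻¹ = b⁻¹ * (b * n * u) * u'⁻¹ * n⁻¹ by group, e,
      show b⁻¹ * (b' * n * u') * u'⁻¹ * n⁻¹ = b⁻¹ * b' by group]
    exact mul_mem (inv_mem hb) hb'
  rw [S.B_inf_V hN, Subgroup.mem_bot, mul_inv_eq_one] at h1
  have h2 : u = u' := mul_inv_eq_one.1 (mul_left_cancel (a := n) (h1.trans (mul_one n).symm))
  subst h2
  exact ⟨mul_right_cancel (mul_right_cancel e), rfl⟩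

/-- The group of permutations of the roots generated by the fundamental reflections. -/
noncomputable def WG (S : Struct D C) : Subgroup (Equiv.Perm (Fin D.nroots)) :=
  Subgroup.closure (Set.range S.wp)

theorem wpL_mem_WG (S : Struct D C) (L : List (Fin D.rank)) : S.wpL L ∈ S.WG := by
  refine list_prod_mem fun g hg => ?_
  obtain ⟨i, -, rfl⟩ := List.mem_map.1 hg
  exact Subgroup.subset_closure ⟨i, rfl⟩

theorem exists_wpL (S : Struct D C) {w : Equiv.Perm (Fin D.nroots)} (hw : w ∈ S.WG) : ∃ L, w = S.wpL L := by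
  induction hw using Subgroup.closure_induction_left with
  | one => exact ⟨[], rfl⟩
  | mul_left x hx y _ ih =>
    obtain ⟨i, rfl⟩ := hx
    obtain ⟨L, rfl⟩ := ih
    exact ⟨i :: L, rfl⟩
  | inv_mul_cancel x hx y _ ih =>
    obtain ⟨i, rfl⟩ := hx
    obtain ⟨L, rfl⟩ := ih
    exact ⟨i :: L, by rw [inv_eq_of_mul_eq_one_right (S.wp_mul_self i)]; rfl⟩

theorem card_borel [Fintype F] (S : Struct D C) :
    Nat.card ↥(D.borelSubgroup F) =
      Fintype.card F ^ (D.nroots / 2) * Nat.card ↥(D.diagonalSubgroup F) := by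
  let f : ↥(D.posUnipotent F) × ↥(D.diagonalSubgroup F) → ↥(D.borelSubgroup F) :=
    fun p => ⟨p.1.1 * p.2.1, mul_mem (S.B_le_of p.1.2) (Subgroup.mem_sup_right p.2.2)⟩
  have hf : Function.Bijective f := by
    constructor
    · rintro ⟨⟨a, ha⟩, b, hb⟩ ⟨⟨a', ha'⟩, b', hb'⟩ e
      have e' : a * b = a' * b' := congrArg Subtype.val e
      have he : a'⁻¹ * a = b' * b⁻¹ := by
        rw [eq_mul_inv_iff_mul_eq, mul_assoc, e', inv_mul_cancel_left]
      have h1 : a'⁻¹ * a ∈ D.posUnipotent F ⊓ D.diagonalSubgroup F :=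
        Subgroup.mem_inf.2 ⟨mul_mem (inv_mem ha') ha, he ▸ mul_mem hb' (inv_mem hb)⟩
      rw [S.U_inf_H, Subgroup.mem_bot] at h1
      have ea : a = a' := (inv_mul_eq_one.1 h1).symm
      subst ea
      have eb := mul_left_cancel e'
      subst eb
      rfl
    · rintro ⟨g, hg⟩
      obtain ⟨u, hu, d, hd, rfl⟩ := S.borel_decomp hg
      exact ⟨⟨⟨u, hu⟩, d, hd⟩, rfl⟩
  rw [← Nat.card_eq_of_bijective f hf, Nat.card_prod, S.card_posUnipotent]

open scoped Classical in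
theorem card_group [Fintype F] (S : Struct D C) (hN : okNeg D = true) :
    Nat.card ↥(D.group F) =
      Nat.card ↥(D.borelSubgroup F) * ∑ w : ↥S.WG, Fintype.card F ^ Nw D (w : Equiv.Perm _) := by
  choose L hL using fun w : ↥S.WG => S.exists_wpL w.2
  have hact : ∀ w : ↥S.WG, Act S.ok (S.nL F (L w)) (w : Equiv.Perm _) := fun w => by
    rw [hL w]; exact S.act_nL _
  let f : (Σ w : ↥S.WG, ↥(D.borelSubgroup F) × ↥(S.UPsi F (Neg D (w : Equiv.Perm _)))) → ↥(D.group F) :=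
    fun x => ⟨x.2.1.1 * S.nL F (L x.1) * x.2.2.1, mul_mem (mul_mem (S.borel_le_group x.2.1.2)
      (S.mono_le_group (S.nL_mem_mono _))) (S.borel_le_group (S.B_le_of (S.UPsi_le _ x.2.2.2)))⟩
  have hf : Function.Bijective f := by
    constructor
    · rintro ⟨w, ⟨b, hb⟩, u, hu⟩ ⟨w', ⟨b', hb'⟩, u', hu'⟩ e
      have e' : b * S.nL F (L w) * u = b' * S.nL F (L w') * u' := congrArg Subtype.val e
      have hd := S.normal_form_cong hN hb hb' (S.nL_mem_mono _) (S.nL_mem_mono _)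
        (S.UPsi_le _ hu) (S.UPsi_le _ hu') e'
      have hw : w = w' := by
        refine Subtype.ext ?_
        have h1 := S.act_mul (hact w) (S.act_diag hd)
        rw [mul_inv_cancel_left, mul_one] at h1
        exact (S.act_unique (hact w') h1).symm
      subst hw
      obtain ⟨rfl, rfl⟩ := S.normal_form_unique hN hb hb' (hact w) hu hu' e'
      rfl
    · rintro ⟨g, hg⟩
      obtain ⟨b, hb, n, hn, M, hM, u, hu, rfl⟩ := S.normal_form hN hg
      let w : ↥S.WG := ⟨S.wpL M, S.wpL_mem_WG M⟩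
      obtain ⟨M', hM', hiff⟩ := S.exists_act (mul_mem hn (inv_mem (S.nL_mem_mono (F := F) (L w))))
      have hd : n * (S.nL F (L w))⁻¹ ∈ D.diagonalSubgroup F := by
        refine hiff.1 ?_
        have h1 := S.act_mul hM' (hact w)
        rw [inv_mul_cancel_right] at h1
        exact mul_eq_right.1 (S.act_unique h1 hM)
      refine ⟨⟨w, ⟨b * (n * (S.nL F (L w))⁻¹), mul_mem hb (Subgroup.mem_sup_right hd)⟩, u, hu⟩,
        Subtype.ext ?_⟩
      show b * (n * (S.nL F (L w))⁻¹) * S.nL F (L w) * u = b * n * u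
      group
  rw [← Nat.card_eq_of_bijective f hf, Nat.card_sigma, Finset.mul_sum]
  refine Finset.sum_congr rfl fun w _ => ?_
  rw [Nat.card_prod, S.card_UPsi_Neg hN (hact w)]

theorem mem_bruhatU_iff (S : Struct D C) (hN : okNeg D = true) {n : GL D.Idx F}
    {w : Equiv.Perm (Fin D.nroots)} (ha : Act S.ok n w) :
    Subgroup.closure {x : GL D.Idx F | ∃ (r : ℕ) (t : F), D.IsPosRoot r ∧
        (D.rootSubgroup F r).map (MulAut.conj n).toMonoidHom ≤ D.negUnipotent F ∧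
        (x : Matrix D.Idx D.Idx F) = D.x F r t} = S.UPsi F (Neg D w) := by
  refine congrArg Subgroup.closure (Set.ext fun x => ?_)
  simp only [Set.mem_ofPred_eq]
  constructor
  · rintro ⟨r, t, hr, hmap, hx⟩
    obtain ⟨a, b⟩ := S.isPos_iff.1 hr
    refine ⟨⟨r, b⟩, t, a, ?_, S.ok.eq_xG hx⟩
    by_contra hne
    obtain ⟨-, c, hc, e⟩ := ha ⟨r, b⟩
    have h1 : n * S.ok.xG r (1 : F) * n⁻¹ ∈ D.borelSubgroup F ⊓ D.negUnipotent F := by
      refine Subgroup.mem_inf.2 ⟨?_, hmap ⟨_, S.xG_mem_rootSubgroup r 1, rfl⟩⟩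
      rw [(e 1).1]
      exact S.B_le_of (S.xG_mem_U (Nat.le_of_not_lt hne) (Fin.isLt _) _)
    rw [S.B_inf_V hN, Subgroup.mem_bot, (e 1).1] at h1
    exact mul_ne_zero hc one_ne_zero (S.xG_eq_one (Fin.isLt _) h1)
  · rintro ⟨r, t, a, hneg, rfl⟩
    refine ⟨r.val, t, S.isPos_iff.2 ⟨a, r.isLt⟩, ?_, S.ok.val_xG _ _⟩
    rw [Subgroup.map_le_iff_le_comap]
    exact S.rootSubgroup_le _ fun u => S.conj_Neg ha (Subgroup.subset_closure ⟨r, u, a, hneg, rfl⟩)

end Struct

end Cfsg.Lib.Chev
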