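import Cfsg.Agent.Chev.Cox
import Cfsg.Agent.Chev.Bruhat

/-! The Coxeter group of the type as a group of permutations of the roots. -/

set_option autoImplicit false

open Cfsg.Lie

namespace Cfsg.Lib.Chev

variable {D : ChevalleyDatum} {C : Cert}

namespace Struct

theorem exists_permHom (S : Struct D C) (hN : okNeg D = true) {l : ℕ} (hl : D.rank = l)
    (M : CoxeterMatrix (Fin l)) (hM : ∀ i j : Fin l, C.okCoxAt i j (M i j) = true) :
    ∃ ψ : M.Group →* Equiv.Perm (Fin D.nroots), Function.Injective ψ ∧ ψ.range = S.WG ∧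
      ∀ i : Fin D.rank, ψ (M.simple (Fin.cast hl i)) = S.wp i := by
  subst hl
  classical
  obtain ⟨φ, hφ, hker, hsim⟩ := S.exists_weylHom (F := ℚ) hN rfl M hM
  choose L hL hiff using fun g : ↥(D.monomialSubgroup ℚ) => S.exists_act g.2
  let σ : ↥(D.monomialSubgroup ℚ) →* Equiv.Perm (Fin D.nroots) :=
    { toFun := fun g => S.wpL (L g)
      map_one' := S.act_unique (hL 1) S.act_one
      map_mul' := fun a b => S.act_unique (hL (a * b)) (S.act_mul (hL a) (hL b)) }
  have hk : φ.ker = σ.ker := by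
    rw [hker]
    ext g
    rw [Subgroup.mem_subgroupOf, MonoidHom.mem_ker]
    exact (hiff g).symm
  let e : M.Group ≃* σ.range :=
    (QuotientGroup.quotientKerEquivOfSurjective φ hφ).symm.trans
      ((QuotientGroup.quotientMulEquivOfEq hk).trans (QuotientGroup.quotientKerEquivRange σ))
  have he : ∀ g, (e (φ g) : Equiv.Perm (Fin D.nroots)) = σ g := by
    intro g
    have h1 : (QuotientGroup.quotientKerEquivOfSurjective φ hφ).symm (φ g) = (g : _ ⧸ φ.ker) := by
      rw [MulEquiv.symm_apply_eq]; rfl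
    simp only [e, MulEquiv.trans_apply, h1]
    rfl
  refine ⟨σ.range.subtype.comp e.toMonoidHom, Subtype.val_injective.comp e.injective, ?_, fun i => ?_⟩
  · apply le_antisymm
    · rintro x ⟨y, rfl⟩
      obtain ⟨g, rfl⟩ := hφ y
      show (e (φ g) : Equiv.Perm _) ∈ S.WG
      rw [he]
      exact S.wpL_mem_WG _
    · intro x hx
      obtain ⟨w, rfl⟩ := S.exists_wpL hx
      refine ⟨φ ⟨S.nL ℚ w, S.nL_mem_mono w⟩, ?_⟩
      show ((e (φ ⟨S.nL ℚ w, S.nL_mem_mono w⟩) : ↥σ.range) : Equiv.Perm (Fin D.nroots)) = _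
      rw [he]
      exact S.act_unique (hL _) (S.act_nL w)
  · show ((e (M.simple i) : ↥σ.range) : Equiv.Perm (Fin D.nroots)) = _
    rw [← hsim i ⟨_, S.nG_mem_mono i⟩ (S.ok.val_nG _ _), he]
    exact S.act_unique (hL _) (S.act_nG i)

theorem card_coxeter (S : Struct D C) (hN : okNeg D = true) {l : ℕ} (hl : D.rank = l)
    (M : CoxeterMatrix (Fin l)) (hM : ∀ i j : Fin l, C.okCoxAt i j (M i j) = true) :
    Nat.card M.Group = Nat.card ↥S.WG := by
  obtain ⟨ψ, hinj, hrange, -⟩ := S.exists_permHom hN hl M hM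
  rw [← hrange]
  exact Nat.card_congr (MonoidHom.ofInjective hinj).toEquiv

/-- A word has exact order `m` on the roots. -/
noncomputable def okWordOrder (C : Cert) (L : List ℕ) (m : ℕ) : Bool :=
  let it : ℕ → ℕ → ℕ := fun k s => Nat.rec (motive := fun _ => ℕ) s (fun _ ih => C.wWord L ih) k
  !Nat.beq m 0 && kall (fun s => Nat.beq (it m s) s) (krange 0 C.n) &&
    kall (fun k => !kall (fun s => Nat.beq (it k s) s) (krange 0 C.n)) (krange 1 (Nat.sub m 1))

theorem orderOf_wpL (S : Struct D C) (L : List (Fin D.rank)) {m : ℕ}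
    (h : okWordOrder C (L.map fun i => i.val) m = true) : orderOf (S.wpL L) = m := by
  have hit : ∀ (k : ℕ) (s : Fin D.nroots),
      Nat.rec (motive := fun _ => ℕ) s.val (fun _ ih => C.wWord (L.map fun i => i.val) ih) k =
        ((S.wpL L ^ k) s).val := by
    intro k
    induction k with
    | zero => intro s; rfl
    | succ k ih => intro s; rw [pow_succ', Equiv.Perm.mul_apply, ← S.wWord_eq]; simp only [ih s]
  have hiff : ∀ k : ℕ, kall (fun s => Nat.beq
      (Nat.rec (motive := fun _ => ℕ) s (fun _ ih => C.wWord (L.map fun i => i.val) ih) k) s) (krange 0 C.n) = true ↔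
      S.wpL L ^ k = 1 := by
    intro k
    rw [kall_iff]
    constructor
    · intro h1
      refine Equiv.ext fun s => Fin.ext ?_
      rw [← hit]
      exact Nat.eq_of_beq_eq_true (h1 s.val (by rw [krange_eq, List.mem_range'_1, S.ok.n_eq]; omega))
    · intro h1 a ha
      rw [krange_eq, List.mem_range'_1, S.ok.n_eq] at ha
      have := hit k ⟨a, by omega⟩
      rw [h1, Equiv.Perm.one_apply] at this
      simp only at this
      rw [this, Nat.beq_refl]
  simp only [okWordOrder, Bool.and_eq_true, Bool.not_eq_true'] at h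
  obtain ⟨⟨h0, h1⟩, h2⟩ := h
  refine (orderOf_eq_iff (Nat.pos_of_ne_zero (Nat.ne_of_beq_eq_false h0))).2
    ⟨(hiff m).1 h1, fun k hk hk0 he => ?_⟩
  rw [kall_iff] at h2
  have h3 := h2 k (by rw [krange_eq, List.mem_range'_1]; simp only [Nat.sub_eq]; omega)
  rw [(hiff k).2 he] at h3
  exact Bool.false_ne_true h3

theorem orderOf_coxeterElement (S : Struct D C) (hN : okNeg D = true) {l : ℕ} (hl : D.rank = l)
    (M : CoxeterMatrix (Fin l)) (hM : ∀ i j : Fin l, C.okCoxAt i j (M i j) = true) {m : ℕ}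
    (hm : okWordOrder C (List.range l) m = true) :
    orderOf ((List.finRange l).map M.simple).prod = m := by
  subst hl
  obtain ⟨ψ, hinj, -, hsim⟩ := S.exists_permHom hN rfl M hM
  rw [← orderOf_injective ψ hinj, map_list_prod, List.map_map]
  have e : (List.finRange D.rank).map (ψ ∘ M.simple) = (List.finRange D.rank).map S.wp :=
    List.map_congr_left fun i _ => hsim i
  rw [e]
  exact S.orderOf_wpL (List.finRange D.rank) (by rw [List.map_coe_finRange_eq_range]; exact hm)

end Struct

end Cfsg.Lib.Chev
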