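import Cfsg.Agent.Chev.Cox
import Cfsg.Agent.Chev.LevG2
import Cfsg.Agent.Chev.LevB2
import Cfsg.Agent.Chev.LevD4
import Cfsg.Agent.Chev.LevF4
import Cfsg.Agent.Chev.LevE6
import Cfsg.Agent.Chev.LevE7
import Cfsg.Agent.Chev.LevE8
import Cfsg.Agent.Chev.WeylGroup

/-! Bundled data for the seven types: structure, torus order, group order, Weyl group. -/

set_option autoImplicit false

open Cfsg.Lie

namespace Cfsg.Lib.Chev

theorem G2.struct : Struct chevG2 G2.cert := ⟨G2.ok, G2.okChain_, G2.okBase_all, okOrder_G2⟩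

theorem G2.natCard_coxeter : Nat.card CoxeterMatrix.G₂.Group = 12 := by
  refine (G2.struct.card_coxeter okNeg_G2 rfl _ cox_G2).trans ?_
  exact_mod_cast (G2.struct.natCard_WG G2.poincare).trans G2.weylCard

theorem G2.coxNumber : Struct.okWordOrder G2.cert (List.range 2) 6 = true := by decide +kernel

theorem G2.card_torus {F : Type*} [Field F] [Fintype F] {q : ℕ} (hq : Fintype.card F = q) :
    1 * Nat.card ↥(chevG2.diagonalSubgroup F) = (q - 1) ^ chevG2.rank := by
  subst hq
  simpa using G2.struct.card_diagonal (F := F) (l := 2) rfl G2.torus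

theorem B2.struct : Struct chevB2 B2.cert := ⟨B2.ok, B2.okChain_, B2.okBase_all, okOrder_B2⟩

theorem B2.natCard_coxeter : Nat.card (CoxeterMatrix.B 2).Group = 8 := by
  refine (B2.struct.card_coxeter okNeg_B2 rfl _ cox_B2).trans ?_
  exact_mod_cast (B2.struct.natCard_WG B2.poincare).trans B2.weylCard

theorem B2.coxNumber : Struct.okWordOrder B2.cert (List.range 2) 4 = true := by decide +kernel

theorem B2.card_torus {F : Type*} [Field F] [Fintype F] {q : ℕ} (hq : Fintype.card F = q) :
    Nat.gcd 2 (q - 1) * Nat.card ↥(chevB2.diagonalSubgroup F) = (q - 1) ^ chevB2.rank := by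
  subst hq
  simpa using B2.struct.card_diagonal (F := F) (l := 2) rfl B2.torus

theorem D4.struct : Struct chevD4 D4.cert := ⟨D4.ok, D4.okChain_, D4.okBase_all, okOrder_D4⟩

theorem D4.natCard_coxeter : Nat.card coxeterD4.Group = 192 := by
  refine (D4.struct.card_coxeter okNeg_D4 rfl _ cox_D4).trans ?_
  exact_mod_cast (D4.struct.natCard_WG D4.poincare).trans D4.weylCard

theorem D4.coxNumber : Struct.okWordOrder D4.cert (List.range 4) 6 = true := by decide +kernel

theorem D4.card_torus {F : Type*} [Field F] [Fintype F] {q : ℕ} (hq : Fintype.card F = q) :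
    Nat.gcd 2 (q - 1) ^ 2 * Nat.card ↥(chevD4.diagonalSubgroup F) = (q - 1) ^ chevD4.rank := by
  subst hq
  simpa using D4.struct.card_diagonal (F := F) (l := 4) rfl D4.torus

theorem F4.struct : Struct chevF4 F4.cert := ⟨F4.ok, F4.okChain_, F4.okBase_all, okOrder_F4⟩

theorem F4.natCard_coxeter : Nat.card CoxeterMatrix.F₄.Group = 1152 := by
  refine (F4.struct.card_coxeter okNeg_F4 rfl _ cox_F4).trans ?_
  exact_mod_cast (F4.struct.natCard_WG F4.poincare).trans F4.weylCard

theorem F4.coxNumber : Struct.okWordOrder F4.cert (List.range 4) 12 = true := by decide +kernel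

theorem F4.card_torus {F : Type*} [Field F] [Fintype F] {q : ℕ} (hq : Fintype.card F = q) :
    1 * Nat.card ↥(chevF4.diagonalSubgroup F) = (q - 1) ^ chevF4.rank := by
  subst hq
  simpa using F4.struct.card_diagonal (F := F) (l := 4) rfl F4.torus

theorem E6.struct : Struct chevE6 E6.cert := ⟨E6.ok, E6.okChain_, E6.okBase_all, okOrder_E6⟩

theorem E6.natCard_coxeter : Nat.card CoxeterMatrix.E₆.Group = 51840 := by
  refine (E6.struct.card_coxeter okNeg_E6 rfl _ cox_E6).trans ?_
  exact_mod_cast (E6.struct.natCard_WG E6.poincare).trans E6.weylCard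

theorem E6.coxNumber : Struct.okWordOrder E6.cert (List.range 6) 12 = true := by decide +kernel

theorem E6.card_torus {F : Type*} [Field F] [Fintype F] {q : ℕ} (hq : Fintype.card F = q) :
    Nat.gcd 3 (q - 1) * Nat.card ↥(chevE6.diagonalSubgroup F) = (q - 1) ^ chevE6.rank := by
  subst hq
  simpa using E6.struct.card_diagonal (F := F) (l := 6) rfl E6.torus

theorem E7.struct : Struct chevE7 E7.cert := ⟨E7.ok, E7.okChain_, E7.okBase_all, okOrder_E7⟩

theorem E7.natCard_coxeter : Nat.card CoxeterMatrix.E₇.Group = 2903040 := by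
  refine (E7.struct.card_coxeter okNeg_E7 rfl _ cox_E7).trans ?_
  exact_mod_cast (E7.struct.natCard_WG E7.poincare).trans E7.weylCard

theorem E7.coxNumber : Struct.okWordOrder E7.cert (List.range 7) 18 = true := by decide +kernel

theorem E7.card_torus {F : Type*} [Field F] [Fintype F] {q : ℕ} (hq : Fintype.card F = q) :
    Nat.gcd 2 (q - 1) * Nat.card ↥(chevE7.diagonalSubgroup F) = (q - 1) ^ chevE7.rank := by
  subst hq
  simpa using E7.struct.card_diagonal (F := F) (l := 7) rfl E7.torus

theorem E8.struct : Struct chevE8 E8.cert := ⟨E8.ok, E8.okChain_, E8.okBase_all, okOrder_E8⟩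

theorem E8.natCard_coxeter : Nat.card CoxeterMatrix.E₈.Group = 696729600 := by
  refine (E8.struct.card_coxeter okNeg_E8 rfl _ cox_E8).trans ?_
  exact_mod_cast (E8.struct.natCard_WG E8.poincare).trans E8.weylCard

theorem E8.coxNumber : Struct.okWordOrder E8.cert (List.range 8) 30 = true := by decide +kernel

theorem E8.card_torus {F : Type*} [Field F] [Fintype F] {q : ℕ} (hq : Fintype.card F = q) :
    1 * Nat.card ↥(chevE8.diagonalSubgroup F) = (q - 1) ^ chevE8.rank := by
  subst hq
  simpa using E8.struct.card_diagonal (F := F) (l := 8) rfl E8.torus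

end Cfsg.Lib.Chev
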