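import Cfsg.Agent.Chev.GLRel

/-! First consequences: the group, its generators, field automorphisms. -/

set_option autoImplicit false

open Cfsg.Lie

namespace Cfsg.Lib.Chev

variable {D : ChevalleyDatum} {C : Cert} {F : Type*} [Field F]

namespace Ok

theorem pos_or_neg (h : Ok D C) {r : ℕ} (hr : r < D.nroots) :
    (D.IsPosRoot r ↔ D.nroots / 2 ≤ r) ∧ (D.IsNegRoot r ↔ r < D.nroots / 2) ∧
      (D.nroots / 2 ≤ C.neg r ↔ r < D.nroots / 2) := by
  have h0 := h.pos
  simp only [Cert.okPos, Bool.and_eq_true] at h0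
  have := kall_krange h0.1.1 r (h.n_eq.symm ▸ hr)
  simp only [Bool.and_eq_true, beq_iff_eq] at this
  obtain ⟨⟨a, b⟩, c⟩ := this
  have e : Nat.div C.n 2 = D.nroots / 2 := by rw [h.n_eq]; rfl
  rw [e] at a b c
  refine ⟨?_, ?_, ?_⟩
  · rw [← decide_eq_true_iff (p := D.IsPosRoot r), a, Nat.ble_eq]
  · rw [← decide_eq_true_iff (p := D.IsNegRoot r), b, blt_true]
  · rw [← Nat.ble_eq, c, blt_true]

theorem xG_mem_group (h : Ok D C) (r : ℕ) (t : F) : h.xG r t ∈ D.group F := by
  by_cases hr : r < D.nroots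
  · exact Subgroup.subset_closure ⟨⟨r, hr⟩, t, by simp [ChevalleyDatum.x, hr]⟩
  · have : h.xG r t = 1 := Units.ext (by simp [ChevalleyDatum.x, hr])
    rw [this]
    exact one_mem _

theorem nG_mem_group (h : Ok D C) (r : ℕ) (t : F) : h.nG r t ∈ D.group F :=
  mul_mem (mul_mem (h.xG_mem_group _ _) (h.xG_mem_group _ _)) (h.xG_mem_group _ _)

theorem hG_mem_group (h : Ok D C) (r : ℕ) (t : F) : h.hG r t ∈ D.group F :=
  mul_mem (h.nG_mem_group _ _) (h.nG_mem_group _ _)

theorem posUnipotent_sup_negUnipotent (h : Ok D C) :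
    D.posUnipotent F ⊔ D.negUnipotent F = D.group F := by
  apply le_antisymm
  · refine sup_le ?_ ?_ <;>
    · refine (Subgroup.closure_le _).2 ?_
      rintro g ⟨r, t, -, hg⟩
      rw [h.eq_xG hg]
      exact h.xG_mem_group r t
  · refine (Subgroup.closure_le _).2 ?_
    rintro g ⟨r, t, hg⟩
    have hx : (g : Matrix D.Idx D.Idx F) = D.x F r t := by simpa [ChevalleyDatum.x] using hg
    obtain ⟨hp, hn, -⟩ := h.pos_or_neg r.isLt
    by_cases hh : D.nroots / 2 ≤ r.val
    · exact Subgroup.mem_sup_left (Subgroup.subset_closure ⟨r, t, hp.2 hh, hx⟩)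
    · exact Subgroup.mem_sup_right (Subgroup.subset_closure ⟨r, t, hn.2 (by omega), hx⟩)

theorem map_x (D : ChevalleyDatum) {K : Type*} [Field K] (f : F →+* K) (r : ℕ) (t : F) :
    (D.x F r t).map f = D.x K r (f t) := by
  unfold ChevalleyDatum.x
  split_ifs with hr
  · ext a b
    rcases b with i | s <;> rcases a with j | u <;>
      simp [ChevalleyDatum.xMat, apply_ite f, map_list_sum, Function.comp_def]
  · exact Matrix.map_one f (map_zero f) (map_one f)

theorem map_group (h : Ok D C) {K : Type*} [Field K] (f : F ≃+* K) :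
    (D.group F).map (Matrix.GeneralLinearGroup.map (n := D.Idx) f.toRingHom) = D.group K := by
  rw [ChevalleyDatum.group, MonoidHom.map_closure]
  congr 1
  ext g
  constructor
  · rintro ⟨g, ⟨r, t, hg⟩, rfl⟩
    refine ⟨r, f t, ?_⟩
    have hx : (g : Matrix D.Idx D.Idx F) = D.x F r t := by simpa [ChevalleyDatum.x] using hg
    have := map_x D f.toRingHom r t
    rw [← hx] at this
    simpa [ChevalleyDatum.x] using this
  · rintro ⟨r, t, hg⟩
    refine ⟨h.xG r (f.symm t), ⟨r, f.symm t, by simp [ChevalleyDatum.x]⟩, Units.ext ?_⟩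
    have := map_x D f.toRingHom r (f.symm t)
    simp only [RingEquiv.toRingHom_eq_coe, RingHom.coe_coe, RingEquiv.apply_symm_apply] at this
    rw [hg]
    simpa [ChevalleyDatum.x] using this

theorem exists_fieldAut (h : Ok D C) (f : F ≃+* F) :
    ∃ α : ↥(D.group F) ≃* ↥(D.group F), ∀ (g : ↥(D.group F)) (r : ℕ) (t : F), r < D.nroots →
      ((g : GL D.Idx F) : Matrix D.Idx D.Idx F) = D.x F r t →
      ((α g : GL D.Idx F) : Matrix D.Idx D.Idx F) = D.x F r (f t) := by
  let φ : GL D.Idx F →* GL D.Idx F := Matrix.GeneralLinearGroup.map f.toRingHom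
  have hinj : Function.Injective φ := by
    intro a b hab
    apply Units.ext
    ext i j
    have := congrArg (fun g : GL D.Idx F => (g : Matrix D.Idx D.Idx F) i j) hab
    simpa [φ] using this
  refine ⟨((D.group F).equivMapOfInjective φ hinj).trans (MulEquiv.subgroupCongr (h.map_group f)),
    fun g r t _ hg => ?_⟩
  have := map_x D f.toRingHom r t
  rw [← hg] at this
  exact this

end Ok

end Cfsg.Lib.Chev
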