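import Cfsg.Agent.Chev.All
import Cfsg.Agent.Chev.Basic

/-! Graph automorphisms as signed permutations of the coordinates. -/

set_option autoImplicit false

open Cfsg.Lie

namespace Cfsg.Lib.Chev

/-- A signed permutation of the coordinates. -/
structure GTab where
  /-- images of the coordinates -/
  pc : List ℕ
  /-- preimages of the coordinates -/
  pci : List ℕ
  /-- signs of the coordinates -/
  es : List ℤ

namespace GTab

variable (G : GTab)

/-- Image of a coordinate. -/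
noncomputable def img (a : ℕ) : ℕ := G.pc.getD a 0

/-- Preimage of a coordinate. -/
noncomputable def pre (a : ℕ) : ℕ := G.pci.getD a 0

/-- Sign of a coordinate. -/
noncomputable def sg (a : ℕ) : ℤ := G.es.getD a 0

/-- Image of a root. -/
noncomputable def rho (l r : ℕ) : ℕ := Nat.sub (G.img (Nat.add l r)) l

/-- Sign of a root. -/
noncomputable def eps (l r : ℕ) : ℤ := G.sg (Nat.add l r)

/-- Image of a term. -/
noncomputable def mapT (L : List Tm) : List Tm :=
  kmap (fun e => ⟨e.i, e.j, G.img e.r, G.img e.c, Int.mul (Int.mul (G.sg e.r) (G.sg e.c)) e.k⟩) L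

/-- The root elements are permuted up to sign. -/
noncomputable def okAut (C : Cert) : Bool :=
  let N := Nat.add C.l C.n
  kall (fun a => Nat.blt (G.img a) N && Nat.blt (G.pre a) N && Nat.beq (G.pre (G.img a)) a &&
    Nat.beq (G.img (G.pre a)) a && (Nat.blt (G.img a) C.l == Nat.blt a C.l) &&
    Nat.beq (G.sg a).natAbs 1) (krange 0 N) &&
  kall (fun r => eqTest 2 (G.mapT (C.row r)) (Cert.scaleU (G.eps C.l r) (C.row (G.rho C.l r))))
    (krange 0 C.n)

end GTab

/-- A graph automorphism of type E6. -/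
noncomputable def E6.graph : GTab where
  pc := [5, 1, 4, 3, 2, 0, 6, 7, 8, 11, 22, 9, 12, 23, 14, 25, 28, 17, 32, 36, 39, 41, 10, 13, 24, 15, 26, 29, 16, 27, 30, 31, 18, 33, 37, 40, 19, 34, 38, 20, 35, 21, 62, 48, 63, 45, 49, 64, 43, 46, 50, 65, 52, 53, 56, 67, 54, 57, 68, 59, 70, 73, 42, 44, 47, 51, 66, 55, 58, 69, 60, 71, 74, 61, 72, 75, 76, 77]
  pci := [5, 1, 4, 3, 2, 0, 6, 7, 8, 11, 22, 9, 12, 23, 14, 25, 28, 17, 32, 36, 39, 41, 10, 13, 24, 15, 26, 29, 16, 27, 30, 31, 18, 33, 37, 40, 19, 34, 38, 20, 35, 21, 62, 48, 63, 45, 49, 64, 43, 46, 50, 65, 52, 53, 56, 67, 54, 57, 68, 59, 70, 73, 42, 44, 47, 51, 66, 55, 58, 69, 60, 71, 74, 61, 72, 75, 76, 77]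
  es := [1, 1, 1, 1, 1, 1, 1, 1, 1, 1, -1, 1, 1, -1, 1, -1, -1, 1, -1, 1, -1, 1, -1, -1, 1, -1, 1, 1, -1, 1, 1, 1, -1, 1, -1, 1, 1, -1, 1, -1, 1, 1, 1, 1, -1, 1, -1, 1, 1, -1, 1, -1, 1, 1, 1, -1, 1, 1, -1, 1, -1, -1, 1, -1, 1, -1, 1, -1, -1, 1, -1, 1, 1, -1, 1, 1, 1, 1]

theorem E6.graph_ok : E6.graph.okAut E6.cert = true := by decide +kernel

/-- A graph automorphism of type D4. -/
noncomputable def D4.graphA : GTab where
  pc := [2, 1, 3, 0, 4, 5, 10, 6, 11, 14, 7, 12, 8, 13, 15, 9, 22, 16, 18, 23, 19, 24, 17, 20, 25, 21, 26, 27]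
  pci := [3, 1, 0, 2, 4, 5, 7, 10, 12, 15, 6, 8, 11, 13, 9, 14, 17, 22, 18, 20, 23, 25, 16, 19, 21, 24, 26, 27]
  es := [1, 1, 1, 1, 1, 1, -1, 1, -1, 1, -1, 1, -1, 1, 1, 1, 1, 1, 1, -1, 1, -1, 1, -1, 1, -1, 1, 1]

theorem D4.graphA_ok : D4.graphA.okAut D4.cert = true := by decide +kernel

/-- A graph automorphism of type D4. -/
noncomputable def D4.graphB : GTab where
  pc := [3, 1, 0, 2, 4, 5, 7, 10, 12, 15, 6, 8, 11, 13, 9, 14, 17, 22, 18, 20, 23, 25, 16, 19, 21, 24, 26, 27]
  pci := [2, 1, 3, 0, 4, 5, 10, 6, 11, 14, 7, 12, 8, 13, 15, 9, 22, 16, 18, 23, 19, 24, 17, 20, 25, 21, 26, 27]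
  es := [1, 1, 1, 1, 1, 1, 1, -1, -1, 1, -1, -1, 1, 1, 1, 1, 1, 1, 1, 1, -1, -1, 1, -1, -1, 1, 1, 1]

theorem D4.graphB_ok : D4.graphB.okAut D4.cert = true := by decide +kernel

variable {D : ChevalleyDatum} {C : Cert} {F : Type*} [Field F] {G : GTab}

namespace GTab

theorem spec (h : Ok D C) (hG : G.okAut C = true) {a : ℕ} (ha : a < D.rank + D.nroots) :
    G.img a < D.rank + D.nroots ∧ G.pre a < D.rank + D.nroots ∧ G.pre (G.img a) = a ∧ G.img (G.pre a) = a ∧
      (G.img a < D.rank ↔ a < D.rank) ∧ (G.sg a = 1 ∨ G.sg a = -1) := by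
  simp only [okAut, Bool.and_eq_true] at hG
  have h0 := kall_krange hG.1 a (by rw [h.l_eq, h.n_eq]; exact ha)
  simp only [Bool.and_eq_true, beq_iff_eq, Nat.blt, Nat.ble_eq, h.l_eq, h.n_eq, Nat.add_eq] at h0
  obtain ⟨⟨⟨⟨⟨a1, a2⟩, a3⟩, a4⟩, a5⟩, a6⟩ := h0
  refine ⟨a1, a2, Nat.eq_of_beq_eq_true a3, Nat.eq_of_beq_eq_true a4, ?_, ?_⟩
  · constructor <;> intro hh
    · have : (decide (a + 1 ≤ D.rank)) = true := by
        have e1 : Nat.ble (G.img a + 1) D.rank = true := Nat.ble_eq_true_of_le hh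
        rw [a5] at e1; simpa using Nat.le_of_ble_eq_true e1
      simpa using this
    · have e1 : Nat.ble (a + 1) D.rank = true := Nat.ble_eq_true_of_le hh
      rw [← a5] at e1; exact Nat.le_of_ble_eq_true e1
  · rcases Int.natAbs_eq (G.sg a) with e | e <;> rw [Nat.eq_of_beq_eq_true a6] at e
    · exact Or.inl e
    · exact Or.inr e

/-- Numbered position to coordinate. -/
noncomputable def dec (D : ChevalleyDatum) (a : ℕ) (ha : a < D.rank + D.nroots) : D.Idx :=
  if h : a < D.rank then Sum.inl ⟨a, h⟩ else Sum.inr ⟨a - D.rank, by omega⟩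

theorem enc_dec (D : ChevalleyDatum) {a : ℕ} (ha : a < D.rank + D.nroots) :
    enc D.rank D.nroots (dec D a ha) = a := by
  unfold dec
  split_ifs with h <;> simp [enc] <;> omega

/-- The permutation of the coordinates. -/
noncomputable def perm (h : Ok D C) (hG : G.okAut C = true) : D.Idx ≃ D.Idx where
  toFun x := dec D (G.img (enc _ _ x)) (spec h hG (enc_lt _ _ x)).1
  invFun x := dec D (G.pre (enc _ _ x)) (spec h hG (enc_lt _ _ x)).2.1
  left_inv x := enc_injective _ _ (by rw [enc_dec, enc_dec, (spec h hG (enc_lt _ _ x)).2.2.1])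
  right_inv x := enc_injective _ _ (by rw [enc_dec, enc_dec, (spec h hG (enc_lt _ _ x)).2.2.2.1])

theorem enc_perm (h : Ok D C) (hG : G.okAut C = true) (x : D.Idx) :
    enc D.rank D.nroots (perm h hG x) = G.img (enc _ _ x) :=
  enc_dec D (spec h hG (enc_lt _ _ x)).1

/-- The transport of matrices. -/
noncomputable def conjFun (h : Ok D C) (hG : G.okAut C = true) (M : Matrix D.Idx D.Idx F) :
    Matrix D.Idx D.Idx F :=
  Matrix.of fun x y => (G.sg (enc _ _ ((perm h hG).symm x)) : F) * (G.sg (enc _ _ ((perm h hG).symm y)) : F) *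
    M ((perm h hG).symm x) ((perm h hG).symm y)

theorem sg_sq (h : Ok D C) (hG : G.okAut C = true) (x : D.Idx) :
    (G.sg (enc _ _ x) : F) * (G.sg (enc _ _ x) : F) = 1 := by
  rcases (spec h hG (enc_lt _ _ x)).2.2.2.2.2 with e | e <;> simp [e]

theorem conjFun_one (h : Ok D C) (hG : G.okAut C = true) : conjFun h hG (1 : Matrix D.Idx D.Idx F) = 1 := by
  ext x y
  by_cases e : x = y
  · subst e; simp [conjFun, sg_sq h hG]
  · simp [conjFun, Matrix.one_apply_ne e, Matrix.one_apply_ne ((perm h hG).symm.injective.ne e)]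

theorem conjFun_mul (h : Ok D C) (hG : G.okAut C = true) (M N : Matrix D.Idx D.Idx F) :
    conjFun h hG (M * N) = conjFun h hG M * conjFun h hG N := by
  ext x y
  simp only [conjFun, Matrix.of_apply, Matrix.mul_apply]
  rw [Finset.mul_sum, ← Equiv.sum_comp (perm h hG).symm]
  refine Finset.sum_congr rfl fun z _ => ?_
  linear_combination (-((G.sg (enc _ _ ((perm h hG).symm x)) : F) * (G.sg (enc _ _ ((perm h hG).symm y)) : F) *
    M ((perm h hG).symm x) ((perm h hG).symm z) * N ((perm h hG).symm z) ((perm h hG).symm y))) *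
      sg_sq (F := F) h hG ((perm h hG).symm z)

/-- The transport as a homomorphism. -/
noncomputable def conjHom (h : Ok D C) (hG : G.okAut C = true) :
    Matrix D.Idx D.Idx F →* Matrix D.Idx D.Idx F where
  toFun := conjFun h hG
  map_one' := conjFun_one h hG
  map_mul' := conjFun_mul h hG

/-- The transport of the general linear group. -/
noncomputable def glHom (h : Ok D C) (hG : G.okAut C = true) : GL D.Idx F →* GL D.Idx F :=
  Units.map (conjHom h hG)

theorem glHom_injective (h : Ok D C) (hG : G.okAut C = true) :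
    Function.Injective (glHom (F := F) h hG) := by
  intro a b e
  refine Units.ext ?_
  ext x y
  have := congrArg (fun g : GL D.Idx F => (g : Matrix D.Idx D.Idx F) (perm h hG x) (perm h hG y)) e
  simp only [glHom, Units.coe_map, conjHom, MonoidHom.coe_mk, OneHom.coe_mk, conjFun, Matrix.of_apply,
    Equiv.symm_apply_apply] at this
  refine mul_left_cancel₀ (mul_ne_zero ?_ ?_) this <;>
  · intro z
    have := sg_sq (F := F) h hG
    first
      | (have t := this x; rw [z, zero_mul] at t; exact zero_ne_one t)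
      | (have t := this y; rw [z, zero_mul] at t; exact zero_ne_one t)

theorem conjFun_ev (h : Ok D C) (hG : G.okAut C = true) (u : F) : ∀ L : List Tm,
    (∀ e ∈ L, e.r < D.rank + D.nroots ∧ e.c < D.rank + D.nroots) →
    conjFun h hG (ev D.rank D.nroots 0 u L) = ev D.rank D.nroots 0 u (G.mapT L) := by
  intro L hL
  ext x y
  obtain ⟨x', rfl⟩ := (perm h hG).surjective x
  obtain ⟨y', rfl⟩ := (perm h hG).surjective y
  simp only [conjFun, Matrix.of_apply, Equiv.symm_apply_apply, mapT, kmap_eq, ev_map_entry, List.map_map,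
    ← List.sum_map_mul_left]
  refine congrArg List.sum (List.map_congr_left fun e he => ?_)
  have hinj : ∀ (z : D.Idx) (c : ℕ), c < D.rank + D.nroots →
      (enc D.rank D.nroots (perm h hG z) = G.img c ↔ enc D.rank D.nroots z = c) := by
    intro z c hc
    rw [enc_perm]
    exact ⟨fun he' => by rw [← (spec h hG (enc_lt _ _ z)).2.2.1, he', (spec h hG hc).2.2.1], congrArg _⟩
  simp only [Function.comp_apply, hinj _ _ (hL e he).1, hinj _ _ (hL e he).2]
  split_ifs with hh
  · rw [hh.1, hh.2]; push_cast [Int.mul_def]; ring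
  · rw [mul_zero]

theorem rho_lt (h : Ok D C) (hG : G.okAut C = true) {r : ℕ} (hr : r < D.nroots) :
    G.rho D.rank r < D.nroots := by
  obtain ⟨a1, -, -, -, a5, -⟩ := spec h hG (show D.rank + r < D.rank + D.nroots by omega)
  show G.img (D.rank + r) - D.rank < D.nroots
  have : ¬ G.img (D.rank + r) < D.rank := fun hh => by have := a5.1 hh; omega
  omega

theorem eps_cases (h : Ok D C) (hG : G.okAut C = true) {r : ℕ} (hr : r < D.nroots) :
    G.eps D.rank r = 1 ∨ G.eps D.rank r = -1 :=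
  (spec h hG (show D.rank + r < D.rank + D.nroots by omega)).2.2.2.2.2

theorem glHom_xG (h : Ok D C) (hG : G.okAut C = true) {r : ℕ} (hr : r < D.nroots) (t : F) :
    glHom h hG (h.xG r t) = h.xG (G.rho D.rank r) ((G.eps D.rank r : F) * t) := by
  have hq := rho_lt h hG hr
  have h0 := hG
  simp only [okAut, Bool.and_eq_true] at h0
  have h1 := eqTest_sound D.rank D.nroots (0 : F) t (kall_krange h0.2 r (h.n_eq.symm ▸ hr))
  rw [h.l_eq, ev_scaleU (eps_cases h hG hr)] at h1
  apply Units.ext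
  rw [glHom, Units.coe_map, h.val_xG, h.val_xG, h.x_eq hr, h.x_eq hq, h.xR_eq hr, h.xR_eq hq, ← h1,
    ← conjFun_ev h hG t _ (h.row_range hr)]
  show conjFun h hG (1 + ev D.rank D.nroots 0 t (C.row r)) = _
  conv_rhs => rw [← conjFun_one (F := F) h hG]
  ext x y
  simp only [conjFun, Matrix.of_apply, Matrix.add_apply]
  ring

theorem exists_aut (h : Ok D C) (hG : G.okAut C = true) :
    ∃ α : ↥(D.group F) ≃* ↥(D.group F), ∀ (g : ↥(D.group F)) (r : ℕ) (t : F), r < D.nroots →
      ((g : GL D.Idx F) : Matrix D.Idx D.Idx F) = D.x F r t →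
      ((α g : GL D.Idx F) : Matrix D.Idx D.Idx F) = D.x F (G.rho D.rank r) ((G.eps D.rank r : F) * t) := by
  have hmap : (D.group F).map (glHom h hG) = D.group F := by
    apply le_antisymm
    · rw [Subgroup.map_le_iff_le_comap]
      refine (Subgroup.closure_le _).2 ?_
      rintro g ⟨r, t, hg⟩
      have hx : (g : Matrix D.Idx D.Idx F) = D.x F r t := by simpa [ChevalleyDatum.x] using hg
      rw [h.eq_xG hx]
      show glHom h hG (h.xG r t) ∈ D.group F
      rw [glHom_xG h hG r.isLt]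
      exact h.xG_mem_group _ _
    · refine (Subgroup.closure_le _).2 ?_
      rintro g ⟨r, t, hg⟩
      have hx : (g : Matrix D.Idx D.Idx F) = D.x F r t := by simpa [ChevalleyDatum.x] using hg
      rw [h.eq_xG hx]
      obtain ⟨-, b2, -, b4, -, -⟩ := spec h hG (show D.rank + r.val < D.rank + D.nroots by omega)
      obtain ⟨-, -, -, -, c5, c6⟩ := spec h hG b2
      rw [b4] at c5
      set q := G.pre (D.rank + r.val)
      have hq : ¬ q < D.rank := fun hh => by have := c5.2 hh; omega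
      have hq' : q - D.rank < D.nroots := by omega
      refine ⟨h.xG (q - D.rank) ((G.eps D.rank (q - D.rank) : F) * t), h.xG_mem_group _ _, ?_⟩
      rw [glHom_xG h hG hq']
      have e : G.rho D.rank (q - D.rank) = r.val := by
        show G.img (D.rank + (q - D.rank)) - D.rank = r.val
        rw [show D.rank + (q - D.rank) = q by omega, b4]; omega
      rw [e, ← mul_assoc]
      rcases eps_cases h hG hq' with e1 | e1 <;> simp [e1]
  refine ⟨((D.group F).equivMapOfInjective _ (glHom_injective h hG)).trans (MulEquiv.subgroupCongr hmap),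
    fun g r t hr hg => ?_⟩
  have : ((glHom h hG (g : GL D.Idx F) : GL D.Idx F) : Matrix D.Idx D.Idx F) =
      D.x F (G.rho D.rank r) ((G.eps D.rank r : F) * t) := by
    rw [h.eq_xG hg, glHom_xG h hG hr, h.val_xG]
  exact this

/-- The fundamental roots go to fundamental roots without sign. -/
noncomputable def okSimple (G : GTab) (C : Cert) (pi : List ℕ) : Bool :=
  kall (fun i => Nat.beq (G.rho C.l (C.sr i)) (C.sr (pi.getD i 0)) && decide (G.eps C.l (C.sr i) = 1) &&
    Nat.beq (G.rho C.l (C.neg (C.sr i))) (C.neg (C.sr (pi.getD i 0))) &&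
    decide (G.eps C.l (C.neg (C.sr i)) = 1) && Nat.blt (pi.getD i 0) C.l) (krange 0 C.l)

theorem exists_simpleAut (h : Ok D C) (hG : G.okAut C = true) {pi : List ℕ} (hpi : okSimple G C pi = true) :
    ∃ α : ↥(D.group F) ≃* ↥(D.group F), ∀ (g : ↥(D.group F)) (i : ℕ) (t : F), i < D.rank →
      (((g : GL D.Idx F) : Matrix D.Idx D.Idx F) = D.x F (D.simple i) t →
        ((α g : GL D.Idx F) : Matrix D.Idx D.Idx F) = D.x F (D.simple (pi.getD i 0)) t) ∧
      (((g : GL D.Idx F) : Matrix D.Idx D.Idx F) = D.x F (D.neg (D.simple i)) t →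
        ((α g : GL D.Idx F) : Matrix D.Idx D.Idx F) = D.x F (D.neg (D.simple (pi.getD i 0))) t) := by
  obtain ⟨α, hα⟩ := exists_aut (F := F) h hG
  refine ⟨α, fun g i t hi => ?_⟩
  have h0 := kall_krange hpi i (h.l_eq.symm ▸ hi)
  simp only [Bool.and_eq_true, decide_eq_true_eq, Nat.blt, Nat.ble_eq] at h0
  obtain ⟨⟨⟨⟨a, b⟩, c⟩, d⟩, e⟩ := h0
  have e' : pi.getD i 0 < D.rank := h.l_eq ▸ e
  have hs := h.sr_lt hi
  have a' := Nat.eq_of_beq_eq_true a
  have c' := Nat.eq_of_beq_eq_true c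
  rw [h.l_eq, h.sr_eq hi, h.sr_eq e'] at a'
  rw [h.l_eq, h.neg_eq hs, h.neg_eq (h.sr_lt e'), h.sr_eq hi, h.sr_eq e'] at c'
  rw [h.l_eq, h.sr_eq hi] at b
  rw [h.l_eq, h.neg_eq hs, h.sr_eq hi] at d
  refine ⟨fun hg => ?_, fun hg => ?_⟩
  · rw [hα g _ t (h.sr_eq hi ▸ hs) hg, a', b, Int.cast_one, one_mul]
  · rw [hα g _ t (h.sr_eq hi ▸ h.neg_eq hs ▸ h.neg_lt hs) hg, c', d, Int.cast_one, one_mul]

end GTab

theorem E6.graph_simple : GTab.okSimple E6.graph E6.cert [5, 1, 4, 3, 2, 0] = true := by decide +kernel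
theorem D4.graphA_simple : GTab.okSimple D4.graphA D4.cert [2, 1, 3, 0] = true := by decide +kernel
theorem D4.graphB_simple : GTab.okSimple D4.graphB D4.cert [3, 1, 0, 2] = true := by decide +kernel

end Cfsg.Lib.Chev
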