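import Cfsg.Agent.Chev.More
import Cfsg.Agent.BN.Coxeter

/-! The Weyl group of the Tits system is the Coxeter group of the type. -/

set_option autoImplicit false

open Cfsg.Lie

namespace Cfsg.Lib.Chev

namespace Cert

variable (C : Cert)

/-- Iterate of the product of two fundamental reflections. -/
noncomputable def wIter (i j k s : ℕ) : ℕ :=
  Nat.rec (motive := fun _ => ℕ) s (fun _ ih => C.w i (C.w j ih)) k

/-- The product of the reflections `i` and `j` has order exactly `m` on the roots. -/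
noncomputable def okCoxAt (i j m : ℕ) : Bool :=
  !Nat.beq m 0 && kall (fun s => Nat.beq (C.wIter i j m s) s) (krange 0 C.n) &&
    kall (fun k => !kall (fun s => Nat.beq (C.wIter i j k s) s) (krange 0 C.n)) (krange 1 (Nat.sub m 1))

end Cert

theorem cox_G2 : ∀ i j : Fin 2, G2.cert.okCoxAt i j (CoxeterMatrix.G₂ i j) = true := by decide +kernel
theorem cox_B2 : ∀ i j : Fin 2, B2.cert.okCoxAt i j ((CoxeterMatrix.B 2) i j) = true := by decide +kernel
theorem cox_D4 : ∀ i j : Fin 4, D4.cert.okCoxAt i j (coxeterD4 i j) = true := by decide +kernel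
theorem cox_F4 : ∀ i j : Fin 4, F4.cert.okCoxAt i j (CoxeterMatrix.F₄ i j) = true := by decide +kernel
theorem cox_E6 : ∀ i j : Fin 6, E6.cert.okCoxAt i j (CoxeterMatrix.E₆ i j) = true := by decide +kernel
theorem cox_E7 : ∀ i j : Fin 7, E7.cert.okCoxAt i j (CoxeterMatrix.E₇ i j) = true := by decide +kernel
theorem cox_E8 : ∀ i j : Fin 8, E8.cert.okCoxAt i j (CoxeterMatrix.E₈ i j) = true := by decide +kernel

variable {D : ChevalleyDatum} {C : Cert} {F : Type*} [Field F]

namespace Struct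

theorem wIter_eq (S : Struct D C) (i j : Fin D.rank) (s : Fin D.nroots) :
    ∀ k : ℕ, C.wIter i j k s = (((S.wp i * S.wp j) ^ k) s).val
  | 0 => rfl
  | k + 1 => by
    have e : C.wIter i j (k + 1) s = C.w i (C.w j (C.wIter i j k s)) := rfl
    rw [e, wIter_eq S i j s k, pow_succ', Equiv.Perm.mul_apply, Equiv.Perm.mul_apply, wp_val, wp_val]

theorem kall_roots_iff (S : Struct D C) (i j : Fin D.rank) (k : ℕ) :
    kall (fun s => Nat.beq (C.wIter i j k s) s) (krange 0 C.n) = true ↔ (S.wp i * S.wp j) ^ k = 1 := by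
  rw [kall_iff]
  constructor
  · intro h
    refine Equiv.ext fun s => Fin.ext ?_
    have := Nat.eq_of_beq_eq_true (h s.val (by rw [krange_eq, List.mem_range'_1, S.ok.n_eq]; omega))
    rw [S.wIter_eq] at this
    exact this
  · intro h a ha
    rw [krange_eq, List.mem_range'_1, S.ok.n_eq] at ha
    show Nat.beq (C.wIter i j k (⟨a, by omega⟩ : Fin D.nroots).val) a = true
    rw [S.wIter_eq, h]
    simp

theorem orderOf_wp (S : Struct D C) (i j : Fin D.rank) {m : ℕ} (h : C.okCoxAt i j m = true) :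
    orderOf (S.wp i * S.wp j) = m := by
  simp only [Cert.okCoxAt, Bool.and_eq_true, Bool.not_eq_true'] at h
  obtain ⟨⟨h0, h1⟩, h2⟩ := h
  have hm : 0 < m := Nat.pos_of_ne_zero (Nat.ne_of_beq_eq_false h0)
  refine (orderOf_eq_iff hm).2 ⟨(S.kall_roots_iff i j m).1 h1, fun k hk hk0 he => ?_⟩
  rw [kall_iff] at h2
  have h3 := h2 k (by rw [krange_eq, List.mem_range'_1]; simp only [Nat.sub_eq]; omega)
  rw [(S.kall_roots_iff i j k).2 he] at h3
  exact Bool.false_ne_true h3

theorem exists_weylHom (S : Struct D C) (hN : okNeg D = true) {l : ℕ} (hl : D.rank = l)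
    (M : CoxeterMatrix (Fin l)) (hM : ∀ i j : Fin l, C.okCoxAt i j (M i j) = true) :
    ∃ φ : ↥(D.monomialSubgroup F) →* M.Group, Function.Surjective φ ∧
      φ.ker = (D.diagonalSubgroup F).subgroupOf (D.monomialSubgroup F) ∧
      ∀ (i : Fin l) (g : ↥(D.monomialSubgroup F)),
        ((g : GL D.Idx F) : Matrix D.Idx D.Idx F) = D.nMat F (D.simple i) 1 → φ g = M.simple i := by
  subst hl
  obtain ⟨P, hPB, hPN, hPS⟩ := S.exists_bnPair (F := F) (fun i j h => S.simple_ne hN i j h)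
  haveI hnorm : ((P.B ⊓ P.N).subgroupOf P.N).Normal :=
    ⟨fun x hx g => Cfsg.Lib.BN.conj_mem_inf g.2 hx⟩
  have hmemS : ∀ i : Fin D.rank, S.gS F i ∈ P.S := fun i => by
    rw [hPS]; exact ⟨i, i.isLt, S.ok.val_nG _ _⟩
  let f : Fin D.rank → P.S := fun i => ⟨S.gS F i, hmemS i⟩
  have hf : Function.Bijective f := by
    constructor
    · intro i j h
      refine S.nG_inv_mul_mem (F := F) (fun i j h => S.simple_ne hN i j h) ?_
      have e : S.ok.nG (D.simple i) (1 : F) = S.ok.nG (D.simple j) 1 :=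
        congrArg (fun x : ↥(D.group F) => (x : GL D.Idx F)) (congrArg Subtype.val h)
      rw [e, inv_mul_cancel]
      exact one_mem _
    · rintro ⟨n, hn⟩
      rw [hPS] at hn
      obtain ⟨i, hi, e⟩ := hn
      exact ⟨⟨i, hi⟩, Subtype.ext (Subtype.ext (Units.ext (by rw [e, ← S.ok.val_nG]; rfl)))⟩
  have hq : ∀ x : ↥P.N, (QuotientGroup.mk x : Cfsg.Lib.BN.Weyl P) = 1 ↔
      ((x : ↥(D.group F)) : GL D.Idx F) ∈ D.diagonalSubgroup F := by
    intro x
    have hz : ∀ z : ↥(D.group F), z ∈ P.B ∧ z ∈ P.N ↔ (z : GL D.Idx F) ∈ D.diagonalSubgroup F := fun z => by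
      rw [hPB, hPN, Subgroup.mem_subgroupOf, Subgroup.mem_subgroupOf, ← Subgroup.mem_inf, S.B_inf_N]
    rw [QuotientGroup.eq_one_iff, Subgroup.mem_subgroupOf, Subgroup.mem_inf]
    exact hz _
  obtain ⟨cs, hcs⟩ := Cfsg.Lib.BN.exists_coxeterSystem_coxMatrix P
  have horder : ∀ i j, Cfsg.Lib.BN.coxMatrix P (f i) (f j) = M i j := by
    intro i j
    show orderOf (Cfsg.Lib.BN.gen P (f i) * Cfsg.Lib.BN.gen P (f j)) = M i j
    rw [← S.orderOf_wp i j (hM i j)]
    refine orderOf_eq_orderOf_iff.2 fun k => ?_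
    let x : ↥P.N := ⟨S.gS F i, P.subset (hmemS i)⟩
    let y : ↥P.N := ⟨S.gS F j, P.subset (hmemS j)⟩
    have e : (Cfsg.Lib.BN.gen P (f i) * Cfsg.Lib.BN.gen P (f j)) ^ k =
        (QuotientGroup.mk ((x * y) ^ k) : Cfsg.Lib.BN.Weyl P) := rfl
    rw [e, hq]
    have hv : (((x * y) ^ k : ↥P.N) : ↥(D.group F)) = (S.gS F i * S.gS F j) ^ k := by simp [x, y]
    rw [hv, Subgroup.coe_pow, Subgroup.coe_mul]
    have hact : ∀ k, Act S.ok ((S.ok.nG (D.simple i) (1 : F) * S.ok.nG (D.simple j) 1) ^ k)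
        ((S.wp i * S.wp j) ^ k) := by
      intro k
      induction k with
      | zero => simpa using S.act_one (F := F)
      | succ k ih => rw [pow_succ, pow_succ]; exact S.act_mul ih (S.act_mul (S.act_nG i) (S.act_nG j))
    constructor
    · intro h
      exact S.act_unique (hact k) (S.act_diag h)
    · intro h
      obtain ⟨L, hL, hiff⟩ := S.exists_act
        (show (S.ok.nG (D.simple i) (1 : F) * S.ok.nG (D.simple j) 1) ^ k ∈ D.monomialSubgroup F from
          pow_mem (mul_mem (S.nG_mem_mono i) (S.nG_mem_mono j)) k)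
      exact hiff.1 ((S.act_unique hL (hact k)).trans h)
  let e : P.S ≃ Fin D.rank := (Equiv.ofBijective f hf).symm
  have hMe : (Cfsg.Lib.BN.coxMatrix P).reindex e = M := by
    refine CoxeterMatrix.ext (Matrix.ext fun i j => ?_)
    exact horder i j
  let cs' : CoxeterSystem M (Cfsg.Lib.BN.Weyl P) := hMe ▸ cs.reindex e
  have hcs' : ∀ i, cs'.simple i = Cfsg.Lib.BN.gen P (f i) := by
    intro i
    have h1 : ∀ (M' : CoxeterMatrix (Fin D.rank)) (h : (Cfsg.Lib.BN.coxMatrix P).reindex e = M'),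
        ((h ▸ cs.reindex e : CoxeterSystem M' (Cfsg.Lib.BN.Weyl P))).simple i = (cs.reindex e).simple i := by
      rintro M' rfl; rfl
    show (hMe ▸ cs.reindex e).simple i = _
    rw [h1 M hMe, CoxeterSystem.reindex_simple, hcs]
    rfl
  let toN : ↥(D.monomialSubgroup F) →* ↥P.N :=
    { toFun := fun g => ⟨⟨g.1, S.mono_le_group g.2⟩, by rw [hPN]; exact g.2⟩
      map_one' := rfl
      map_mul' := fun _ _ => rfl }
  let φ : ↥(D.monomialSubgroup F) →* M.Group :=
    (cs'.mulEquiv.toMonoidHom.comp (QuotientGroup.mk' _)).comp toN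
  refine ⟨φ, ?_, ?_, fun i g hg => ?_⟩
  · refine (cs'.mulEquiv.surjective.comp (QuotientGroup.mk'_surjective _)).comp ?_
    rintro ⟨⟨n, hn⟩, hn'⟩
    have hn'' : n ∈ D.monomialSubgroup F := by rw [hPN] at hn'; exact hn'
    exact ⟨⟨n, hn''⟩, rfl⟩
  · ext g
    rw [MonoidHom.mem_ker, Subgroup.mem_subgroupOf]
    show cs'.mulEquiv (QuotientGroup.mk (toN g)) = 1 ↔ _
    rw [cs'.mulEquiv.map_eq_one_iff, hq]
    rfl
  · show cs'.mulEquiv (QuotientGroup.mk (toN g)) = M.simple i
    have : (QuotientGroup.mk (toN g) : Cfsg.Lib.BN.Weyl P) = cs'.simple i := by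
      rw [hcs']
      refine congrArg QuotientGroup.mk (Subtype.ext (Subtype.ext (Units.ext ?_)))
      show ((g : GL D.Idx F) : Matrix D.Idx D.Idx F) = _
      rw [hg, ← S.ok.val_nG]
      rfl
    rw [this]
    exact cs'.mulEquiv.apply_symm_apply _

end Struct

end Cfsg.Lib.Chev
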