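import Cfsg.Agent.Chev.Perfect
import Cfsg.Agent.Chev.Cox
import Cfsg.Agent.BN.Extra

/-! The Chevalley group is simple. -/

set_option autoImplicit false

open Cfsg.Lie

namespace Cfsg.Lib.Chev

/-- The reflections `i` and `j` do not commute on the root `sr i`. -/
noncomputable def Cert.adjAt (C : Cert) (i j : ℕ) : Bool :=
  !Nat.beq (C.w i (C.w j (C.sr i))) (C.w j (C.w i (C.sr i)))

/-- The Coxeter diagram is connected. -/
noncomputable def okIrr (C : Cert) (l : ℕ) : Bool :=
  kall (fun m => !kall (fun i => kall (fun j =>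
    !(Nat.testBit m i && !Nat.testBit m j && C.adjAt i j)) (krange 0 l)) (krange 0 l))
    (krange 1 (Nat.sub (Nat.pow 2 l) 2))

theorem G2.irr : okIrr G2.cert chevG2.rank = true := by decide +kernel
theorem B2.irr : okIrr B2.cert chevB2.rank = true := by decide +kernel
theorem D4.irr : okIrr D4.cert chevD4.rank = true := by decide +kernel
theorem F4.irr : okIrr F4.cert chevF4.rank = true := by decide +kernel
theorem E6.irr : okIrr E6.cert chevE6.rank = true := by decide +kernel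
theorem E7.irr : okIrr E7.cert chevE7.rank = true := by decide +kernel
theorem E8.irr : okIrr E8.cert chevE8.rank = true := by decide +kernel

variable {D : ChevalleyDatum} {C : Cert} {F : Type*} [Field F]

theorem sum_two_pow_lt {l : ℕ} (J : Finset (Fin l)) (hne : J ≠ Finset.univ) :
    ∑ i ∈ J, 2 ^ i.val < 2 ^ l - 1 := by
  obtain ⟨j, hj⟩ : ∃ j, j ∉ J := by
    by_contra h; push Not at h; exact hne (Finset.eq_univ_iff_forall.2 h)
  have h1 : ∑ i ∈ J, 2 ^ i.val < ∑ i : Fin l, 2 ^ i.val :=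
    Finset.sum_lt_sum_of_subset (Finset.subset_univ J) (Finset.mem_univ j) hj (by positivity)
      (fun _ _ _ => Nat.zero_le _)
  rwa [Fin.sum_univ_eq_sum_range (fun i => 2 ^ i) l, Nat.geomSum_eq (le_refl 2), Nat.div_one] at h1

theorem testBit_sum_two_pow {l : ℕ} (J : Finset (Fin l)) (i : Fin l) :
    Nat.testBit (∑ j ∈ J, 2 ^ j.val) i.val = decide (i ∈ J) := by
  rw [← Finset.sum_image (g := fun j : Fin l => j.val) (f := fun a => 2 ^ a)
    (fun a _ b _ h => Fin.ext h), Bool.eq_iff_iff, decide_eq_true_iff,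
    ← Nat.mem_bitIndices, ← List.mem_toFinset, Finset.toFinset_bitIndices_twoPowSum]
  simp [Fin.val_inj]

namespace Struct

theorem irreducible (S : Struct D C) (hN : okNeg D = true) (hI : okIrr C D.rank = true)
    (P : Cfsg.BNPair ↥(D.group F)) (hB : P.B = (D.borelSubgroup F).subgroupOf (D.group F))
    (hS : P.S = {n : ↥(D.group F) | ∃ i < D.rank,
      ((n : GL D.Idx F) : Matrix D.Idx D.Idx F) = D.nMat F (D.simple i) 1}) : P.Irreducible := by
  classical
  intro J hJ hne hrest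
  let K : Finset (Fin D.rank) := Finset.univ.filter fun i => S.gS F i ∈ J
  have hel : ∀ n ∈ P.S, ∃ i : Fin D.rank, n = S.gS F i := by
    intro n hn
    rw [hS] at hn
    obtain ⟨i, hi, e⟩ := hn
    exact ⟨⟨i, hi⟩, Subtype.ext (Units.ext (by rw [e, ← S.ok.val_nG]; rfl))⟩
  have hK : K ≠ Finset.univ := by
    obtain ⟨n, hn, hnJ⟩ := hrest
    obtain ⟨i, rfl⟩ := hel n hn
    intro h
    exact hnJ (Finset.mem_filter.1 (h ▸ Finset.mem_univ i : i ∈ K)).2
  have hK0 : 0 < ∑ i ∈ K, 2 ^ i.val := by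
    obtain ⟨n, hn⟩ := hne
    obtain ⟨i, rfl⟩ := hel n (hJ hn)
    exact Finset.sum_pos (fun _ _ => by positivity) ⟨i, by simp [K, hn]⟩
  have hlt := sum_two_pow_lt K hK
  have h0 := (kall_iff _ _).1 hI (∑ i ∈ K, 2 ^ i.val)
    (by rw [krange_eq, List.mem_range'_1]; simp only [Nat.sub_eq, Nat.pow_eq]; omega)
  simp only [Bool.not_eq_true', ← Bool.not_eq_true, kall_iff, not_forall] at h0
  obtain ⟨a, ha, b, hb, hab⟩ := h0
  rw [krange_eq, List.mem_range'_1, Nat.zero_add] at ha hb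
  simp only [Bool.not_eq_true', Bool.not_eq_false, Bool.and_eq_true, Classical.not_not] at hab
  obtain ⟨⟨h1, h2⟩, h3⟩ := hab
  set i : Fin D.rank := ⟨a, ha.2⟩
  set j : Fin D.rank := ⟨b, hb.2⟩
  rw [show a = i.val from rfl, testBit_sum_two_pow, decide_eq_true_iff] at h1
  rw [show b = j.val from rfl, testBit_sum_two_pow, decide_eq_false_iff_not] at h2
  have hjS : S.gS F j ∈ P.S := by rw [hS]; exact ⟨j, j.isLt, S.ok.val_nG _ _⟩
  have hjJ : S.gS F j ∉ J := fun h => h2 (Finset.mem_filter.2 ⟨Finset.mem_univ _, h⟩)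
  refine ⟨S.gS F i, (Finset.mem_filter.1 h1).2, S.gS F j, ⟨hjS, hjJ⟩, fun hBm => ?_⟩
  rw [hB, Subgroup.mem_subgroupOf] at hBm
  simp only [Subgroup.coe_mul, Subgroup.coe_inv] at hBm
  have hd : S.ok.nG (D.simple i) (1 : F) * S.ok.nG (D.simple j) 1 * (S.ok.nG (D.simple i) 1)⁻¹ *
      (S.ok.nG (D.simple j) 1)⁻¹ ∈ D.diagonalSubgroup F := by
    rw [← S.B_inf_N]
    exact Subgroup.mem_inf.2 ⟨hBm, mul_mem (mul_mem (mul_mem (S.nG_mem_mono i) (S.nG_mem_mono j))
      (inv_mem (S.nG_mem_mono i))) (inv_mem (S.nG_mem_mono j))⟩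
  have e1 : Act S.ok (S.ok.nG (D.simple i) (1 : F) * S.ok.nG (D.simple j) 1) (S.wp i * S.wp j) :=
    S.act_mul (S.act_nG i) (S.act_nG j)
  have e2 : Act S.ok (S.ok.nG (D.simple i) (1 : F) * S.ok.nG (D.simple j) 1) (1 * (S.wp j * S.wp i)) := by
    have := S.act_mul (S.act_diag hd) (S.act_mul (S.act_nG (F := F) j) (S.act_nG i))
    convert this using 1
    group
  have hw := congrArg (fun w : Equiv.Perm (Fin D.nroots) => (w (S.sp i)).val) (S.act_unique e1 e2)
  simp only [one_mul, Equiv.Perm.mul_apply, wp_val] at hw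
  simp only [Cert.adjAt, Bool.not_eq_true', show a = i.val from rfl, show b = j.val from rfl] at h3
  exact Nat.ne_of_beq_eq_false h3 hw

theorem simple (S : Struct D C) (hN : okNeg D = true) (hI : okIrr C D.rank = true)
    {L : List ℕ} (hL : C.okOpp L = true) (hperf : commutator ↥(D.group F) = ⊤) (hpos : 0 < D.rank) :
    IsSimpleGroup ↥(D.group F) ∧ ¬ IsMulCommutative ↥(D.group F) := by
  obtain ⟨P, hB, -, hS⟩ := S.exists_bnPair (F := F) (fun i j h => S.simple_ne hN i j h)
  have hnt : Nontrivial ↥(D.group F) := by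
    refine ⟨⟨⟨S.ok.xG (C.sr 0) 1, S.ok.xG_mem_group _ _⟩, 1, fun h => ?_⟩⟩
    exact one_ne_zero (S.xG_eq_one (S.ok.sr_lt hpos) (congrArg Subtype.val h))
  refine ⟨Cfsg.Lib.BN.simple_of_irreducible P (S.irreducible hN hI P hB hS) ?_ hperf ?_, fun hc => ?_⟩
  · rw [hB]
    have := S.isSolvable_borel (F := F)
    exact Group.isSolvable_of_isSolvable_injective
      (f := (Subgroup.subgroupOfEquivOfLe S.borel_le_group).toMonoidHom) (MulEquiv.injective _)
  · rw [hB]; exact S.normalCore_borel hN hL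
  · rw [Subgroup.commutator_eq_bot_iff_le_centralizer.2 (?_ : (⊤ : Subgroup ↥(D.group F)) ≤ _)
      |> fun h => (commutator_def ↥(D.group F)).trans h] at hperf
    · exact bot_ne_top hperf
    · intro x _
      rw [Subgroup.mem_centralizer_iff]
      exact fun y _ => hc.is_comm.comm y x

end Struct

end Cfsg.Lib.Chev
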