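import Cfsg.Agent.Chev.Opp

/-! The Chevalley group is perfect. -/

set_option autoImplicit false

open Cfsg.Lie
open scoped commutatorElement

namespace Cfsg.Lib.Chev

/-- An integer that does not vanish in any field admitted by the flag. -/
noncomputable def smallUnit (md : Bool) (c : ℤ) : Bool :=
  Nat.beq c.natAbs 1 || (md && Nat.beq c.natAbs 2)

/-- The commutator of the witness pair of `r` is a single root element of `r`. -/
noncomputable def perfBase (D : ChevalleyDatum) (md : Bool) (W : List (ℕ × ℕ)) (r : ℕ) : Bool :=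
  match D.commTerms (W.getD r (0, 0)).1 (W.getD r (0, 0)).2 with
  | [q] => Nat.beq q.1 r && Nat.beq q.2.2.1 1 && smallUnit md q.2.1
  | _ => false

/-- The witness pair of `r` gives `r` first and then only roots of `perfBase`. -/
noncomputable def perfStep (D : ChevalleyDatum) (md : Bool) (W : List (ℕ × ℕ)) (r : ℕ) : Bool :=
  match D.commTerms (W.getD r (0, 0)).1 (W.getD r (0, 0)).2 with
  | q :: rest => Nat.beq q.1 r && Nat.beq q.2.2.1 1 && smallUnit md q.2.1 &&
      kall (fun p => perfBase D md W p.1) rest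
  | _ => false

/-- Certificate of perfectness. -/
noncomputable def okPerfect (D : ChevalleyDatum) (md : Bool) (W : List (ℕ × ℕ)) : Bool :=
  kall (fun r => Nat.blt (W.getD r (0, 0)).1 D.nroots && Nat.blt (W.getD r (0, 0)).2 D.nroots &&
    !Nat.beq (W.getD r (0, 0)).2 (W.getD r (0, 0)).1 &&
    !Nat.beq (W.getD r (0, 0)).2 (D.neg (W.getD r (0, 0)).1) && perfStep D md W r) (krange 0 D.nroots)

noncomputable def G2.perfW : List (ℕ × ℕ) := [(1,5), (0,6), (3,4), (2,7), (2,8), (0,10), (1,11), (3,9), (4,9), (7,8), (5,11), (6,10)]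
theorem G2.perfect : okPerfect chevG2 true G2.perfW = true := by decide +kernel

noncomputable def B2.perfW : List (ℕ × ℕ) := [(1,2), (0,5), (0,6), (1,5), (2,6), (1,7), (2,7), (5,6)]
theorem B2.perfect : okPerfect chevB2 true B2.perfW = true := by decide +kernel

noncomputable def D4.perfW : List (ℕ × ℕ) := [(1,9), (0,14), (0,15), (0,16), (0,17), (1,17), (0,19), (0,20), (0,21), (0,22), (1,20), (1,21), (2,22), (3,22), (1,23), (2,23), (3,23), (4,23), (6,22), (6,23), (7,23), (8,23), (9,23), (14,22)]
theorem D4.perfect : okPerfect chevD4 false D4.perfW = true := by decide +kernel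

noncomputable def F4.perfW : List (ℕ × ℕ) := [(1,23), (0,24), (0,26), (7,14), (0,31), (0,32), (1,32), (3,33), (3,34), (3,35), (3,36), (3,37), (3,38), (3,39), (3,40), (0,42), (0,43), (1,43), (7,37), (7,38), (7,39), (0,45), (1,45), (0,46), (1,47), (2,46), (2,47), (8,40), (9,40), (10,40), (4,46), (4,47), (5,47), (7,44), (8,44), (9,44), (10,44), (11,44), (12,44), (13,44), (14,44), (15,46), (15,47), (16,47), (33,40), (21,47), (23,47), (24,46)]
theorem F4.perfect : okPerfect chevF4 false F4.perfW = true := by decide +kernel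

noncomputable def E6.perfW : List (ℕ × ℕ) := [(1,25), (0,46), (0,47), (0,48), (0,49), (0,50), (0,51), (0,52), (0,53), (0,54), (0,55), (1,53), (1,54), (1,55), (2,55), (5,55), (0,61), (0,62), (0,63), (0,64), (0,65), (0,66), (0,67), (0,68), (0,69), (0,70), (1,64), (1,65), (1,66), (2,66), (1,67), (1,68), (1,69), (2,67), (2,68), (3,67), (4,68), (3,69), (4,69), (2,70), (3,70), (4,70), (5,69), (5,70), (6,70), (7,70), (1,71), (2,71), (3,71), (4,71), (5,71), (6,71), (7,71), (8,71), (9,71), (10,71), (16,66), (16,69), (16,70), (17,70), (18,70), (16,71), (17,71), (18,71), (19,71), (20,71), (21,71), (22,71), (23,71), (24,71), (25,71), (46,70)]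
theorem E6.perfect : okPerfect chevE6 false E6.perfW = true := by decide +kernel

noncomputable def E7.perfW : List (ℕ × ℕ) := [(1,32), (0,93), (0,94), (0,95), (0,96), (0,97), (0,98), (0,99), (0,100), (0,101), (0,102), (0,103), (0,104), (0,105), (0,106), (0,107), (0,108), (0,109), (0,110), (0,111), (0,112), (0,113), (0,114), (0,115), (0,116), (0,117), (0,118), (0,119), (0,120), (0,121), (0,122), (0,123), (0,124), (1,109), (1,110), (1,111), (1,112), (1,113), (1,114), (1,115), (1,116), (1,117), (1,118), (2,115), (2,116), (2,117), (2,118), (3,118), (1,119), (1,120), (1,121), (1,122), (1,123), (2,119), (2,120), (2,121), (2,122), (3,119), (3,120), (3,121), (4,119), (4,120), (5,119), (6,120), (5,121), (6,121), (4,122), (5,122), (6,122), (3,123), (4,123), (5,123), (6,123), (2,124), (3,124), (4,124), (5,124), (6,124), (7,122), (7,123), (8,123), (9,123), (10,123), (7,124), (8,124), (9,124), (10,124), (11,124), (12,124), (13,124), (14,124), (15,124), (16,124), (1,125), (2,125), (3,125), (4,125), (5,125), (6,125),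 (7,125), (8,125), (9,125), (10,125), (11,125), (12,125), (13,125), (14,125), (15,125), (16,125), (17,125), (18,125), (19,125), (20,125), (21,125), (22,125), (23,125), (24,125), (25,125), (26,125), (27,125), (28,125), (29,125), (30,125), (31,125), (32,125), (93,124)]
theorem E7.perfect : okPerfect chevE7 false E7.perfW = true := by decide +kernel

noncomputable def E8.perfW : List (ℕ × ℕ) := [(1,119), (0,120), (0,122), (0,125), (0,129), (0,134), (0,140), (0,146), (0,151), (0,155), (0,158), (0,160), (0,161), (1,161), (0,168), (0,173), (0,177), (0,180), (0,182), (0,183), (1,183), (0,187), (0,190), (0,192), (0,193), (1,193), (0,196), (0,198), (0,199), (1,199), (0,201), (0,202), (1,202), (0,203), (1,203), (2,203), (0,206), (0,208), (0,209), (1,209), (0,211), (0,212), (1,212), (0,213), (1,213), (2,213), (0,215), (0,216), (1,216), (0,217), (1,217), (2,217), (0,218), (1,218), (2,218), (3,218), (0,220), (0,221), (1,221), (0,222), (1,222), (2,222), (0,223), (1,223), (2,223), (3,223), (0,224), (1,224), (2,224), (3,224),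 (4,224), (0,225), (1,225), (2,225), (3,225), (4,225), (5,225), (6,225), (0,227), (0,228), (1,228), (0,229), (1,229), (2,229), (0,230), (1,230), (2,230), (3,230), (0,231), (1,231), (2,231), (3,231), (4,231), (0,232), (1,232), (2,232), (3,232), (4,232), (5,232), (0,233), (1,233), (2,233), (3,233), (4,233), (5,233), (0,234), (1,234), (2,234), (3,234), (4,234), (0,235), (1,235), (2,235), (3,235), (0,236), (1,236), (2,236), (0,237), (1,237), (0,238), (1,239), (2,238), (2,239), (3,237), (3,238), (3,239), (4,236), (4,237), (4,238), (4,239), (5,235), (5,236), (5,237), (5,238), (5,239), (6,234), (6,235), (6,236), (6,237), (6,238), (6,239), (7,234), (7,235), (7,236), (7,237), (7,238), (7,239), (8,235), (8,236), (8,237), (8,238), (8,239), (9,236), (9,237), (9,238), (9,239), (10,237), (10,238), (10,239), (11,238), (11,239), (12,239), (14,233), (14,234), (14,235), (14,236), (14,237), (14,238), (14,239), (15,235), (15,236), (15,237), (15,238), (15,239), (16,236), (16,237), (16,238), (16,239), (17,237), (17,238), (17,239),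 (18,238), (18,239), (19,239), (21,236), (21,237), (21,238), (21,239), (22,237), (22,238), (22,239), (23,238), (23,239), (24,239), (26,237), (26,238), (26,239), (27,238), (27,239), (28,239), (30,238), (30,239), (31,239), (33,239), (36,237), (36,238), (36,239), (37,238), (37,239), (38,239), (40,238), (40,239), (41,239), (43,239), (46,238), (46,239), (47,239), (49,239), (52,239), (56,238), (56,239), (57,239), (59,239), (62,239), (66,239), (71,239), (78,238), (78,239), (79,239), (81,239), (84,239), (88,239), (93,239), (99,239), (105,239), (110,239), (114,239), (117,239), (119,239), (120,238)]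
theorem E8.perfect : okPerfect chevE8 false E8.perfW = true := by decide +kernel


variable {D : ChevalleyDatum} {C : Cert} {F : Type*} [Field F]

namespace Struct

theorem comm_gen_mem (S : Struct D C) {r s : ℕ} (hr : r < D.nroots) (hs : s < D.nroots) (h1 : s ≠ r)
    (h2 : s ≠ D.neg r) (t : F) :
    S.ok.wG (D.commWord F r s t 1) ∈ ⁅D.group F, D.group F⁆ := by
  have e := S.ok.commRel S.chain S.base hr hs h1 h2 t (1 : F)
  have e' : S.ok.wG (D.commWord F r s t 1) =
      ⁅(S.ok.xG s (1 : F))⁻¹, (S.ok.xG r t)⁻¹⁆ := by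
    have : S.ok.wG (D.commWord F r s t 1) =
        (S.ok.xG r t * S.ok.xG s 1)⁻¹ * (S.ok.xG s 1 * S.ok.xG r t) := by rw [e]; group
    rw [this, commutatorElement_def]
    group
  rw [e']
  exact Subgroup.commutator_mem_commutator (inv_mem (S.ok.xG_mem_group _ _))
    (inv_mem (S.ok.xG_mem_group _ _))

theorem xG_mem_comm_of_witness (S : Struct D C) {md : Bool} {W : List (ℕ × ℕ)}
    (hW : okPerfect D md W = true) (hc : ∀ c : ℤ, smallUnit md c = true → (c : F) ≠ 0) :
    ∀ r < D.nroots, ∀ t : F, S.ok.xG r t ∈ ⁅D.group F, D.group F⁆ := by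
  have key : ∀ r < D.nroots, ∀ q rest,
      D.commTerms (W.getD r (0, 0)).1 (W.getD r (0, 0)).2 = q :: rest → q.1 = r → q.2.2.1 = 1 →
      smallUnit md q.2.1 = true →
      (∀ p ∈ rest, ∀ t : F, S.ok.xG p.1 t ∈ ⁅D.group F, D.group F⁆) →
      ∀ t : F, S.ok.xG r t ∈ ⁅D.group F, D.group F⁆ := by
    intro r hr q rest he h1 h2 h3 hrest t
    have h0 := kall_krange hW r hr
    simp only [Bool.and_eq_true, Bool.not_eq_true', Nat.blt, Nat.ble_eq] at h0
    obtain ⟨⟨⟨⟨a, b⟩, c⟩, d⟩, -⟩ := h0
    have hm := S.comm_gen_mem (F := F) a b (Nat.ne_of_beq_eq_false c) (Nat.ne_of_beq_eq_false d)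
      (-(t / (q.2.1 : F)))
    have hw : S.ok.wG (D.commWord F (W.getD r (0, 0)).1 (W.getD r (0, 0)).2 (-(t / (q.2.1 : F))) 1) =
        S.ok.xG r t * S.ok.wG (rest.map fun c =>
          (c.1, (c.2.1 : F) * (-(-(t / (q.2.1 : F)))) ^ c.2.2.1 * (1 : F) ^ c.2.2.2)) := by
      simp only [ChevalleyDatum.commWord, he, Ok.wG, List.map_cons, List.prod_cons]
      rw [h1, h2, pow_one, one_pow, mul_one, neg_neg, mul_div_cancel₀ _ (hc _ h3)]
    rw [hw] at hm
    have hr' : S.ok.wG (rest.map fun c =>
          (c.1, (c.2.1 : F) * (-(-(t / (q.2.1 : F)))) ^ c.2.2.1 * (1 : F) ^ c.2.2.2)) ∈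
        ⁅D.group F, D.group F⁆ := by
      refine list_prod_mem fun g hg => ?_
      simp only [List.map_map, List.mem_map] at hg
      obtain ⟨p, hp, rfl⟩ := hg
      exact hrest p hp _
    have := mul_mem hm (inv_mem hr')
    rwa [mul_inv_cancel_right] at this
  have hbase : ∀ r < D.nroots, perfBase D md W r = true →
      ∀ t : F, S.ok.xG r t ∈ ⁅D.group F, D.group F⁆ := by
    intro r hr hb
    unfold perfBase at hb
    split at hb
    · rename_i q he
      simp only [Bool.and_eq_true] at hb
      exact key r hr q [] he (Nat.eq_of_beq_eq_true hb.1.1) (Nat.eq_of_beq_eq_true hb.1.2) hb.2 (by simp)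
    · exact absurd hb Bool.false_ne_true
  intro r hr
  have h0 := kall_krange hW r hr
  simp only [Bool.and_eq_true, Nat.blt, Nat.ble_eq] at h0
  obtain ⟨⟨⟨⟨a, b⟩, -⟩, -⟩, hst⟩ := h0
  unfold perfStep at hst
  split at hst
  · rename_i q rest he
    simp only [Bool.and_eq_true, kall_iff] at hst
    refine key r hr q rest he (Nat.eq_of_beq_eq_true hst.1.1.1) (Nat.eq_of_beq_eq_true hst.1.1.2)
      hst.1.2 fun p hp => hbase p.1 ?_ (hst.2 p hp)
    exact Ok.commTerms_lt S.chain a b (q := p) (he ▸ List.mem_cons_of_mem _ hp)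
  · exact absurd hst Bool.false_ne_true

theorem xG_mem_comm_of_sq (S : Struct D C) {a : F} (ha : a ≠ 0) (ha2 : a ^ 2 ≠ 1) :
    ∀ r < D.nroots, ∀ t : F, S.ok.xG r t ∈ ⁅D.group F, D.group F⁆ := by
  have conj : ∀ i r, i < D.rank → r < D.nroots →
      (∀ t : F, S.ok.xG r t ∈ ⁅D.group F, D.group F⁆) →
      ∀ t : F, S.ok.xG (C.w i r) t ∈ ⁅D.group F, D.group F⁆ := by
    intro i r hi hr H t
    have hn : S.ok.nG (D.simple i) (1 : F) ∈ D.group F := S.ok.nG_mem_group _ _
    have hnorm : D.group F ≤ Subgroup.normalizer ((⁅D.group F, D.group F⁆ : Subgroup (GL D.Idx F)) : Set (GL D.Idx F)) := by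
      intro g hg
      rw [Subgroup.mem_normalizer_iff]
      have key : ∀ g ∈ D.group F, ∀ x ∈ ⁅D.group F, D.group F⁆,
          g * x * g⁻¹ ∈ ⁅D.group F, D.group F⁆ := by
        intro g hg x hx
        have hxG : x ∈ D.group F := Subgroup.commutator_le_self _ hx
        have : g * x * g⁻¹ = ⁅g, x⁆ * x := by rw [commutatorElement_def]; group
        rw [this]
        exact mul_mem (Subgroup.commutator_mem_commutator hg hxG) hx
      refine fun x => ⟨key g hg x, fun hx => ?_⟩
      simpa [mul_assoc] using key g⁻¹ (inv_mem hg) _ hx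
    have := (Subgroup.mem_normalizer_iff.1 (hnorm hn) _).1 (H ((C.eta i r : F) * t))
    rwa [S.ok.conj_nG_xG hi hr, ← mul_assoc, Ok.eta_sq, one_mul] at this
  refine S.ok.root_induction (fun i hi => ?_) fun i r hi hr ih => ?_
  · have hbase : ∀ t : F, S.ok.xG (C.sr i) t ∈ ⁅D.group F, D.group F⁆ := by
      intro t
      have hs := S.ok.sr_lt hi
      have hc2 : D.cartan i (C.sr i) = 2 := by
        rw [← S.ok.cart_eq hi hs, (S.ok.refl_simple hi).2.2.2]
      have e := S.ok.hG_mul_xG_simple hi hs ha (t / (a ^ 2 - 1))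
      rw [hc2, zpow_ofNat] at e
      have hm : ⁅S.ok.hG (D.simple i) a, S.ok.xG (C.sr i) (t / (a ^ 2 - 1))⁆ ∈
          ⁅D.group F, D.group F⁆ :=
        Subgroup.commutator_mem_commutator (S.ok.hG_mem_group _ _) (S.ok.xG_mem_group _ _)
      rw [commutatorElement_def, e, mul_inv_cancel_right, S.ok.xG_inv, S.ok.xG_mul] at hm
      convert hm using 2
      have : a ^ 2 - 1 ≠ 0 := sub_ne_zero.2 ha2
      field_simp
      ring
    exact ⟨hbase, (S.ok.refl_simple hi).1 ▸ conj i _ hi (S.ok.sr_lt hi) hbase⟩
  · exact S.ok.w_w hi hr ▸ conj i _ hi (S.ok.w_lt hi hr) ih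

theorem commutator_eq_top (S : Struct D C) {md : Bool} {W : List (ℕ × ℕ)}
    (hW : okPerfect D md W = true) (hmd : md = true → ∃ a : F, a ≠ 0 ∧ a ≠ 1) :
    commutator ↥(D.group F) = ⊤ := by
  have hgen : ∀ r < D.nroots, ∀ t : F, S.ok.xG r t ∈ ⁅D.group F, D.group F⁆ := by
    by_cases h : ∃ a : F, a ≠ 0 ∧ a ^ 2 ≠ 1
    · obtain ⟨a, ha, ha2⟩ := h
      exact S.xG_mem_comm_of_sq ha ha2
    · push Not at h
      refine S.xG_mem_comm_of_witness hW fun c hc => ?_
      simp only [smallUnit, Bool.or_eq_true, Bool.and_eq_true] at hc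
      rcases hc with hc | ⟨hmd', hc⟩
      · rcases Int.natAbs_eq c with e | e <;> rw [e, Nat.eq_of_beq_eq_true hc] <;> simp
      · obtain ⟨a, ha0, ha1⟩ := hmd hmd'
        have h2 : (2 : F) ≠ 0 := by
          intro h20
          have h4 := h a ha0
          have : (a - 1) ^ 2 = 0 := by linear_combination h4 - (a - 1) * h20
          exact ha1 (sub_eq_zero.1 (sq_eq_zero_iff.1 this))
        rcases Int.natAbs_eq c with e | e <;> rw [e, Nat.eq_of_beq_eq_true hc] <;> simpa using h2
  apply Subgroup.map_injective (D.group F).subtype_injective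
  rw [Subgroup.map_subtype_commutator, ← MonoidHom.range_eq_map, Subgroup.range_subtype]
  refine le_antisymm (Subgroup.commutator_le_self _) ((Subgroup.closure_le _).2 ?_)
  rintro g ⟨r, t, hg⟩
  have hx : (g : Matrix D.Idx D.Idx F) = D.x F r t := by simpa [ChevalleyDatum.x] using hg
  rw [S.ok.eq_xG hx]
  exact hgen r r.isLt t

end Struct

end Cfsg.Lib.Chev
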