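import Cfsg.Agent.Chev.Datum

/-! Checks split into blocks of roots, to bound the memory used by the kernel. -/

set_option autoImplicit false

open Cfsg.Lie

namespace Cfsg.Lib.Chev

theorem kall_blocks {f : ℕ → Bool} (n m : ℕ) (hm : 0 < m) (h : ∀ j, j * m < n → kall f (krange (j * m) m) = true) :
    kall f (krange 0 n) = true := by
  rw [kall_iff]
  intro a ha
  rw [krange_eq, List.mem_range'_1] at ha
  have hj := h (a / m) (lt_of_le_of_lt (Nat.div_mul_le_self a m) (by omega))
  rw [kall_iff] at hj
  refine hj a ?_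
  rw [krange_eq, List.mem_range'_1]
  refine ⟨Nat.div_mul_le_self a m, ?_⟩
  have := Nat.lt_div_mul_add hm (a := a)
  omega

namespace Cert

variable (C : Cert)

/-- `okConj` on a block of roots. -/
noncomputable def conjBlock (i a m : ℕ) : Bool :=
  kall (fun s => eqTest 2 (kflat (C.conjT i) (C.row s)) (scaleU (C.eta i s) (C.row (C.w i s))))
    (krange a m)

/-- Agreement of a block of rows with the datum. -/
noncomputable def tabBlock (D : ChevalleyDatum) (a m : ℕ) : Bool :=
  kall (fun r => listBeq tmBeq (C.row r) (rowTerms D r)) (krange a m)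

theorem okConj_of_blocks (i m : ℕ) (hm : 0 < m) (h : ∀ j, j * m < C.n → C.conjBlock i (j * m) m = true) :
    C.okConj i = true :=
  kall_blocks C.n m hm h

theorem tab_eq_of_blocks (D : ChevalleyDatum) (m : ℕ) (hm : 0 < m) (hn : C.n = D.nroots)
    (hlen : C.tab.length = D.nroots) (h : ∀ j, j * m < D.nroots → C.tabBlock D (j * m) m = true) :
    C.tab = (List.range D.nroots).map (rowTerms D) := by
  have _ := hn
  have hall : kall (fun r => listBeq tmBeq (C.row r) (rowTerms D r)) (krange 0 D.nroots) = true :=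
    kall_blocks D.nroots m hm h
  refine List.ext_getElem (by simp [hlen]) fun r h₁ h₂ => ?_
  have := listBeq_eq (fun a b => tmBeq_eq) (kall_krange hall r (hlen ▸ h₁))
  simpa [Cert.row, List.getD_eq_getElem?_getD, h₁] using this

end Cert

theorem tmBeq_refl (a : Tm) : tmBeq a a = true := by
  simp [tmBeq]

theorem listBeq_refl {α : Type} {eq : α → α → Bool} (heq : ∀ a, eq a a = true) :
    ∀ s : List α, listBeq eq s s = true
  | [] => rfl
  | a :: s => by simp [listBeq, heq a, listBeq_refl heq s]

theorem Cert.okTab_of (C : Cert) (D : ChevalleyDatum) (hl : Nat.beq C.l D.rank = true)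
    (hn : Nat.beq C.n D.nroots = true) (hs : Nat.ble (Nat.add C.l C.n) 256 = true)
    (ht : C.tab = (List.range D.nroots).map (rowTerms D))
    (hneg : kall (fun r => Nat.beq (C.neg r) (D.negIdx.getD r 0) && Nat.blt (C.neg r) C.n && !Nat.beq (C.neg r) r &&
      Nat.beq (C.neg (C.neg r)) r) (krange 0 C.n) = true)
    (hsimp : kall (fun i => Nat.beq (C.sr i) (D.simpleIdx.getD i 0) && Nat.blt (C.sr i) C.n &&
      kall (fun s => decide (C.cart i s = (D.cartanSR.getD i #[]).getD s 0)) (krange 0 C.n)) (krange 0 C.l) = true)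
    (hrc : kall (fun L => kall (fun e => Nat.blt e.r (Nat.add C.l C.n) && Nat.blt e.c (Nat.add C.l C.n)) L) C.tab = true) :
    C.okTab D = true := by
  simp only [Cert.okTab, Bool.and_eq_true]
  exact ⟨⟨⟨⟨⟨⟨hl, hn⟩, hs⟩, by rw [← ht]; exact listBeq_refl (listBeq_refl tmBeq_refl) _⟩, hneg⟩, hsimp⟩, hrc⟩

end Cfsg.Lib.Chev
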