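import Cfsg.Agent.Chev.Datum

/-! Tables for type B2, transcribed from the datum (agreement is checked by the kernel). -/

set_option autoImplicit false

namespace Cfsg.Lib.Chev.B2

/-- Row 0. -/
def t0 : List Tm := [mkT 1 2 0 2, mkT 1 0 9 (-1), mkT 1 1 9 (-1), mkT 2 2 9 (-1), mkT 1 3 7 1, mkT 1 4 8 (-1)]
/-- Row 1. -/
def t1 : List Tm := [mkT 1 3 1 1, mkT 1 0 8 (-1), mkT 1 1 8 (-2), mkT 2 3 8 (-1), mkT 1 2 4 2, mkT 1 4 6 1, mkT 2 2 6 1, mkT 1 5 7 (-2), mkT 1 7 9 (-1), mkT 2 5 9 1]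
/-- Row 2. -/
def t2 : List Tm := [mkT 1 4 0 2, mkT 1 4 1 (-1), mkT 1 0 7 (-1), mkT 2 4 7 (-1), mkT 1 2 3 (-2), mkT 1 3 5 1, mkT 2 2 5 (-1), mkT 1 6 8 (-2), mkT 1 8 9 1, mkT 2 6 9 (-1)]
/-- Row 3. -/
def t3 : List Tm := [mkT 1 5 0 (-2), mkT 1 5 1 2, mkT 1 1 6 (-1), mkT 2 5 6 (-1), mkT 1 3 4 (-1), mkT 1 7 8 1]
/-- Row 4. -/
def t4 : List Tm := [mkT 1 6 0 2, mkT 1 6 1 (-2), mkT 1 1 5 1, mkT 2 6 5 (-1), mkT 1 4 3 (-1), mkT 1 8 7 1]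
/-- Row 5. -/
def t5 : List Tm := [mkT 1 7 0 (-2), mkT 1 7 1 1, mkT 1 0 4 1, mkT 2 7 4 (-1), mkT 1 3 2 (-1), mkT 2 5 2 (-1), mkT 1 5 3 2, mkT 1 8 6 (-1), mkT 2 9 6 (-1), mkT 1 9 8 2]
/-- Row 6. -/
def t6 : List Tm := [mkT 1 8 1 (-1), mkT 1 0 3 1, mkT 1 1 3 2, mkT 2 8 3 (-1), mkT 1 4 2 1, mkT 2 6 2 1, mkT 1 6 4 2, mkT 1 7 5 (-1), mkT 2 9 5 1, mkT 1 9 7 (-2)]
/-- Row 7. -/
def t7 : List Tm := [mkT 1 9 0 (-2), mkT 1 0 2 1, mkT 1 1 2 1, mkT 2 9 2 (-1), mkT 1 7 3 1, mkT 1 8 4 (-1)]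
/-- The certificate. -/
def cert : Cert where
  l := 2
  n := 8
  tab := [t0, t1, t2, t3, t4, t5, t6, t7]
  simp := [5, 4]
  negP := 283686952306183
  refl := [289921455100330243, 505817143170892288]
  sgn := [255, 90]
  car := [433478069894906882, 289641075373835012]

end Cfsg.Lib.Chev.B2
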