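import Cfsg.Agent.Chev.Comm
import Cfsg.Agent.Chev.TabB2
import Cfsg.Prelude.Def_ChevB2

set_option autoImplicit false

open Cfsg.Lie

namespace Cfsg.Lib.Chev.B2

theorem okChain_ : okChain chevB2 = true := by decide +kernel
theorem okBase_0 : cert.okBase chevB2 0 = true := by decide +kernel
theorem okBase_1 : cert.okBase chevB2 1 = true := by decide +kernel

/-- The commutator checks of type B2. -/
theorem okBase_all : ∀ i < chevB2.rank, cert.okBase chevB2 i = true := by
  intro i hi
  replace hi : i < 2 := hi
  interval_cases i
  · exact okBase_0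
  · exact okBase_1

end Cfsg.Lib.Chev.B2
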