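import Cfsg.Agent.Chev.Datum

/-! Tables for type D4, transcribed from the datum (agreement is checked by the kernel). -/

set_option autoImplicit false

namespace Cfsg.Lib.Chev.D4

/-- Row 0. -/
def t0 : List Tm := [mkT 1 4 1 1, mkT 1 0 27 (-1), mkT 1 1 27 (-2), mkT 1 2 27 (-1), mkT 1 3 27 (-1), mkT 2 4 27 (-1), mkT 1 5 18 1, mkT 1 6 19 (-1), mkT 1 7 20 (-1), mkT 1 8 21 1, mkT 1 10 23 (-1), mkT 1 11 24 1, mkT 1 12 25 1, mkT 1 13 26 (-1)]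
/-- Row 1. -/
def t1 : List Tm := [mkT 1 5 0 1, mkT 1 5 1 (-1), mkT 1 5 2 1, mkT 1 5 3 1, mkT 1 0 26 (-1), mkT 1 1 26 (-1), mkT 1 2 26 (-1), mkT 1 3 26 (-1), mkT 2 5 26 (-1), mkT 1 4 13 1, mkT 1 6 16 1, mkT 1 7 17 1, mkT 1 9 21 1, mkT 1 10 22 (-1), mkT 1 14 24 (-1), mkT 1 15 25 (-1), mkT 1 18 27 (-1)]
/-- Row 2. -/
def t2 : List Tm := [mkT 1 6 0 1, mkT 1 6 2 1, mkT 1 6 3 (-1), mkT 1 0 25 (-1), mkT 1 1 25 (-1), mkT 1 2 25 (-1), mkT 2 6 25 (-1), mkT 1 4 12 (-1), mkT 1 5 15 1, mkT 1 8 17 1, mkT 1 9 20 1, mkT 1 11 22 (-1), mkT 1 14 23 (-1), mkT 1 16 26 (-1), mkT 1 19 27 1]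
/-- Row 3. -/
def t3 : List Tm := [mkT 1 7 0 1, mkT 1 7 2 (-1), mkT 1 7 3 1, mkT 1 0 24 (-1), mkT 1 1 24 (-1), mkT 1 3 24 (-1), mkT 2 7 24 (-1), mkT 1 4 11 (-1), mkT 1 5 14 1, mkT 1 8 16 1, mkT 1 9 19 1, mkT 1 12 22 (-1), mkT 1 15 23 (-1), mkT 1 17 26 (-1), mkT 1 20 27 1]
/-- Row 4. -/
def t4 : List Tm := [mkT 1 8 0 1, mkT 1 8 1 1, mkT 1 8 2 (-1), mkT 1 8 3 (-1), mkT 1 0 23 (-1), mkT 1 1 23 (-1), mkT 2 8 23 (-1), mkT 1 4 10 1, mkT 1 6 14 1, mkT 1 7 15 1, mkT 1 9 18 1, mkT 1 13 22 (-1), mkT 1 16 24 (-1), mkT 1 17 25 (-1), mkT 1 21 27 (-1)]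
/-- Row 5. -/
def t5 : List Tm := [mkT 1 9 0 2, mkT 1 9 1 (-1), mkT 1 0 22 (-1), mkT 2 9 22 (-1), mkT 1 5 10 1, mkT 1 6 11 1, mkT 1 7 12 1, mkT 1 8 13 1, mkT 1 18 23 (-1), mkT 1 19 24 (-1), mkT 1 20 25 (-1), mkT 1 21 26 (-1)]
/-- Row 6. -/
def t6 : List Tm := [mkT 1 10 0 (-1), mkT 1 10 2 1, mkT 1 10 3 1, mkT 1 1 21 (-1), mkT 1 2 21 (-1), mkT 1 3 21 (-1), mkT 2 10 21 (-1), mkT 1 4 8 (-1), mkT 1 5 9 (-1), mkT 1 11 16 1, mkT 1 12 17 1, mkT 1 14 19 (-1), mkT 1 15 20 (-1), mkT 1 22 26 1, mkT 1 23 27 1]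
/-- Row 7. -/
def t7 : List Tm := [mkT 1 11 0 (-1), mkT 1 11 1 1, mkT 1 11 2 1, mkT 1 11 3 (-1), mkT 1 1 20 (-1), mkT 1 2 20 (-1), mkT 2 11 20 (-1), mkT 1 4 7 1, mkT 1 6 9 (-1), mkT 1 10 15 1, mkT 1 13 17 1, mkT 1 14 18 (-1), mkT 1 16 21 (-1), mkT 1 22 25 1, mkT 1 24 27 (-1)]
/-- Row 8. -/
def t8 : List Tm := [mkT 1 12 0 (-1), mkT 1 12 1 1, mkT 1 12 2 (-1), mkT 1 12 3 1, mkT 1 1 19 (-1), mkT 1 3 19 (-1), mkT 2 12 19 (-1), mkT 1 4 6 1, mkT 1 7 9 (-1), mkT 1 10 14 1, mkT 1 13 16 1, mkT 1 15 18 (-1), mkT 1 17 21 (-1), mkT 1 22 24 1, mkT 1 25 27 (-1)]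
/-- Row 9. -/
def t9 : List Tm := [mkT 1 13 0 (-1), mkT 1 13 1 2, mkT 1 13 2 (-1), mkT 1 13 3 (-1), mkT 1 1 18 (-1), mkT 2 13 18 (-1), mkT 1 4 5 (-1), mkT 1 8 9 (-1), mkT 1 11 14 1, mkT 1 12 15 1, mkT 1 16 19 (-1), mkT 1 17 20 (-1), mkT 1 22 23 1, mkT 1 26 27 1]
/-- Row 10. -/
def t10 : List Tm := [mkT 1 14 1 (-1), mkT 1 14 2 2, mkT 1 2 17 (-1), mkT 2 14 17 (-1), mkT 1 5 7 (-1), mkT 1 6 8 (-1), mkT 1 10 12 (-1), mkT 1 11 13 (-1), mkT 1 18 20 1, mkT 1 19 21 1, mkT 1 23 25 1, mkT 1 24 26 1]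
/-- Row 11. -/
def t11 : List Tm := [mkT 1 15 1 (-1), mkT 1 15 3 2, mkT 1 3 16 (-1), mkT 2 15 16 (-1), mkT 1 5 6 (-1), mkT 1 7 8 (-1), mkT 1 10 11 (-1), mkT 1 12 13 (-1), mkT 1 18 19 1, mkT 1 20 21 1, mkT 1 23 24 1, mkT 1 25 26 1]
/-- Row 12. -/
def t12 : List Tm := [mkT 1 16 1 1, mkT 1 16 3 (-2), mkT 1 3 15 1, mkT 2 16 15 (-1), mkT 1 6 5 (-1), mkT 1 8 7 (-1), mkT 1 11 10 (-1), mkT 1 13 12 (-1), mkT 1 19 18 1, mkT 1 21 20 1, mkT 1 24 23 1, mkT 1 26 25 1]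
/-- Row 13. -/
def t13 : List Tm := [mkT 1 17 1 1, mkT 1 17 2 (-2), mkT 1 2 14 1, mkT 2 17 14 (-1), mkT 1 7 5 (-1), mkT 1 8 6 (-1), mkT 1 12 10 (-1), mkT 1 13 11 (-1), mkT 1 20 18 1, mkT 1 21 19 1, mkT 1 25 23 1, mkT 1 26 24 1]
/-- Row 14. -/
def t14 : List Tm := [mkT 1 18 0 1, mkT 1 18 1 (-2), mkT 1 18 2 1, mkT 1 18 3 1, mkT 1 1 13 1, mkT 2 18 13 (-1), mkT 1 5 4 (-1), mkT 1 9 8 (-1), mkT 1 14 11 1, mkT 1 15 12 1, mkT 1 19 16 (-1), mkT 1 20 17 (-1), mkT 1 23 22 1, mkT 1 27 26 1]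
/-- Row 15. -/
def t15 : List Tm := [mkT 1 19 0 1, mkT 1 19 1 (-1), mkT 1 19 2 1, mkT 1 19 3 (-1), mkT 1 1 12 1, mkT 1 3 12 1, mkT 2 19 12 (-1), mkT 1 6 4 1, mkT 1 9 7 (-1), mkT 1 14 10 1, mkT 1 16 13 1, mkT 1 18 15 (-1), mkT 1 21 17 (-1), mkT 1 24 22 1, mkT 1 27 25 (-1)]
/-- Row 16. -/
def t16 : List Tm := [mkT 1 20 0 1, mkT 1 20 1 (-1), mkT 1 20 2 (-1), mkT 1 20 3 1, mkT 1 1 11 1, mkT 1 2 11 1, mkT 2 20 11 (-1), mkT 1 7 4 1, mkT 1 9 6 (-1), mkT 1 15 10 1, mkT 1 17 13 1, mkT 1 18 14 (-1), mkT 1 21 16 (-1), mkT 1 25 22 1, mkT 1 27 24 (-1)]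
/-- Row 17. -/
def t17 : List Tm := [mkT 1 21 0 1, mkT 1 21 2 (-1), mkT 1 21 3 (-1), mkT 1 1 10 1, mkT 1 2 10 1, mkT 1 3 10 1, mkT 2 21 10 (-1), mkT 1 8 4 (-1), mkT 1 9 5 (-1), mkT 1 16 11 1, mkT 1 17 12 1, mkT 1 19 14 (-1), mkT 1 20 15 (-1), mkT 1 26 22 1, mkT 1 27 23 1]
/-- Row 18. -/
def t18 : List Tm := [mkT 1 22 0 (-2), mkT 1 22 1 1, mkT 1 0 9 1, mkT 2 22 9 (-1), mkT 1 10 5 1, mkT 1 11 6 1, mkT 1 12 7 1, mkT 1 13 8 1, mkT 1 23 18 (-1), mkT 1 24 19 (-1), mkT 1 25 20 (-1), mkT 1 26 21 (-1)]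
/-- Row 19. -/
def t19 : List Tm := [mkT 1 23 0 (-1), mkT 1 23 1 (-1), mkT 1 23 2 1, mkT 1 23 3 1, mkT 1 0 8 1, mkT 1 1 8 1, mkT 2 23 8 (-1), mkT 1 10 4 1, mkT 1 14 6 1, mkT 1 15 7 1, mkT 1 18 9 1, mkT 1 22 13 (-1), mkT 1 24 16 (-1), mkT 1 25 17 (-1), mkT 1 27 21 (-1)]
/-- Row 20. -/
def t20 : List Tm := [mkT 1 24 0 (-1), mkT 1 24 2 1, mkT 1 24 3 (-1), mkT 1 0 7 1, mkT 1 1 7 1, mkT 1 3 7 1, mkT 2 24 7 (-1), mkT 1 11 4 (-1), mkT 1 14 5 1, mkT 1 16 8 1, mkT 1 19 9 1, mkT 1 22 12 (-1), mkT 1 23 15 (-1), mkT 1 26 17 (-1), mkT 1 27 20 1]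
/-- Row 21. -/
def t21 : List Tm := [mkT 1 25 0 (-1), mkT 1 25 2 (-1), mkT 1 25 3 1, mkT 1 0 6 1, mkT 1 1 6 1, mkT 1 2 6 1, mkT 2 25 6 (-1), mkT 1 12 4 (-1), mkT 1 15 5 1, mkT 1 17 8 1, mkT 1 20 9 1, mkT 1 22 11 (-1), mkT 1 23 14 (-1), mkT 1 26 16 (-1), mkT 1 27 19 1]
/-- Row 22. -/
def t22 : List Tm := [mkT 1 26 0 (-1), mkT 1 26 1 1, mkT 1 26 2 (-1), mkT 1 26 3 (-1), mkT 1 0 5 1, mkT 1 1 5 1, mkT 1 2 5 1, mkT 1 3 5 1, mkT 2 26 5 (-1), mkT 1 13 4 1, mkT 1 16 6 1, mkT 1 17 7 1, mkT 1 21 9 1, mkT 1 22 10 (-1), mkT 1 24 14 (-1), mkT 1 25 15 (-1), mkT 1 27 18 (-1)]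
/-- Row 23. -/
def t23 : List Tm := [mkT 1 27 1 (-1), mkT 1 0 4 1, mkT 1 1 4 2, mkT 1 2 4 1, mkT 1 3 4 1, mkT 2 27 4 (-1), mkT 1 18 5 1, mkT 1 19 6 (-1), mkT 1 20 7 (-1), mkT 1 21 8 1, mkT 1 23 10 (-1), mkT 1 24 11 1, mkT 1 25 12 1, mkT 1 26 13 (-1)]
/-- The certificate. -/
def cert : Cert where
  l := 4
  n := 24
  tab := [t0, t1, t2, t3, t4, t5, t6, t7, t8, t9, t10, t11, t12, t13, t14, t15, t16, t17, t18, t19, t20, t21, t22, t23]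
  simp := [18, 14, 13, 12]
  negP := 96533667595335344311200144916688449305687896108635671
  refl := [565592643864087472290204273757603651193062799363369534976, 541649279090809664310305499994679834166397163664360734721, 565881119482020990812274433957960368099339668429056770816, 565978018496368764364970633948976412520310965285293195776]
  sgn := [508896, 8945169, 6497478, 5413194]
  car := [98560497530220468100439704647908779967936270357145780996, 122888488635478845244757571610435246363240548304624551171, 98560494595754785311725765872976764969334135865838076676, 98559749229919745873331163736425550004487504051373933316]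

end Cfsg.Lib.Chev.D4
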