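import Cfsg.Agent.Chev.Comm
import Cfsg.Agent.Chev.TabD4
import Cfsg.Prelude.Def_ChevD4

set_option autoImplicit false

open Cfsg.Lie

namespace Cfsg.Lib.Chev.D4

theorem okChain_ : okChain chevD4 = true := by decide +kernel
theorem okBase_0 : cert.okBase chevD4 0 = true := by decide +kernel
theorem okBase_1 : cert.okBase chevD4 1 = true := by decide +kernel
theorem okBase_2 : cert.okBase chevD4 2 = true := by decide +kernel
theorem okBase_3 : cert.okBase chevD4 3 = true := by decide +kernel

/-- The commutator checks of type D4. -/
theorem okBase_all : ∀ i < chevD4.rank, cert.okBase chevD4 i = true := by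
  intro i hi
  replace hi : i < 4 := hi
  interval_cases i
  · exact okBase_0
  · exact okBase_1
  · exact okBase_2
  · exact okBase_3

end Cfsg.Lib.Chev.D4
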