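import Cfsg.Agent.Chev.Comm
import Cfsg.Agent.Chev.TabE6
import Cfsg.Prelude.Def_ChevE6

set_option autoImplicit false

open Cfsg.Lie

namespace Cfsg.Lib.Chev.E6

theorem okChain_ : okChain chevE6 = true := by decide +kernel
theorem okBase_0 : cert.okBase chevE6 0 = true := by decide +kernel
theorem okBase_1 : cert.okBase chevE6 1 = true := by decide +kernel
theorem okBase_2 : cert.okBase chevE6 2 = true := by decide +kernel
theorem okBase_3 : cert.okBase chevE6 3 = true := by decide +kernel
theorem okBase_4 : cert.okBase chevE6 4 = true := by decide +kernel
theorem okBase_5 : cert.okBase chevE6 5 = true := by decide +kernel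

/-- The commutator checks of type E6. -/
theorem okBase_all : ∀ i < chevE6.rank, cert.okBase chevE6 i = true := by
  intro i hi
  replace hi : i < 6 := hi
  interval_cases i
  · exact okBase_0
  · exact okBase_1
  · exact okBase_2
  · exact okBase_3
  · exact okBase_4
  · exact okBase_5

end Cfsg.Lib.Chev.E6
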