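import Cfsg.Agent.Chev.Comm
import Cfsg.Agent.Chev.TabE8
import Cfsg.Prelude.Def_ChevE8

set_option autoImplicit false
set_option Elab.async false

open Cfsg.Lie

namespace Cfsg.Lib.Chev.E8

theorem okChain_ : okChain chevE8 = true := by decide +kernel
theorem okBase_0 : cert.okBase chevE8 0 = true := by decide +kernel
theorem okBase_1 : cert.okBase chevE8 1 = true := by decide +kernel
theorem okBase_2 : cert.okBase chevE8 2 = true := by decide +kernel
theorem okBase_3 : cert.okBase chevE8 3 = true := by decide +kernel
theorem okBase_4 : cert.okBase chevE8 4 = true := by decide +kernel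
theorem okBase_5 : cert.okBase chevE8 5 = true := by decide +kernel
theorem okBase_6 : cert.okBase chevE8 6 = true := by decide +kernel
theorem okBase_7 : cert.okBase chevE8 7 = true := by decide +kernel

/-- The commutator checks of type E8. -/
theorem okBase_all : ∀ i < chevE8.rank, cert.okBase chevE8 i = true := by
  intro i hi
  replace hi : i < 8 := hi
  interval_cases i
  · exact okBase_0
  · exact okBase_1
  · exact okBase_2
  · exact okBase_3
  · exact okBase_4
  · exact okBase_5
  · exact okBase_6
  · exact okBase_7

end Cfsg.Lib.Chev.E8
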