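import Cfsg.Agent.Chev.Datum

/-! Tables for type F4, transcribed from the datum (agreement is checked by the kernel). -/

set_option autoImplicit false

namespace Cfsg.Lib.Chev.F4

/-- Row 0. -/
def t0 : List Tm := [mkT 1 4 3 1, mkT 1 0 51 (-1), mkT 1 1 51 (-2), mkT 1 2 51 (-3), mkT 1 3 51 (-2), mkT 2 4 51 (-1), mkT 1 5 28 1, mkT 1 6 30 1, mkT 1 7 33 1, mkT 1 8 35 (-1), mkT 1 9 36 1, mkT 1 11 40 1, mkT 1 12 42 (-1), mkT 1 13 43 1, mkT 1 15 44 (-1), mkT 1 19 46 (-1), mkT 1 20 47 1, mkT 1 22 48 (-1), mkT 1 25 49 (-1), mkT 1 27 50 (-1)]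
/-- Row 1. -/
def t1 : List Tm := [mkT 1 5 2 1, mkT 1 5 3 (-1), mkT 1 0 50 (-1), mkT 1 1 50 (-2), mkT 1 2 50 (-3), mkT 1 3 50 (-1), mkT 2 5 50 (-1), mkT 1 4 27 1, mkT 1 6 29 1, mkT 1 7 32 1, mkT 1 8 34 (-1), mkT 1 10 36 1, mkT 1 11 39 1, mkT 1 12 41 (-1), mkT 1 14 43 1, mkT 1 16 44 (-1), mkT 1 19 45 (-1), mkT 1 21 47 1, mkT 1 23 48 (-1), mkT 1 26 49 (-1), mkT 1 28 51 (-1)]
/-- Row 2. -/
def t2 : List Tm := [mkT 1 6 1 2, mkT 1 6 2 (-1), mkT 1 0 49 (-1), mkT 1 1 49 (-2), mkT 1 2 49 (-2), mkT 1 3 49 (-1), mkT 2 6 49 (-1), mkT 1 4 25 1, mkT 1 5 26 1, mkT 1 7 31 1, mkT 1 9 34 (-1), mkT 1 10 35 1, mkT 1 11 38 1, mkT 1 13 41 (-1), mkT 1 14 42 1, mkT 1 17 44 (-1), mkT 1 20 45 (-1), mkT 1 21 46 1, mkT 1 24 48 (-1), mkT 1 29 50 (-1), mkT 1 30 51 (-1)]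
/-- Row 3. -/
def t3 : List Tm := [mkT 1 7 0 1, mkT 1 0 48 (-2), mkT 1 1 48 (-3), mkT 1 2 48 (-4), mkT 1 3 48 (-2), mkT 2 7 48 (-1), mkT 1 4 22 2, mkT 1 5 23 2, mkT 1 6 24 2, mkT 1 8 31 2, mkT 1 9 32 (-2), mkT 1 10 33 2, mkT 1 11 37 1, mkT 1 12 38 1, mkT 1 13 39 (-1), mkT 1 14 40 1, mkT 1 15 41 (-1), mkT 1 16 42 1, mkT 1 17 43 (-1), mkT 1 18 44 (-1), mkT 1 22 45 (-1), mkT 2 4 45 (-1), mkT 1 23 46 1, mkT 2 5 46 1, mkT 1 24 47 (-1), mkT 2 6 47 (-1), mkT 1 31 49 (-1), mkT 2 8 49 (-1), mkT 1 32 50 (-1), mkT 2 9 50 1, mkT 1 33 51 (-1), mkT 2 10 51 (-1)]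
/-- Row 4. -/
def t4 : List Tm := [mkT 1 8 0 2, mkT 1 8 1 (-2), mkT 1 8 2 1, mkT 1 0 47 (-1), mkT 1 1 47 (-1), mkT 1 2 47 (-2), mkT 1 3 47 (-1), mkT 2 8 47 (-1), mkT 1 4 20 (-1), mkT 1 5 21 (-1), mkT 1 7 24 1, mkT 1 9 29 1, mkT 1 10 30 (-1), mkT 1 12 37 1, mkT 1 15 39 (-1), mkT 1 16 40 1, mkT 1 18 43 (-1), mkT 1 25 45 1, mkT 1 26 46 (-1), mkT 1 31 48 (-1), mkT 1 34 50 1, mkT 1 35 51 1]
/-- Row 5. -/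
def t5 : List Tm := [mkT 1 9 0 2, mkT 1 9 2 (-1), mkT 1 9 3 1, mkT 1 0 46 (-1), mkT 1 1 46 (-1), mkT 1 2 46 (-1), mkT 1 3 46 (-1), mkT 2 9 46 (-1), mkT 1 4 19 1, mkT 1 6 21 (-1), mkT 1 7 23 (-1), mkT 1 8 26 1, mkT 1 10 28 1, mkT 1 13 37 1, mkT 1 15 38 (-1), mkT 1 17 40 1, mkT 1 18 42 (-1), mkT 1 27 45 (-1), mkT 1 29 47 (-1), mkT 1 32 48 1, mkT 1 34 49 1, mkT 1 36 51 (-1)]
/-- Row 6. -/
def t6 : List Tm := [mkT 1 10 0 2, mkT 1 10 3 (-1), mkT 1 0 45 (-1), mkT 1 1 45 (-1), mkT 1 2 45 (-1), mkT 2 10 45 (-1), mkT 1 5 19 1, mkT 1 6 20 1, mkT 1 7 22 1, mkT 1 8 25 (-1), mkT 1 9 27 1, mkT 1 14 37 1, mkT 1 16 38 (-1), mkT 1 17 39 1, mkT 1 18 41 (-1), mkT 1 28 46 (-1), mkT 1 30 47 1, mkT 1 33 48 (-1), mkT 1 35 49 (-1), mkT 1 36 50 (-1)]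
/-- Row 7. -/
def t7 : List Tm := [mkT 1 11 0 (-1), mkT 1 11 1 1, mkT 1 0 44 (-1), mkT 1 1 44 (-3), mkT 1 2 44 (-4), mkT 1 3 44 (-2), mkT 2 11 44 (-1), mkT 1 4 15 2, mkT 1 5 16 2, mkT 1 6 17 2, mkT 1 7 18 1, mkT 1 12 31 1, mkT 1 13 32 (-1), mkT 1 14 33 1, mkT 1 15 34 1, mkT 2 4 34 1, mkT 1 16 35 (-1), mkT 2 5 35 (-1), mkT 1 17 36 1, mkT 2 6 36 1, mkT 1 19 38 (-2), mkT 1 20 39 2, mkT 1 21 40 (-2), mkT 1 22 41 (-1), mkT 1 23 42 1, mkT 1 24 43 (-1), mkT 1 37 48 (-1), mkT 1 38 49 (-1), mkT 2 19 49 1, mkT 1 39 50 (-1), mkT 2 20 50 (-1), mkT 1 40 51 (-1), mkT 2 21 51 1]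
/-- Row 8. -/
def t8 : List Tm := [mkT 1 12 1 (-1), mkT 1 12 2 1, mkT 1 0 43 (-1), mkT 1 1 43 (-2), mkT 1 2 43 (-4), mkT 1 3 43 (-2), mkT 2 12 43 (-1), mkT 1 4 13 (-2), mkT 1 5 14 (-2), mkT 1 7 17 1, mkT 1 8 18 2, mkT 1 11 24 1, mkT 1 13 29 1, mkT 2 4 29 (-1), mkT 1 14 30 (-1), mkT 2 5 30 1, mkT 1 15 32 1, mkT 1 16 33 (-1), mkT 1 18 36 1, mkT 2 8 36 1, mkT 1 19 37 (-2), mkT 1 22 39 1, mkT 1 23 40 (-1), mkT 1 25 41 2, mkT 1 26 42 (-2), mkT 1 31 44 (-1), mkT 1 37 47 (-1), mkT 2 19 47 1, mkT 1 38 48 (-1), mkT 1 41 50 1, mkT 2 25 50 1, mkT 1 42 51 1, mkT 2 26 51 (-1)]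
/-- Row 9. -/
def t9 : List Tm := [mkT 1 13 1 1, mkT 1 13 2 (-1), mkT 1 13 3 1, mkT 1 0 42 (-1), mkT 1 1 42 (-2), mkT 1 2 42 (-2), mkT 1 3 42 (-2), mkT 2 13 42 (-1), mkT 1 4 12 2, mkT 1 6 14 (-2), mkT 1 7 16 (-1), mkT 1 9 18 2, mkT 1 11 23 (-1), mkT 1 12 26 1, mkT 2 4 26 1, mkT 1 14 28 1, mkT 2 6 28 (-1), mkT 1 15 31 1, mkT 1 17 33 (-1), mkT 1 18 35 1, mkT 2 9 35 1, mkT 1 20 37 (-2), mkT 1 22 38 1, mkT 1 24 40 (-1), mkT 1 27 41 (-2), mkT 1 29 43 (-2), mkT 1 32 44 1, mkT 1 37 46 (-1), mkT 2 20 46 1, mkT 1 39 48 1, mkT 1 41 49 1, mkT 2 27 49 (-1), mkT 1 43 51 (-1), mkT 2 29 51 1]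
/-- Row 10. -/
def t10 : List Tm := [mkT 1 14 1 1, mkT 1 14 3 (-1), mkT 1 0 41 (-1), mkT 1 1 41 (-2), mkT 1 2 41 (-2), mkT 2 14 41 (-1), mkT 1 5 12 2, mkT 1 6 13 2, mkT 1 7 15 1, mkT 1 10 18 2, mkT 1 11 22 1, mkT 1 12 25 (-1), mkT 2 5 25 (-1), mkT 1 13 27 1, mkT 2 6 27 1, mkT 1 16 31 1, mkT 1 17 32 (-1), mkT 1 18 34 1, mkT 2 10 34 1, mkT 1 21 37 (-2), mkT 1 23 38 1, mkT 1 24 39 (-1), mkT 1 28 42 (-2), mkT 1 30 43 2, mkT 1 33 44 (-1), mkT 1 37 45 (-1), mkT 2 21 45 1, mkT 1 40 48 (-1), mkT 1 42 49 (-1), mkT 2 28 49 1, mkT 1 43 50 (-1), mkT 2 30 50 (-1)]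
/-- Row 11. -/
def t11 : List Tm := [mkT 1 15 0 1, mkT 1 15 1 (-1), mkT 1 15 3 1, mkT 1 0 40 (-1), mkT 1 1 40 (-1), mkT 1 2 40 (-2), mkT 1 3 40 (-2), mkT 2 15 40 (-1), mkT 1 4 11 (-2), mkT 1 7 14 (-1), mkT 1 8 16 (-2), mkT 1 9 17 (-2), mkT 1 11 21 1, mkT 2 4 21 (-1), mkT 1 12 23 1, mkT 1 13 24 1, mkT 1 16 28 1, mkT 2 8 28 (-1), mkT 1 17 30 1, mkT 2 9 30 (-1), mkT 1 18 33 1, mkT 1 22 37 (-1), mkT 1 25 38 (-2), mkT 1 27 39 (-2), mkT 1 31 42 (-1), mkT 1 32 43 (-1), mkT 1 34 44 (-2), mkT 1 38 46 1, mkT 2 25 46 (-1), mkT 1 39 47 1, mkT 2 27 47 (-1), mkT 1 41 48 1, mkT 1 44 51 1, mkT 2 34 51 (-1)]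
/-- Row 12. -/
def t12 : List Tm := [mkT 1 16 0 1, mkT 1 16 1 (-1), mkT 1 16 2 1, mkT 1 16 3 (-1), mkT 1 0 39 (-1), mkT 1 1 39 (-1), mkT 1 2 39 (-2), mkT 2 16 39 (-1), mkT 1 5 11 (-2), mkT 1 7 13 1, mkT 1 8 15 2, mkT 1 10 17 (-2), mkT 1 11 20 (-1), mkT 2 5 20 1, mkT 1 12 22 (-1), mkT 1 14 24 1, mkT 1 15 27 1, mkT 2 8 27 1, mkT 1 17 29 1, mkT 2 10 29 (-1), mkT 1 18 32 1, mkT 1 23 37 (-1), mkT 1 26 38 (-2), mkT 1 28 40 (-2), mkT 1 31 41 (-1), mkT 1 33 43 1, mkT 1 35 44 2, mkT 1 38 45 1, mkT 2 26 45 (-1), mkT 1 40 47 (-1), mkT 2 28 47 1, mkT 1 42 48 (-1), mkT 1 44 50 1, mkT 2 35 50 1]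
/-- Row 13. -/
def t13 : List Tm := [mkT 1 17 0 1, mkT 1 17 1 1, mkT 1 17 2 (-1), mkT 1 0 38 (-1), mkT 1 1 38 (-1), mkT 2 17 38 (-1), mkT 1 6 11 (-2), mkT 1 7 12 (-1), mkT 1 9 15 2, mkT 1 10 16 2, mkT 1 11 19 1, mkT 2 6 19 (-1), mkT 1 13 22 (-1), mkT 1 14 23 (-1), mkT 1 15 25 1, mkT 2 9 25 1, mkT 1 16 26 1, mkT 2 10 26 1, mkT 1 18 31 1, mkT 1 24 37 (-1), mkT 1 29 39 (-2), mkT 1 30 40 (-2), mkT 1 32 41 1, mkT 1 33 42 1, mkT 1 36 44 (-2), mkT 1 39 45 (-1), mkT 2 29 45 1, mkT 1 40 46 (-1), mkT 2 30 46 1, mkT 1 43 48 1, mkT 1 44 49 1, mkT 2 36 49 (-1)]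
/-- Row 14. -/
def t14 : List Tm := [mkT 1 18 0 2, mkT 1 18 1 (-1), mkT 1 0 37 (-1), mkT 2 18 37 (-1), mkT 1 7 11 (-1), mkT 1 8 12 (-2), mkT 1 9 13 (-2), mkT 1 10 14 (-2), mkT 1 12 19 1, mkT 2 8 19 (-1), mkT 1 13 20 1, mkT 2 9 20 (-1), mkT 1 14 21 1, mkT 2 10 21 (-1), mkT 1 15 22 1, mkT 1 16 23 1, mkT 1 17 24 1, mkT 1 31 38 (-1), mkT 1 32 39 (-1), mkT 1 33 40 (-1), mkT 1 34 41 (-2), mkT 1 35 42 (-2), mkT 1 36 43 (-2), mkT 1 41 45 1, mkT 2 34 45 (-1), mkT 1 42 46 1, mkT 2 35 46 (-1), mkT 1 43 47 1, mkT 2 36 47 (-1), mkT 1 44 48 1]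
/-- Row 15. -/
def t15 : List Tm := [mkT 1 19 0 (-2), mkT 1 19 2 1, mkT 1 1 36 (-1), mkT 1 2 36 (-2), mkT 1 3 36 (-1), mkT 2 19 36 (-1), mkT 1 4 9 (-1), mkT 1 5 10 (-1), mkT 1 11 17 (-1), mkT 1 12 18 (-1), mkT 1 20 29 1, mkT 1 21 30 (-1), mkT 1 22 32 1, mkT 1 23 33 (-1), mkT 1 25 34 1, mkT 1 26 35 (-1), mkT 1 37 43 1, mkT 1 38 44 1, mkT 1 45 50 1, mkT 1 46 51 1]
/-- Row 16. -/
def t16 : List Tm := [mkT 1 20 0 (-2), mkT 1 20 1 2, mkT 1 20 2 (-1), mkT 1 20 3 1, mkT 1 1 35 (-1), mkT 1 2 35 (-1), mkT 1 3 35 (-1), mkT 2 20 35 (-1), mkT 1 4 8 1, mkT 1 6 10 (-1), mkT 1 11 16 1, mkT 1 13 18 (-1), mkT 1 19 26 1, mkT 1 21 28 1, mkT 1 22 31 1, mkT 1 24 33 (-1), mkT 1 27 34 (-1), mkT 1 29 36 (-1), mkT 1 37 42 1, mkT 1 39 44 (-1), mkT 1 45 49 1, mkT 1 47 51 (-1)]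
/-- Row 17. -/
def t17 : List Tm := [mkT 1 21 0 (-2), mkT 1 21 1 2, mkT 1 21 3 (-1), mkT 1 1 34 (-1), mkT 1 2 34 (-1), mkT 2 21 34 (-1), mkT 1 5 8 1, mkT 1 6 9 1, mkT 1 11 15 (-1), mkT 1 14 18 (-1), mkT 1 19 25 (-1), mkT 1 20 27 1, mkT 1 23 31 1, mkT 1 24 32 (-1), mkT 1 28 35 (-1), mkT 1 30 36 1, mkT 1 37 41 1, mkT 1 40 44 1, mkT 1 46 49 (-1), mkT 1 47 50 (-1)]
/-- Row 18. -/
def t18 : List Tm := [mkT 1 22 0 (-1), mkT 1 22 3 1, mkT 1 1 33 (-1), mkT 1 2 33 (-2), mkT 1 3 33 (-2), mkT 2 22 33 (-1), mkT 1 4 7 (-2), mkT 1 7 10 (-1), mkT 2 4 10 1, mkT 1 11 14 (-1), mkT 1 12 16 1, mkT 1 13 17 1, mkT 1 15 18 (-1), mkT 1 19 23 2, mkT 1 20 24 2, mkT 1 23 28 1, mkT 2 19 28 1, mkT 1 24 30 1, mkT 2 20 30 1, mkT 1 25 31 (-2), mkT 1 27 32 (-2), mkT 1 31 35 (-1), mkT 2 25 35 1, mkT 1 32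 36 (-1), mkT 2 27 36 1, mkT 1 37 40 1, mkT 1 38 42 (-1), mkT 1 39 43 (-1), mkT 1 41 44 1, mkT 1 45 48 2, mkT 1 48 51 1, mkT 2 45 51 1]
/-- Row 19. -/
def t19 : List Tm := [mkT 1 23 0 (-1), mkT 1 23 2 1, mkT 1 23 3 (-1), mkT 1 1 32 (-1), mkT 1 2 32 (-2), mkT 2 23 32 (-1), mkT 1 5 7 (-2), mkT 1 7 9 1, mkT 2 5 9 (-1), mkT 1 11 13 1, mkT 1 12 15 (-1), mkT 1 14 17 1, mkT 1 16 18 (-1), mkT 1 19 22 (-2), mkT 1 21 24 2, mkT 1 22 27 1, mkT 2 19 27 (-1), mkT 1 24 29 1, mkT 2 21 29 1, mkT 1 26 31 (-2), mkT 1 28 33 (-2), mkT 1 31 34 (-1), mkT 2 26 34 1, mkT 1 33 36 1, mkT 2 28 36 (-1), mkT 1 37 39 1, mkT 1 38 41 (-1), mkT 1 40 43 1, mkT 1 42 44 (-1), mkT 1 46 48 (-2), mkT 1 48 50 1, mkT 2 46 50 (-1)]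
/-- Row 20. -/
def t20 : List Tm := [mkT 1 24 0 (-1), mkT 1 24 1 2, mkT 1 24 2 (-1), mkT 1 1 31 (-1), mkT 2 24 31 (-1), mkT 1 6 7 (-2), mkT 1 7 8 (-1), mkT 2 6 8 1, mkT 1 11 12 (-1), mkT 1 13 15 (-1), mkT 1 14 16 (-1), mkT 1 17 18 (-1), mkT 1 20 22 (-2), mkT 1 21 23 (-2), mkT 1 22 25 1, mkT 2 20 25 (-1), mkT 1 23 26 1, mkT 2 21 26 (-1), mkT 1 29 32 (-2), mkT 1 30 33 (-2), mkT 1 32 34 1, mkT 2 29 34 (-1), mkT 1 33 35 1, mkT 2 30 35 (-1), mkT 1 37 38 1, mkT 1 39 41 1, mkT 1 40 42 1, mkT 1 43 44 1, mkT 1 47 48 2, mkT 1 48 49 1, mkT 2 47 49 1]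
/-- Row 21. -/
def t21 : List Tm := [mkT 1 25 1 (-2), mkT 1 25 2 1, mkT 1 25 3 1, mkT 1 2 30 (-1), mkT 1 3 30 (-1), mkT 2 25 30 (-1), mkT 1 4 6 (-1), mkT 1 8 10 1, mkT 1 12 14 1, mkT 1 15 17 (-1), mkT 1 19 21 1, mkT 1 22 24 (-1), mkT 1 26 28 1, mkT 1 27 29 (-1), mkT 1 31 33 1, mkT 1 34 36 (-1), mkT 1 38 40 1, mkT 1 41 43 (-1), mkT 1 45 47 (-1), mkT 1 49 51 1]
/-- Row 22. -/
def t22 : List Tm := [mkT 1 26 1 (-2), mkT 1 26 2 2, mkT 1 26 3 (-1), mkT 1 2 29 (-1), mkT 2 26 29 (-1), mkT 1 5 6 (-1), mkT 1 8 9 (-1), mkT 1 12 13 (-1), mkT 1 16 17 (-1), mkT 1 19 20 (-1), mkT 1 23 24 (-1), mkT 1 25 27 1, mkT 1 28 30 (-1), mkT 1 31 32 1, mkT 1 35 36 1, mkT 1 38 39 1, mkT 1 42 43 1, mkT 1 46 47 1, mkT 1 49 50 1]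
/-- Row 23. -/
def t23 : List Tm := [mkT 1 27 2 (-1), mkT 1 27 3 2, mkT 1 3 28 (-1), mkT 2 27 28 (-1), mkT 1 4 5 (-1), mkT 1 9 10 (-1), mkT 1 13 14 (-1), mkT 1 15 16 (-1), mkT 1 20 21 (-1), mkT 1 22 23 (-1), mkT 1 25 26 (-1), mkT 1 29 30 1, mkT 1 32 33 1, mkT 1 34 35 1, mkT 1 39 40 1, mkT 1 41 42 1, mkT 1 45 46 1, mkT 1 50 51 1]
/-- Row 24. -/
def t24 : List Tm := [mkT 1 28 2 1, mkT 1 28 3 (-2), mkT 1 3 27 1, mkT 2 28 27 (-1), mkT 1 5 4 (-1), mkT 1 10 9 (-1), mkT 1 14 13 (-1), mkT 1 16 15 (-1), mkT 1 21 20 (-1), mkT 1 23 22 (-1), mkT 1 26 25 (-1), mkT 1 30 29 1, mkT 1 33 32 1, mkT 1 35 34 1, mkT 1 40 39 1, mkT 1 42 41 1, mkT 1 46 45 1, mkT 1 51 50 1]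
/-- Row 25. -/
def t25 : List Tm := [mkT 1 29 1 2, mkT 1 29 2 (-2), mkT 1 29 3 1, mkT 1 2 26 1, mkT 2 29 26 (-1), mkT 1 6 5 (-1), mkT 1 9 8 (-1), mkT 1 13 12 (-1), mkT 1 17 16 (-1), mkT 1 20 19 (-1), mkT 1 24 23 (-1), mkT 1 27 25 1, mkT 1 30 28 (-1), mkT 1 32 31 1, mkT 1 36 35 1, mkT 1 39 38 1, mkT 1 43 42 1, mkT 1 47 46 1, mkT 1 50 49 1]
/-- Row 26. -/
def t26 : List Tm := [mkT 1 30 1 2, mkT 1 30 2 (-1), mkT 1 30 3 (-1), mkT 1 2 25 1, mkT 1 3 25 1, mkT 2 30 25 (-1), mkT 1 6 4 (-1), mkT 1 10 8 1, mkT 1 14 12 1, mkT 1 17 15 (-1), mkT 1 21 19 1, mkT 1 24 22 (-1), mkT 1 28 26 1, mkT 1 29 27 (-1), mkT 1 33 31 1, mkT 1 36 34 (-1), mkT 1 40 38 1, mkT 1 43 41 (-1), mkT 1 47 45 (-1), mkT 1 51 49 1]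
/-- Row 27. -/
def t27 : List Tm := [mkT 1 31 0 1, mkT 1 31 1 (-2), mkT 1 31 2 1, mkT 1 1 24 1, mkT 2 31 24 (-1), mkT 1 7 6 (-1), mkT 2 8 6 1, mkT 1 8 7 (-2), mkT 1 12 11 (-1), mkT 1 15 13 (-1), mkT 1 16 14 (-1), mkT 1 18 17 (-1), mkT 1 22 20 (-1), mkT 2 25 20 (-1), mkT 1 23 21 (-1), mkT 2 26 21 (-1), mkT 1 25 22 2, mkT 1 26 23 2, mkT 1 32 29 (-1), mkT 2 34 29 (-1), mkT 1 33 30 (-1), mkT 2 35 30 (-1), mkT 1 34 32 2, mkT 1 35 33 2, mkT 1 38 37 1, mkT 1 41 39 1, mkT 1 42 40 1, mkT 1 44 43 1, mkT 1 48 47 1, mkT 2 49 47 1, mkT 1 49 48 2]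
/-- Row 28. -/
def t28 : List Tm := [mkT 1 32 0 1, mkT 1 32 2 (-1), mkT 1 32 3 1, mkT 1 1 23 1, mkT 1 2 23 2, mkT 2 32 23 (-1), mkT 1 7 5 (-1), mkT 2 9 5 (-1), mkT 1 9 7 2, mkT 1 13 11 1, mkT 1 15 12 (-1), mkT 1 17 14 1, mkT 1 18 16 (-1), mkT 1 22 19 (-1), mkT 2 27 19 (-1), mkT 1 24 21 1, mkT 2 29 21 1, mkT 1 27 22 2, mkT 1 29 24 2, mkT 1 31 26 (-1), mkT 2 34 26 1, mkT 1 33 28 (-1), mkT 2 36 28 (-1), mkT 1 34 31 (-2), mkT 1 36 33 2, mkT 1 39 37 1, mkT 1 41 38 (-1), mkT 1 43 40 1, mkT 1 44 42 (-1), mkT 1 48 46 (-1), mkT 2 50 46 (-1), mkT 1 50 48 2]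
/-- Row 29. -/
def t29 : List Tm := [mkT 1 33 0 1, mkT 1 33 3 (-1), mkT 1 1 22 1, mkT 1 2 22 2, mkT 1 3 22 2, mkT 2 33 22 (-1), mkT 1 7 4 (-1), mkT 2 10 4 1, mkT 1 10 7 (-2), mkT 1 14 11 (-1), mkT 1 16 12 1, mkT 1 17 13 1, mkT 1 18 15 (-1), mkT 1 23 19 1, mkT 2 28 19 1, mkT 1 24 20 1, mkT 2 30 20 1, mkT 1 28 23 2, mkT 1 30 24 2, mkT 1 31 25 (-1), mkT 2 35 25 1, mkT 1 32 27 (-1), mkT 2 36 27 1, mkT 1 35 31 (-2), mkT 1 36 32 (-2), mkT 1 40 37 1, mkT 1 42 38 (-1), mkT 1 43 39 (-1), mkT 1 44 41 1, mkT 1 48 45 1, mkT 2 51 45 1, mkT 1 51 48 2]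
/-- Row 30. -/
def t30 : List Tm := [mkT 1 34 0 2, mkT 1 34 1 (-2), mkT 1 34 3 1, mkT 1 1 21 1, mkT 1 2 21 1, mkT 2 34 21 (-1), mkT 1 8 5 1, mkT 1 9 6 1, mkT 1 15 11 (-1), mkT 1 18 14 (-1), mkT 1 25 19 (-1), mkT 1 27 20 1, mkT 1 31 23 1, mkT 1 32 24 (-1), mkT 1 35 28 (-1), mkT 1 36 30 1, mkT 1 41 37 1, mkT 1 44 40 1, mkT 1 49 46 (-1), mkT 1 50 47 (-1)]
/-- Row 31. -/
def t31 : List Tm := [mkT 1 35 0 2, mkT 1 35 1 (-2), mkT 1 35 2 1, mkT 1 35 3 (-1), mkT 1 1 20 1, mkT 1 2 20 1, mkT 1 3 20 1, mkT 2 35 20 (-1), mkT 1 8 4 1, mkT 1 10 6 (-1), mkT 1 16 11 1, mkT 1 18 13 (-1), mkT 1 26 19 1, mkT 1 28 21 1, mkT 1 31 22 1, mkT 1 33 24 (-1), mkT 1 34 27 (-1), mkT 1 36 29 (-1), mkT 1 42 37 1, mkT 1 44 39 (-1), mkT 1 49 45 1, mkT 1 51 47 (-1)]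
/-- Row 32. -/
def t32 : List Tm := [mkT 1 36 0 2, mkT 1 36 2 (-1), mkT 1 1 19 1, mkT 1 2 19 2, mkT 1 3 19 1, mkT 2 36 19 (-1), mkT 1 9 4 (-1), mkT 1 10 5 (-1), mkT 1 17 11 (-1), mkT 1 18 12 (-1), mkT 1 29 20 1, mkT 1 30 21 (-1), mkT 1 32 22 1, mkT 1 33 23 (-1), mkT 1 34 25 1, mkT 1 35 26 (-1), mkT 1 43 37 1, mkT 1 44 38 1, mkT 1 50 45 1, mkT 1 51 46 1]
/-- Row 33. -/
def t33 : List Tm := [mkT 1 37 0 (-2), mkT 1 37 1 1, mkT 1 0 18 1, mkT 2 37 18 (-1), mkT 1 11 7 (-1), mkT 1 12 8 (-1), mkT 2 19 8 (-1), mkT 1 13 9 (-1), mkT 2 20 9 (-1), mkT 1 14 10 (-1), mkT 2 21 10 (-1), mkT 1 19 12 2, mkT 1 20 13 2, mkT 1 21 14 2, mkT 1 22 15 1, mkT 1 23 16 1, mkT 1 24 17 1, mkT 1 38 31 (-1), mkT 1 39 32 (-1), mkT 1 40 33 (-1), mkT 1 41 34 (-1), mkT 2 45 34 (-1), mkT 1 42 35 (-1), mkT 2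 46 35 (-1), mkT 1 43 36 (-1), mkT 2 47 36 (-1), mkT 1 45 41 2, mkT 1 46 42 2, mkT 1 47 43 2, mkT 1 48 44 1]
/-- Row 34. -/
def t34 : List Tm := [mkT 1 38 0 (-1), mkT 1 38 1 (-1), mkT 1 38 2 1, mkT 1 0 17 1, mkT 1 1 17 1, mkT 2 38 17 (-1), mkT 1 11 6 (-1), mkT 2 19 6 (-1), mkT 1 12 7 (-1), mkT 1 15 9 1, mkT 2 25 9 1, mkT 1 16 10 1, mkT 2 26 10 1, mkT 1 19 11 2, mkT 1 22 13 (-1), mkT 1 23 14 (-1), mkT 1 25 15 2, mkT 1 26 16 2, mkT 1 31 18 1, mkT 1 37 24 (-1), mkT 1 39 29 (-1), mkT 2 45 29 1, mkT 1 40 30 (-1), mkT 2 46 30 1, mkT 1 41 32 1, mkT 1 42 33 1, mkT 1 44 36 (-1), mkT 2 49 36 (-1), mkT 1 45 39 (-2), mkT 1 46 40 (-2), mkT 1 48 43 1, mkT 1 49 44 2]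
/-- Row 35. -/
def t35 : List Tm := [mkT 1 39 0 (-1), mkT 1 39 1 1, mkT 1 39 2 (-1), mkT 1 39 3 1, mkT 1 0 16 1, mkT 1 1 16 1, mkT 1 2 16 2, mkT 2 39 16 (-1), mkT 1 11 5 (-1), mkT 2 20 5 1, mkT 1 13 7 1, mkT 1 15 8 1, mkT 2 27 8 1, mkT 1 17 10 (-1), mkT 2 29 10 (-1), mkT 1 20 11 (-2), mkT 1 22 12 (-1), mkT 1 24 14 1, mkT 1 27 15 2, mkT 1 29 17 2, mkT 1 32 18 1, mkT 1 37 23 (-1), mkT 1 38 26 (-1), mkT 2 45 26 (-1), mkT 1 40 28 (-1), mkT 2 47 28 1, mkT 1 41 31 (-1), mkT 1 43 33 1, mkT 1 44 35 1, mkT 2 50 35 1, mkT 1 45 38 2, mkT 1 47 40 (-2), mkT 1 48 42 (-1), mkT 1 50 44 2]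
/-- Row 36. -/
def t36 : List Tm := [mkT 1 40 0 (-1), mkT 1 40 1 1, mkT 1 40 3 (-1), mkT 1 0 15 1, mkT 1 1 15 1, mkT 1 2 15 2, mkT 1 3 15 2, mkT 2 40 15 (-1), mkT 1 11 4 (-1), mkT 2 21 4 (-1), mkT 1 14 7 (-1), mkT 1 16 8 (-1), mkT 2 28 8 (-1), mkT 1 17 9 (-1), mkT 2 30 9 (-1), mkT 1 21 11 2, mkT 1 23 12 1, mkT 1 24 13 1, mkT 1 28 16 2, mkT 1 30 17 2, mkT 1 33 18 1, mkT 1 37 22 (-1), mkT 1 38 25 (-1), mkT 2 46 25 (-1), mkT 1 39 27 (-1), mkT 2 47 27 (-1), mkT 1 42 31 (-1), mkT 1 43 32 (-1), mkT 1 44 34 (-1), mkT 2 51 34 (-1), mkT 1 46 38 2, mkT 1 47 39 2, mkT 1 48 41 1, mkT 1 51 44 2]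
/-- Row 37. -/
def t37 : List Tm := [mkT 1 41 1 (-1), mkT 1 41 3 1, mkT 1 0 14 1, mkT 1 1 14 2, mkT 1 2 14 2, mkT 2 41 14 (-1), mkT 1 12 5 1, mkT 2 25 5 (-1), mkT 1 13 6 1, mkT 2 27 6 1, mkT 1 15 7 1, mkT 1 18 10 1, mkT 2 34 10 1, mkT 1 22 11 1, mkT 1 25 12 (-2), mkT 1 27 13 2, mkT 1 31 16 1, mkT 1 32 17 (-1), mkT 1 34 18 2, mkT 1 37 21 (-1), mkT 2 45 21 1, mkT 1 38 23 1, mkT 1 39 24 (-1), mkT 1 42 28 (-1), mkT 2 49 28 1, mkT 1 43 30 1, mkT 2 50 30 (-1), mkT 1 44 33 (-1), mkT 1 45 37 (-2), mkT 1 48 40 (-1), mkT 1 49 42 (-2), mkT 1 50 43 (-2)]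
/-- Row 38. -/
def t38 : List Tm := [mkT 1 42 1 (-1), mkT 1 42 2 1, mkT 1 42 3 (-1), mkT 1 0 13 1, mkT 1 1 13 2, mkT 1 2 13 2, mkT 1 3 13 2, mkT 2 42 13 (-1), mkT 1 12 4 1, mkT 2 26 4 1, mkT 1 14 6 (-1), mkT 2 28 6 (-1), mkT 1 16 7 (-1), mkT 1 18 9 1, mkT 2 35 9 1, mkT 1 23 11 (-1), mkT 1 26 12 2, mkT 1 28 14 2, mkT 1 31 15 1, mkT 1 33 17 (-1), mkT 1 35 18 2, mkT 1 37 20 (-1), mkT 2 46 20 1, mkT 1 38 22 1, mkT 1 40 24 (-1), mkT 1 41 27 (-1), mkT 2 49 27 (-1), mkT 1 43 29 (-1), mkT 2 51 29 1, mkT 1 44 32 1, mkT 1 46 37 (-2), mkT 1 48 39 1, mkT 1 49 41 2, mkT 1 51 43 (-2)]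
/-- Row 39. -/
def t39 : List Tm := [mkT 1 43 1 1, mkT 1 43 2 (-1), mkT 1 0 12 1, mkT 1 1 12 2, mkT 1 2 12 4, mkT 1 3 12 2, mkT 2 43 12 (-1), mkT 1 13 4 (-1), mkT 2 29 4 (-1), mkT 1 14 5 (-1), mkT 2 30 5 1, mkT 1 17 7 1, mkT 1 18 8 1, mkT 2 36 8 1, mkT 1 24 11 1, mkT 1 29 13 2, mkT 1 30 14 (-2), mkT 1 32 15 1, mkT 1 33 16 (-1), mkT 1 36 18 2, mkT 1 37 19 (-1), mkT 2 47 19 1, mkT 1 39 22 1, mkT 1 40 23 (-1), mkT 1 41 25 1, mkT 2 50 25 1, mkT 1 42 26 (-1), mkT 2 51 26 (-1), mkT 1 44 31 (-1), mkT 1 47 37 (-2), mkT 1 48 38 (-1), mkT 1 50 41 2, mkT 1 51 42 2]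
/-- Row 40. -/
def t40 : List Tm := [mkT 1 44 0 1, mkT 1 44 1 (-1), mkT 1 0 11 1, mkT 1 1 11 3, mkT 1 2 11 4, mkT 1 3 11 2, mkT 2 44 11 (-1), mkT 1 15 4 1, mkT 2 34 4 1, mkT 1 16 5 1, mkT 2 35 5 (-1), mkT 1 17 6 1, mkT 2 36 6 1, mkT 1 18 7 1, mkT 1 31 12 1, mkT 1 32 13 (-1), mkT 1 33 14 1, mkT 1 34 15 2, mkT 1 35 16 (-2), mkT 1 36 17 2, mkT 1 38 19 (-1), mkT 2 49 19 1, mkT 1 39 20 1, mkT 2 50 20 (-1), mkT 1 40 21 (-1), mkT 2 51 21 1, mkT 1 41 22 (-1), mkT 1 42 23 1, mkT 1 43 24 (-1), mkT 1 48 37 (-1), mkT 1 49 38 (-2), mkT 1 50 39 (-2), mkT 1 51 40 (-2)]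
/-- Row 41. -/
def t41 : List Tm := [mkT 1 45 0 (-2), mkT 1 45 3 1, mkT 1 0 10 1, mkT 1 1 10 1, mkT 1 2 10 1, mkT 2 45 10 (-1), mkT 1 19 5 1, mkT 1 20 6 1, mkT 1 22 7 1, mkT 1 25 8 (-1), mkT 1 27 9 1, mkT 1 37 14 1, mkT 1 38 16 (-1), mkT 1 39 17 1, mkT 1 41 18 (-1), mkT 1 46 28 (-1), mkT 1 47 30 1, mkT 1 48 33 (-1), mkT 1 49 35 (-1), mkT 1 50 36 (-1)]
/-- Row 42. -/
def t42 : List Tm := [mkT 1 46 0 (-2), mkT 1 46 2 1, mkT 1 46 3 (-1), mkT 1 0 9 1, mkT 1 1 9 1, mkT 1 2 9 1, mkT 1 3 9 1, mkT 2 46 9 (-1), mkT 1 19 4 1, mkT 1 21 6 (-1), mkT 1 23 7 (-1), mkT 1 26 8 1, mkT 1 28 10 1, mkT 1 37 13 1, mkT 1 38 15 (-1), mkT 1 40 17 1, mkT 1 42 18 (-1), mkT 1 45 27 (-1), mkT 1 47 29 (-1), mkT 1 48 32 1, mkT 1 49 34 1, mkT 1 51 36 (-1)]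
/-- Row 43. -/
def t43 : List Tm := [mkT 1 47 0 (-2), mkT 1 47 1 2, mkT 1 47 2 (-1), mkT 1 0 8 1, mkT 1 1 8 1, mkT 1 2 8 2, mkT 1 3 8 1, mkT 2 47 8 (-1), mkT 1 20 4 (-1), mkT 1 21 5 (-1), mkT 1 24 7 1, mkT 1 29 9 1, mkT 1 30 10 (-1), mkT 1 37 12 1, mkT 1 39 15 (-1), mkT 1 40 16 1, mkT 1 43 18 (-1), mkT 1 45 25 1, mkT 1 46 26 (-1), mkT 1 48 31 (-1), mkT 1 50 34 1, mkT 1 51 35 1]
/-- Row 44. -/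
def t44 : List Tm := [mkT 1 48 0 (-1), mkT 1 0 7 2, mkT 1 1 7 3, mkT 1 2 7 4, mkT 1 3 7 2, mkT 2 48 7 (-1), mkT 1 22 4 1, mkT 2 45 4 (-1), mkT 1 23 5 1, mkT 2 46 5 1, mkT 1 24 6 1, mkT 2 47 6 (-1), mkT 1 31 8 1, mkT 2 49 8 (-1), mkT 1 32 9 (-1), mkT 2 50 9 1, mkT 1 33 10 1, mkT 2 51 10 (-1), mkT 1 37 11 1, mkT 1 38 12 1, mkT 1 39 13 (-1), mkT 1 40 14 1, mkT 1 41 15 (-1), mkT 1 42 16 1, mkT 1 43 17 (-1), mkT 1 44 18 (-1), mkT 1 45 22 (-2), mkT 1 46 23 2, mkT 1 47 24 (-2), mkT 1 49 31 (-2), mkT 1 50 32 (-2), mkT 1 51 33 (-2)]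
/-- Row 45. -/
def t45 : List Tm := [mkT 1 49 1 (-2), mkT 1 49 2 1, mkT 1 0 6 1, mkT 1 1 6 2, mkT 1 2 6 2, mkT 1 3 6 1, mkT 2 49 6 (-1), mkT 1 25 4 1, mkT 1 26 5 1, mkT 1 31 7 1, mkT 1 34 9 (-1), mkT 1 35 10 1, mkT 1 38 11 1, mkT 1 41 13 (-1), mkT 1 42 14 1, mkT 1 44 17 (-1), mkT 1 45 20 (-1), mkT 1 46 21 1, mkT 1 48 24 (-1), mkT 1 50 29 (-1), mkT 1 51 30 (-1)]
/-- Row 46. -/
def t46 : List Tm := [mkT 1 50 2 (-1), mkT 1 50 3 1, mkT 1 0 5 1, mkT 1 1 5 2, mkT 1 2 5 3, mkT 1 3 5 1, mkT 2 50 5 (-1), mkT 1 27 4 1, mkT 1 29 6 1, mkT 1 32 7 1, mkT 1 34 8 (-1), mkT 1 36 10 1, mkT 1 39 11 1, mkT 1 41 12 (-1), mkT 1 43 14 1, mkT 1 44 16 (-1), mkT 1 45 19 (-1), mkT 1 47 21 1, mkT 1 48 23 (-1), mkT 1 49 26 (-1), mkT 1 51 28 (-1)]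
/-- Row 47. -/
def t47 : List Tm := [mkT 1 51 3 (-1), mkT 1 0 4 1, mkT 1 1 4 2, mkT 1 2 4 3, mkT 1 3 4 2, mkT 2 51 4 (-1), mkT 1 28 5 1, mkT 1 30 6 1, mkT 1 33 7 1, mkT 1 35 8 (-1), mkT 1 36 9 1, mkT 1 40 11 1, mkT 1 42 12 (-1), mkT 1 43 13 1, mkT 1 44 15 (-1), mkT 1 46 19 (-1), mkT 1 47 20 1, mkT 1 48 22 (-1), mkT 1 49 25 (-1), mkT 1 50 27 (-1)]
/-- The certificate. -/
def cert : Cert where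
  l := 4
  n := 48
  tab := [t0, t1, t2, t3, t4, t5, t6, t7, t8, t9, t10, t11, t12, t13, t14, t15, t16, t17, t18, t19, t20, t21, t22, t23, t24, t25, t26, t27, t28, t29, t30, t31, t32, t33, t34, t35, t36, t37, t38, t39, t40, t41, t42, t43, t44, t45, t46, t47]
  simp := [33, 27, 25, 24]
  negP := 605951652385920480004291274127545002769392376323959195201050263810007255232559947887954882812532343572574055983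
  refl := [7261724565101152271001196648824430191705409898545041084742521782222439549395075633586971079114467536390968217567488, 7261719905179377314326951809577084366435515108925945206036271551105028264520922437528663364052125838431098365018368, 7261125723798567773061544950201179012210677350992756811983071709623601191490907863340615466535151168674041335710208, 7108411742389255762021063953019659246634323563397623500971045033854480450961950488139841120255260502304031118589953]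
  sgn := [33964469241720, 19125464147592, 79753579630866, 145481911306785]
  car := [618070694679586244896500462401862974057911084804123719287001248073415562992323775730694351755630327482903985128452, 618075382447132607648819199786406882195552798020782345947898876193231782222030827668815834370999462918025927328772, 618669563827942148914258778553416203802501110724008149434561224363080891085910817643166756891706909787575980196612, 771383545237254159954739775734935969378854898319141873429665178537586722624361130065897437308074549132231002293507]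

end Cfsg.Lib.Chev.F4
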