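import Cfsg.Agent.Chev.Datum

/-! Tables for type G2, transcribed from the datum (agreement is checked by the kernel). -/

set_option autoImplicit false

namespace Cfsg.Lib.Chev.G2

/-- Row 0. -/
def t0 : List Tm := [mkT 1 2 1 1, mkT 1 0 13 (-1), mkT 1 1 13 (-2), mkT 2 2 13 (-1), mkT 1 3 8 1, mkT 1 4 10 1, mkT 1 5 11 (-1), mkT 1 7 12 (-1)]
/-- Row 1. -/
def t1 : List Tm := [mkT 1 3 0 3, mkT 1 3 1 (-1), mkT 1 0 12 (-1), mkT 1 1 12 (-1), mkT 2 3 12 (-1), mkT 1 2 7 1, mkT 1 4 9 1, mkT 1 6 11 (-1), mkT 1 8 13 (-1)]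
/-- Row 2. -/
def t2 : List Tm := [mkT 1 4 0 1, mkT 1 0 11 (-2), mkT 1 1 11 (-3), mkT 2 4 11 (-1), mkT 1 2 5 3, mkT 1 3 6 3, mkT 1 5 9 (-2), mkT 2 2 9 (-3), mkT 1 6 10 2, mkT 2 3 10 3, mkT 1 9 12 (-1), mkT 2 5 12 1, mkT 3 2 12 1, mkT 1 10 13 (-1), mkT 2 6 13 (-1), mkT 3 3 13 (-1)]
/-- Row 3. -/
def t3 : List Tm := [mkT 1 5 0 (-1), mkT 1 5 1 1, mkT 1 0 10 (-1), mkT 1 1 10 (-3), mkT 2 5 10 (-1), mkT 1 2 4 (-3), mkT 1 4 6 (-2), mkT 2 2 6 3, mkT 1 6 8 1, mkT 2 4 8 (-1), mkT 3 2 8 1, mkT 1 7 9 (-3), mkT 1 9 11 2, mkT 2 7 11 (-3), mkT 1 11 13 1, mkT 2 9 13 1, mkT 3 7 13 (-1)]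
/-- Row 4. -/
def t4 : List Tm := [mkT 1 6 0 2, mkT 1 6 1 (-1), mkT 1 0 9 (-1), mkT 2 6 9 (-1), mkT 1 3 4 (-3), mkT 1 4 5 2, mkT 2 3 5 (-3), mkT 1 5 7 1, mkT 2 4 7 1, mkT 3 3 7 (-1), mkT 1 8 10 (-3), mkT 1 10 11 (-2), mkT 2 8 11 3, mkT 1 11 12 1, mkT 2 10 12 (-1), mkT 3 8 12 1]
/-- Row 5. -/
def t5 : List Tm := [mkT 1 7 0 (-3), mkT 1 7 1 2, mkT 1 1 8 (-1), mkT 2 7 8 (-1), mkT 1 2 3 (-1), mkT 1 5 6 (-1), mkT 1 9 10 1, mkT 1 12 13 1]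
/-- Row 6. -/
def t6 : List Tm := [mkT 1 8 0 3, mkT 1 8 1 (-2), mkT 1 1 7 1, mkT 2 8 7 (-1), mkT 1 3 2 (-1), mkT 1 6 5 (-1), mkT 1 10 9 1, mkT 1 13 12 1]
/-- Row 7. -/
def t7 : List Tm := [mkT 1 9 0 (-2), mkT 1 9 1 1, mkT 1 0 6 1, mkT 2 9 6 (-1), mkT 1 4 3 (-1), mkT 2 5 3 (-1), mkT 3 7 3 (-1), mkT 1 5 4 2, mkT 2 7 4 3, mkT 1 7 5 3, mkT 1 10 8 (-1), mkT 2 11 8 1, mkT 3 12 8 1, mkT 1 11 10 (-2), mkT 2 12 10 (-3), mkT 1 12 11 3]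
/-- Row 8. -/
def t8 : List Tm := [mkT 1 10 0 1, mkT 1 10 1 (-1), mkT 1 0 5 1, mkT 1 1 5 3, mkT 2 10 5 (-1), mkT 1 4 2 (-1), mkT 2 6 2 1, mkT 3 8 2 1, mkT 1 6 4 (-2), mkT 2 8 4 (-3), mkT 1 8 6 3, mkT 1 9 7 (-1), mkT 2 11 7 (-1), mkT 3 13 7 (-1), mkT 1 11 9 2, mkT 2 13 9 3, mkT 1 13 11 3]
/-- Row 9. -/
def t9 : List Tm := [mkT 1 11 0 (-1), mkT 1 0 4 2, mkT 1 1 4 3, mkT 2 11 4 (-1), mkT 1 5 2 1, mkT 2 9 2 (-1), mkT 3 12 2 1, mkT 1 6 3 1, mkT 2 10 3 1, mkT 3 13 3 (-1), mkT 1 9 5 (-2), mkT 2 12 5 3, mkT 1 10 6 2, mkT 2 13 6 (-3), mkT 1 12 9 (-3), mkT 1 13 10 (-3)]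
/-- Row 10. -/
def t10 : List Tm := [mkT 1 12 0 (-3), mkT 1 12 1 1, mkT 1 0 3 1, mkT 1 1 3 1, mkT 2 12 3 (-1), mkT 1 7 2 1, mkT 1 9 4 1, mkT 1 11 6 (-1), mkT 1 13 8 (-1)]
/-- Row 11. -/
def t11 : List Tm := [mkT 1 13 1 (-1), mkT 1 0 2 1, mkT 1 1 2 2, mkT 2 13 2 (-1), mkT 1 8 3 1, mkT 1 10 4 1, mkT 1 11 5 (-1), mkT 1 12 7 (-1)]
/-- The certificate. -/
def cert : Cert where
  l := 2
  n := 12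
  tab := [t0, t1, t2, t3, t4, t5, t6, t7, t8, t9, t10, t11]
  simp := [7, 6]
  negP := 1218426182456967898401291
  refl := [3411626608196089407097472256, 3108190913232640688152248321]
  sgn := [1686, 2409]
  car := [1246426187627963992936481028, 1551070808483084930799371523]

end Cfsg.Lib.Chev.G2
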