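import Cfsg.Agent.Chev.All
import Cfsg.Agent.Chev.CChkG2
import Cfsg.Agent.Chev.CChkB2
import Cfsg.Agent.Chev.CChkD4
import Cfsg.Agent.Chev.CChkF4
import Cfsg.Agent.Chev.CChkE6
import Cfsg.Agent.Chev.CChkE7
import Cfsg.Agent.Chev.CChkE8

/-! The seven tabulated data satisfy the commutator formula. -/

set_option autoImplicit false

open Cfsg.Lie

namespace Cfsg.Lib.Chev

theorem full_of_mem {D : ChevalleyDatum}
    (hD : D ∈ [chevG2, chevB2, chevD4, chevF4, chevE6, chevE7, chevE8]) :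
    ∃ C, Ok D C ∧ okChain D = true ∧ ∀ i < D.rank, C.okBase D i = true := by
  simp only [List.mem_cons, List.not_mem_nil, or_false] at hD
  rcases hD with rfl | rfl | rfl | rfl | rfl | rfl | rfl
  exacts [⟨_, G2.ok, G2.okChain_, G2.okBase_all⟩, ⟨_, B2.ok, B2.okChain_, B2.okBase_all⟩,
    ⟨_, D4.ok, D4.okChain_, D4.okBase_all⟩, ⟨_, F4.ok, F4.okChain_, F4.okBase_all⟩,
    ⟨_, E6.ok, E6.okChain_, E6.okBase_all⟩, ⟨_, E7.ok, E7.okChain_, E7.okBase_all⟩,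
    ⟨_, E8.ok, E8.okChain_, E8.okBase_all⟩]

end Cfsg.Lib.Chev
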