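import Cfsg.Agent.Chev.Full

/-! The index order on roots is compatible with addition; coroots are primitive. -/

set_option autoImplicit false

open Cfsg.Lie

namespace Cfsg.Lib.Chev

/-- The index order is compatible with adding a positive root, negation reverses it, coroots are primitive. -/
noncomputable def okOrder (D : ChevalleyDatum) : Bool :=
  let n := D.nroots
  let h := Nat.div n 2
  kall (fun r =>
    Nat.beq (Nat.add (D.negIdx.getD r 0) (Nat.add r 1)) n &&
    (Nat.blt r h || kall (fun e => kall (fun q => Nat.blt e.1 q.1 && (Nat.blt e.1 h || Nat.blt r q.1)) e.2.toList)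
      (D.chain.getD r #[]).toList) &&
    Nat.beq (@List.rec ℤ (fun _ => ℕ) 0 (fun c _ ih => Nat.gcd (Int.natAbs c) ih)
      (kmap (fun i => (D.coroot.getD r #[]).getD i 0) (krange 0 D.rank))) 1) (krange 0 n)

theorem okOrder_G2 : okOrder chevG2 = true := by decide +kernel
theorem okOrder_B2 : okOrder chevB2 = true := by decide +kernel
theorem okOrder_D4 : okOrder chevD4 = true := by decide +kernel
theorem okOrder_F4 : okOrder chevF4 = true := by decide +kernel
theorem okOrder_E6 : okOrder chevE6 = true := by decide +kernel
theorem okOrder_E7 : okOrder chevE7 = true := by decide +kernel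
theorem okOrder_E8 : okOrder chevE8 = true := by decide +kernel

/-- All the verified properties of a datum that the structure theory uses. -/
structure Struct (D : ChevalleyDatum) (C : Cert) : Prop where
  ok : Ok D C
  chain : okChain D = true
  base : ∀ i < D.rank, C.okBase D i = true
  order : okOrder D = true

theorem struct_of_mem {D : ChevalleyDatum}
    (hD : D ∈ [chevG2, chevB2, chevD4, chevF4, chevE6, chevE7, chevE8]) : ∃ C, Struct D C := by
  obtain ⟨C, h, hc, hb⟩ := full_of_mem hD
  refine ⟨C, h, hc, hb, ?_⟩
  simp only [List.mem_cons, List.not_mem_nil, or_false] at hD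
  rcases hD with rfl | rfl | rfl | rfl | rfl | rfl | rfl
  exacts [okOrder_G2, okOrder_B2, okOrder_D4, okOrder_F4, okOrder_E6, okOrder_E7, okOrder_E8]

end Cfsg.Lib.Chev
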