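import Cfsg.Agent.Chev.HtTab
import Cfsg.Agent.Chev.Order

/-! The root coefficients are additive along the chain tables and have the signs of the coroots. -/

set_option autoImplicit false

open Cfsg.Lie

namespace Cfsg.Lib.Chev

/-- Entry `i` of row `r`. -/
noncomputable def htAt (T : List (List ℤ)) (r i : ℕ) : ℤ := (T.getD r []).getD i 0

/-- The `k`-th term of a chain has coefficients `k · r + s`. -/
noncomputable def chainHt (T : List (List ℤ)) (l : ℕ) (hr hs : List ℤ) : List (ℕ × ℤ) → ℕ → Bool :=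
  @List.rec (ℕ × ℤ) (fun _ => ℕ → Bool) (fun _ => true)
    (fun q _ ih k =>
      (let hq := T.getD q.1 []
       kall (fun i => decide (hq.getD i 0 = (k : ℤ) * hr.getD i 0 + hs.getD i 0)) (krange 0 l)) &&
        ih (Nat.add k 1))

/-- Certificate of the coefficient table. -/
noncomputable def okHt (D : ChevalleyDatum) (T : List (List ℤ)) : Bool :=
  kall (fun r =>
    let hr := T.getD r []
    let cr := D.coroot.getD r #[]
    let hn := T.getD (D.negIdx.getD r 0) []
    kall (fun i => decide (hn.getD i 0 = -hr.getD i 0) &&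
      decide (0 ≤ cr.getD i 0 ↔ 0 ≤ hr.getD i 0) && decide (cr.getD i 0 = 0 ↔ hr.getD i 0 = 0))
      (krange 0 D.rank) &&
    kall (fun e => chainHt T D.rank hr (T.getD e.1 []) e.2.toList 1) (D.chain.getD r #[]).toList)
    (krange 0 D.nroots) &&
  kall (fun i => kall (fun j => decide (htAt T (D.simpleIdx.getD i 0) j =
    Bool.rec (0 : ℤ) 1 (Nat.beq i j))) (krange 0 D.rank)) (krange 0 D.rank)

theorem G2.ht : okHt chevG2 G2.htTab = true := by decide +kernel
theorem B2.ht : okHt chevB2 B2.htTab = true := by decide +kernel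
theorem D4.ht : okHt chevD4 D4.htTab = true := by decide +kernel
theorem F4.ht : okHt chevF4 F4.htTab = true := by decide +kernel
theorem E6.ht : okHt chevE6 E6.htTab = true := by decide +kernel
theorem E7.ht : okHt chevE7 E7.htTab = true := by decide +kernel
theorem E8.ht : okHt chevE8 E8.htTab = true := by decide +kernel

theorem ht_of_mem {D : ChevalleyDatum}
    (hD : D ∈ [chevG2, chevB2, chevD4, chevF4, chevE6, chevE7, chevE8]) :
    ∃ T, okHt D T = true := by
  simp only [List.mem_cons, List.not_mem_nil, or_false] at hD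
  rcases hD with rfl | rfl | rfl | rfl | rfl | rfl | rfl
  exacts [⟨_, G2.ht⟩, ⟨_, B2.ht⟩, ⟨_, D4.ht⟩, ⟨_, F4.ht⟩, ⟨_, E6.ht⟩, ⟨_, E7.ht⟩, ⟨_, E8.ht⟩]

end Cfsg.Lib.Chev
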