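import Cfsg.Agent.Chev.More

/-! Solvability and core of the Borel subgroup, the normalised subgroup `U_p`, the opposition element. -/

set_option autoImplicit false

open Cfsg.Lie

namespace Cfsg.Lib.Chev

namespace Cert

/-- The image of a root under a word of fundamental reflections. -/
noncomputable def wWord (C : Cert) (L : List ℕ) (s : ℕ) : ℕ :=
  @List.rec ℕ (fun _ => ℕ) s (fun a _ ih => C.w a ih) L

/-- The word exchanges positive and negative roots. -/
noncomputable def okOpp (C : Cert) (L : List ℕ) : Bool :=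
  let h := Nat.div C.n 2
  kall (fun a => Nat.blt a C.l) L && kall (fun s => Nat.blt (C.wWord L s) h == Nat.ble h s) (krange 0 C.n)

end Cert

variable {D : ChevalleyDatum} {C : Cert} {F : Type*} [Field F]

namespace Struct

theorem xG_zero (S : Struct D C) (r : ℕ) : S.ok.xG r (0 : F) = 1 :=
  Units.ext (by rw [S.ok.val_xG, S.ok.x_zero, Units.val_one])

theorem xG_eq_one (S : Struct D C) {r : ℕ} (hr : r < D.nroots) {t : F} (h : S.ok.xG r t = 1) : t = 0 := by
  have := congrArg (fun g : GL D.Idx F => (g : Matrix D.Idx D.Idx F)) h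
  simp only [S.ok.val_xG, Units.val_one] at this
  exact (S.ok.x_eq_one_iff hr t).1 this

theorem rootSubgroup_le (S : Struct D C) (r : ℕ) {H : Subgroup (GL D.Idx F)}
    (h : ∀ t : F, S.ok.xG r t ∈ H) : D.rootSubgroup F r ≤ H := by
  refine (Subgroup.closure_le _).2 ?_
  rintro g ⟨t, hg⟩
  rw [S.ok.eq_xG hg]
  exact h t

theorem xG_mem_rootSubgroup (S : Struct D C) (r : ℕ) (t : F) : S.ok.xG r t ∈ D.rootSubgroup F r :=
  Subgroup.subset_closure ⟨t, S.ok.val_xG r t⟩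

theorem isSolvable_borel (S : Struct D C) : Group.IsSolvable ↥(D.borelSubgroup F) := by
  have hUnil : Group.IsNilpotent ↥(D.posUnipotent F) := S.isNilpotent_pos
  have hUsol : Group.IsSolvable ↥(D.posUnipotent F) := inferInstance
  have hle : D.borelSubgroup F ≤ Subgroup.normalizer (D.posUnipotent F : Set (GL D.Idx F)) :=
    sup_le Subgroup.le_normalizer S.diag_normalises_U
  haveI hn : ((D.posUnipotent F).subgroupOf (D.borelSubgroup F)).Normal :=
    (Subgroup.normal_subgroupOf_iff_le_normalizer le_sup_left).2 hle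
  let f : ↥(D.diagonalSubgroup F) →*
      ↥(D.borelSubgroup F) ⧸ (D.posUnipotent F).subgroupOf (D.borelSubgroup F) :=
    (QuotientGroup.mk' _).comp (Subgroup.inclusion le_sup_right)
  have hf : Function.Surjective f := by
    intro x
    obtain ⟨⟨b, hb⟩, rfl⟩ := QuotientGroup.mk_surjective x
    obtain ⟨u, hu, d, hd, rfl⟩ := S.borel_decomp hb
    refine ⟨⟨d, hd⟩, ?_⟩
    show (QuotientGroup.mk _ : _ ⧸ _) = QuotientGroup.mk _
    rw [QuotientGroup.eq, Subgroup.mem_subgroupOf]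
    show d⁻¹ * (u * d) ∈ D.posUnipotent F
    have := (Subgroup.mem_normalizer_iff.1 (S.diag_normalises_U (inv_mem hd)) u).1 hu
    simpa [mul_assoc] using this
  have hHsol : Group.IsSolvable ↥(D.diagonalSubgroup F) := by
    refine Group.isSolvable_of_comm fun a b => Subtype.ext ?_
    have ha : (a : GL D.Idx F) ∈ (Ok.tG D F).range := S.ok.diagonalSubgroup_eq.le a.2
    have hb : (b : GL D.Idx F) ∈ (Ok.tG D F).range := S.ok.diagonalSubgroup_eq.le b.2
    obtain ⟨c, hc⟩ := MonoidHom.mem_range.1 ha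
    obtain ⟨c', hc'⟩ := MonoidHom.mem_range.1 hb
    show (a : GL D.Idx F) * b = b * a
    rw [← hc, ← hc', ← map_mul, ← map_mul, mul_comm]
  haveI := hUsol
  haveI : Group.IsSolvable (↥(D.borelSubgroup F) ⧸ (D.posUnipotent F).subgroupOf (D.borelSubgroup F)) :=
    Group.isSolvable_of_surjective hf
  haveI : Group.IsSolvable ↥((D.posUnipotent F).subgroupOf (D.borelSubgroup F)) :=
    Group.isSolvable_of_isSolvable_injective
      (f := (Subgroup.subgroupOfEquivOfLe (le_sup_left : D.posUnipotent F ≤ D.borelSubgroup F)).toMonoidHom)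
      (MulEquiv.injective _)
  exact Group.isSolvable_of_ker_le_range ((D.posUnipotent F).subgroupOf (D.borelSubgroup F)).subtype
    (QuotientGroup.mk' ((D.posUnipotent F).subgroupOf (D.borelSubgroup F))) (by simp)

theorem Ui_eq (S : Struct D C) (i : Fin D.rank) :
    S.Ui F i = Subgroup.closure {g : GL D.Idx F | ∃ (s : ℕ) (t : F), D.IsPosRoot s ∧ s ≠ D.simple i ∧
      (g : Matrix D.Idx D.Idx F) = D.x F s t} := by
  refine congrArg Subgroup.closure (Set.ext fun g => ?_)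
  rw [Set.mem_ofPred_eq, Set.mem_ofPred_eq, ← S.ok.sr_eq i.isLt]
  constructor
  · rintro ⟨r, t, a, b, c, rfl⟩
    exact ⟨r, t, S.isPos_iff.2 ⟨a, b⟩, c, S.ok.val_xG r t⟩
  · rintro ⟨r, t, hr, c, hg⟩
    exact ⟨r, t, (S.isPos_iff.1 hr).1, (S.isPos_iff.1 hr).2, c, S.ok.eq_xG hg⟩

theorem nG_normalises_Ui (S : Struct D C) (i : Fin D.rank) :
    S.ok.nG (D.simple i) (1 : F) ∈ Subgroup.normalizer (S.Ui F i : Set (GL D.Idx F)) := by
  have key : ∀ u ∈ S.Ui F i,
      S.ok.nG (D.simple i) (1 : F) * u * (S.ok.nG (D.simple i) 1)⁻¹ ∈ S.Ui F i := by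
    have hle : S.Ui F i ≤ (S.Ui F i).comap (MulAut.conj (S.ok.nG (D.simple i) (1 : F))).toMonoidHom := by
      refine (Subgroup.closure_le _).2 ?_
      rintro x ⟨r, s, a, b, hne, rfl⟩
      show S.ok.nG (D.simple i) 1 * S.ok.xG r s * (S.ok.nG (D.simple i) 1)⁻¹ ∈ S.Ui F i
      rw [S.ok.conj_nG_xG i.isLt b]
      refine Subgroup.subset_closure ⟨_, _, S.pos_w i.isLt a b hne, S.ok.w_lt i.isLt b, fun e => ?_, rfl⟩
      have h1 : C.w i (C.w i r) = C.w i (C.sr i) := by rw [e]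
      rw [S.ok.w_w i.isLt b, (S.ok.refl_simple i.isLt).1, S.ok.neg_eq (S.ok.sr_lt i.isLt)] at h1
      have := S.neg_lt_half (S.ok.sr_lt i.isLt) (S.sr_pos i.isLt)
      omega
    exact fun u hu => hle hu
  rw [Subgroup.mem_normalizer_iff]
  refine fun x => ⟨key x, fun hx => ?_⟩
  obtain ⟨c, hc⟩ : ∃ c : GL D.Idx F, c = S.ok.nG (D.simple i) 1 * S.ok.nG (D.simple i) 1 := ⟨_, rfl⟩
  have hd : c⁻¹ ∈ D.diagonalSubgroup F := inv_mem (hc ▸ S.nG_mul_self_mem i.isLt)
  have hdn : ∀ u ∈ S.Ui F i, c⁻¹ * u * c⁻¹⁻¹ ∈ S.Ui F i := by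
    have hle : S.Ui F i ≤ (S.Ui F i).comap (MulAut.conj c⁻¹).toMonoidHom := by
      refine (Subgroup.closure_le _).2 ?_
      rintro y ⟨r, s, a, b, hne, rfl⟩
      obtain ⟨-, c', -, e⟩ := S.act_diag hd ⟨r, b⟩
      show c⁻¹ * S.ok.xG r s * c⁻¹⁻¹ ∈ S.Ui F i
      rw [(e s).1]
      exact Subgroup.subset_closure ⟨r, _, a, b, hne, rfl⟩
    exact fun u hu => hle hu
  have h2 := hdn _ (key _ hx)
  rw [hc] at h2
  convert h2 using 1
  group

theorem S1045_aux (S : Struct D C) (i : Fin D.rank) :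
    D.rootSubgroup F (D.simple i) ⊔ D.rootSubgroup F (D.neg (D.simple i)) ≤
        Subgroup.normalizer (S.Ui F i : Set (GL D.Idx F)) ∧
      S.Ui F i ⊔ D.rootSubgroup F (D.simple i) = D.posUnipotent F := by
  have hX : ∀ t : F, S.ok.xG (C.sr i) t ∈ Subgroup.normalizer (S.Ui F i : Set (GL D.Idx F)) :=
    fun t => S.X_normalises_Ui i ⟨Multiplicative.ofAdd t, rfl⟩
  have hp := S.ok.sr_lt i.isLt
  refine ⟨sup_le (S.rootSubgroup_le _ fun t => S.ok.sr_eq i.isLt ▸ hX t) (S.rootSubgroup_le _ fun t => ?_), ?_⟩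
  · have := mul_mem (mul_mem (S.nG_normalises_Ui (F := F) i) (hX ((C.eta i (C.sr i) : F) * t)))
      (inv_mem (S.nG_normalises_Ui (F := F) i))
    rwa [S.ok.conj_nG_xG i.isLt hp, ← mul_assoc, Ok.eta_sq, one_mul, (S.ok.refl_simple i.isLt).1,
      S.ok.neg_eq hp, S.ok.sr_eq i.isLt] at this
  · refine le_antisymm (sup_le ?_ (S.rootSubgroup_le _ fun t => ?_)) ?_
    · refine (Subgroup.closure_le _).2 ?_
      rintro g ⟨r, t, a, b, -, rfl⟩
      exact S.xG_mem_U a b t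
    · rw [← S.ok.sr_eq i.isLt]
      exact S.xG_mem_U (S.sr_pos i.isLt) hp t
    · refine (S.U_le_xHom_sup_Ui i).trans (sup_le_sup_left ?_ _)
      rintro g ⟨t, rfl⟩
      rw [← S.ok.sr_eq i.isLt]
      exact S.xG_mem_rootSubgroup _ t.toAdd

theorem wWord_eq (S : Struct D C) : ∀ (L : List (Fin D.rank)) (s : Fin D.nroots),
    C.wWord (L.map fun i => i.val) s = (S.wpL L s).val
  | [], _ => rfl
  | i :: L, s => by
    have e : C.wWord ((i :: L).map fun i => i.val) s = C.w i (C.wWord (L.map fun i => i.val) s) := rfl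
    rw [e, wWord_eq S L s]
    rfl

theorem exists_opp (S : Struct D C) {L : List ℕ} (hL : C.okOpp L = true) :
    ∃ n ∈ D.monomialSubgroup F,
      ∃ w : Equiv.Perm (Fin D.nroots), Act S.ok n w ∧
        ∀ s : Fin D.nroots, (w s).val < D.nroots / 2 ↔ D.nroots / 2 ≤ s.val := by
  simp only [Cert.okOpp, Bool.and_eq_true, kall_iff, beq_iff_eq] at hL
  obtain ⟨L', rfl⟩ : ∃ L' : List (Fin D.rank), L'.map (fun i => i.val) = L := by
    refine ⟨L.pmap (fun a ha => (⟨a, ha⟩ : Fin D.rank)) (fun a ha => S.ok.l_eq ▸ blt_true.1 (hL.1 a ha)), ?_⟩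
    simp [List.map_pmap]
  refine ⟨S.nL F L', S.nL_mem_mono L', S.wpL L', S.act_nL L', fun s => ?_⟩
  have h1 := hL.2 s.val (by rw [krange_eq, List.mem_range'_1, S.ok.n_eq]; omega)
  have e : Nat.div C.n 2 = D.nroots / 2 := by rw [S.ok.n_eq]; rfl
  rw [e, S.wWord_eq] at h1
  rw [← blt_true, h1, Nat.ble_eq]

theorem opp_map (S : Struct D C) {n : GL D.Idx F} {w : Equiv.Perm (Fin D.nroots)} (ha : Act S.ok n w)
    (hw : ∀ s : Fin D.nroots, (w s).val < D.nroots / 2 ↔ D.nroots / 2 ≤ s.val) :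
    (D.posUnipotent F).map (MulAut.conj n).toMonoidHom = D.negUnipotent F := by
  apply le_antisymm
  · rw [Subgroup.map_le_iff_le_comap]
    refine (Subgroup.closure_le _).2 ?_
    rintro g ⟨r, t, hr, hg⟩
    obtain ⟨a, b⟩ := S.isPos_iff.1 hr
    rw [S.ok.eq_xG hg]
    show n * S.ok.xG r t * n⁻¹ ∈ D.negUnipotent F
    obtain ⟨-, c, -, e⟩ := ha ⟨r, b⟩
    rw [(e t).1]
    exact Subgroup.subset_closure ⟨_, _, S.isNeg_iff.2 ((hw _).2 a), S.ok.val_xG _ _⟩
  · refine (Subgroup.closure_le _).2 ?_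
    rintro g ⟨r, t, hr, hg⟩
    rw [S.ok.eq_xG hg]
    have hrn : r < D.nroots := hr.1
    obtain ⟨-, c, hc, e⟩ := ha (w.symm ⟨r, hrn⟩)
    refine ⟨S.ok.xG (w.symm ⟨r, hrn⟩).val (c⁻¹ * t), S.xG_mem_U ((hw _).1 ?_) (Fin.isLt _) _, ?_⟩
    · rw [Equiv.apply_symm_apply]
      exact S.isNeg_iff.1 hr
    · show n * S.ok.xG (w.symm ⟨r, hrn⟩).val (c⁻¹ * t) * n⁻¹ = S.ok.xG r t
      rw [(e _).1, Equiv.apply_symm_apply, ← mul_assoc, mul_inv_cancel₀ hc, one_mul]

theorem normalCore_borel (S : Struct D C) (hN : okNeg D = true) {L : List ℕ} (hL : C.okOpp L = true) :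
    ((D.borelSubgroup F).subgroupOf (D.group F)).normalCore = ⊥ := by
  obtain ⟨n, hn, w, ha, hw⟩ := S.exists_opp (F := F) hL
  set K := ((D.borelSubgroup F).subgroupOf (D.group F)).normalCore with hK
  have hKB : ∀ g : ↥(D.group F), g ∈ K → (g : GL D.Idx F) ∈ D.borelSubgroup F :=
    fun g hg => Subgroup.normalCore_le ((D.borelSubgroup F).subgroupOf (D.group F)) hg
  have hnV : ∀ g : ↥(D.group F), g ∈ K → (g : GL D.Idx F) ∈ D.diagonalSubgroup F := by
    intro g hg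
    have hn' : n ∈ D.group F := S.mono_le_group hn
    have h1 := hKB _ ((inferInstance : K.Normal).conj_mem g hg (⟨n, hn'⟩⁻¹))
    simp only [Subgroup.coe_mul, Subgroup.coe_inv, inv_inv] at h1
    obtain ⟨u, hu, d, hd, e⟩ := S.borel_decomp h1
    have hg' : (g : GL D.Idx F) = (n * u * n⁻¹) * (n * d * n⁻¹) := by
      rw [← conj_mul.symm, ← e]; group
    rw [← S.B_inf_VH hN]
    refine Subgroup.mem_inf.2 ⟨hKB g hg, ?_⟩
    rw [hg']
    refine mul_mem (Subgroup.mem_sup_left ?_) (Subgroup.mem_sup_right (S.norm_diag hn hd))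
    rw [← S.opp_map ha hw]
    exact ⟨u, hu, rfl⟩
  refine eq_bot_iff.2 fun g hg => ?_
  rw [Subgroup.mem_bot]
  obtain ⟨c, hc⟩ := MonoidHom.mem_range.1 (S.ok.diagonalSubgroup_eq (F := F) ▸ hnV g hg)
  have hchi : ∀ s : Fin D.nroots, (∏ i, c i ^ D.cartan i s : Fˣ) = 1 := by
    intro s
    set χ : F := ((∏ i, c i ^ D.cartan i s : Fˣ) : F) with hχ
    have hx : S.ok.xG s.val (1 : F) ∈ D.group F := S.ok.xG_mem_group _ _
    have h1 := hnV _ ((inferInstance : K.Normal).conj_mem g hg ⟨_, hx⟩)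
    simp only [Subgroup.coe_mul, Subgroup.coe_inv] at h1
    have h2 := mul_mem (inv_mem (hnV g hg)) h1
    have e : (g : GL D.Idx F)⁻¹ * (S.ok.xG s.val 1 * (g : GL D.Idx F) * (S.ok.xG s.val 1)⁻¹) =
        S.ok.xG s.val (χ⁻¹ + -1) := by
      rw [← S.ok.xG_mul, ← S.ok.xG_inv]
      have := S.tG_conj_xG s.isLt c⁻¹ (1 : F)
      rw [map_inv, hc, inv_inv, mul_one] at this
      have hu : (∏ i, c⁻¹ i ^ D.cartan i s : Fˣ) = (∏ i, c i ^ D.cartan i s : Fˣ)⁻¹ := by
        rw [← Finset.prod_inv_distrib]; simp [inv_zpow]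
      rw [hu, Units.val_inv_eq_inv_val, ← hχ] at this
      rw [← this]
      group
    rw [e] at h2
    have h0 : χ⁻¹ + -1 = 0 := by
      refine S.xG_eq_one s.isLt ?_
      rcases le_or_gt (D.nroots / 2) s.val with hs | hs
      · have : S.ok.xG s.val (χ⁻¹ + -1) ∈ D.posUnipotent F ⊓ D.diagonalSubgroup F :=
          Subgroup.mem_inf.2 ⟨S.xG_mem_U hs s.isLt _, h2⟩
        rwa [S.U_inf_H, Subgroup.mem_bot] at this
      · have : S.ok.xG s.val (χ⁻¹ + -1) ∈ D.borelSubgroup F ⊓ D.negUnipotent F :=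
          Subgroup.mem_inf.2 ⟨Subgroup.mem_sup_right h2,
            Subgroup.subset_closure ⟨_, _, S.isNeg_iff.2 hs, S.ok.val_xG _ _⟩⟩
        rwa [S.B_inf_V hN, Subgroup.mem_bot] at this
    rw [← sub_eq_add_neg, sub_eq_zero, inv_eq_one] at h0
    exact Units.ext (by rw [Units.val_one, ← hχ, h0])
  refine Subtype.ext (Units.ext ?_)
  rw [← hc, Ok.tG_val, Subgroup.coe_one, Units.val_one, ← Matrix.diagonal_one]
  congr 1
  funext x
  rcases x with a | s
  · rfl
  · simpa using congrArg Units.val (hchi s)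

end Struct

end Cfsg.Lib.Chev
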