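import Cfsg.Agent.Chev.Poincare

/-! Integer polynomials as coefficient lists, the order of the torus, and the order of the group. -/

set_option autoImplicit false

open Cfsg.Lie

namespace Cfsg.Lib.Chev

/-- Evaluation of a coefficient list. -/
def peval (L : List ℤ) (q : ℤ) : ℤ := @List.rec ℤ (fun _ => ℤ) 0 (fun c _ ih => c + q * ih) L

/-- Sum of coefficient lists. -/
noncomputable def padd (L : List ℤ) : List ℤ → List ℤ :=
  @List.rec ℤ (fun _ => List ℤ → List ℤ) (fun M => M)
    (fun a L ih M => @List.rec ℤ (fun _ => List ℤ) (a :: L) (fun b M' _ => (a + b) :: ih M') M) L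

/-- Product of coefficient lists. -/
noncomputable def pmul (L M : List ℤ) : List ℤ :=
  @List.rec ℤ (fun _ => List ℤ) [] (fun a _ ih => padd (kmap (fun b => a * b) M) (0 :: ih)) L

/-- The monomial of degree `d`. -/
noncomputable def pmono (d : ℕ) : List ℤ := Nat.rec (motive := fun _ => List ℤ) [1] (fun _ ih => 0 :: ih) d

/-- Equality of coefficient lists. -/
noncomputable def peq (L M : List ℤ) : Bool := listBeq (fun a b => decide (a = b)) L M

theorem peval_cons (a : ℤ) (L : List ℤ) (q : ℤ) : peval (a :: L) q = a + q * peval L q := rfl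

theorem peval_padd (q : ℤ) : ∀ L M : List ℤ, peval (padd L M) q = peval L q + peval M q
  | [], M => (zero_add _).symm
  | a :: L, [] => (add_zero _).symm
  | a :: L, b :: M => by
    have e : padd (a :: L) (b :: M) = (a + b) :: padd L M := rfl
    rw [e, peval_cons, peval_cons, peval_cons, peval_padd q L M]; ring

theorem peval_smul (q a : ℤ) : ∀ M : List ℤ, peval (kmap (fun b => a * b) M) q = a * peval M q
  | [] => (mul_zero a).symm
  | b :: M => by
    have e : kmap (fun b => a * b) (b :: M) = (a * b) :: kmap (fun b => a * b) M := rfl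
    rw [e, peval_cons, peval_cons, peval_smul q a M]; ring

theorem peval_pmul (q : ℤ) : ∀ L M : List ℤ, peval (pmul L M) q = peval L q * peval M q
  | [], M => (zero_mul _).symm
  | a :: L, M => by
    have e : pmul (a :: L) M = padd (kmap (fun b => a * b) M) (0 :: pmul L M) := rfl
    rw [e, peval_padd, peval_smul, peval_cons, peval_cons, peval_pmul q L M]; ring

theorem peval_pmono (q : ℤ) : ∀ d, peval (pmono d) q = q ^ d
  | 0 => by simp [pmono, peval]
  | d + 1 => by
    have e : pmono (d + 1) = 0 :: pmono d := rfl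
    rw [e, peval_cons, peval_pmono q d, pow_succ]; ring

/-- The generating function of one step. -/
noncomputable def Lev.poly (C : Cert) (V : Lev) : List ℤ :=
  @List.rec ℕ (fun _ => List ℤ) [] (fun a _ ih => padd (pmono (V.cnt C a)) ih) (krange 0 V.num)

theorem Lev.peval_poly (C : Cert) (V : Lev) (q : ℕ) :
    peval (V.poly C) (q : ℤ) = ((((List.range V.num).map fun a => q ^ V.cnt C a).sum : ℕ) : ℤ) := by
  have key : ∀ L : List ℕ, peval (@List.rec ℕ (fun _ => List ℤ) [] (fun a _ ih => padd (pmono (V.cnt C a)) ih) L)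
      (q : ℤ) = (((L.map fun a => q ^ V.cnt C a).sum : ℕ) : ℤ) := by
    intro L
    induction L with
    | nil => simp [peval]
    | cons a L ih =>
      rw [List.map_cons, List.sum_cons, Nat.cast_add, Nat.cast_pow, ← ih, ← peval_pmono, ← peval_padd]
  rw [Lev.poly, key, krange_eq, ← List.range_eq_range']

/-- All steps from `k` on are valid. -/
noncomputable def okLevs (C : Cert) (Ls : List Lev) : ℕ → Bool :=
  @List.rec Lev (fun _ => ℕ → Bool) (fun _ => true) (fun V _ ih k => V.okAll C k && ih (Nat.add k 1)) Ls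

/-- The product of the generating functions. -/
noncomputable def levsPoly (C : Cert) (Ls : List Lev) : List ℤ :=
  @List.rec Lev (fun _ => List ℤ) [1] (fun V _ ih => pmul (V.poly C) ih) Ls

/-- The product of the `q ^ d - 1`. -/
noncomputable def degPoly (ds : List ℕ) : List ℤ :=
  @List.rec ℕ (fun _ => List ℤ) [1] (fun d _ ih => pmul (padd (pmono d) [-1]) ih) ds

/-- The chain ends at the rank and gives the product formula. -/
noncomputable def okPoincare (C : Cert) (Ls : List Lev) (ds : List ℕ) : Bool :=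
  okLevs C Ls 0 && Nat.beq Ls.length C.l &&
    peq (pmul (Nat.rec (motive := fun _ => List ℤ) [1] (fun _ ih => pmul [-1, 1] ih) C.l) (levsPoly C Ls))
      (degPoly ds)

variable {D : ChevalleyDatum} {C : Cert}

namespace Struct

theorem Psum_levs (S : Struct D C) (q : ℕ) : ∀ (Ls : List Lev) (k : ℕ), okLevs C Ls k = true →
    (S.Psum (k + Ls.length) q : ℤ) = S.Psum k q * peval (levsPoly C Ls) (q : ℤ)
  | [], k, _ => by simp [levsPoly, peval]
  | V :: Ls, k, h => by
    have h' : (V.okAll C k && okLevs C Ls (Nat.add k 1)) = true := h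
    rw [Bool.and_eq_true] at h'
    have e : levsPoly C (V :: Ls) = pmul (V.poly C) (levsPoly C Ls) := rfl
    rw [List.length_cons, show k + (Ls.length + 1) = (k + 1) + Ls.length by omega,
      Psum_levs S q Ls (k + 1) h'.2, S.Psum_succ h'.1, e, peval_pmul, Lev.peval_poly, Nat.cast_mul, mul_assoc]

theorem Psum_formula (S : Struct D C) {Ls : List Lev} {ds : List ℕ} (h : okPoincare C Ls ds = true) (q : ℕ) :
    ((q : ℤ) - 1) ^ D.rank * (S.Psum D.rank q : ℤ) = (ds.map fun d => (q : ℤ) ^ d - 1).prod := by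
  simp only [okPoincare, Bool.and_eq_true] at h
  obtain ⟨⟨h1, h2⟩, h3⟩ := h
  have h4 := congrArg (fun L => peval L (q : ℤ))
    (listBeq_eq (eq := fun a b : ℤ => decide (a = b)) (fun a b hab => of_decide_eq_true hab) h3)
  simp only [peval_pmul] at h4
  have hlen : Ls.length = D.rank := (Nat.eq_of_beq_eq_true h2).trans S.ok.l_eq
  have hP := S.Psum_levs q Ls 0 h1
  rw [Nat.zero_add, hlen, S.Psum_zero, Nat.cast_one, one_mul] at hP
  have hpow : ∀ l : ℕ, peval (Nat.rec (motive := fun _ => List ℤ) [1] (fun _ ih => pmul [-1, 1] ih) l)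
      (q : ℤ) = ((q : ℤ) - 1) ^ l := by
    intro l
    induction l with
    | zero => simp [peval]
    | succ l ih =>
      show peval (pmul [-1, 1] _) (q : ℤ) = _
      rw [peval_pmul, ih, pow_succ]
      simp [peval]
      ring
  have hdeg : ∀ ds : List ℕ, peval (degPoly ds) (q : ℤ) = (ds.map fun d => (q : ℤ) ^ d - 1).prod := by
    intro ds
    induction ds with
    | nil => simp [degPoly, peval]
    | cons d ds ih =>
      have e : degPoly (d :: ds) = pmul (padd (pmono d) [-1]) (degPoly ds) := rfl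
      rw [e, peval_pmul, ih, peval_padd, peval_pmono, List.map_cons, List.prod_cons]
      simp [peval, sub_eq_add_neg]
  rw [hpow, hdeg, S.ok.l_eq, ← hP] at h4
  exact h4

theorem natCard_WG (S : Struct D C) {Ls : List Lev} {ds : List ℕ} (h : okPoincare C Ls ds = true) :
    (Nat.card ↥S.WG : ℤ) = peval (levsPoly C Ls) 1 := by
  classical
  simp only [okPoincare, Bool.and_eq_true] at h
  have hlen : Ls.length = D.rank := (Nat.eq_of_beq_eq_true h.1.2).trans S.ok.l_eq
  have hP := S.Psum_levs 1 Ls 0 h.1.1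
  rw [Nat.zero_add, hlen, S.Psum_zero, Nat.cast_one, one_mul] at hP
  rw [← hP, Nat.cast_inj, ← S.WJ_rank, Psum]
  simp [Nat.card_eq_fintype_card]

theorem card_group_eq {F : Type*} [Field F] [Fintype F] (S : Struct D C) (hN : okNeg D = true) :
    Nat.card ↥(D.group F) =
      Fintype.card F ^ (D.nroots / 2) * Nat.card ↥(D.diagonalSubgroup F) * S.Psum D.rank (Fintype.card F) := by
  classical
  rw [S.card_group hN, S.card_borel]
  congr 1
  unfold Psum
  rw [S.WJ_rank]

theorem order_formula {F : Type*} [Field F] [Fintype F] (S : Struct D C) (hN : okNeg D = true)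
    {Ls : List Lev} {ds : List ℕ} (h : okPoincare C Ls ds = true) {d q : ℕ} (hq : Fintype.card F = q)
    (hH : d * Nat.card ↥(D.diagonalSubgroup F) = (q - 1) ^ D.rank) :
    d * Nat.card ↥(D.group F) = q ^ (D.nroots / 2) * (ds.map fun e => q ^ e - 1).prod := by
  have hq1 : 1 ≤ q := hq ▸ Fintype.card_pos
  rw [S.card_group_eq hN, hq,
    show d * (q ^ (D.nroots / 2) * Nat.card ↥(D.diagonalSubgroup F) * S.Psum D.rank q) =
      q ^ (D.nroots / 2) * ((d * Nat.card ↥(D.diagonalSubgroup F)) * S.Psum D.rank q) by ring, hH]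
  congr 1
  have hf := S.Psum_formula h q
  apply Nat.cast_injective (R := ℤ)
  push_cast [Nat.cast_sub hq1]
  rw [hf, List.map_map]
  congr 1
  refine List.map_congr_left fun e _ => ?_
  simp [Nat.cast_sub (Nat.one_le_pow e q (by omega))]

theorem chi_eq_one_of_simple {M : Type*} [CommGroup M] (S : Struct D C) (c : Fin D.rank → M)
    (h : ∀ j : Fin D.rank, (∏ i, c i ^ D.cartan i (C.sr j)) = 1) :
    ∀ r < D.nroots, (∏ i, c i ^ D.cartan i r) = 1 := by
  have hneg : ∀ r < D.nroots, (∏ i, c i ^ D.cartan i r) = 1 → (∏ i, c i ^ D.cartan i (C.neg r)) = 1 := by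
    intro r hr h1
    rw [show (∏ i, c i ^ D.cartan i (C.neg r)) = (∏ i, c i ^ D.cartan i r)⁻¹ by
      rw [← Finset.prod_inv_distrib]
      refine Finset.prod_congr rfl fun i _ => ?_
      rw [← S.ok.cart_eq i.isLt (S.ok.neg_lt hr), ← S.ok.cart_eq i.isLt hr, ← zpow_neg,
        (S.ok.refl_spec i.isLt hr).2.2.2.2.1], h1, inv_one]
  refine S.ok.root_induction (fun i hi => ⟨h ⟨i, hi⟩, hneg _ (S.ok.sr_lt hi) (h ⟨i, hi⟩)⟩)
    fun i r hi hr ih => ?_
  have e : (∏ j, c j ^ D.cartan j r) =
      (∏ j, c j ^ D.cartan j (C.w i r)) * (∏ j, c j ^ D.cartan j (C.sr i)) ^ D.cartan i r := by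
    rw [← Finset.prod_zpow, ← Finset.prod_mul_distrib]
    refine Finset.prod_congr rfl fun j _ => ?_
    rw [← zpow_mul, ← zpow_add, ← S.ok.cart_eq j.isLt hr, ← S.ok.cart_eq j.isLt (S.ok.w_lt hi hr),
      ← S.ok.cart_eq j.isLt (S.ok.sr_lt hi), ← S.ok.cart_eq hi hr,
      (S.ok.refl_spec hi hr).2.2.2.2.2.2.2 j j.isLt]
    congr 1
    ring
  rw [e, ih, h ⟨i, hi⟩, one_zpow, mul_one]

/-- Certificate that the kernel of the Cartan matrix on a torus is `μ_e ^ g`. -/
def TorusCert (l g : ℕ) (A : Fin l → Fin l → ℤ) (e : ℕ) (piv : Fin g → Fin l) (K : Fin l → Fin g → ℤ)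
    (T : Fin l → Fin l → ℤ) (T' : Fin g → Fin l → ℤ) : Prop :=
  (∀ a b, K (piv a) b = if a = b then 1 else 0) ∧
  (∀ j b, (e : ℤ) ∣ ∑ i, A i j * K i b) ∧
  (∀ i m, (if m = i then (1 : ℤ) else 0) - (∑ b, if m = piv b then K i b else 0) = ∑ j, A m j * T i j) ∧
  (∀ a m, (if m = piv a then (e : ℤ) else 0) = ∑ j, A m j * T' a j)

theorem card_torus_ker {M : Type*} [CommGroup M] {l g : ℕ} {A : Fin l → Fin l → ℤ} {e : ℕ}
    {piv : Fin g → Fin l} {K : Fin l → Fin g → ℤ} {T : Fin l → Fin l → ℤ} {T' : Fin g → Fin l → ℤ}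
    (h : TorusCert l g A e piv K T T') :
    Nat.card {c : Fin l → M // ∀ j, ∏ i, c i ^ A i j = 1} =
      Nat.card (powMonoidHom e : M →* M).ker ^ g := by
  obtain ⟨h1, h2, h3, h4⟩ := h
  -- a product of powers of the equations
  have comb : ∀ (c : Fin l → M), (∀ j, ∏ i, c i ^ A i j = 1) → ∀ t : Fin l → ℤ,
      ∏ m, c m ^ (∑ j, A m j * t j) = 1 := by
    intro c hc t
    have hz : ∀ (m : Fin l) (s : Finset (Fin l)), c m ^ (∑ j ∈ s, A m j * t j) = ∏ j ∈ s, c m ^ (A m j * t j) := by
      intro m s
      induction s using Finset.cons_induction with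
      | empty => simp
      | cons a s ha ih => rw [Finset.sum_cons, Finset.prod_cons, zpow_add, ih]
    simp only [hz, zpow_mul]
    rw [Finset.prod_comm]
    refine Finset.prod_eq_one fun j _ => ?_
    rw [Finset.prod_zpow, hc j, one_zpow]
  have hback : ∀ (b : Fin g → M), (∀ a, b a ^ e = 1) → ∀ j, ∏ i, (∏ a, b a ^ K i a) ^ A i j = 1 := by
    intro b hb j
    have : ∀ i, (∏ a, b a ^ K i a) ^ A i j = ∏ a, b a ^ (A i j * K i a) := fun i => by
      rw [← Finset.prod_zpow]
      exact Finset.prod_congr rfl fun a _ => by rw [← zpow_mul, mul_comm]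
    simp only [this]
    rw [Finset.prod_comm]
    refine Finset.prod_eq_one fun a _ => ?_
    obtain ⟨z, hz⟩ := h2 j a
    have hs : ∀ s : Finset (Fin l), b a ^ (∑ i ∈ s, A i j * K i a) = ∏ i ∈ s, b a ^ (A i j * K i a) := by
      intro s
      induction s using Finset.cons_induction with
      | empty => simp
      | cons x s hx ih => rw [Finset.sum_cons, Finset.prod_cons, zpow_add, ih]
    rw [← hs, hz, zpow_mul, zpow_natCast, hb a, one_zpow]
  have hfwd : ∀ (c : Fin l → M), (∀ j, ∏ i, c i ^ A i j = 1) → ∀ a, c (piv a) ^ e = 1 := by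
    intro c hc a
    have := comb c hc (T' a)
    simp only [← h4 a] at this
    rw [Finset.prod_eq_single (piv a) (fun m _ hm => by simp [hm]) (by simp), if_pos rfl, zpow_natCast] at this
    exact this
  let f : {c : Fin l → M // ∀ j, ∏ i, c i ^ A i j = 1} ≃ (Fin g → (powMonoidHom e : M →* M).ker) :=
    { toFun := fun c a => ⟨c.1 (piv a), hfwd c.1 c.2 a⟩
      invFun := fun b => ⟨fun i => ∏ a, (b a : M) ^ K i a, hback _ fun a => (b a).2⟩
      left_inv := fun c => Subtype.ext (funext fun i => by
        have := comb c.1 c.2 (T i)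
        simp only [← h3 i] at this
        simp only [zpow_sub, Finset.prod_mul_distrib, Finset.prod_inv_distrib] at this
        rw [mul_inv_eq_one] at this
        rw [Finset.prod_eq_single i (fun m _ hm => by simp [hm]) (by simp), if_pos rfl, zpow_one] at this
        show ∏ a, c.1 (piv a) ^ K i a = c.1 i
        rw [this]
        have hs : ∀ (m : Fin l) (s : Finset (Fin g)), c.1 m ^ (∑ b ∈ s, if m = piv b then K i b else 0) =
            ∏ b ∈ s, c.1 m ^ (if m = piv b then K i b else 0) := by
          intro m s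
          induction s using Finset.cons_induction with
          | empty => simp
          | cons x s hx ih => rw [Finset.sum_cons, Finset.prod_cons, zpow_add, ih]
        simp only [hs]
        rw [Finset.prod_comm]
        refine Finset.prod_congr rfl fun b _ => ?_
        rw [Finset.prod_eq_single (piv b) (fun m _ hm => by simp [hm]) (by simp), if_pos rfl])
      right_inv := fun b => funext fun a => Subtype.ext (by
        show ∏ x, (b x : M) ^ K (piv a) x = b a
        rw [Finset.prod_eq_single a (fun x _ hx => by simp [h1 a x, Ne.symm hx]) (by simp), h1 a a, if_pos rfl,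
          zpow_one]) }
  rw [Nat.card_congr f, Nat.card_pi, Finset.prod_const, Finset.card_univ, Fintype.card_fin]

theorem card_diagonal {F : Type*} [Field F] [Fintype F] (S : Struct D C) {l g : ℕ} (hl : D.rank = l) {e : ℕ}
    {piv : Fin g → Fin l} {K : Fin l → Fin g → ℤ} {T : Fin l → Fin l → ℤ} {T' : Fin g → Fin l → ℤ}
    (h : TorusCert l g (fun i j => C.cart i.val (C.sr j.val)) e piv K T T') :
    Nat.gcd e (Fintype.card F - 1) ^ g * Nat.card ↥(D.diagonalSubgroup F) =
      (Fintype.card F - 1) ^ D.rank := by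
  classical
  subst hl
  have hcard : Nat.card Fˣ = Fintype.card F - 1 := by rw [Nat.card_units, Nat.card_eq_fintype_card]
  have hker : Nat.card (Ok.tG D F).ker = Nat.gcd e (Fintype.card F - 1) ^ g := by
    rw [Nat.gcd_comm, ← hcard, ← IsCyclic.card_powMonoidHom_ker, ← card_torus_ker h]
    refine Nat.card_congr (Equiv.subtypeEquivRight fun c => ?_)
    rw [MonoidHom.mem_ker]
    constructor
    · intro hc j
      have e1 := congrArg (fun M : GL D.Idx F => (M : Matrix D.Idx D.Idx F) (Sum.inr (S.sp j)) (Sum.inr (S.sp j))) hc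
      simp only [Ok.tG_val, Units.val_one, Matrix.diagonal_apply_eq, Matrix.one_apply_eq, Sum.elim_inr] at e1
      refine Eq.trans (Finset.prod_congr rfl fun i _ => ?_) (Units.val_eq_one.1 e1)
      rw [show (S.sp j).val = C.sr j.val from rfl, S.ok.cart_eq i.isLt (S.ok.sr_lt j.isLt)]
    · intro hc
      have hall := S.chi_eq_one_of_simple c fun j => by
        refine Eq.trans (Finset.prod_congr rfl fun i _ => ?_) (hc j)
        rw [S.ok.cart_eq i.isLt (S.ok.sr_lt j.isLt)]
      apply Units.ext
      rw [Ok.tG_val, Units.val_one, ← Matrix.diagonal_one]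
      congr 1
      funext x
      rcases x with a | s
      · rfl
      · simpa using congrArg Units.val (hall s.val s.isLt)
  rw [← hker, S.ok.diagonalSubgroup_eq, ← Subgroup.index_ker, Subgroup.card_mul_index, Nat.card_fun,
    Nat.card_fin, hcard]

end Struct

end Cfsg.Lib.Chev
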