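import Cfsg.Agent.Chev.ParabCharP
import Cfsg.Agent.Steinberg.DefectZeroUnique
import Cfsg.Agent.Blocks.CentralSupport
import Cfsg.Agent.S0028

/-! Chevalley groups in their own characteristic: trivial centre and two blocks. -/

set_option autoImplicit false

open Cfsg.Lie

namespace Cfsg.Lib.Chev

universe u

variable {D : ChevalleyDatum} {F : Type u} [Field F] [Fintype F] (p : ℕ) [Fact p.Prime] [CharP F p]
  (hD : D ∈ [chevG2, chevB2, chevD4, chevF4, chevE6, chevE7, chevE8])

include hD in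
theorem rank_pos : 0 < D.rank := by
  simp only [List.mem_cons, List.not_mem_nil, or_false] at hD
  rcases hD with rfl | rfl | rfl | rfl | rfl | rfl | rfl <;> decide

include hD in
theorem center_eq_bot : Subgroup.center ↥(D.group F) = ⊥ := by
  obtain ⟨C, T, S, hN, hT, hDesc, hl, hsp⟩ := span_of_mem hD
  obtain ⟨C', L', S', -, hL'⟩ := opp_of_mem hD
  obtain ⟨n, hn, w, ha, hw⟩ := S'.exists_opp (F := F) hL'
  have hmap := S'.opp_map ha hw
  rw [Subgroup.eq_bot_iff_forall]
  intro z hz
  have hcomm : ∀ g ∈ D.group F, g * (z : GL D.Idx F) = z * g := fun g hg =>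
    congrArg Subtype.val (Subgroup.mem_center_iff.1 hz ⟨g, hg⟩)
  have hUG : D.posUnipotent F ≤ D.group F := fun u hu => S.borel_le_group (S.B_le_of hu)
  have hrad : D.unipotentRadical F ∅ ≤ D.posUnipotent F := by
    refine Subgroup.closure_mono ?_
    rintro g ⟨r, t, hr, -, hg⟩
    exact ⟨r, t, hr, hg⟩
  have hzP : (z : GL D.Idx F) ∈ D.parabolicSubgroup F ∅ := by
    rw [← S.normalizer_UJ hN hT hDesc ∅]
    refine Subgroup.mem_inf.2 ⟨Subgroup.mem_normalizer_iff.2 fun x => ?_, z.2⟩
    constructor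
    · intro hx
      rw [← hcomm x (hUG (hrad hx)), mul_inv_cancel_right]; exact hx
    · intro hx
      have h1 := hcomm _ (hUG (hrad hx))
      rw [inv_mul_cancel_right] at h1
      rw [mul_left_cancel h1]; exact hx
  have hzU := cent_radical_le S hN hT hDesc hl hsp ⟨0, rank_pos hD, Set.notMem_empty 0⟩ hzP
    fun v hv => (hcomm v (hUG (hrad hv))).symm
  have hzV : (z : GL D.Idx F) ∈ D.negUnipotent F := by
    rw [← hmap]
    refine ⟨z, hzU, ?_⟩
    simp only [MulEquiv.toMonoidHom_eq_coe, MonoidHom.coe_coe, MulAut.conj_apply]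
    rw [hcomm n (S.mono_le_group hn), mul_inv_cancel_right]
  have h := Subgroup.mem_inf.2 ⟨S.B_le_of hzU, hzV⟩
  rw [S.B_inf_V hN, Subgroup.mem_bot] at h
  exact Subtype.ext h

include hD in
theorem locallyConstrained : Blocks.LocallyConstrained p ↥(D.group F) := by
  classical
  obtain ⟨C, T, S, hN, hT, hDesc, hl, hsp⟩ := span_of_mem hD
  intro R hR hne
  have hR' : IsPGroup p ↥(R.map (D.group F).subtype) := hR.map _
  have hRG : R.map (D.group F).subtype ≤ D.group F := Subgroup.map_subtype_le R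
  have hne' : R.map (D.group F).subtype ≠ ⊥ := fun h =>
    hne ((Subgroup.map_eq_bot_iff_of_injective _ (D.group F).subtype_injective).1 h)
  obtain ⟨g, hg, J, hJ, hNP, hRU⟩ := borel_tits p hD _ hRG hR' hne'
  obtain ⟨hPn, -, -⟩ := S.levi (F := F) hT hDesc J
  have hRadU : D.unipotentRadical F J ≤ D.posUnipotent F := by
    refine Subgroup.closure_mono ?_
    rintro x ⟨r, t, hr, -, hx⟩
    exact ⟨r, t, hr, hx⟩
  have hUG : D.posUnipotent F ≤ D.group F := fun u hu => S.borel_le_group (S.B_le_of hu)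
  have hpU := isPGroup_posUnipotent (F := F) p S
  set W := ((D.unipotentRadical F J).map (MulAut.conj g).toMonoidHom).subgroupOf (D.group F)
  have hW : IsPGroup p ↥W := ((hpU.to_le hRadU).map _).comap_subtype
  have hmemW : ∀ y : ↥(D.group F), y ∈ W ↔ g⁻¹ * (y : GL D.Idx F) * g ∈ D.unipotentRadical F J := by
    intro y
    simp only [W, Subgroup.mem_subgroupOf, Subgroup.mem_map, MulEquiv.toMonoidHom_eq_coe, MonoidHom.coe_coe,
      MulAut.conj_apply]
    constructor
    · rintro ⟨v, hv, e⟩; rw [← e]; convert hv using 1; group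
    · intro h; exact ⟨_, h, by group⟩
  have hinP : ∀ t ∈ Subgroup.centralizer (R : Set ↥(D.group F)),
      g⁻¹ * (t : GL D.Idx F) * g ∈ D.parabolicSubgroup F J := by
    intro t ht
    have h1 : (t : GL D.Idx F) ∈
        Subgroup.normalizer ((R.map (D.group F).subtype : Subgroup _) : Set (GL D.Idx F)) ⊓ D.group F := by
      refine Subgroup.mem_inf.2 ⟨Subgroup.mem_normalizer_iff.2 fun x => ?_, t.2⟩
      constructor
      · rintro ⟨r, hr, rfl⟩
        refine ⟨r, hr, ?_⟩
        have := congrArg Subtype.val (Subgroup.mem_centralizer_iff.1 ht r hr)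
        simp only [Subgroup.coe_mul] at this
        simp only [Subgroup.coe_subtype, ← this, mul_inv_cancel_right]
      · rintro ⟨r, hr, e⟩
        refine ⟨r, hr, ?_⟩
        have := congrArg Subtype.val (Subgroup.mem_centralizer_iff.1 ht r hr)
        simp only [Subgroup.coe_mul] at this
        simp only [Subgroup.coe_subtype] at e ⊢
        rw [e, inv_mul_cancel_right] at this
        rw [e]
        exact (mul_left_cancel this).symm
    obtain ⟨v, hv, e⟩ := hNP h1
    rw [← e]
    simp only [MulEquiv.toMonoidHom_eq_coe, MonoidHom.coe_coe, MulAut.conj_apply]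
    rw [show g⁻¹ * (g * v * g⁻¹) * g = v by group]
    exact hv
  have hnormW : ∀ t ∈ Subgroup.centralizer (R : Set ↥(D.group F)), t ∈ Subgroup.normalizer (W : Set ↥(D.group F)) := by
    intro t ht
    refine Subgroup.mem_normalizer_iff.2 fun y => ?_
    rw [hmemW, hmemW, Subgroup.coe_mul, Subgroup.coe_mul, Subgroup.coe_inv,
      show g⁻¹ * ((t : GL D.Idx F) * y * (t : GL D.Idx F)⁻¹) * g =
        (g⁻¹ * t * g) * (g⁻¹ * y * g) * (g⁻¹ * t * g)⁻¹ by group]
    exact Subgroup.mem_normalizer_iff.1 (hPn (hinP t ht)) _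
  have hRW : R ≤ W := fun r hr => by
    simp only [W, Subgroup.mem_subgroupOf]
    exact hRU ⟨r, hr, rfl⟩
  refine ⟨W ⊓ Subgroup.centralizer (R : Set ↥(D.group F)), hW.to_le inf_le_left, inf_le_right, ?_, ?_⟩
  · intro t ht y hy
    exact Subgroup.mem_inf.2 ⟨(Subgroup.mem_normalizer_iff.1 (hnormW t ht) y).1 (Subgroup.mem_inf.1 hy).1,
      mul_mem (mul_mem ht (Subgroup.mem_inf.1 hy).2) (inv_mem ht)⟩
  · intro x hx hxp hxQ
    have hcop : (Nat.card (Subgroup.zpowers x)).Coprime p := by
      rw [Nat.card_zpowers]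
      exact Nat.Coprime.symm ((Fact.out : p.Prime).coprime_iff_not_dvd.2 hxp)
    have hcent := Cfsg.Agent.S0028.result p R (Subgroup.zpowers x) W hR hcop hW
      (fun r hr => Subgroup.mem_centralizer_iff.2 fun z hz => by
        obtain ⟨k, rfl⟩ := Subgroup.mem_zpowers_iff.1 hz
        exact ((Commute.zpow_right (Subgroup.mem_centralizer_iff.1 hx r hr) k).symm).eq)
      (fun r hr => Subgroup.le_normalizer (hRW hr))
      ((Subgroup.zpowers_le).2 (hnormW x hx))
      (fun y hy => Subgroup.mem_centralizer_iff.2 fun z hz => by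
        obtain ⟨k, rfl⟩ := Subgroup.mem_zpowers_iff.1 hz
        exact ((Commute.zpow_right (Subgroup.mem_centralizer_iff.1 hxQ y hy) k).symm).eq)
    have hxW := hcent (Subgroup.mem_zpowers x)
    have hxU : g⁻¹ * (x : GL D.Idx F) * g ∈ D.posUnipotent F := by
      refine cent_radical_le S hN hT hDesc hl hsp hJ (hinP x hx) fun v hv => ?_
      have hvG : g * v * g⁻¹ ∈ D.group F := mul_mem (mul_mem hg (hUG (hRadU hv))) (inv_mem hg)
      have := congrArg Subtype.val (Subgroup.mem_centralizer_iff.1 hxW ⟨g * v * g⁻¹, hvG⟩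
        ((hmemW _).2 (by convert hv using 1; group)))
      simp only [Subgroup.coe_mul] at this
      calc g⁻¹ * (x : GL D.Idx F) * g * v = g⁻¹ * ((x : GL D.Idx F) * (g * v * g⁻¹)) * g := by group
        _ = g⁻¹ * ((g * v * g⁻¹) * x) * g := by rw [← this]
        _ = v * (g⁻¹ * x * g) := by group
    obtain ⟨k, hk⟩ := IsPGroup.iff_orderOf.1 hpU ⟨_, hxU⟩
    rw [Subgroup.orderOf_mk] at hk
    have ho : orderOf (g⁻¹ * (x : GL D.Idx F) * g) = orderOf x := by
      have := orderOf_injective (MulAut.conj g⁻¹).toMonoidHom (MulAut.conj g⁻¹).injective (x : GL D.Idx F)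
      simp only [MulEquiv.toMonoidHom_eq_coe, MonoidHom.coe_coe, MulAut.conj_apply, inv_inv] at this
      rw [this, Subgroup.orderOf_coe]
    rw [ho] at hk
    have hk0 : k = 0 := by
      by_contra h
      exact hxp (hk ▸ dvd_pow_self p h)
    rw [hk0, pow_zero, orderOf_eq_one_iff] at hk
    rw [hk]
    exact one_mem _

include hD in
theorem closure_pElements :
    Subgroup.closure {u : ↥(D.group F) | ∃ e, orderOf u = p ^ e} = ⊤ := by
  obtain ⟨C, T, S, -⟩ := span_of_mem hD
  rw [eq_top_iff]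
  refine le_trans (le_of_eq ?_) (Subgroup.closure_mono (k := {u : ↥(D.group F) | ∃ e, orderOf u = p ^ e})
    (h := (Subtype.val ⁻¹' {g : GL D.Idx F |
      ∃ (r : Fin D.nroots) (t : F), (g : Matrix D.Idx D.Idx F) = D.xMat F r t} : Set ↥(D.group F))) ?_)
  · exact (Subgroup.closure_closure_coe_preimage (k := {g : GL D.Idx F |
      ∃ (r : Fin D.nroots) (t : F), (g : Matrix D.Idx D.Idx F) = D.xMat F r t})).symm
  rintro u ⟨r, t, hu⟩
  have hu' : (u : GL D.Idx F) = S.ok.xG r t :=
    S.ok.eq_xG (by rw [hu]; simp [Cfsg.Lie.ChevalleyDatum.x, r.isLt])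
  have hpow : ∀ k : ℕ, S.ok.xG (r : ℕ) t ^ k = S.ok.xG (r : ℕ) ((k : F) * t) := by
    intro k
    induction k with
    | zero => simp
    | succ k ih => rw [pow_succ, ih, S.ok.xG_mul, Nat.cast_succ, add_mul, one_mul]
  have h1 : orderOf u ∣ p ^ 1 := by
    rw [pow_one]
    refine orderOf_dvd_of_pow_eq_one (Subtype.ext ?_)
    rw [SubgroupClass.coe_pow, hu', hpow, CharP.cast_eq_zero, zero_mul, S.ok.xG_zero]
    rfl
  obtain ⟨e, -, he⟩ := (Nat.dvd_prime_pow (Fact.out : p.Prime)).1 h1
  exact ⟨e, he⟩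

include hD in
theorem card_blocks [Fintype ↥(D.group F)] (M : Ideal Cfsg.AlgInt) (hM : Cfsg.IsPModular p M) :
    Nat.card {B : Set (Cfsg.IrrCharacter ↥(D.group F)) // Cfsg.IsPBlock M B} = 2 := by
  classical
  obtain ⟨P, U, h⟩ := Steinberg.exists_chevData (F := F) p D hD
  let s₀ : Cfsg.IrrCharacter ↥(D.group F) := ⟨Steinberg.st P, Steinberg.isIrr_st h.split h.opp⟩
  have hpa := Steinberg.factorization_eq h.split
  have hs : Cfsg.Lib.Chars.deg (s₀ : ↥(D.group F) → ℂ) = p ^ (Nat.card ↥(D.group F)).factorization p := by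
    rw [hpa]; exact Steinberg.deg_st h.split h.opp
  have huniq : ∀ χ : Cfsg.IrrCharacter ↥(D.group F),
      p ^ (Nat.card ↥(D.group F)).factorization p ∣ Cfsg.Lib.Chars.deg (χ : ↥(D.group F) → ℂ) → χ = s₀ :=
    fun χ hd => Subtype.ext (Steinberg.eq_st_of_defect_zero h.split h.opp
      (fun K hK => h.rad K (by rw [← Finset.coe_subset, Steinberg.coe_gens]; exact hK))
      (closure_pElements p hD) χ.2 (by rwa [← hpa]))
  have hcz := center_eq_bot (F := F) hD
  have hZ : ¬ p ∣ Nat.card (Subgroup.center ↥(D.group F)) := by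
    rw [hcz, Subgroup.card_bot]; exact (Fact.out : p.Prime).not_dvd_one
  have ha : (Nat.card ↥(D.group F)).factorization p ≠ 0 := by
    intro h0
    rw [h0, pow_zero, h.card_U] at hpa
    have hN : 1 ≤ D.nroots / 2 := by
      have := hD
      simp only [List.mem_cons, List.not_mem_nil, or_false] at this
      rcases this with rfl | rfl | rfl | rfl | rfl | rfl | rfl <;> decide
    exact (Nat.one_lt_pow (by omega) Finite.one_lt_card).ne hpa
  rw [Blocks.card_blocks_eq hM (locallyConstrained p hD) hZ hs huniq ha, hcz, Subgroup.card_bot]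

end Cfsg.Lib.Chev
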