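import Cfsg.Agent.Chev.RadCent
import Cfsg.Agent.Chev.TwoBlocks

/-! Entrywise field maps on Chevalley groups: the fixed points and the centraliser of the rational root elements. -/

set_option autoImplicit false

open Cfsg.Lie

namespace Cfsg.Lib.Chev

variable {D : ChevalleyDatum} {C : Cert} {T : List (List ℤ)} {F : Type*} [Field F]

/-- The roots kept positive by an element of the Weyl group form a closed set. -/
theorem closed_notNeg (S : Struct D C) (hT : okHt D T = true) (hl : Cfsg.Lib.Steinberg.okLin D C T = true)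
    {w : Equiv.Perm (Fin D.nroots)} (hw : w ∈ S.WG) : ClosedPsi D (fun r => ¬ Struct.Neg D w r) := by
  intro r s _ _ hr hs q hq h
  obtain ⟨a, b, ha, hb, e⟩ := commTerms_rv S hT hq h
  have e' : rv T (w ⟨q.1, h⟩) = (a : ℝ) • rv T (w r) + (b : ℝ) • rv T (w s) := by
    rw [← act_rv S hT hl hw, e, map_add, map_smul, map_smul, act_rv S hT hl hw, act_rv S hT hl hw]
  obtain ⟨k, hk, hk0⟩ := Cfsg.Lib.Steinberg.exists_ne_zero hl (w r).isLt
  have h1 := S.ht_nonneg hT (Nat.le_of_not_lt hr) (w r).isLt hk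
  have h2 := S.ht_nonneg hT (Nat.le_of_not_lt hs) (w s).isLt hk
  have e2 : htAt T (w ⟨q.1, h⟩).val k = a * htAt T (w r).val k + b * htAt T (w s).val k := by
    have := congrFun e' ⟨k, hk⟩
    simp only [rv, Pi.add_apply, Pi.smul_apply, smul_eq_mul] at this
    exact_mod_cast this
  intro hneg
  have hpos : 0 < htAt T (w ⟨q.1, h⟩).val k := by
    rw [e2]
    have : (1 : ℤ) ≤ a := by exact_mod_cast ha
    have h3 : 0 < htAt T (w r).val k := lt_of_le_of_ne h1 (Ne.symm hk0)
    nlinarith [mul_nonneg (Int.natCast_nonneg b) h2]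
  exact absurd (S.pos_of_ht hT (Fin.isLt _) hk hpos) (Nat.not_le.2 hneg)

/-- Commuting with one nontrivial element of every positive root subgroup puts an element in `U`. -/
theorem mem_U_of_commutes (S : Struct D C) (hN : okNeg D = true) (hT : okHt D T = true)
    (hl : Cfsg.Lib.Steinberg.okLin D C T = true) (hsp : okSpan D T = true) {x : GL D.Idx F} (hx : x ∈ D.group F)
    (hc : ∀ r : Fin D.nroots, D.nroots / 2 ≤ r.val → ∃ c : F, c ≠ 0 ∧ x * S.ok.xG r.val c = S.ok.xG r.val c * x) :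
    x ∈ D.posUnipotent F := by
  have hhs := S.hsum
  obtain ⟨b, hb, n, hn, L, hact, u, hu, rfl⟩ := S.normal_form hN hx
  have hw := S.wpL_mem_WG L
  have huU := S.UPsi_le _ hu
  have hpos : ∀ r : Fin D.nroots, D.nroots / 2 ≤ r.val → ¬ Struct.Neg D (S.wpL L) r := by
    intro r hr
    obtain ⟨c, hc0, e⟩ := hc r hr
    have hvU : u * S.ok.xG r.val c * u⁻¹ ∈ D.posUnipotent F :=
      mul_mem (mul_mem huU (S.xG_mem_U hr r.isLt c)) (inv_mem huU)
    have hvU' : u * S.ok.xG r.val c * u⁻¹ ∈ S.Ugen F (D.nroots / 2) := by rw [← S.posUnipotent_eq]; exact hvU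
    obtain ⟨a, ha, k, hk, e2⟩ := S.split_Ugen (Struct.Neg D (S.wpL L)) (D.nroots - D.nroots / 2) (D.nroots / 2)
      (by omega) le_rfl _ hvU'
    have e3 : b * (n * a * n⁻¹) * n * (k * u) = S.ok.xG r.val c * b * n * u := by
      calc b * (n * a * n⁻¹) * n * (k * u) = b * n * (a * k) * u := by group
        _ = b * n * u * S.ok.xG r.val c := by rw [← e2]; group
        _ = _ := by rw [e]; group
    obtain ⟨-, e4⟩ := S.normal_form_unique hN
      (mul_mem hb (S.B_le_of (S.conj_Pos hact ha)))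
      (mul_mem (S.B_le_of (S.xG_mem_U hr r.isLt c)) hb) hact (mul_mem hk hu) hu e3
    rw [mul_eq_right.1 e4, mul_one] at e2
    obtain ⟨z, hz, ez⟩ := S.conj_pos_lead huU r.isLt hr c
    obtain ⟨t, ht, et⟩ := S.exists_pw_closed (closed_notNeg S hT hl hw) (D.nroots - D.nroots / 2) (D.nroots / 2)
      (by omega) le_rfl a (S.UPsi_mono (fun s hs h => ⟨h, hs⟩) ha)
    obtain ⟨t', rfl⟩ := S.exists_pw (D.nroots - (r.val + 1)) (r.val + 1) (by omega) (by omega) z hz
    -- the leading coordinate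
    have hlead : S.pw (D.nroots / 2) t = S.pw (D.nroots / 2)
        (fun i => if i < r.val then 0 else if i = r.val then c else t' i) := by
      rw [← et, ← e2, ez]
      have key : ∀ d i, d + i = r.val → D.nroots / 2 ≤ i → S.pw i
          (fun i => if i < r.val then 0 else if i = r.val then c else t' i) =
            S.ok.xG r.val c * S.pw (r.val + 1) t' := by
        intro d
        induction d with
        | zero =>
          intro i hi _
          rw [Nat.zero_add] at hi
          subst hi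
          rw [S.pw_succ r.isLt, if_neg (lt_irrefl _), if_pos rfl]
          congr 1
          exact S.pw_congr fun j hj _ => by rw [if_neg (by omega), if_neg (by omega)]
        | succ d ih =>
          intro i hi hip
          rw [S.pw_succ (by have := r.isLt; omega), if_pos (by omega), S.xG_zero, one_mul]
          exact ih (i + 1) (by omega) (by omega)
      exact (key (r.val - D.nroots / 2) (D.nroots / 2) (by omega) le_rfl).symm
    intro hneg
    have h5 := S.pw_inj (D.nroots - D.nroots / 2) (D.nroots / 2) (by omega) le_rfl _ _ hlead r.val hr r.isLt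
    simp only [lt_irrefl, if_false, if_true] at h5
    exact hc0 (h5.symm.trans (ht r.val r.isLt (not_not.2 hneg)))
  have hw1 : S.wpL L = 1 := S.eq_one_of_simple_pos D.rank _ L rfl (fun z _ => z.isLt) fun j _ =>
    Nat.le_of_not_lt (hpos (S.sp j) (S.sr_pos j.isLt))
  obtain ⟨L', hact', hiff⟩ := S.exists_act hn
  have hnd : n ∈ D.diagonalSubgroup F := hiff.1 ((S.act_unique hact' hact).trans hw1)
  have hxB : b * n * u ∈ D.borelSubgroup F :=
    mul_mem (mul_mem hb (Subgroup.mem_sup_right hnd)) (S.B_le_of huU)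
  obtain ⟨v, hv, d, hd, exd⟩ := S.borel_decomp hxB
  have hd1 : d = 1 := by
    rw [S.ok.diagonalSubgroup_eq] at hd
    obtain ⟨c, rfl⟩ := hd
    set χ : ℕ → Fˣ := fun r => ∏ i, c i ^ D.cartan i r
    have hχ : ∀ r : Fin D.nroots, D.nroots / 2 ≤ r.val → χ r.val = 1 := by
      intro r hr
      obtain ⟨a, ha0, e⟩ := hc r hr
      obtain ⟨w, hw, ew⟩ := S.conj_pos_lead hv r.isLt hr ((χ r.val : F) * a)
      have h3 : S.ok.xG r.val ((χ r.val : F) * a) * w = S.ok.xG r.val a := by
        rw [← ew, ← S.tG_conj_xG r.isLt c a]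
        calc v * (Ok.tG D F c * S.ok.xG r.val a * (Ok.tG D F c)⁻¹) * v⁻¹
            = (v * Ok.tG D F c) * S.ok.xG r.val a * (v * Ok.tG D F c)⁻¹ := by group
          _ = _ := by rw [← exd, e, mul_inv_cancel_right]
      have h4 := (S.lead_unique r.isLt hr r.isLt hr (mul_ne_zero (Units.ne_zero _) ha0) hw h3).2
      exact Units.ext (by rw [Units.val_one]; exact (mul_eq_right₀ ha0).1 h4)
    have hlin : ∀ r : Fin D.nroots, χ r.val = ∏ j : Fin D.rank, χ (D.simple j) ^ htAt T r.val j := by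
      intro r
      simp only [χ, ← Finset.prod_zpow]
      rw [Finset.prod_comm]
      refine Finset.prod_congr rfl fun i _ => ?_
      rw [cartan_lin hsp i.isLt r.isLt, zpow_sum']
      exact Finset.prod_congr rfl fun j _ => by rw [← zpow_mul, mul_comm]
    refine Units.ext ?_
    rw [Ok.tG_val, Units.val_one, ← Matrix.diagonal_one]
    congr 1
    funext z
    rcases z with a | s
    · rfl
    · show ((χ s.val : Fˣ) : F) = 1
      rw [hlin s, Finset.prod_eq_one fun j _ => by
        rw [show D.simple j.val = (S.sp j).val from (S.ok.sr_eq j.isLt).symm, hχ _ (S.sr_pos j.isLt), one_zpow]]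
      rfl
  rw [exd, hd1, mul_one]
  exact hv

/-- Only the identity commutes with a nontrivial element of every root subgroup. -/
theorem eq_one_of_commutes (hD : D ∈ [chevG2, chevB2, chevD4, chevF4, chevE6, chevE7, chevE8]) {x : GL D.Idx F}
    (hx : x ∈ D.group F)
    (hc : ∀ g : GL D.Idx F, (∃ r, r < D.nroots ∧ (g : Matrix D.Idx D.Idx F) = D.x F r 1) → x * g = g * x) :
    x = 1 := by
  obtain ⟨C, T, S, hN, hT, hDesc, hl, hsp⟩ := span_of_mem hD
  obtain ⟨C', L', S', -, hL'⟩ := opp_of_mem hD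
  obtain ⟨n, hn, w, ha, hw⟩ := S'.exists_opp (F := F) hL'
  have hmap := S'.opp_map ha hw
  have hc' : ∀ r : Fin D.nroots, x * S.ok.xG r.val 1 = S.ok.xG r.val 1 * x := fun r =>
    hc _ ⟨r.val, r.isLt, S.ok.val_xG _ _⟩
  have hxU := mem_U_of_commutes S hN hT hl hsp hx fun r _ => ⟨1, one_ne_zero, hc' r⟩
  have hnG : n ∈ D.group F := S.mono_le_group hn
  have hyU : n * x * n⁻¹ ∈ D.posUnipotent F := by
    refine mem_U_of_commutes S hN hT hl hsp (mul_mem (mul_mem hnG hx) (inv_mem hnG)) fun r _ => ?_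
    obtain ⟨-, c, hc0, e⟩ := ha (w.symm r)
    refine ⟨c, hc0, ?_⟩
    have e1 := (e 1).1
    rw [w.apply_symm_apply, mul_one] at e1
    have e1' : n * S.ok.xG (w.symm r).val 1 * n⁻¹ = S.ok.xG r.val c := e1
    rw [← e1']
    calc n * x * n⁻¹ * (n * S.ok.xG (w.symm r).val 1 * n⁻¹) = n * (x * S.ok.xG (w.symm r).val 1) * n⁻¹ := by group
      _ = n * (S.ok.xG (w.symm r).val 1 * x) * n⁻¹ := by rw [hc']
      _ = _ := by group
  have h : n * x * n⁻¹ ∈ D.borelSubgroup F ⊓ D.negUnipotent F :=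
    Subgroup.mem_inf.2 ⟨S.B_le_of hyU, by rw [← hmap]; exact ⟨x, hxU, rfl⟩⟩
  rw [S.B_inf_V hN, Subgroup.mem_bot, mul_inv_eq_one] at h
  exact mul_left_cancel (a := n) (h.trans (mul_one n).symm)

theorem Struct.xG_left_inj (S : Struct D C) {r : ℕ} (hr : r < D.nroots) {a b : F}
    (h : S.ok.xG r a = S.ok.xG r b) : a = b := by
  have h1 : S.ok.xG r (-b + a) = 1 := by rw [← S.ok.xG_mul, ← S.ok.xG_inv, h, inv_mul_cancel]
  linear_combination S.xG_eq_one hr h1

section Fixed

variable (σ : F →+* F)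

/-- A ring map applied to the entries. -/
noncomputable def phiG (D : ChevalleyDatum) : GL D.Idx F →* GL D.Idx F := Matrix.GeneralLinearGroup.map σ

/-- The subgroup generated by the root elements with fixed parameters. -/
def ratGroup (D : ChevalleyDatum) (σ : F →+* F) : Subgroup (GL D.Idx F) :=
  Subgroup.closure {g | ∃ (s : ℕ) (t : F), σ t = t ∧ (g : Matrix D.Idx D.Idx F) = D.x F s t}

theorem phiG_eq_self {g : GL D.Idx F} :
    phiG σ D g = g ↔ ∀ i j, σ ((g : Matrix D.Idx D.Idx F) i j) = (g : Matrix D.Idx D.Idx F) i j := by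
  constructor
  · intro h i j
    conv_rhs => rw [← h]
    simp [phiG, Matrix.GeneralLinearGroup.map]
  · intro h
    exact Units.ext (Matrix.ext fun i j => by simpa [phiG, Matrix.GeneralLinearGroup.map] using h i j)

theorem phiG_xG (S : Struct D C) (r : ℕ) (t : F) : phiG σ D (S.ok.xG r t) = S.ok.xG r (σ t) :=
  Units.ext (by
    rw [S.ok.val_xG, ← Ok.map_x D σ r t, ← S.ok.val_xG r t]
    rfl)

theorem phiG_nG (S : Struct D C) (r : ℕ) (t : F) : phiG σ D (S.ok.nG r t) = S.ok.nG r (σ t) := by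
  simp only [Ok.nG, map_mul, phiG_xG σ S, map_neg, map_inv₀]

theorem phiG_nL (S : Struct D C) (L : List (Fin D.rank)) : phiG σ D (S.nL F L) = S.nL F L := by
  simp only [Struct.nL, map_list_prod, List.map_map]
  exact congrArg List.prod (List.map_congr_left fun i _ => by simp [phiG_nG σ S])

theorem nL_mem_rat (S : Struct D C) (L : List (Fin D.rank)) : S.nL F L ∈ ratGroup D σ := by
  refine list_prod_mem fun g hg => ?_
  obtain ⟨i, -, rfl⟩ := List.mem_map.1 hg
  have h : ∀ (r : ℕ) (t : F), σ t = t → S.ok.xG r t ∈ ratGroup D σ := fun r t ht =>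
    Subgroup.subset_closure ⟨r, t, ht, S.ok.val_xG _ _⟩
  exact mul_mem (mul_mem (h _ _ (map_one σ)) (h _ _ (by simp))) (h _ _ (map_one σ))

theorem phiG_mem {X : Subgroup (GL D.Idx F)} {s : Set (GL D.Idx F)} (h : ∀ g ∈ s, phiG σ D g ∈ X)
    {g : GL D.Idx F} (hg : g ∈ Subgroup.closure s) : phiG σ D g ∈ X :=
  (show Subgroup.closure s ≤ X.comap (phiG σ D) from (Subgroup.closure_le _).2 fun x hx => h x hx) hg

theorem phiG_group (S : Struct D C) {g : GL D.Idx F} (hg : g ∈ D.group F) : phiG σ D g ∈ D.group F := by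
  refine phiG_mem σ ?_ hg
  rintro x ⟨r, t, hx⟩
  have hx' : (x : Matrix D.Idx D.Idx F) = D.x F r.val t := by rw [hx]; simp [ChevalleyDatum.x, r.isLt]
  rw [S.ok.eq_xG hx', phiG_xG σ S]
  exact S.ok.xG_mem_group _ _

theorem phiG_pos (S : Struct D C) {g : GL D.Idx F} (hg : g ∈ D.posUnipotent F) :
    phiG σ D g ∈ D.posUnipotent F := by
  refine phiG_mem σ ?_ hg
  rintro x ⟨r, t, hr, hx⟩
  rw [S.ok.eq_xG hx, phiG_xG σ S]
  exact Subgroup.subset_closure ⟨r, σ t, hr, S.ok.val_xG _ _⟩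

theorem phiG_diag (S : Struct D C) {g : GL D.Idx F} (hg : g ∈ D.diagonalSubgroup F) :
    phiG σ D g ∈ D.diagonalSubgroup F := by
  refine phiG_mem σ ?_ hg
  rintro x ⟨r, t, hr, ht, hx⟩
  have e : x = S.ok.hG r t := Units.ext (by rw [hx, S.ok.val_hG])
  refine Subgroup.subset_closure ⟨r, σ t, hr, (map_ne_zero σ).2 ht, ?_⟩
  rw [← S.ok.val_hG r (σ t), e, Ok.hG, map_mul, phiG_nG σ S, phiG_nG σ S, map_neg, map_one]
  rfl

theorem phiG_UPsi (S : Struct D C) {Ψ : Fin D.nroots → Prop} {g : GL D.Idx F} (hg : g ∈ S.UPsi F Ψ) :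
    phiG σ D g ∈ S.UPsi F Ψ := by
  refine phiG_mem σ ?_ hg
  rintro x ⟨r, t, hr, hΨ, rfl⟩
  rw [phiG_xG σ S]
  exact S.mem_UPsi hr hΨ _

theorem mem_rat_of_fixed_U (S : Struct D C) {u : GL D.Idx F} (hu : u ∈ D.posUnipotent F)
    (hf : phiG σ D u = u) : u ∈ ratGroup D σ := by
  have hhs := S.hsum
  obtain ⟨t, rfl⟩ := S.exists_pw (D.nroots - D.nroots / 2) (D.nroots / 2) (by omega) le_rfl u
    (by rw [← S.posUnipotent_eq]; exact hu)
  have e : phiG σ D (S.pw (D.nroots / 2) t) = S.pw (D.nroots / 2) (fun i => σ (t i)) := by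
    simp only [Struct.pw, map_list_prod, List.map_map]
    exact congrArg List.prod (List.map_congr_left fun i _ => phiG_xG σ S i (t i))
  rw [hf] at e
  have ht := S.pw_inj (D.nroots - D.nroots / 2) (D.nroots / 2) (by omega) le_rfl _ _ e
  refine list_prod_mem fun g hg => ?_
  obtain ⟨r, hr, rfl⟩ := List.mem_map.1 hg
  rw [List.mem_range'_1] at hr
  exact Subgroup.subset_closure ⟨r, t r, (ht r hr.1 (by omega)).symm, S.ok.val_xG _ _⟩

/-- Fixed points are rational products times fixed diagonal elements, which normalise the rational group. -/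
theorem fixed_decomp (S : Struct D C) (hN : okNeg D = true) {g : GL D.Idx F} (hg : g ∈ D.group F)
    (hf : phiG σ D g = g) :
    ∃ l ∈ ratGroup D σ, ∃ d ∈ D.diagonalSubgroup F, phiG σ D d = d ∧ g = l * d := by
  obtain ⟨b, hb, n, hn, L, hact, u, hu, rfl⟩ := S.normal_form hN hg
  obtain ⟨L', hact', hiff⟩ := S.exists_act (mul_mem hn (inv_mem (S.nL_mem_mono (F := F) L)))
  have h1 := S.act_mul hact' (S.act_nL (F := F) L)
  rw [inv_mul_cancel_right] at h1
  have hd : n * (S.nL F L)⁻¹ ∈ D.diagonalSubgroup F := hiff.1 (mul_eq_right.1 (S.act_unique h1 hact))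
  have hb₁ : b * (n * (S.nL F L)⁻¹) ∈ D.borelSubgroup F := mul_mem hb (Subgroup.mem_sup_right hd)
  obtain ⟨v, hv, d, hdd, eb⟩ := S.borel_decomp hb₁
  have eg : b * n * u = v * d * S.nL F L * u := by rw [← eb]; group
  rw [eg] at hf ⊢
  rw [map_mul, map_mul, map_mul, phiG_nL] at hf
  obtain ⟨evd, eu⟩ := S.normal_form_unique hN
    (mul_mem (S.B_le_of (phiG_pos σ S hv)) (Subgroup.mem_sup_right (phiG_diag σ S hdd)))
    (mul_mem (S.B_le_of hv) (Subgroup.mem_sup_right hdd)) (S.act_nL L) (phiG_UPsi σ S hu) hu hf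
  have hvd : v⁻¹ * phiG σ D v = d * (phiG σ D d)⁻¹ := by
    rw [eq_mul_inv_iff_mul_eq, mul_assoc, evd, inv_mul_cancel_left]
  have hmem : v⁻¹ * phiG σ D v ∈ D.posUnipotent F ⊓ D.diagonalSubgroup F :=
    Subgroup.mem_inf.2 ⟨mul_mem (inv_mem hv) (phiG_pos σ S hv),
      hvd ▸ mul_mem hdd (inv_mem (phiG_diag σ S hdd))⟩
  rw [S.U_inf_H, Subgroup.mem_bot] at hmem
  have efd : phiG σ D d = d := by rw [hmem] at hvd; exact (mul_inv_eq_one.1 hvd.symm).symm
  have efv : phiG σ D v = v := (inv_mul_eq_one.1 hmem).symm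
  have hin : d * (S.nL F L * u) * d⁻¹ ∈ ratGroup D σ := by
    refine Struct.conj_closure_le ?_ _
      (mul_mem (nL_mem_rat σ S L) (mem_rat_of_fixed_U σ S (S.UPsi_le _ hu) eu))
    rintro x ⟨r, t, ht, hx⟩
    rw [S.ok.eq_xG hx]
    by_cases hr : r < D.nroots
    · obtain ⟨-, c, -, e⟩ := S.act_diag hdd ⟨r, hr⟩
      have e1 := (e t).1
      have e2 := congrArg (phiG σ D) e1
      rw [map_mul, map_mul, map_inv, efd, phiG_xG σ S, ht, e1] at e2
      rw [phiG_xG σ S] at e2
      exact Subgroup.subset_closure ⟨r, c * t, (S.xG_left_inj hr e2).symm, by rw [e1]; exact S.ok.val_xG _ _⟩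
    · have : S.ok.xG r t = 1 := Units.ext (by
        rw [S.ok.val_xG, Units.val_one]; exact dif_neg hr)
      rw [this, mul_one, mul_inv_cancel]
      exact one_mem _
  refine ⟨v * (d * (S.nL F L * u) * d⁻¹), mul_mem (mem_rat_of_fixed_U σ S hv efv) hin, d, hdd, efd, ?_⟩
  group

end Fixed

end Cfsg.Lib.Chev
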