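import Cfsg.Agent.Chev.Datum

/-! The basic relations between root elements, over an arbitrary commutative ring. -/

set_option autoImplicit false

open Cfsg.Lie

namespace Cfsg.Lib.Chev

/-- A verified certificate for a datum. -/
structure Ok (D : ChevalleyDatum) (C : Cert) : Prop where
  tab : C.okTab D = true
  desc : C.okDesc = true
  add : ∀ i < C.l, C.okAdd (C.sr i) = true
  addNeg : ∀ i < C.l, C.okAdd (C.neg (C.sr i)) = true
  nmon : ∀ i < C.l, C.okN i = true
  ninv : ∀ i < C.l, C.okInv i = true
  conj : ∀ i < C.l, C.okConj i = true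
  refl : ∀ i < C.l, C.okRefl D i = true
  wt : ∀ i < C.l, C.okWt i = true
  pos : C.okPos D = true

variable {D : ChevalleyDatum} {C : Cert}

namespace Ok

theorem basics (h : Ok D C) :
    C.l = D.rank ∧ C.n = D.nroots ∧ C.l + C.n ≤ 256 ∧ C.tab = (List.range D.nroots).map (rowTerms D) ∧
      (∀ r < D.nroots, C.neg r = D.negIdx.getD r 0 ∧ C.neg r < D.nroots ∧ C.neg r ≠ r ∧ C.neg (C.neg r) = r) ∧
      (∀ i < D.rank, C.sr i = D.simpleIdx.getD i 0 ∧ C.sr i < D.nroots ∧
        ∀ s < D.nroots, C.cart i s = (D.cartanSR.getD i #[]).getD s 0) ∧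
      ∀ L ∈ C.tab, ∀ e ∈ L, e.r < C.l + C.n ∧ e.c < C.l + C.n := by
  have h0 := h.tab
  simp only [Cert.okTab, Bool.and_eq_true] at h0
  obtain ⟨⟨⟨⟨⟨⟨h1, h2⟩, h3⟩, h4⟩, h5⟩, h6⟩, h7⟩ := h0
  have hl := Nat.eq_of_beq_eq_true h1
  have hn := Nat.eq_of_beq_eq_true h2
  refine ⟨hl, hn, Nat.le_of_ble_eq_true h3, listBeq_eq (fun a b => listBeq_eq fun _ _ => tmBeq_eq) h4,
    fun r hr => ?_, fun i hi => ?_, fun L hL e he => ?_⟩
  · have := kall_krange h5 r (hn ▸ hr)
    simp only [Bool.and_eq_true, Bool.not_eq_true', Nat.blt, Nat.ble_eq] at this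
    obtain ⟨⟨⟨a, b⟩, c⟩, d⟩ := this
    exact ⟨Nat.eq_of_beq_eq_true a, hn ▸ b, Nat.ne_of_beq_eq_false c, Nat.eq_of_beq_eq_true d⟩
  · have := kall_krange h6 i (hl ▸ hi)
    simp only [Bool.and_eq_true, Nat.blt, Nat.ble_eq] at this
    obtain ⟨⟨a, b⟩, c⟩ := this
    exact ⟨Nat.eq_of_beq_eq_true a, hn ▸ b, fun s hs => of_decide_eq_true (kall_krange c s (hn ▸ hs))⟩
  · have := (kall_iff _ _).1 ((kall_iff _ _).1 h7 L hL) e he
    simp only [Bool.and_eq_true, Nat.blt, Nat.ble_eq] at this
    exact this

theorem l_eq (h : Ok D C) : C.l = D.rank := h.basics.1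
theorem n_eq (h : Ok D C) : C.n = D.nroots := h.basics.2.1

theorem row_eq (h : Ok D C) {r : ℕ} (hr : r < D.nroots) : C.row r = rowTerms D r := by
  rw [Cert.row, h.basics.2.2.2.1, List.getD_eq_getElem _ _ (by simpa using hr)]
  simp

theorem neg_eq (h : Ok D C) {r : ℕ} (hr : r < D.nroots) : C.neg r = D.neg r :=
  (h.basics.2.2.2.2.1 r hr).1

theorem neg_lt (h : Ok D C) {r : ℕ} (hr : r < D.nroots) : C.neg r < D.nroots :=
  (h.basics.2.2.2.2.1 r hr).2.1

theorem neg_ne (h : Ok D C) {r : ℕ} (hr : r < D.nroots) : C.neg r ≠ r :=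
  (h.basics.2.2.2.2.1 r hr).2.2.1

theorem neg_neg (h : Ok D C) {r : ℕ} (hr : r < D.nroots) : C.neg (C.neg r) = r :=
  (h.basics.2.2.2.2.1 r hr).2.2.2

theorem sr_eq (h : Ok D C) {i : ℕ} (hi : i < D.rank) : C.sr i = D.simple i :=
  (h.basics.2.2.2.2.2.1 i hi).1

theorem sr_lt (h : Ok D C) {i : ℕ} (hi : i < D.rank) : C.sr i < D.nroots :=
  (h.basics.2.2.2.2.2.1 i hi).2.1

theorem cart_eq (h : Ok D C) {i s : ℕ} (hi : i < D.rank) (hs : s < D.nroots) :
    C.cart i s = D.cartan i s := (h.basics.2.2.2.2.2.1 i hi).2.2 s hs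

theorem row_i_zero (h : Ok D C) {r : ℕ} (hr : r < D.nroots) : ∀ e ∈ C.row r, e.i = 0 := by
  rw [h.row_eq hr]
  intro e he
  simp only [rowTerms, List.mem_filter, List.mem_append, List.mem_map, List.mem_singleton,
    List.mem_flatMap] at he
  rcases he.1 with ((⟨a, -, rfl⟩ | ⟨a, -, rfl⟩) | rfl) | ⟨a, -, ha⟩
  · rfl
  · rfl
  · rfl
  · split_ifs at ha
    · simp at ha
    · obtain ⟨q, -, rfl⟩ := List.mem_map.1 ha; rfl

end Ok

variable {R : Type*} [CommRing R]

variable (R) in
/-- `x_r(u)` over a commutative ring. -/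
def xR (D : ChevalleyDatum) (r : ℕ) (u : R) : Matrix D.Idx D.Idx R :=
  1 + ev D.rank D.nroots 0 u (rowTerms D r)

theorem ev_filter_ne_zero (l n : ℕ) (t u : R) (L : List Tm) :
    ev l n t u (L.filter fun a => a.k != 0) = ev l n t u L := by
  induction L with
  | nil => rfl
  | cons a L ih => by_cases hk : a.k = 0 <;> simp [hk, ih, evT]

theorem chain_entry_sum (L : List (ℕ × Array (ℕ × ℤ))) (l n r nr : ℕ) (u : R) (s : Fin n)
    (x : Fin l ⊕ Fin n) (hs : s.val ≠ r) (hs' : s.val ≠ nr) :
    ev l n 0 u (L.flatMap fun e => if e.1 = r ∨ e.1 = nr then []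
      else e.2.toList.zipIdx.map fun q => mkT (q.2 + 1) (l + q.1.1) (l + e.1) q.1.2) x (Sum.inr s) =
    match x with
    | Sum.inl _ => 0
    | Sum.inr v => ((((L.filter (fun e => e.1 = s.val)).flatMap fun e =>
        ((e.2.toList.zipIdx).filter (fun q => q.1.1 = v.val)).map fun q => (q.2 + 1, q.1.2)) :
          List (ℕ × ℤ)).map fun km => ((km.2 : ℤ) : R) * u ^ km.1).sum := by
  induction L with
  | nil => rcases x with a | v <;> simp
  | cons e L ih =>
    rw [List.flatMap_cons, ev_append, Matrix.add_apply, ih, List.filter_cons]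
    by_cases he : e.1 = s.val
    · rw [if_neg (show ¬(e.1 = r ∨ e.1 = nr) by omega), if_pos (show decide (e.1 = s.val) = true by simpa using he)]
      rw [ev_map_entry, List.map_map]
      simp only [List.flatMap_cons]
      rcases x with a | v
      · simp only [add_zero]
        refine List.sum_eq_zero fun z hz => ?_
        obtain ⟨q, -, rfl⟩ := List.mem_map.1 hz
        simp [mkT, enc]
        intro ha; omega
      · simp only [List.map_append, List.sum_append, List.map_map]
        congr 1
        generalize e.2.toList.zipIdx = Q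
        induction Q with
        | nil => simp
        | cons q Q ihQ =>
          by_cases hq : q.1.1 = v.val
          · simp [mkT, enc, he, hq, ← ihQ]
          · simp [mkT, enc, he, hq, Ne.symm hq, ← ihQ]
    · rw [if_neg (show ¬ (decide (e.1 = s.val) = true) by simpa using he)]
      have h0 : ev l n 0 u (if e.1 = r ∨ e.1 = nr then []
          else e.2.toList.zipIdx.map fun q => mkT (q.2 + 1) (l + q.1.1) (l + e.1) q.1.2)
          x (Sum.inr s) = 0 := by
        split_ifs
        · simp
        · rw [ev_map_entry, List.map_map]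
          refine List.sum_eq_zero fun z hz => ?_
          obtain ⟨q, -, rfl⟩ := List.mem_map.1 hz
          simp [mkT, enc]
          omega
      rw [h0, zero_add]

theorem range_map_sum_ite (m a : ℕ) (f : ℕ → R) :
    ((List.range m).map fun i => if a = i then f i else 0).sum = if a < m then f a else 0 := by
  induction m with
  | zero => simp
  | succ m ih =>
    rw [List.range_succ, List.map_append, List.sum_append, ih]
    simp
    split_ifs <;> first | (subst_vars; omega) | simp_all | omega

theorem ev_col_eq_zero (l n : ℕ) (t u : R) {L : List Tm} {x y : Fin l ⊕ Fin n}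
    (h : ∀ e ∈ L, e.c ≠ enc l n y) : ev l n t u L x y = 0 := by
  rw [ev_map_entry]
  refine List.sum_eq_zero fun z hz => ?_
  obtain ⟨e, he, rfl⟩ := List.mem_map.1 hz
  rw [if_neg fun hh => h e he hh.2.symm]

theorem x_eq_xR {F : Type*} [Field F] {r : ℕ} (hr : r < D.nroots)
    (hne : D.negIdx.getD r 0 ≠ r) (t : F) : D.x F r t = xR F D r t := by
  have hx : D.x F r t = D.xMat F ⟨r, hr⟩ t := by rw [ChevalleyDatum.x, dif_pos hr]
  rw [hx]
  ext x y
  simp only [xR, rowTerms, ev_filter_ne_zero, ev_append, Matrix.add_apply, ChevalleyDatum.xMat,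
    Matrix.of_apply]
  generalize hnr : D.negIdx.getD r 0 = nr at hne ⊢
  generalize (fun i => (D.cartanSR.getD i #[]).getD r 0) = car
  rcases y with i | s
  · have h4 : ev D.rank D.nroots 0 t ((D.chain.getD r #[]).toList.flatMap fun e =>
        if e.1 = r ∨ e.1 = nr then []
        else e.2.toList.zipIdx.map fun q => mkT (q.2 + 1) (D.rank + q.1.1) (D.rank + e.1) q.1.2)
        x (Sum.inl i) = 0 := by
      refine ev_col_eq_zero _ _ _ _ fun e he => ?_
      simp only [List.mem_flatMap] at he
      obtain ⟨a, -, ha⟩ := he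
      split_ifs at ha
      · simp at ha
      · obtain ⟨q, -, rfl⟩ := List.mem_map.1 ha
        simp [mkT, enc]; omega
    rw [h4, add_zero, ev_map_entry, ev_map_entry, ev_map_entry]
    simp only [List.map_map, List.map_cons, List.map_nil, List.sum_cons, List.sum_nil]
    rcases x with a | v
    · simp [mkT, enc, Function.comp_def, Matrix.one_apply,
        show ∀ k : ℕ, i.val ≠ D.rank + k from fun k => by omega,
        show ∀ k : ℕ, a.val ≠ D.rank + k from fun k => by omega]
    · simp [mkT, enc, Function.comp_def, Matrix.one_apply,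
        show ∀ k : ℕ, i.val ≠ D.rank + k from fun k => by omega, Fin.ext_iff]
      by_cases hv : v.val = r
      · simp [hv, range_map_sum_ite]
      · simp [hv]
  · by_cases hsr : s.val = r
    · rw [ev_col_eq_zero, ev_col_eq_zero, ev_col_eq_zero, ev_col_eq_zero]
      · rcases x with a | v <;> simp [Matrix.one_apply, Fin.ext_iff, hsr]
      · intro e he
        simp only [List.mem_flatMap] at he
        obtain ⟨a, -, ha⟩ := he
        split_ifs at ha with h1
        · simp at ha
        · obtain ⟨q, -, rfl⟩ := List.mem_map.1 ha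
          simp [mkT, enc, hsr]; tauto
      · simp [mkT, enc, hsr]; omega
      · simp [mkT, enc, hsr]; intro a _; omega
      · simp [mkT, enc, hsr]; intro a ha; omega
    · by_cases hsn : s.val = nr
      · have hP1 : ev D.rank D.nroots 0 t ((List.range D.rank).map fun i =>
            mkT 1 (D.rank + r) i (-((D.cartanSR.getD i #[]).getD r 0))) x (Sum.inr s) = 0 := by
          refine ev_col_eq_zero _ _ _ _ fun e he => ?_
          obtain ⟨q, hq, rfl⟩ := List.mem_map.1 he
          rw [List.mem_range] at hq
          simp [mkT, enc]; omega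
        have hP2 : ev D.rank D.nroots 0 t ((List.range D.rank).map fun i =>
            mkT 1 i (D.rank + nr) ((D.coroot.getD r #[]).getD i 0)) x (Sum.inr s) =
            Sum.elim (fun a => (((D.coroot.getD r #[]).getD a.val 0 : ℤ) : F) * t) (fun _ => 0) x := by
          rw [ev_map_entry, List.map_map]
          rcases x with a | v
          · have := range_map_sum_ite (R := F) D.rank a.val
              (fun i => (((D.coroot.getD r #[]).getD i 0 : ℤ) : F) * t)
            rw [if_pos a.isLt] at this
            refine Eq.trans ?_ this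
            congr 1
            refine List.map_congr_left fun i _ => ?_
            simp [mkT, enc, hsn]
          · refine List.sum_eq_zero fun z hz => ?_
            obtain ⟨q, hq, rfl⟩ := List.mem_map.1 hz
            rw [List.mem_range] at hq
            simp [mkT, enc]
            omega
        have hP3 : ev D.rank D.nroots 0 t [mkT 2 (D.rank + r) (D.rank + nr) (-1)] x (Sum.inr s) =
            Sum.elim (fun _ => 0) (fun v => if v = (⟨r, hr⟩ : Fin D.nroots) then -t ^ 2 else 0) x := by
          rw [ev_map_entry]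
          rcases x with a | v
          · simp [mkT, enc, show a.val ≠ D.rank + r by omega]
          · simp [mkT, enc, hsn, Fin.ext_iff]
        rw [hP1, hP2, hP3, ev_col_eq_zero]
        · rcases x with a | v
          · simp [hsn, Fin.ext_iff, Matrix.one_apply, hne]
          · simp [hsn, Fin.ext_iff, Matrix.one_apply, hne]
            by_cases hv : v.val = r
            · simp [hv, Ne.symm hne]
            · simp [hv]
        · intro e he
          simp only [List.mem_flatMap] at he
          obtain ⟨a, -, ha⟩ := he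
          split_ifs at ha with h1
          · simp at ha
          · obtain ⟨q, -, rfl⟩ := List.mem_map.1 ha
            simp [mkT, enc, hsn]; tauto
      · rw [chain_entry_sum _ D.rank D.nroots r _ t s x hsr hsn, ev_col_eq_zero, ev_col_eq_zero,
          ev_col_eq_zero]
        · rcases x with a | v <;>
            simp [ChevalleyDatum.chainCoeff, Matrix.one_apply, Fin.ext_iff, hsr, hsn]
        · simp [mkT, enc]; omega
        · simp [mkT, enc]; intro a _; omega
        · simp [mkT, enc]; intro a ha; omega

/-! ### Semantics of the list operations -/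

theorem ev_indep {L : List Tm} (hL : ∀ e ∈ L, e.i = 0) (l n : ℕ) (t u : R) :
    ev l n t u L = ev l n 0 u L := by
  unfold ev
  congr 1
  exact List.map_congr_left fun e he => by simp [evT, hL e he]

theorem ev_inT {L : List Tm} (hL : ∀ e ∈ L, e.i = 0) (l n : ℕ) (t u : R) :
    ev l n t u (Cert.inT L) = ev l n 0 t L := by
  rw [Cert.inT, kmap_eq, ev, ev, List.map_map]
  congr 1
  exact List.map_congr_left fun e he => by simp [evT, hL e he]

theorem ev_scaleU {η : ℤ} (hη : η = 1 ∨ η = -1) (L : List Tm) (l n : ℕ) (t u : R) :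
    ev l n t u (Cert.scaleU η L) = ev l n t ((η : R) * u) L := by
  rcases hη with rfl | rfl
  · simp [Cert.scaleU]
  · simp only [Cert.scaleU, decide_true, kmap_eq, ev, List.map_map]
    congr 1
    refine List.map_congr_left fun e _ => ?_
    simp only [evT, Function.comp_apply, Int.cast_neg, Int.cast_one, neg_one_mul]
    congr 1
    rw [neg_pow]
    cases hb : Nat.beq (Nat.mod e.j 2) 0
    · have : Odd e.j := Nat.odd_iff.2 (by
        have := Nat.ne_of_beq_eq_false hb
        rw [show Nat.mod e.j 2 = e.j % 2 from rfl] at this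
        omega)
      simp [this.neg_one_pow]
    · have : Even e.j := Nat.even_iff.2 (Nat.eq_of_beq_eq_true hb)
      simp [this.neg_one_pow]

theorem ev_sumU {L : List Tm} (hL : ∀ e ∈ L, e.i = 0) (l n : ℕ) (t u : R) :
    ev l n t u (Cert.sumU L) = ev l n 0 (t + u) L := by
  rw [Cert.sumU, kflat_eq]
  induction L with
  | nil => simp
  | cons e L ih =>
    simp only [List.forall_mem_cons] at hL
    rw [List.flatMap_cons, ev_append, ev_cons, ih hL.2, kmap_eq, krange_eq]
    congr 1
    simp only [evT, hL.1, pow_zero, one_mul, add_pow, Finset.mul_sum, Finset.sum_smul, Nat.add_eq]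
    rw [ev, List.map_map, ← List.range_eq_range', Finset.sum_eq_multiset_sum, Finset.range_val,
      ← Multiset.coe_range, Multiset.map_coe, Multiset.sum_coe]
    congr 1
    refine List.map_congr_left fun a _ => ?_
    simp only [evT, Function.comp_apply, Int.cast_mul, Int.cast_natCast, Nat.sub_eq]
    congr 1
    ring

theorem ev_cancel {t u : R} (htu : t * u = 1) (L : List Tm) (l n : ℕ) :
    ev l n t u (Cert.cancel L) = ev l n t u L := by
  rw [Cert.cancel, kmap_eq, ev, ev, List.map_map]
  congr 1
  refine List.map_congr_left fun e _ => ?_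
  simp only [evT, Function.comp_apply, Nat.sub_eq]
  congr 2
  rcases le_total e.i e.j with hh | hh
  · rw [Nat.sub_eq_zero_of_le hh]
    conv_rhs => rw [← Nat.add_sub_cancel' hh, pow_add, ← mul_assoc, ← mul_pow, htu]
    simp
  · rw [Nat.sub_eq_zero_of_le hh]
    conv_rhs => rw [← Nat.add_sub_cancel' hh, pow_add, mul_right_comm, ← mul_pow, htu]
    simp

theorem ev_idL (h : Ok D C) (t u : R) : ev D.rank D.nroots t u C.idL = 1 := by
  ext x y
  rw [ev_map_entry, Cert.idL, kmap_eq, krange_eq, ← List.range_eq_range', List.map_map, h.l_eq, h.n_eq]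
  simp only [Function.comp_def, pow_zero, mul_one, Int.cast_one, Nat.add_eq]
  by_cases hxy : x = y
  · subst hxy
    simp [range_map_sum_ite, enc_lt]
  · rw [Matrix.one_apply_ne hxy]
    refine List.sum_eq_zero fun z hz => ?_
    obtain ⟨a, -, rfl⟩ := List.mem_map.1 hz
    rw [if_neg]
    rintro ⟨h1, h2⟩
    exact hxy (enc_injective _ _ (h1.trans h2.symm))

end Cfsg.Lib.Chev
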