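import Cfsg.Agent.Chev.TabB2
import Cfsg.Agent.Chev.Rel
import Cfsg.Prelude.Def_ChevB2

set_option autoImplicit false

open Cfsg.Lie

namespace Cfsg.Lib.Chev.B2

theorem okTab : cert.okTab chevB2 = true := by decide +kernel
theorem okAdd_5 : cert.okAdd 5 = true := by decide +kernel
theorem okAdd_2 : cert.okAdd 2 = true := by decide +kernel
theorem okAdd_4 : cert.okAdd 4 = true := by decide +kernel
theorem okAdd_3 : cert.okAdd 3 = true := by decide +kernel
theorem okN_0 : cert.okN 0 = true := by decide +kernel
theorem okInv_0 : cert.okInv 0 = true := by decide +kernel
theorem okConj_0 : cert.okConj 0 = true := by decide +kernel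
theorem okWt_0 : cert.okWt 0 = true := by decide +kernel
theorem okRefl_0 : cert.okRefl chevB2 0 = true := by decide +kernel
theorem okN_1 : cert.okN 1 = true := by decide +kernel
theorem okInv_1 : cert.okInv 1 = true := by decide +kernel
theorem okConj_1 : cert.okConj 1 = true := by decide +kernel
theorem okWt_1 : cert.okWt 1 = true := by decide +kernel
theorem okRefl_1 : cert.okRefl chevB2 1 = true := by decide +kernel
theorem okPos : cert.okPos chevB2 = true := by decide +kernel
theorem okDesc : cert.okDesc = true := by decide +kernel

/-- The tables of type B2 are verified. -/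
theorem ok : Ok chevB2 cert where
  tab := okTab
  desc := okDesc
  pos := okPos
  add := fun i hi => by
    replace hi : i < 2 := hi
    interval_cases i
    · exact okAdd_5
    · exact okAdd_4
  addNeg := fun i hi => by
    replace hi : i < 2 := hi
    interval_cases i
    · exact okAdd_2
    · exact okAdd_3
  nmon := fun i hi => by
    replace hi : i < 2 := hi
    interval_cases i
    · exact okN_0
    · exact okN_1
  ninv := fun i hi => by
    replace hi : i < 2 := hi
    interval_cases i
    · exact okInv_0
    · exact okInv_1
  conj := fun i hi => by
    replace hi : i < 2 := hi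
    interval_cases i
    · exact okConj_0
    · exact okConj_1
  refl := fun i hi => by
    replace hi : i < 2 := hi
    interval_cases i
    · exact okRefl_0
    · exact okRefl_1
  wt := fun i hi => by
    replace hi : i < 2 := hi
    interval_cases i
    · exact okWt_0
    · exact okWt_1

end Cfsg.Lib.Chev.B2
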