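import Cfsg.Agent.Chev.TabE6
import Cfsg.Agent.Chev.Rel
import Cfsg.Prelude.Def_ChevE6

set_option autoImplicit false

open Cfsg.Lie

namespace Cfsg.Lib.Chev.E6

theorem okTab : cert.okTab chevE6 = true := by decide +kernel
theorem okAdd_56 : cert.okAdd 56 = true := by decide +kernel
theorem okAdd_15 : cert.okAdd 15 = true := by decide +kernel
theorem okAdd_46 : cert.okAdd 46 = true := by decide +kernel
theorem okAdd_25 : cert.okAdd 25 = true := by decide +kernel
theorem okAdd_42 : cert.okAdd 42 = true := by decide +kernel
theorem okAdd_29 : cert.okAdd 29 = true := by decide +kernel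
theorem okAdd_39 : cert.okAdd 39 = true := by decide +kernel
theorem okAdd_32 : cert.okAdd 32 = true := by decide +kernel
theorem okAdd_37 : cert.okAdd 37 = true := by decide +kernel
theorem okAdd_34 : cert.okAdd 34 = true := by decide +kernel
theorem okAdd_36 : cert.okAdd 36 = true := by decide +kernel
theorem okAdd_35 : cert.okAdd 35 = true := by decide +kernel
theorem okN_0 : cert.okN 0 = true := by decide +kernel
theorem okInv_0 : cert.okInv 0 = true := by decide +kernel
theorem okConj_0 : cert.okConj 0 = true := by decide +kernel
theorem okWt_0 : cert.okWt 0 = true := by decide +kernel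
theorem okRefl_0 : cert.okRefl chevE6 0 = true := by decide +kernel
theorem okN_1 : cert.okN 1 = true := by decide +kernel
theorem okInv_1 : cert.okInv 1 = true := by decide +kernel
theorem okConj_1 : cert.okConj 1 = true := by decide +kernel
theorem okWt_1 : cert.okWt 1 = true := by decide +kernel
theorem okRefl_1 : cert.okRefl chevE6 1 = true := by decide +kernel
theorem okN_2 : cert.okN 2 = true := by decide +kernel
theorem okInv_2 : cert.okInv 2 = true := by decide +kernel
theorem okConj_2 : cert.okConj 2 = true := by decide +kernel
theorem okWt_2 : cert.okWt 2 = true := by decide +kernel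
theorem okRefl_2 : cert.okRefl chevE6 2 = true := by decide +kernel
theorem okN_3 : cert.okN 3 = true := by decide +kernel
theorem okInv_3 : cert.okInv 3 = true := by decide +kernel
theorem okConj_3 : cert.okConj 3 = true := by decide +kernel
theorem okWt_3 : cert.okWt 3 = true := by decide +kernel
theorem okRefl_3 : cert.okRefl chevE6 3 = true := by decide +kernel
theorem okN_4 : cert.okN 4 = true := by decide +kernel
theorem okInv_4 : cert.okInv 4 = true := by decide +kernel
theorem okConj_4 : cert.okConj 4 = true := by decide +kernel
theorem okWt_4 : cert.okWt 4 = true := by decide +kernel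
theorem okRefl_4 : cert.okRefl chevE6 4 = true := by decide +kernel
theorem okN_5 : cert.okN 5 = true := by decide +kernel
theorem okInv_5 : cert.okInv 5 = true := by decide +kernel
theorem okConj_5 : cert.okConj 5 = true := by decide +kernel
theorem okWt_5 : cert.okWt 5 = true := by decide +kernel
theorem okRefl_5 : cert.okRefl chevE6 5 = true := by decide +kernel
theorem okPos : cert.okPos chevE6 = true := by decide +kernel
theorem okDesc : cert.okDesc = true := by decide +kernel

/-- The tables of type E6 are verified. -/
theorem ok : Ok chevE6 cert where
  tab := okTab
  desc := okDesc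
  pos := okPos
  add := fun i hi => by
    replace hi : i < 6 := hi
    interval_cases i
    · exact okAdd_56
    · exact okAdd_46
    · exact okAdd_42
    · exact okAdd_39
    · exact okAdd_37
    · exact okAdd_36
  addNeg := fun i hi => by
    replace hi : i < 6 := hi
    interval_cases i
    · exact okAdd_15
    · exact okAdd_25
    · exact okAdd_29
    · exact okAdd_32
    · exact okAdd_34
    · exact okAdd_35
  nmon := fun i hi => by
    replace hi : i < 6 := hi
    interval_cases i
    · exact okN_0
    · exact okN_1
    · exact okN_2
    · exact okN_3
    · exact okN_4
    · exact okN_5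
  ninv := fun i hi => by
    replace hi : i < 6 := hi
    interval_cases i
    · exact okInv_0
    · exact okInv_1
    · exact okInv_2
    · exact okInv_3
    · exact okInv_4
    · exact okInv_5
  conj := fun i hi => by
    replace hi : i < 6 := hi
    interval_cases i
    · exact okConj_0
    · exact okConj_1
    · exact okConj_2
    · exact okConj_3
    · exact okConj_4
    · exact okConj_5
  refl := fun i hi => by
    replace hi : i < 6 := hi
    interval_cases i
    · exact okRefl_0
    · exact okRefl_1
    · exact okRefl_2
    · exact okRefl_3
    · exact okRefl_4
    · exact okRefl_5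
  wt := fun i hi => by
    replace hi : i < 6 := hi
    interval_cases i
    · exact okWt_0
    · exact okWt_1
    · exact okWt_2
    · exact okWt_3
    · exact okWt_4
    · exact okWt_5

end Cfsg.Lib.Chev.E6
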