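import Cfsg.Agent.Chev.TabE7
import Cfsg.Agent.Chev.Rel
import Cfsg.Prelude.Def_ChevE7

set_option autoImplicit false

open Cfsg.Lie

namespace Cfsg.Lib.Chev.E7

theorem okTab : cert.okTab chevE7 = true := by decide +kernel
theorem okAdd_93 : cert.okAdd 93 = true := by decide +kernel
theorem okAdd_32 : cert.okAdd 32 = true := by decide +kernel
theorem okAdd_78 : cert.okAdd 78 = true := by decide +kernel
theorem okAdd_47 : cert.okAdd 47 = true := by decide +kernel
theorem okAdd_73 : cert.okAdd 73 = true := by decide +kernel
theorem okAdd_52 : cert.okAdd 52 = true := by decide +kernel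
theorem okAdd_69 : cert.okAdd 69 = true := by decide +kernel
theorem okAdd_56 : cert.okAdd 56 = true := by decide +kernel
theorem okAdd_66 : cert.okAdd 66 = true := by decide +kernel
theorem okAdd_59 : cert.okAdd 59 = true := by decide +kernel
theorem okAdd_64 : cert.okAdd 64 = true := by decide +kernel
theorem okAdd_61 : cert.okAdd 61 = true := by decide +kernel
theorem okAdd_63 : cert.okAdd 63 = true := by decide +kernel
theorem okAdd_62 : cert.okAdd 62 = true := by decide +kernel
theorem okN_0 : cert.okN 0 = true := by decide +kernel
theorem okInv_0 : cert.okInv 0 = true := by decide +kernel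
theorem okConj_0 : cert.okConj 0 = true := by decide +kernel
theorem okWt_0 : cert.okWt 0 = true := by decide +kernel
theorem okRefl_0 : cert.okRefl chevE7 0 = true := by decide +kernel
theorem okN_1 : cert.okN 1 = true := by decide +kernel
theorem okInv_1 : cert.okInv 1 = true := by decide +kernel
theorem okConj_1 : cert.okConj 1 = true := by decide +kernel
theorem okWt_1 : cert.okWt 1 = true := by decide +kernel
theorem okRefl_1 : cert.okRefl chevE7 1 = true := by decide +kernel
theorem okN_2 : cert.okN 2 = true := by decide +kernel
theorem okInv_2 : cert.okInv 2 = true := by decide +kernel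
theorem okConj_2 : cert.okConj 2 = true := by decide +kernel
theorem okWt_2 : cert.okWt 2 = true := by decide +kernel
theorem okRefl_2 : cert.okRefl chevE7 2 = true := by decide +kernel
theorem okN_3 : cert.okN 3 = true := by decide +kernel
theorem okInv_3 : cert.okInv 3 = true := by decide +kernel
theorem okConj_3 : cert.okConj 3 = true := by decide +kernel
theorem okWt_3 : cert.okWt 3 = true := by decide +kernel
theorem okRefl_3 : cert.okRefl chevE7 3 = true := by decide +kernel
theorem okN_4 : cert.okN 4 = true := by decide +kernel
theorem okInv_4 : cert.okInv 4 = true := by decide +kernel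
theorem okConj_4 : cert.okConj 4 = true := by decide +kernel
theorem okWt_4 : cert.okWt 4 = true := by decide +kernel
theorem okRefl_4 : cert.okRefl chevE7 4 = true := by decide +kernel
theorem okN_5 : cert.okN 5 = true := by decide +kernel
theorem okInv_5 : cert.okInv 5 = true := by decide +kernel
theorem okConj_5 : cert.okConj 5 = true := by decide +kernel
theorem okWt_5 : cert.okWt 5 = true := by decide +kernel
theorem okRefl_5 : cert.okRefl chevE7 5 = true := by decide +kernel
theorem okN_6 : cert.okN 6 = true := by decide +kernel
theorem okInv_6 : cert.okInv 6 = true := by decide +kernel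
theorem okConj_6 : cert.okConj 6 = true := by decide +kernel
theorem okWt_6 : cert.okWt 6 = true := by decide +kernel
theorem okRefl_6 : cert.okRefl chevE7 6 = true := by decide +kernel
theorem okPos : cert.okPos chevE7 = true := by decide +kernel
theorem okDesc : cert.okDesc = true := by decide +kernel

/-- The tables of type E7 are verified. -/
theorem ok : Ok chevE7 cert where
  tab := okTab
  desc := okDesc
  pos := okPos
  add := fun i hi => by
    replace hi : i < 7 := hi
    interval_cases i
    · exact okAdd_93
    · exact okAdd_78
    · exact okAdd_73
    · exact okAdd_69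
    · exact okAdd_66
    · exact okAdd_64
    · exact okAdd_63
  addNeg := fun i hi => by
    replace hi : i < 7 := hi
    interval_cases i
    · exact okAdd_32
    · exact okAdd_47
    · exact okAdd_52
    · exact okAdd_56
    · exact okAdd_59
    · exact okAdd_61
    · exact okAdd_62
  nmon := fun i hi => by
    replace hi : i < 7 := hi
    interval_cases i
    · exact okN_0
    · exact okN_1
    · exact okN_2
    · exact okN_3
    · exact okN_4
    · exact okN_5
    · exact okN_6
  ninv := fun i hi => by
    replace hi : i < 7 := hi
    interval_cases i
    · exact okInv_0
    · exact okInv_1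
    · exact okInv_2
    · exact okInv_3
    · exact okInv_4
    · exact okInv_5
    · exact okInv_6
  conj := fun i hi => by
    replace hi : i < 7 := hi
    interval_cases i
    · exact okConj_0
    · exact okConj_1
    · exact okConj_2
    · exact okConj_3
    · exact okConj_4
    · exact okConj_5
    · exact okConj_6
  refl := fun i hi => by
    replace hi : i < 7 := hi
    interval_cases i
    · exact okRefl_0
    · exact okRefl_1
    · exact okRefl_2
    · exact okRefl_3
    · exact okRefl_4
    · exact okRefl_5
    · exact okRefl_6
  wt := fun i hi => by
    replace hi : i < 7 := hi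
    interval_cases i
    · exact okWt_0
    · exact okWt_1
    · exact okWt_2
    · exact okWt_3
    · exact okWt_4
    · exact okWt_5
    · exact okWt_6

end Cfsg.Lib.Chev.E7
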