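import Cfsg.Agent.Chev.TabE8
import Cfsg.Agent.Chev.Rel
import Cfsg.Agent.Chev.Chunk
import Cfsg.Prelude.Def_ChevE8

set_option autoImplicit false
set_option Elab.async false

open Cfsg.Lie

namespace Cfsg.Lib.Chev.E8

theorem conjB0_0 : cert.conjBlock 0 0 40 = true := by decide +kernel
theorem conjB0_1 : cert.conjBlock 0 40 40 = true := by decide +kernel
theorem conjB0_2 : cert.conjBlock 0 80 40 = true := by decide +kernel
theorem conjB0_3 : cert.conjBlock 0 120 40 = true := by decide +kernel
theorem conjB0_4 : cert.conjBlock 0 160 40 = true := by decide +kernel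
theorem conjB0_5 : cert.conjBlock 0 200 40 = true := by decide +kernel

theorem okConj_0 : cert.okConj 0 = true := by
  refine cert.okConj_of_blocks 0 40 (by norm_num) fun j hj => ?_
  replace hj : j * 40 < 240 := hj
  have hj' : j < 6 := by omega
  interval_cases j
  · exact conjB0_0
  · exact conjB0_1
  · exact conjB0_2
  · exact conjB0_3
  · exact conjB0_4
  · exact conjB0_5

theorem okWt_0 : cert.okWt 0 = true := by decide +kernel
theorem okRefl_0 : cert.okRefl chevE8 0 = true := by decide +kernel

theorem conjB1_0 : cert.conjBlock 1 0 40 = true := by decide +kernel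
theorem conjB1_1 : cert.conjBlock 1 40 40 = true := by decide +kernel
theorem conjB1_2 : cert.conjBlock 1 80 40 = true := by decide +kernel
theorem conjB1_3 : cert.conjBlock 1 120 40 = true := by decide +kernel
theorem conjB1_4 : cert.conjBlock 1 160 40 = true := by decide +kernel
theorem conjB1_5 : cert.conjBlock 1 200 40 = true := by decide +kernel

theorem okConj_1 : cert.okConj 1 = true := by
  refine cert.okConj_of_blocks 1 40 (by norm_num) fun j hj => ?_
  replace hj : j * 40 < 240 := hj
  have hj' : j < 6 := by omega
  interval_cases j
  · exact conjB1_0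
  · exact conjB1_1
  · exact conjB1_2
  · exact conjB1_3
  · exact conjB1_4
  · exact conjB1_5

theorem okWt_1 : cert.okWt 1 = true := by decide +kernel
theorem okRefl_1 : cert.okRefl chevE8 1 = true := by decide +kernel

end Cfsg.Lib.Chev.E8
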