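import Cfsg.Agent.Chev.TabE8
import Cfsg.Agent.Chev.Rel
import Cfsg.Agent.Chev.Chunk
import Cfsg.Prelude.Def_ChevE8

set_option autoImplicit false
set_option Elab.async false

open Cfsg.Lie

namespace Cfsg.Lib.Chev.E8

theorem conjB2_0 : cert.conjBlock 2 0 40 = true := by decide +kernel
theorem conjB2_1 : cert.conjBlock 2 40 40 = true := by decide +kernel
theorem conjB2_2 : cert.conjBlock 2 80 40 = true := by decide +kernel
theorem conjB2_3 : cert.conjBlock 2 120 40 = true := by decide +kernel
theorem conjB2_4 : cert.conjBlock 2 160 40 = true := by decide +kernel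
theorem conjB2_5 : cert.conjBlock 2 200 40 = true := by decide +kernel

theorem okConj_2 : cert.okConj 2 = true := by
  refine cert.okConj_of_blocks 2 40 (by norm_num) fun j hj => ?_
  replace hj : j * 40 < 240 := hj
  have hj' : j < 6 := by omega
  interval_cases j
  · exact conjB2_0
  · exact conjB2_1
  · exact conjB2_2
  · exact conjB2_3
  · exact conjB2_4
  · exact conjB2_5

theorem okWt_2 : cert.okWt 2 = true := by decide +kernel
theorem okRefl_2 : cert.okRefl chevE8 2 = true := by decide +kernel

theorem conjB3_0 : cert.conjBlock 3 0 40 = true := by decide +kernel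
theorem conjB3_1 : cert.conjBlock 3 40 40 = true := by decide +kernel
theorem conjB3_2 : cert.conjBlock 3 80 40 = true := by decide +kernel
theorem conjB3_3 : cert.conjBlock 3 120 40 = true := by decide +kernel
theorem conjB3_4 : cert.conjBlock 3 160 40 = true := by decide +kernel
theorem conjB3_5 : cert.conjBlock 3 200 40 = true := by decide +kernel

theorem okConj_3 : cert.okConj 3 = true := by
  refine cert.okConj_of_blocks 3 40 (by norm_num) fun j hj => ?_
  replace hj : j * 40 < 240 := hj
  have hj' : j < 6 := by omega
  interval_cases j
  · exact conjB3_0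
  · exact conjB3_1
  · exact conjB3_2
  · exact conjB3_3
  · exact conjB3_4
  · exact conjB3_5

theorem okWt_3 : cert.okWt 3 = true := by decide +kernel
theorem okRefl_3 : cert.okRefl chevE8 3 = true := by decide +kernel

end Cfsg.Lib.Chev.E8
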