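import Cfsg.Agent.Chev.TabE8
import Cfsg.Agent.Chev.Rel
import Cfsg.Agent.Chev.Chunk
import Cfsg.Prelude.Def_ChevE8

set_option autoImplicit false
set_option Elab.async false

open Cfsg.Lie

namespace Cfsg.Lib.Chev.E8

theorem conjB4_0 : cert.conjBlock 4 0 40 = true := by decide +kernel
theorem conjB4_1 : cert.conjBlock 4 40 40 = true := by decide +kernel
theorem conjB4_2 : cert.conjBlock 4 80 40 = true := by decide +kernel
theorem conjB4_3 : cert.conjBlock 4 120 40 = true := by decide +kernel
theorem conjB4_4 : cert.conjBlock 4 160 40 = true := by decide +kernel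
theorem conjB4_5 : cert.conjBlock 4 200 40 = true := by decide +kernel

theorem okConj_4 : cert.okConj 4 = true := by
  refine cert.okConj_of_blocks 4 40 (by norm_num) fun j hj => ?_
  replace hj : j * 40 < 240 := hj
  have hj' : j < 6 := by omega
  interval_cases j
  · exact conjB4_0
  · exact conjB4_1
  · exact conjB4_2
  · exact conjB4_3
  · exact conjB4_4
  · exact conjB4_5

theorem okWt_4 : cert.okWt 4 = true := by decide +kernel
theorem okRefl_4 : cert.okRefl chevE8 4 = true := by decide +kernel

theorem conjB5_0 : cert.conjBlock 5 0 40 = true := by decide +kernel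
theorem conjB5_1 : cert.conjBlock 5 40 40 = true := by decide +kernel
theorem conjB5_2 : cert.conjBlock 5 80 40 = true := by decide +kernel
theorem conjB5_3 : cert.conjBlock 5 120 40 = true := by decide +kernel
theorem conjB5_4 : cert.conjBlock 5 160 40 = true := by decide +kernel
theorem conjB5_5 : cert.conjBlock 5 200 40 = true := by decide +kernel

theorem okConj_5 : cert.okConj 5 = true := by
  refine cert.okConj_of_blocks 5 40 (by norm_num) fun j hj => ?_
  replace hj : j * 40 < 240 := hj
  have hj' : j < 6 := by omega
  interval_cases j
  · exact conjB5_0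
  · exact conjB5_1
  · exact conjB5_2
  · exact conjB5_3
  · exact conjB5_4
  · exact conjB5_5

theorem okWt_5 : cert.okWt 5 = true := by decide +kernel
theorem okRefl_5 : cert.okRefl chevE8 5 = true := by decide +kernel

end Cfsg.Lib.Chev.E8
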