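import Cfsg.Agent.Chev.TabE8
import Cfsg.Agent.Chev.Rel
import Cfsg.Agent.Chev.Chunk
import Cfsg.Prelude.Def_ChevE8

set_option autoImplicit false
set_option Elab.async false

open Cfsg.Lie

namespace Cfsg.Lib.Chev.E8

theorem conjB6_0 : cert.conjBlock 6 0 40 = true := by decide +kernel
theorem conjB6_1 : cert.conjBlock 6 40 40 = true := by decide +kernel
theorem conjB6_2 : cert.conjBlock 6 80 40 = true := by decide +kernel
theorem conjB6_3 : cert.conjBlock 6 120 40 = true := by decide +kernel
theorem conjB6_4 : cert.conjBlock 6 160 40 = true := by decide +kernel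
theorem conjB6_5 : cert.conjBlock 6 200 40 = true := by decide +kernel

theorem okConj_6 : cert.okConj 6 = true := by
  refine cert.okConj_of_blocks 6 40 (by norm_num) fun j hj => ?_
  replace hj : j * 40 < 240 := hj
  have hj' : j < 6 := by omega
  interval_cases j
  · exact conjB6_0
  · exact conjB6_1
  · exact conjB6_2
  · exact conjB6_3
  · exact conjB6_4
  · exact conjB6_5

theorem okWt_6 : cert.okWt 6 = true := by decide +kernel
theorem okRefl_6 : cert.okRefl chevE8 6 = true := by decide +kernel

theorem conjB7_0 : cert.conjBlock 7 0 40 = true := by decide +kernel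
theorem conjB7_1 : cert.conjBlock 7 40 40 = true := by decide +kernel
theorem conjB7_2 : cert.conjBlock 7 80 40 = true := by decide +kernel
theorem conjB7_3 : cert.conjBlock 7 120 40 = true := by decide +kernel
theorem conjB7_4 : cert.conjBlock 7 160 40 = true := by decide +kernel
theorem conjB7_5 : cert.conjBlock 7 200 40 = true := by decide +kernel

theorem okConj_7 : cert.okConj 7 = true := by
  refine cert.okConj_of_blocks 7 40 (by norm_num) fun j hj => ?_
  replace hj : j * 40 < 240 := hj
  have hj' : j < 6 := by omega
  interval_cases j
  · exact conjB7_0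
  · exact conjB7_1
  · exact conjB7_2
  · exact conjB7_3
  · exact conjB7_4
  · exact conjB7_5

theorem okWt_7 : cert.okWt 7 = true := by decide +kernel
theorem okRefl_7 : cert.okRefl chevE8 7 = true := by decide +kernel

end Cfsg.Lib.Chev.E8
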