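import Cfsg.Agent.Chev.ChkE8a
import Cfsg.Agent.Chev.ChkE8b
import Cfsg.Agent.Chev.ChkE8c
import Cfsg.Agent.Chev.ChkE8d
import Cfsg.Agent.Chev.ChkE8e

set_option autoImplicit false

open Cfsg.Lie

namespace Cfsg.Lib.Chev.E8

/-- The tables of type E8 are verified. -/
theorem ok : Ok chevE8 cert where
  tab := okTab
  desc := okDesc
  pos := okPos
  add := fun i hi => by
    replace hi : i < 8 := hi
    interval_cases i
    · exact okAdd_162
    · exact okAdd_141
    · exact okAdd_135
    · exact okAdd_130
    · exact okAdd_126
    · exact okAdd_123
    · exact okAdd_121
    · exact okAdd_120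
  addNeg := fun i hi => by
    replace hi : i < 8 := hi
    interval_cases i
    · exact okAdd_77
    · exact okAdd_98
    · exact okAdd_104
    · exact okAdd_109
    · exact okAdd_113
    · exact okAdd_116
    · exact okAdd_118
    · exact okAdd_119
  nmon := fun i hi => by
    replace hi : i < 8 := hi
    interval_cases i
    · exact okN_0
    · exact okN_1
    · exact okN_2
    · exact okN_3
    · exact okN_4
    · exact okN_5
    · exact okN_6
    · exact okN_7
  ninv := fun i hi => by
    replace hi : i < 8 := hi
    interval_cases i
    · exact okInv_0
    · exact okInv_1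
    · exact okInv_2
    · exact okInv_3
    · exact okInv_4
    · exact okInv_5
    · exact okInv_6
    · exact okInv_7
  conj := fun i hi => by
    replace hi : i < 8 := hi
    interval_cases i
    · exact okConj_0
    · exact okConj_1
    · exact okConj_2
    · exact okConj_3
    · exact okConj_4
    · exact okConj_5
    · exact okConj_6
    · exact okConj_7
  refl := fun i hi => by
    replace hi : i < 8 := hi
    interval_cases i
    · exact okRefl_0
    · exact okRefl_1
    · exact okRefl_2
    · exact okRefl_3
    · exact okRefl_4
    · exact okRefl_5
    · exact okRefl_6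
    · exact okRefl_7
  wt := fun i hi => by
    replace hi : i < 8 := hi
    interval_cases i
    · exact okWt_0
    · exact okWt_1
    · exact okWt_2
    · exact okWt_3
    · exact okWt_4
    · exact okWt_5
    · exact okWt_6
    · exact okWt_7

end Cfsg.Lib.Chev.E8
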