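import Cfsg.Agent.Chev.TabF4
import Cfsg.Agent.Chev.Rel
import Cfsg.Prelude.Def_ChevF4

set_option autoImplicit false

open Cfsg.Lie

namespace Cfsg.Lib.Chev.F4

theorem okTab : cert.okTab chevF4 = true := by decide +kernel
theorem okAdd_33 : cert.okAdd 33 = true := by decide +kernel
theorem okAdd_14 : cert.okAdd 14 = true := by decide +kernel
theorem okAdd_27 : cert.okAdd 27 = true := by decide +kernel
theorem okAdd_20 : cert.okAdd 20 = true := by decide +kernel
theorem okAdd_25 : cert.okAdd 25 = true := by decide +kernel
theorem okAdd_22 : cert.okAdd 22 = true := by decide +kernel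
theorem okAdd_24 : cert.okAdd 24 = true := by decide +kernel
theorem okAdd_23 : cert.okAdd 23 = true := by decide +kernel
theorem okN_0 : cert.okN 0 = true := by decide +kernel
theorem okInv_0 : cert.okInv 0 = true := by decide +kernel
theorem okConj_0 : cert.okConj 0 = true := by decide +kernel
theorem okWt_0 : cert.okWt 0 = true := by decide +kernel
theorem okRefl_0 : cert.okRefl chevF4 0 = true := by decide +kernel
theorem okN_1 : cert.okN 1 = true := by decide +kernel
theorem okInv_1 : cert.okInv 1 = true := by decide +kernel
theorem okConj_1 : cert.okConj 1 = true := by decide +kernel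
theorem okWt_1 : cert.okWt 1 = true := by decide +kernel
theorem okRefl_1 : cert.okRefl chevF4 1 = true := by decide +kernel
theorem okN_2 : cert.okN 2 = true := by decide +kernel
theorem okInv_2 : cert.okInv 2 = true := by decide +kernel
theorem okConj_2 : cert.okConj 2 = true := by decide +kernel
theorem okWt_2 : cert.okWt 2 = true := by decide +kernel
theorem okRefl_2 : cert.okRefl chevF4 2 = true := by decide +kernel
theorem okN_3 : cert.okN 3 = true := by decide +kernel
theorem okInv_3 : cert.okInv 3 = true := by decide +kernel
theorem okConj_3 : cert.okConj 3 = true := by decide +kernel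
theorem okWt_3 : cert.okWt 3 = true := by decide +kernel
theorem okRefl_3 : cert.okRefl chevF4 3 = true := by decide +kernel
theorem okPos : cert.okPos chevF4 = true := by decide +kernel
theorem okDesc : cert.okDesc = true := by decide +kernel

/-- The tables of type F4 are verified. -/
theorem ok : Ok chevF4 cert where
  tab := okTab
  desc := okDesc
  pos := okPos
  add := fun i hi => by
    replace hi : i < 4 := hi
    interval_cases i
    · exact okAdd_33
    · exact okAdd_27
    · exact okAdd_25
    · exact okAdd_24
  addNeg := fun i hi => by
    replace hi : i < 4 := hi
    interval_cases i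
    · exact okAdd_14
    · exact okAdd_20
    · exact okAdd_22
    · exact okAdd_23
  nmon := fun i hi => by
    replace hi : i < 4 := hi
    interval_cases i
    · exact okN_0
    · exact okN_1
    · exact okN_2
    · exact okN_3
  ninv := fun i hi => by
    replace hi : i < 4 := hi
    interval_cases i
    · exact okInv_0
    · exact okInv_1
    · exact okInv_2
    · exact okInv_3
  conj := fun i hi => by
    replace hi : i < 4 := hi
    interval_cases i
    · exact okConj_0
    · exact okConj_1
    · exact okConj_2
    · exact okConj_3
  refl := fun i hi => by
    replace hi : i < 4 := hi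
    interval_cases i
    · exact okRefl_0
    · exact okRefl_1
    · exact okRefl_2
    · exact okRefl_3
  wt := fun i hi => by
    replace hi : i < 4 := hi
    interval_cases i
    · exact okWt_0
    · exact okWt_1
    · exact okWt_2
    · exact okWt_3

end Cfsg.Lib.Chev.F4
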