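import Cfsg.Agent.Chev.GLRel
import Cfsg.Agent.Chev.ChkG2
import Cfsg.Agent.Chev.ChkB2
import Cfsg.Agent.Chev.ChkD4
import Cfsg.Agent.Chev.ChkF4
import Cfsg.Agent.Chev.ChkE6
import Cfsg.Agent.Chev.ChkE7
import Cfsg.Agent.Chev.ChkE8

/-! The seven tabulated data are verified. -/

set_option autoImplicit false

open Cfsg.Lie

namespace Cfsg.Lib.Chev

theorem good_of_mem {D : ChevalleyDatum}
    (hD : D ∈ [chevG2, chevB2, chevD4, chevF4, chevE6, chevE7, chevE8]) : Good D := by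
  simp only [List.mem_cons, List.not_mem_nil, or_false] at hD
  rcases hD with rfl | rfl | rfl | rfl | rfl | rfl | rfl
  exacts [⟨_, G2.ok⟩, ⟨_, B2.ok⟩, ⟨_, D4.ok⟩, ⟨_, F4.ok⟩, ⟨_, E6.ok⟩, ⟨_, E7.ok⟩, ⟨_, E8.ok⟩]

end Cfsg.Lib.Chev
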