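import Cfsg.Agent.Chev.Weyl
import Cfsg.Agent.BN.Extra

/-! The Borel subgroup, the Tits system of the Chevalley group. -/

set_option autoImplicit false

open Cfsg.Lie

namespace Cfsg.Lib.Chev

variable {D : ChevalleyDatum} {C : Cert} {F : Type*} [Field F]

namespace Struct

theorem diag_normalises_U (S : Struct D C) :
    D.diagonalSubgroup F ≤ Subgroup.normalizer (D.posUnipotent F : Set (GL D.Idx F)) := by
  have key : ∀ g ∈ D.diagonalSubgroup F, ∀ u ∈ D.posUnipotent F, g * u * g⁻¹ ∈ D.posUnipotent F := by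
    intro g hg u hu
    have hle : D.posUnipotent F ≤ (D.posUnipotent F).comap (MulAut.conj g).toMonoidHom := by
      refine (Subgroup.closure_le _).2 ?_
      rintro x ⟨r, t, hr, hx⟩
      obtain ⟨a, b⟩ := S.isPos_iff.1 hr
      rw [S.ok.eq_xG hx]
      show g * S.ok.xG r t * g⁻¹ ∈ D.posUnipotent F
      obtain ⟨-, c, -, e⟩ := S.act_diag hg ⟨r, b⟩
      rw [(e t).1]
      exact Subgroup.subset_closure ⟨r, _, hr, S.ok.val_xG _ _⟩
    exact hle hu
  intro g hg
  rw [Subgroup.mem_normalizer_iff]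
  refine fun x => ⟨key g hg x, fun hx => ?_⟩
  have := key g⁻¹ (inv_mem hg) _ hx
  simpa [mul_assoc] using this

theorem borel_decomp (S : Struct D C) {b : GL D.Idx F} (hb : b ∈ D.borelSubgroup F) :
    ∃ u ∈ D.posUnipotent F, ∃ d ∈ D.diagonalSubgroup F, b = u * d := by
  have h1 : b ∈ ((D.posUnipotent F ⊔ D.diagonalSubgroup F : Subgroup (GL D.Idx F)) : Set (GL D.Idx F)) := hb
  rw [Subgroup.coe_mul_of_right_le_normalizer_left _ _ S.diag_normalises_U] at h1
  obtain ⟨u, hu, d, hd, rfl⟩ := Set.mem_mul.1 h1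
  exact ⟨u, hu, d, hd, rfl⟩

theorem diag_apply_ne (S : Struct D C) {d : GL D.Idx F} (hd : d ∈ D.diagonalSubgroup F) {x y : D.Idx}
    (hne : x ≠ y) : (d : Matrix D.Idx D.Idx F) x y = 0 := by
  rw [S.ok.diagonalSubgroup_eq] at hd
  obtain ⟨c, rfl⟩ := hd
  rw [Ok.tG_val, Matrix.diagonal_apply_ne _ hne]

theorem borel_apply (S : Struct D C) {b : GL D.Idx F} (hb : b ∈ D.borelSubgroup F) {x y : D.Idx}
    (hxy : ukey D x ≤ ukey D y) (hne : x ≠ y) : (b : Matrix D.Idx D.Idx F) x y = 0 := by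
  obtain ⟨u, hu, d, hd, rfl⟩ := S.borel_decomp hb
  rw [Units.val_mul, Matrix.mul_apply, Finset.sum_eq_single y]
  · have := S.low_of_mem hu x y hxy
    rw [Matrix.sub_apply, Matrix.one_apply_ne hne, sub_zero] at this
    rw [this, zero_mul]
  · intro z _ hz
    rw [S.diag_apply_ne hd hz, mul_zero]
  · simp

theorem U_inf_H (S : Struct D C) : D.posUnipotent F ⊓ D.diagonalSubgroup F = ⊥ := by
  refine eq_bot_iff.2 fun g hg => ?_
  obtain ⟨hu, hd⟩ := Subgroup.mem_inf.1 hg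
  rw [Subgroup.mem_bot]
  apply Units.ext
  ext x y
  rw [Units.val_one]
  rcases eq_or_ne x y with rfl | hne
  · have := S.low_of_mem hu x x le_rfl
    rw [Matrix.sub_apply, sub_eq_zero] at this
    exact this
  · rw [S.diag_apply_ne hd hne, Matrix.one_apply_ne hne]

theorem U_inf_N (S : Struct D C) : D.posUnipotent F ⊓ D.monomialSubgroup F = ⊥ := by
  refine eq_bot_iff.2 fun g hg => ?_
  obtain ⟨hu, hn⟩ := Subgroup.mem_inf.1 hg
  obtain ⟨L, hact, hiff⟩ := S.exists_act hn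
  have hw : S.wpL L = 1 := by
    refine Equiv.ext fun r => ?_
    by_contra hne
    rw [Equiv.Perm.one_apply] at hne
    have h1 := (hact r).1 (Sum.inr r) (fun e => hne (Sum.inr.inj e).symm)
    have h2 := S.low_of_mem hu (Sum.inr r) (Sum.inr r) le_rfl
    rw [Matrix.sub_apply, Matrix.one_apply_eq, h1, zero_sub, neg_eq_zero] at h2
    exact one_ne_zero h2
  rw [← S.U_inf_H]
  exact Subgroup.mem_inf.2 ⟨hu, hiff.1 hw⟩

theorem B_inf_N (S : Struct D C) : D.borelSubgroup F ⊓ D.monomialSubgroup F = D.diagonalSubgroup F := by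
  refine le_antisymm (fun g hg => ?_) (le_inf le_sup_right le_sup_left)
  obtain ⟨hb, hn⟩ := Subgroup.mem_inf.1 hg
  obtain ⟨u, hu, d, hd, rfl⟩ := S.borel_decomp hb
  have hu' : u ∈ D.posUnipotent F ⊓ D.monomialSubgroup F := by
    refine Subgroup.mem_inf.2 ⟨hu, ?_⟩
    have := mul_mem hn (inv_mem ((le_sup_left : D.diagonalSubgroup F ≤ D.monomialSubgroup F) hd))
    simpa using this
  rw [S.U_inf_N, Subgroup.mem_bot] at hu'
  rw [hu', one_mul]
  exact hd

/-- The positive root subgroups other than that of a fundamental root. -/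
noncomputable def Ui (S : Struct D C) (F : Type*) [Field F] (i : Fin D.rank) : Subgroup (GL D.Idx F) :=
  Subgroup.closure {g | ∃ (r : ℕ) (t : F), D.nroots / 2 ≤ r ∧ r < D.nroots ∧ r ≠ C.sr i ∧ g = S.ok.xG r t}

theorem xG_mem_U (S : Struct D C) {r : ℕ} (h1 : D.nroots / 2 ≤ r) (h2 : r < D.nroots) (t : F) :
    S.ok.xG r t ∈ D.posUnipotent F :=
  Subgroup.subset_closure ⟨r, t, S.isPos_iff.2 ⟨h1, h2⟩, S.ok.val_xG _ _⟩

theorem U_le_xHom_sup_Ui (S : Struct D C) (i : Fin D.rank) :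
    D.posUnipotent F ≤ S.Ui F i ⊔ (S.xHom F (C.sr i)).range := by
  refine (Subgroup.closure_le _).2 ?_
  rintro g ⟨r, t, hr, hg⟩
  obtain ⟨a, b⟩ := S.isPos_iff.1 hr
  rw [S.ok.eq_xG hg]
  by_cases he : r = C.sr i
  · exact Subgroup.mem_sup_right ⟨Multiplicative.ofAdd t, by rw [he]; rfl⟩
  · exact Subgroup.mem_sup_left (Subgroup.subset_closure ⟨r, t, a, b, he, rfl⟩)

theorem X_normalises_Ui (S : Struct D C) (i : Fin D.rank) :
    (S.xHom F (C.sr i)).range ≤ Subgroup.normalizer (S.Ui F i : Set (GL D.Idx F)) := by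
  have hp := S.sr_pos i.isLt
  have hp' := S.ok.sr_lt i.isLt
  have key : ∀ (t : F), ∀ u ∈ S.Ui F i, S.ok.xG (C.sr i) t * u * (S.ok.xG (C.sr i) t)⁻¹ ∈ S.Ui F i := by
    intro t u hu
    have hle : S.Ui F i ≤ (S.Ui F i).comap (MulAut.conj (S.ok.xG (C.sr i) t)).toMonoidHom := by
      refine (Subgroup.closure_le _).2 ?_
      rintro x ⟨r, s, a, b, hne, rfl⟩
      obtain ⟨w, hw, e⟩ := S.conj_xG hp' b hp a t s
      show S.ok.xG (C.sr i) t * S.ok.xG r s * (S.ok.xG (C.sr i) t)⁻¹ ∈ S.Ui F i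
      rw [e]
      refine mul_mem (Subgroup.subset_closure ⟨r, s, a, b, hne, rfl⟩) ?_
      have hsub : S.Ugen F (max (C.sr i) r + 1) ≤ S.Ui F i := by
        refine (Subgroup.closure_le _).2 ?_
        rintro y ⟨q, v, hq, hq', rfl⟩
        exact Subgroup.subset_closure ⟨q, v, by omega, hq', by omega, rfl⟩
      exact hsub hw
    exact hle hu
  rintro g ⟨a, rfl⟩
  rw [Subgroup.mem_normalizer_iff]
  refine fun x => ⟨key a.toAdd x, fun hx => ?_⟩
  have h2 := key (-a.toAdd) _ hx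
  rw [← S.ok.xG_inv, inv_inv] at h2
  change (S.ok.xG (C.sr i) a.toAdd)⁻¹ * (S.ok.xG (C.sr i) a.toAdd * x * (S.ok.xG (C.sr i) a.toAdd)⁻¹) *
    S.ok.xG (C.sr i) a.toAdd ∈ S.Ui F i at h2
  convert h2 using 1
  group

theorem U_split (S : Struct D C) (i : Fin D.rank) {u : GL D.Idx F} (hu : u ∈ D.posUnipotent F) :
    ∃ u' ∈ S.Ui F i, ∃ t : F, u = u' * S.ok.xG (C.sr i) t := by
  have h1 : u ∈ ((S.Ui F i ⊔ (S.xHom F (C.sr i)).range : Subgroup (GL D.Idx F)) : Set (GL D.Idx F)) :=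
    S.U_le_xHom_sup_Ui i hu
  rw [Subgroup.coe_mul_of_right_le_normalizer_left _ _ (S.X_normalises_Ui i)] at h1
  obtain ⟨u', hu', x, ⟨a, rfl⟩, rfl⟩ := Set.mem_mul.1 h1
  exact ⟨u', hu', a.toAdd, rfl⟩

theorem nG_conj_Ui (S : Struct D C) (i : Fin D.rank) {u : GL D.Idx F} (hu : u ∈ S.Ui F i) :
    S.ok.nG (D.simple i) 1 * u * (S.ok.nG (D.simple i) 1)⁻¹ ∈ D.posUnipotent F := by
  have hle : S.Ui F i ≤ (D.posUnipotent F).comap (MulAut.conj (S.ok.nG (D.simple i) (1 : F))).toMonoidHom := by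
    refine (Subgroup.closure_le _).2 ?_
    rintro x ⟨r, s, a, b, hne, rfl⟩
    show S.ok.nG (D.simple i) 1 * S.ok.xG r s * (S.ok.nG (D.simple i) 1)⁻¹ ∈ D.posUnipotent F
    rw [S.ok.conj_nG_xG i.isLt b]
    exact S.xG_mem_U (S.pos_w i.isLt a b hne) (S.ok.w_lt i.isLt b) _
  exact hle hu

theorem neg_pos (S : Struct D C) {r : ℕ} (hr : r < D.nroots / 2) :
    D.nroots / 2 ≤ D.neg r ∧ D.neg r < D.nroots ∧ D.neg (D.neg r) = r := by
  have hs := S.hsum
  have hr' : r < D.nroots := by omega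
  have h1 := (S.order_row hr').1
  have h2 := (S.order_row (show D.neg r < D.nroots by omega)).1
  exact ⟨by omega, by omega, by omega⟩

theorem B_le_of (S : Struct D C) {u : GL D.Idx F} (hu : u ∈ D.posUnipotent F) : u ∈ D.borelSubgroup F :=
  Subgroup.mem_sup_left hu

theorem bn_axiom (S : Struct D C) (i : Fin D.rank) {n b : GL D.Idx F} (hn : n ∈ D.monomialSubgroup F)
    (hb : b ∈ D.borelSubgroup F) :
    ∃ a ∈ D.borelSubgroup F, ∃ c ∈ D.borelSubgroup F,
      S.ok.nG (D.simple i) 1 * b * n = a * (S.ok.nG (D.simple i) 1 * n) * c ∨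
      S.ok.nG (D.simple i) 1 * b * n = a * n * c := by
  set s := S.ok.nG (D.simple i) (1 : F) with hsdef
  obtain ⟨u, hu, d, hd, rfl⟩ := S.borel_decomp hb
  obtain ⟨u', hu', t, rfl⟩ := S.U_split i hu
  have hd' : n⁻¹ * d * n ∈ D.borelSubgroup F := by
    have := S.norm_diag (inv_mem hn) hd
    rw [inv_inv] at this
    exact Subgroup.mem_sup_right this
  have hsu : s * u' * s⁻¹ ∈ D.borelSubgroup F := S.B_le_of (S.nG_conj_Ui i hu')
  obtain ⟨L, hact, -⟩ := S.exists_act (inv_mem hn)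
  obtain ⟨-, c, hc, e⟩ := hact (S.sp i)
  have e1 := (e t).1
  rw [inv_inv, show (S.sp i).val = C.sr i.val from rfl] at e1
  by_cases hr : D.nroots / 2 ≤ (S.wpL L (S.sp i)).val
  · refine ⟨s * u' * s⁻¹, hsu, n⁻¹ * S.ok.xG (C.sr i) t * n * (n⁻¹ * d * n),
      mul_mem ?_ hd', Or.inl (by group)⟩
    rw [e1]
    exact S.B_le_of (S.xG_mem_U hr (Fin.isLt _) _)
  rcases eq_or_ne t 0 with rfl | ht
  · refine ⟨s * u' * s⁻¹, hsu, n⁻¹ * d * n, hd', Or.inl ?_⟩
    have hx0 : S.ok.xG (C.sr i) (0 : F) = 1 :=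
      Units.ext (by rw [S.ok.val_xG, S.ok.x_zero, Units.val_one])
    rw [hx0]
    group
  have hsr := S.ok.sr_eq i.isLt
  have hp' := S.ok.sr_lt i.isLt
  set a : F := (C.eta i (C.sr i) : F) * t with hadef
  have ha : a ≠ 0 := mul_ne_zero (Ok.eta_ne_zero C i _) ht
  have hy : s * S.ok.xG (C.sr i) t = S.ok.xG (D.neg (D.simple i)) a * s := by
    rw [hsdef, S.ok.nG_mul_xG i.isLt hp', (S.ok.refl_simple i.isLt).1, S.ok.neg_eq hp', hsr]
    congr 2
    rw [hadef, hsr]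
  have hy2 : S.ok.xG (D.neg (D.simple i)) a = S.ok.xG (D.simple i) a⁻¹ *
      (S.ok.hG (D.simple i) (-a⁻¹) * s) * S.ok.xG (D.simple i) a⁻¹ := by
    have hn1 : S.ok.nG (D.simple i) (-a⁻¹) =
        S.ok.xG (D.simple i) (-a⁻¹) * S.ok.xG (D.neg (D.simple i)) (-(-a⁻¹)⁻¹) *
          S.ok.xG (D.simple i) (-a⁻¹) := rfl
    rw [hsdef, ← S.ok.nG_eq_hG_mul i.isLt (neg_ne_zero.2 (inv_ne_zero ha)), hn1,
      show (-(-a⁻¹)⁻¹ : F) = a by simp [inv_neg], ← S.ok.xG_inv]
    group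
  have hq : ∃ q, s⁻¹ * S.ok.xG (D.simple i) a⁻¹ * s = S.ok.xG (D.neg (D.simple i)) q := by
    refine ⟨(C.eta i (D.neg (D.simple i)) : F) * a⁻¹, ?_⟩
    have hneg : D.neg (D.simple i) < D.nroots := by rw [← hsr, ← S.ok.neg_eq hp']; exact S.ok.neg_lt hp'
    have := S.ok.nG_mul_xG (F := F) i.isLt hneg ((C.eta i (D.neg (D.simple i)) : F) * a⁻¹)
    rw [← mul_assoc, Ok.eta_sq, one_mul,
      show C.w i (D.neg (D.simple i)) = D.simple i by
        rw [← hsr, ← S.ok.neg_eq hp', ← (S.ok.refl_simple i.isLt).1, S.ok.w_w i.isLt hp']] at this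
    rw [mul_assoc, ← this, hsdef]
    group
  obtain ⟨q, hq⟩ := hq
  have hn' : D.neg (C.sr i) < D.nroots := by rw [← S.ok.neg_eq hp']; exact S.ok.neg_lt hp'
  obtain ⟨-, c', -, e'⟩ := hact ⟨D.neg (C.sr i), hn'⟩
  have e2 := (e' q).1
  rw [inv_inv, show (S.wpL L ⟨D.neg (C.sr i), hn'⟩).val = D.neg (S.wpL L (S.sp i)).val from
    S.wp_neg L (S.sp i) hn'] at e2
  obtain ⟨np1, np2, -⟩ := S.neg_pos (show (S.wpL L (S.sp i)).val < D.nroots / 2 by omega)
  have hB1 : n⁻¹ * S.ok.xG (D.neg (D.simple i)) q * n ∈ D.borelSubgroup F := by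
    rw [← hsr, e2]
    exact S.B_le_of (S.xG_mem_U np1 np2 _)
  have hsimp : S.ok.xG (D.simple i) a⁻¹ ∈ D.borelSubgroup F := by
    rw [← hsr]
    exact S.B_le_of (S.xG_mem_U (S.sr_pos i.isLt) hp' _)
  refine ⟨s * u' * s⁻¹ * S.ok.xG (D.simple i) a⁻¹ * (S.ok.hG (D.simple i) (-a⁻¹) * (s * s)), ?_,
    n⁻¹ * S.ok.xG (D.neg (D.simple i)) q * n * (n⁻¹ * d * n), mul_mem hB1 hd', Or.inr ?_⟩
  · exact mul_mem (mul_mem hsu hsimp) (Subgroup.mem_sup_right
      (mul_mem (S.hG_mem_diag i.isLt (neg_ne_zero.2 (inv_ne_zero ha))) (S.nG_mul_self_mem i.isLt)))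
  · calc s * (u' * S.ok.xG (C.sr i) t * d) * n
        = s * u' * s⁻¹ * (s * S.ok.xG (C.sr i) t) * d * n := by group
      _ = s * u' * s⁻¹ * (S.ok.xG (D.simple i) a⁻¹ * (S.ok.hG (D.simple i) (-a⁻¹) * s) *
            S.ok.xG (D.simple i) a⁻¹ * s) * d * n := by rw [hy, hy2]
      _ = s * u' * s⁻¹ * S.ok.xG (D.simple i) a⁻¹ * (S.ok.hG (D.simple i) (-a⁻¹) * (s * s)) *
            (s⁻¹ * S.ok.xG (D.simple i) a⁻¹ * s) * d * n := by group
      _ = _ := by rw [hq]; group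

theorem nG_conj_B_ne (S : Struct D C) (i : Fin D.rank) :
    ∃ b ∈ D.borelSubgroup F, S.ok.nG (D.simple i) 1 * b * S.ok.nG (D.simple i) 1 ∉ D.borelSubgroup F := by
  have hsr := S.ok.sr_eq i.isLt
  have hp' := S.ok.sr_lt i.isLt
  refine ⟨S.ok.xG (C.sr i) 1, S.B_le_of (S.xG_mem_U (S.sr_pos i.isLt) hp' _), fun hB => ?_⟩
  rw [S.ok.nG_mul_xG i.isLt hp', (S.ok.refl_simple i.isLt).1, mul_assoc] at hB
  have h2 := mul_mem hB (inv_mem (Subgroup.mem_sup_right (S.nG_mul_self_mem i.isLt) :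
    S.ok.nG (D.simple i) (1 : F) * S.ok.nG (D.simple i) 1 ∈ D.borelSubgroup F))
  rw [mul_inv_cancel_right, S.ok.neg_eq hp'] at h2
  set q := C.sr i.val with hqdef
  set a : F := (C.eta i q : F) * 1
  have hnq := S.neg_lt_half hp' (S.sr_pos i.isLt)
  have hnn : D.neg (D.neg q) = q := by
    have h1 := (S.order_row hp').1
    have h2' := (S.order_row (show D.neg q < D.nroots by omega)).1
    omega
  have hpos : D.nroots / 2 ≤ q := S.sr_pos i.isLt
  have key : ukey D (Sum.inr ⟨D.neg q, by omega⟩) ≤ ukey D (Sum.inr ⟨q, hp'⟩) := by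
    have := S.sr_pos i.isLt
    simp only [ukey]
    rw [if_pos (show D.neg q < D.nroots / 2 by omega), if_neg (show ¬ q < D.nroots / 2 by omega)]
    omega
  have h3 := S.borel_apply h2 key (by simp [Fin.ext_iff]; omega)
  rw [S.ok.val_xG, ChevalleyDatum.x, dif_pos (show D.neg q < D.nroots by omega)] at h3
  simp only [ChevalleyDatum.xMat, Matrix.of_apply, Fin.ext_iff] at h3
  rw [if_neg (show ¬ q = D.neg q by omega), if_pos (show q = D.negIdx.getD (D.neg q) 0 from hnn.symm)] at h3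
  simp only [show ¬ D.neg q = q by omega, if_false, if_true] at h3
  rw [neg_eq_zero, pow_eq_zero_iff (by norm_num)] at h3
  exact mul_ne_zero (Ok.eta_ne_zero C i q) one_ne_zero h3

theorem group_le_sup (S : Struct D C) : D.group F ≤ D.borelSubgroup F ⊔ D.monomialSubgroup F := by
  refine (Subgroup.closure_le _).2 ?_
  rintro g ⟨r, t, hg⟩
  have hx : (g : Matrix D.Idx D.Idx F) = D.x F r t := by simpa [ChevalleyDatum.x] using hg
  rw [S.ok.eq_xG hx]
  suffices H : ∀ r < D.nroots, ∀ t : F, S.ok.xG r t ∈ D.borelSubgroup F ⊔ D.monomialSubgroup F from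
    H r r.isLt t
  clear hx hg g t r
  have hM : ∀ i < D.rank, S.ok.nG (D.simple i) (1 : F) ∈ D.borelSubgroup F ⊔ D.monomialSubgroup F :=
    fun i hi => Subgroup.mem_sup_right (S.nG_mem_mono ⟨i, hi⟩)
  have conj : ∀ i r, i < D.rank → r < D.nroots →
      (∀ t : F, S.ok.xG r t ∈ D.borelSubgroup F ⊔ D.monomialSubgroup F) →
      ∀ t : F, S.ok.xG (C.w i r) t ∈ D.borelSubgroup F ⊔ D.monomialSubgroup F := by
    intro i r hi hr H t
    have := mul_mem (mul_mem (hM i hi) (H ((C.eta i r : F) * t))) (inv_mem (hM i hi))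
    rwa [S.ok.conj_nG_xG hi hr, ← mul_assoc, Ok.eta_sq, one_mul] at this
  refine S.ok.root_induction (fun i hi => ?_) fun i r hi hr ih => ?_
  · have hbase : ∀ t : F, S.ok.xG (C.sr i) t ∈ D.borelSubgroup F ⊔ D.monomialSubgroup F := fun t =>
      Subgroup.mem_sup_left (S.B_le_of (S.xG_mem_U (S.sr_pos hi) (S.ok.sr_lt hi) t))
    exact ⟨hbase, (S.ok.refl_simple hi).1 ▸ conj i _ hi (S.ok.sr_lt hi) hbase⟩
  · exact S.ok.w_w hi hr ▸ conj i _ hi (S.ok.w_lt hi hr) ih

theorem diag_le_group (S : Struct D C) : D.diagonalSubgroup F ≤ D.group F := by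
  refine (Subgroup.closure_le _).2 ?_
  rintro g ⟨r, t, hr, ht, hg⟩
  have : g = S.ok.hG r t := Units.ext (by rw [hg, S.ok.val_hG])
  rw [this]
  exact S.ok.hG_mem_group r t

theorem borel_le_group (S : Struct D C) : D.borelSubgroup F ≤ D.group F :=
  sup_le (by rw [← S.ok.posUnipotent_sup_negUnipotent]; exact le_sup_left) S.diag_le_group

theorem mono_le_group (S : Struct D C) : D.monomialSubgroup F ≤ D.group F := by
  refine sup_le S.diag_le_group ((Subgroup.closure_le _).2 ?_)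
  rintro g ⟨r, hr, hg⟩
  have : g = S.ok.nG r 1 := Units.ext (by rw [hg, S.ok.val_nG])
  rw [this]
  exact S.ok.nG_mem_group r 1

theorem sup_eq_group (S : Struct D C) : D.borelSubgroup F ⊔ D.monomialSubgroup F = D.group F :=
  le_antisymm (sup_le S.borel_le_group S.mono_le_group) S.group_le_sup

theorem sr_injective (S : Struct D C) {i j : Fin D.rank} (h : C.sr i = C.sr j)
    (hd : ∀ i j : Fin D.rank, i ≠ j → C.sr i.val ≠ C.sr j.val) : i = j := by
  by_contra hne; exact hd i j hne h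

theorem nG_inv_mul_mem (S : Struct D C) (hd : ∀ i j : Fin D.rank, i ≠ j → C.sr i.val ≠ C.sr j.val)
    {i j : Fin D.rank}
    (h : (S.ok.nG (D.simple i) (1 : F))⁻¹ * S.ok.nG (D.simple j) 1 ∈ D.borelSubgroup F) : i = j := by
  have hH : (S.ok.nG (D.simple i) (1 : F))⁻¹ * S.ok.nG (D.simple j) 1 ∈ D.diagonalSubgroup F := by
    rw [← S.B_inf_N]
    exact Subgroup.mem_inf.2 ⟨h, mul_mem (inv_mem (S.nG_mem_mono i)) (S.nG_mem_mono j)⟩
  have h2 : S.ok.nG (D.simple i) (1 : F) * S.ok.nG (D.simple j) 1 ∈ D.diagonalSubgroup F := by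
    have := mul_mem (S.nG_mul_self_mem (F := F) i.isLt) hH
    convert this using 1
    group
  have hw := S.act_unique (S.act_mul (S.act_nG i) (S.act_nG j)) (S.act_diag h2)
  have e := congrArg (fun w : Equiv.Perm (Fin D.nroots) => (w (S.sp i)).val) hw
  simp only [Equiv.Perm.mul_apply, wp_val, Equiv.Perm.one_apply, sp] at e
  refine S.sr_injective ?_ hd
  by_contra hne
  have hp := S.pos_w j.isLt (S.sr_pos i.isLt) (S.ok.sr_lt i.isLt) hne
  have hw1 : C.w j (C.sr i) = D.neg (C.sr i) := by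
    have := congrArg (C.w i) e
    rw [S.ok.w_w i.isLt (S.ok.w_lt j.isLt (S.ok.sr_lt i.isLt)), (S.ok.refl_simple i.isLt).1,
      S.ok.neg_eq (S.ok.sr_lt i.isLt)] at this
    exact this
  have := S.neg_lt_half (S.ok.sr_lt i.isLt) (S.sr_pos i.isLt)
  omega

/-- The elements `n_p` of the group. -/
noncomputable def gS (S : Struct D C) (F : Type*) [Field F] (i : Fin D.rank) : ↥(D.group F) :=
  ⟨S.ok.nG (D.simple i) 1, S.ok.nG_mem_group _ _⟩

theorem exists_bnPair (S : Struct D C) (hd : ∀ i j : Fin D.rank, i ≠ j → C.sr i.val ≠ C.sr j.val) :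
    ∃ P : Cfsg.BNPair ↥(D.group F),
      P.B = (D.borelSubgroup F).subgroupOf (D.group F) ∧ P.N = (D.monomialSubgroup F).subgroupOf (D.group F) ∧
      P.S = {n : ↥(D.group F) | ∃ i < D.rank, ((n : GL D.Idx F) : Matrix D.Idx D.Idx F) = D.nMat F (D.simple i) 1} := by
  have hS : ∀ n : ↥(D.group F),
      (∃ i < D.rank, ((n : GL D.Idx F) : Matrix D.Idx D.Idx F) = D.nMat F (D.simple i) 1) →
      ∃ i : Fin D.rank, (n : GL D.Idx F) = S.ok.nG (D.simple i) 1 := by
    rintro n ⟨i, hi, e⟩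
    exact ⟨⟨i, hi⟩, Units.ext (by rw [e, S.ok.val_nG])⟩
  refine ⟨{
    B := (D.borelSubgroup F).subgroupOf (D.group F)
    N := (D.monomialSubgroup F).subgroupOf (D.group F)
    S := {n : ↥(D.group F) | ∃ i < D.rank, ((n : GL D.Idx F) : Matrix D.Idx D.Idx F) = D.nMat F (D.simple i) 1}
    sup_eq_top := ?_
    conj_mem := ?_
    subset := ?_
    sq_mem := ?_
    inj := ?_
    closure_sup := ?_
    mul_mem_union := ?_
    conj_ne := ?_ }, rfl, rfl, rfl⟩
  · rw [← Subgroup.subgroupOf_sup S.borel_le_group S.mono_le_group, S.sup_eq_group, Subgroup.subgroupOf_self]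
  · intro n hn t ht
    simp only [Subgroup.mem_inf, Subgroup.mem_subgroupOf] at hn ht ⊢
    have : (t : GL D.Idx F) ∈ D.diagonalSubgroup F := by rw [← S.B_inf_N]; exact Subgroup.mem_inf.2 ht
    exact Subgroup.mem_sup_right (S.norm_diag hn this)
  · intro n hn
    obtain ⟨i, e⟩ := hS n hn
    simp only [SetLike.mem_coe, Subgroup.mem_subgroupOf, e]
    exact S.nG_mem_mono i
  · intro n hn
    obtain ⟨i, e⟩ := hS n hn
    simp only [Subgroup.mem_subgroupOf, Subgroup.coe_mul, e]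
    exact Subgroup.mem_sup_right (S.nG_mul_self_mem i.isLt)
  · intro s hs s' hs' h
    obtain ⟨i, e⟩ := hS s hs
    obtain ⟨j, e'⟩ := hS s' hs'
    simp only [Subgroup.mem_subgroupOf, Subgroup.coe_mul, Subgroup.coe_inv, e, e'] at h
    have := S.nG_inv_mul_mem hd h
    exact Subtype.ext (by rw [e, e', this])
  · apply le_antisymm
    · refine sup_le ((Subgroup.closure_le _).2 fun n hn => ?_) inf_le_right
      obtain ⟨i, e⟩ := hS n hn
      simp only [SetLike.mem_coe, Subgroup.mem_subgroupOf, e]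
      exact S.nG_mem_mono i
    · intro n hn
      simp only [Subgroup.mem_subgroupOf] at hn
      obtain ⟨h', hh', L, e⟩ := S.exists_word hn
      have hh'g : h' ∈ D.group F := S.diag_le_group hh'
      have : n = (⟨h', hh'g⟩ : ↥(D.group F)) * (L.map (S.gS F)).prod := by
        refine Subtype.ext ?_
        rw [e]
        simp [Struct.nL, Struct.gS, Function.comp_def]
      rw [this]
      refine mul_mem (Subgroup.mem_sup_right ?_) (Subgroup.mem_sup_left ?_)
      · simp only [Subgroup.mem_inf, Subgroup.mem_subgroupOf]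
        exact ⟨Subgroup.mem_sup_right hh', (le_sup_left : D.diagonalSubgroup F ≤ D.monomialSubgroup F) hh'⟩
      · refine list_prod_mem fun g hg => ?_
        obtain ⟨i, -, rfl⟩ := List.mem_map.1 hg
        exact Subgroup.subset_closure ⟨i, i.isLt, S.ok.val_nG _ _⟩
  · intro s hs n hn b hb
    obtain ⟨i, e⟩ := hS s hs
    simp only [Subgroup.mem_subgroupOf] at hn hb
    obtain ⟨a, ha, c, hc, h⟩ := S.bn_axiom i hn hb
    simp only [Set.mem_union, DoubleCoset.mem_doubleCoset, SetLike.mem_coe, Subgroup.mem_subgroupOf]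
    rcases h with h | h
    · exact Or.inl ⟨⟨a, S.borel_le_group ha⟩, ha, ⟨c, S.borel_le_group hc⟩, hc,
        Subtype.ext (by simp [e, h])⟩
    · exact Or.inr ⟨⟨a, S.borel_le_group ha⟩, ha, ⟨c, S.borel_le_group hc⟩, hc,
        Subtype.ext (by simp [e, h])⟩
  · intro s hs h
    obtain ⟨i, e⟩ := hS s hs
    obtain ⟨b, hb, hnb⟩ := S.nG_conj_B_ne (F := F) i
    have hbm : (⟨b, S.borel_le_group hb⟩ : ↥(D.group F)) ∈
        ((D.borelSubgroup F).subgroupOf (D.group F) : Set ↥(D.group F)) := hb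
    have := Set.mem_image_of_mem (fun b : ↥(D.group F) => s * b * s) hbm
    rw [h] at this
    apply hnb
    simpa [Subgroup.mem_subgroupOf, e] using this

end Struct

end Cfsg.Lib.Chev
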