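import Cfsg.Agent.Chev.BNP

/-! The negative unipotent subgroup, distinctness of the fundamental roots, and the checks of the seven data. -/

set_option autoImplicit false

open Cfsg.Lie

namespace Cfsg.Lib.Chev

/-- Negative root elements lower the index; fundamental roots are distinct. -/
noncomputable def okNeg (D : ChevalleyDatum) : Bool :=
  let n := D.nroots
  let h := Nat.div n 2
  kall (fun r => Nat.ble h r || kall (fun e => kall (fun q => Nat.blt q.1 e.1) e.2.toList)
      (D.chain.getD r #[]).toList) (krange 0 n) &&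
    kall (fun i => kall (fun j => Nat.beq i j || !Nat.beq (D.simpleIdx.getD i 0) (D.simpleIdx.getD j 0))
      (krange 0 D.rank)) (krange 0 D.rank)

theorem okNeg_G2 : okNeg chevG2 = true := by decide +kernel
theorem okNeg_B2 : okNeg chevB2 = true := by decide +kernel
theorem okNeg_D4 : okNeg chevD4 = true := by decide +kernel
theorem okNeg_F4 : okNeg chevF4 = true := by decide +kernel
theorem okNeg_E6 : okNeg chevE6 = true := by decide +kernel
theorem okNeg_E7 : okNeg chevE7 = true := by decide +kernel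
theorem okNeg_E8 : okNeg chevE8 = true := by decide +kernel

theorem okNeg_of_mem {D : ChevalleyDatum}
    (hD : D ∈ [chevG2, chevB2, chevD4, chevF4, chevE6, chevE7, chevE8]) : okNeg D = true := by
  simp only [List.mem_cons, List.not_mem_nil, or_false] at hD
  rcases hD with rfl | rfl | rfl | rfl | rfl | rfl | rfl
  exacts [okNeg_G2, okNeg_B2, okNeg_D4, okNeg_F4, okNeg_E6, okNeg_E7, okNeg_E8]

variable {D : ChevalleyDatum} {C : Cert} {F : Type*} [Field F]

namespace Struct

theorem simple_ne (S : Struct D C) (hN : okNeg D = true) (i j : Fin D.rank) (h : i ≠ j) :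
    C.sr i.val ≠ C.sr j.val := by
  simp only [okNeg, Bool.and_eq_true, kall_iff] at hN
  have h1 := hN.2 i.val (by rw [krange_eq, List.mem_range'_1]; omega) j.val
    (by rw [krange_eq, List.mem_range'_1]; omega)
  simp only [Bool.or_eq_true, Bool.not_eq_true'] at h1
  rcases h1 with h1 | h1
  · exact absurd (Fin.ext (Nat.eq_of_beq_eq_true h1)) h
  · rw [S.ok.sr_eq i.isLt, S.ok.sr_eq j.isLt]
    exact Nat.ne_of_beq_eq_false h1

theorem chainCoeff_eq_nil_neg (S : Struct D C) (hN : okNeg D = true) {r s u : ℕ}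
    (hrn : r < D.nroots / 2) (hu : s ≤ u) : D.chainCoeff r s u = [] := by
  have := S.hsum
  simp only [okNeg, Bool.and_eq_true, kall_iff] at hN
  have h1 := hN.1 r (by rw [krange_eq, List.mem_range'_1]; omega)
  simp only [Bool.or_eq_true, Nat.ble_eq, kall_iff] at h1
  rcases h1 with h1 | h1
  · have h1' : D.nroots / 2 ≤ r := h1
    omega
  rw [ChevalleyDatum.chainCoeff, List.eq_nil_iff_forall_not_mem]
  intro km hkm
  simp only [List.mem_flatMap, List.mem_filter, decide_eq_true_eq, List.mem_map] at hkm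
  obtain ⟨e, ⟨he, hes⟩, q, ⟨hq, hqu⟩, -⟩ := hkm
  have h2 := blt_true.1 (h1 e he q.1 (by
    obtain ⟨qv, qi⟩ := q
    exact (List.mem_zipIdx hq).2.2 ▸ List.getElem_mem _))
  omega

theorem isNeg_iff (S : Struct D C) {r : ℕ} : D.IsNegRoot r ↔ r < D.nroots / 2 :=
  ⟨fun h => (S.ok.pos_or_neg h.1).2.1.1 h,
    fun h => (S.ok.pos_or_neg (show r < D.nroots by have := S.hsum; omega)).2.1.2 h⟩

/-- `M` vanishes on and below the diagonal of the numbering `ukey`. -/
def Up (M : Matrix D.Idx D.Idx F) : Prop := ∀ x y, ukey D y ≤ ukey D x → M x y = 0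

theorem up_x (S : Struct D C) (hN : okNeg D = true) {r : ℕ} (hrn : r < D.nroots / 2) (t : F) :
    Up (D.x F r t - 1) := by
  intro x y hxy
  obtain ⟨np1, np2, -⟩ := S.neg_pos hrn
  have hr : r < D.nroots := by have := S.hsum; omega
  rw [Matrix.sub_apply]
  rcases y with i | s
  · rw [ChevalleyDatum.x, dif_pos hr]
    simp only [ChevalleyDatum.xMat, Matrix.of_apply]
    rcases x with j | u
    · simp only [Matrix.one_apply, Sum.inl.injEq]
      exact sub_self _
    · have h1 : (1 : Matrix D.Idx D.Idx F) (Sum.inr u) (Sum.inl i) = 0 := Matrix.one_apply_ne (by simp)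
      rw [h1, sub_zero]
      refine if_neg ?_
      rintro rfl
      simp only [ukey] at hxy
      rw [if_pos (show r < D.nroots / 2 by omega)] at hxy
      omega
  · by_cases hsr : s.val = r
    · rw [ChevalleyDatum.x, dif_pos hr]
      simp only [ChevalleyDatum.xMat, Matrix.of_apply]
      rw [if_pos (show s = ⟨r, hr⟩ from Fin.ext hsr)]
      rcases x with j | u
      · simp
      · simp [Matrix.one_apply, Fin.ext_iff, hsr]
    · by_cases hsn : s.val = D.neg r
      · rw [ChevalleyDatum.x, dif_pos hr]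
        simp only [ChevalleyDatum.xMat, Matrix.of_apply]
        rw [if_neg (fun e => hsr (congrArg Fin.val e)), if_pos (show s.val = D.negIdx.getD r 0 from hsn)]
        simp only [ukey] at hxy
        rw [if_neg (show ¬ s.val < D.nroots / 2 by omega)] at hxy
        rcases x with j | u
        · simp only [ukey] at hxy
          have := j.isLt
          omega
        · simp only [ukey] at hxy
          have hur : u.val ≠ r := by
            intro e
            rw [if_pos (show u.val < D.nroots / 2 by omega)] at hxy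
            omega
          rcases eq_or_ne u s with rfl | hus
          · simp
          · simp [hus, Fin.ext_iff, hur]
      · rcases x with j | u
        · rw [ChevalleyDatum.x, dif_pos hr]
          simp only [ChevalleyDatum.xMat, Matrix.of_apply]
          rw [if_neg (fun e => hsr (congrArg Fin.val e)),
            if_neg (show ¬ s.val = D.negIdx.getD r 0 from hsn)]
          simp
        · rw [xMat_root_entry hr s u hsr hsn]
          have hle : s.val ≤ u.val := by
            simp only [ukey] at hxy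
            have := u.isLt
            have := s.isLt
            split_ifs at hxy <;> omega
          rw [S.chainCoeff_eq_nil_neg hN hrn hle]
          simp [Matrix.one_apply]

theorem up_of_mem (S : Struct D C) (hN : okNeg D = true) {g : GL D.Idx F} (hg : g ∈ D.negUnipotent F) :
    Up ((g : Matrix D.Idx D.Idx F) - 1) := by
  induction hg using Subgroup.closure_induction'' with
  | mem g hg =>
    obtain ⟨r, t, hr, hg⟩ := hg
    rw [hg]
    exact S.up_x hN (S.isNeg_iff.1 hr) t
  | inv_mem g hg =>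
    obtain ⟨r, t, hr, hg⟩ := hg
    rw [S.ok.eq_xG hg, S.ok.xG_inv, S.ok.val_xG]
    exact S.up_x hN (S.isNeg_iff.1 hr) _
  | one => intro x y _; rw [Units.val_one, sub_self, Matrix.zero_apply]
  | mul a b _ _ iha ihb =>
    intro x y hxy
    have e : ((a * b : GL D.Idx F) : Matrix D.Idx D.Idx F) - 1 =
        ((a : Matrix D.Idx D.Idx F) - 1) + ((b : Matrix D.Idx D.Idx F) - 1) +
          ((a : Matrix D.Idx D.Idx F) - 1) * ((b : Matrix D.Idx D.Idx F) - 1) := by
      rw [Units.val_mul]; noncomm_ring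
    rw [e, Matrix.add_apply, Matrix.add_apply, iha x y hxy, ihb x y hxy, zero_add, zero_add, Matrix.mul_apply]
    refine Finset.sum_eq_zero fun z _ => ?_
    by_cases hz : ukey D z ≤ ukey D x
    · rw [iha x z hz, zero_mul]
    · rw [ihb z y (by omega), mul_zero]

theorem diag_normalises_V (S : Struct D C) :
    D.diagonalSubgroup F ≤ Subgroup.normalizer (D.negUnipotent F : Set (GL D.Idx F)) := by
  have key : ∀ g ∈ D.diagonalSubgroup F, ∀ u ∈ D.negUnipotent F, g * u * g⁻¹ ∈ D.negUnipotent F := by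
    intro g hg u hu
    have hle : D.negUnipotent F ≤ (D.negUnipotent F).comap (MulAut.conj g).toMonoidHom := by
      refine (Subgroup.closure_le _).2 ?_
      rintro x ⟨r, t, hr, hx⟩
      rw [S.ok.eq_xG hx]
      show g * S.ok.xG r t * g⁻¹ ∈ D.negUnipotent F
      obtain ⟨-, c, -, e⟩ := S.act_diag hg ⟨r, hr.1⟩
      rw [(e t).1]
      exact Subgroup.subset_closure ⟨r, _, hr, S.ok.val_xG _ _⟩
    exact hle hu
  intro g hg
  rw [Subgroup.mem_normalizer_iff]
  refine fun x => ⟨key g hg x, fun hx => ?_⟩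
  have := key g⁻¹ (inv_mem hg) _ hx
  simpa [mul_assoc] using this

theorem B_inf_V (S : Struct D C) (hN : okNeg D = true) :
    D.borelSubgroup F ⊓ D.negUnipotent F = ⊥ := by
  refine eq_bot_iff.2 fun g hg => ?_
  obtain ⟨hb, hv⟩ := Subgroup.mem_inf.1 hg
  rw [Subgroup.mem_bot]
  apply Units.ext
  ext x y
  rw [Units.val_one]
  rcases le_total (ukey D y) (ukey D x) with h | h
  · have := S.up_of_mem hN hv x y h
    rwa [Matrix.sub_apply, sub_eq_zero] at this
  · rcases eq_or_ne x y with rfl | hne
    · have := S.up_of_mem hN hv x x le_rfl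
      rwa [Matrix.sub_apply, sub_eq_zero] at this
    · rw [S.borel_apply hb h hne, Matrix.one_apply_ne hne]

theorem B_inf_VH (S : Struct D C) (hN : okNeg D = true) :
    D.borelSubgroup F ⊓ (D.negUnipotent F ⊔ D.diagonalSubgroup F) = D.diagonalSubgroup F := by
  refine le_antisymm (fun g hg => ?_) (le_inf le_sup_right le_sup_right)
  obtain ⟨hb, hv⟩ := Subgroup.mem_inf.1 hg
  have h1 : g ∈ ((D.negUnipotent F ⊔ D.diagonalSubgroup F : Subgroup (GL D.Idx F)) : Set (GL D.Idx F)) := hv
  rw [Subgroup.coe_mul_of_right_le_normalizer_left _ _ S.diag_normalises_V] at h1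
  obtain ⟨v, hv', d, hd, rfl⟩ := Set.mem_mul.1 h1
  have : v ∈ D.borelSubgroup F ⊓ D.negUnipotent F := by
    refine Subgroup.mem_inf.2 ⟨?_, hv'⟩
    have := mul_mem hb (inv_mem (Subgroup.mem_sup_right hd : d ∈ D.borelSubgroup F))
    simpa using this
  rw [S.B_inf_V hN, Subgroup.mem_bot] at this
  rw [this, one_mul]
  exact hd

set_option maxHeartbeats 1000000 in
theorem exists_union (S : Struct D C) (hN : okNeg D = true) {i : ℕ} (hi : i < D.rank) {n : GL D.Idx F}
    (hn : (n : Matrix D.Idx D.Idx F) = D.nMat F (D.simple i) 1) :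
    ∃ P : Subgroup (GL D.Idx F), (P : Set (GL D.Idx F)) =
      (D.borelSubgroup F : Set (GL D.Idx F)) ∪
        DoubleCoset.doubleCoset n (D.borelSubgroup F : Set (GL D.Idx F)) (D.borelSubgroup F) := by
  obtain ⟨P, hPB, hPN, hPS⟩ := S.exists_bnPair (F := F) (fun i j h => S.simple_ne hN i j h)
  have hnG : n = S.ok.nG (D.simple i) 1 := Units.ext (by rw [hn, S.ok.val_nG])
  let ng : ↥(D.group F) := ⟨n, hnG ▸ S.ok.nG_mem_group _ _⟩
  have hng : ng ∈ P.S := by rw [hPS]; exact ⟨i, hi, hn⟩
  have hmem : ng⁻¹ * ng ∈ P.B := (inv_mul_cancel ng).symm ▸ P.B.one_mem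
  obtain ⟨H, hH⟩ := (Cfsg.Lib.BN.union_isSubgroup_iff (P := P) (n := ng) (P.subset hng)
    (Cfsg.Lib.BN.not_mem_B (P := P) hng)).2 ⟨ng, hng, hmem⟩
  refine ⟨H.map (D.group F).subtype, ?_⟩
  rw [Subgroup.coe_map, hH, hPB]
  ext x
  simp only [Set.image_union, Set.mem_union, Set.mem_image, Subgroup.coe_subtype, DoubleCoset.mem_doubleCoset,
    SetLike.mem_coe, Subgroup.mem_subgroupOf]
  constructor
  · rintro (⟨y, hy, rfl⟩ | ⟨y, ⟨a, ha, b, hb, rfl⟩, rfl⟩)
    · exact Or.inl hy
    · exact Or.inr ⟨a, ha, b, hb, rfl⟩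
  · rintro (hx | ⟨a, ha, b, hb, rfl⟩)
    · exact Or.inl ⟨⟨x, S.borel_le_group hx⟩, hx, rfl⟩
    · exact Or.inr ⟨⟨a, S.borel_le_group ha⟩ * ng * ⟨b, S.borel_le_group hb⟩,
        ⟨⟨a, S.borel_le_group ha⟩, ha, ⟨b, S.borel_le_group hb⟩, hb, rfl⟩, rfl⟩

end Struct

end Cfsg.Lib.Chev
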