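import Cfsg.Agent.Chev.Ht
import Cfsg.Agent.Chev.More

/-! Descent of negative roots inside their support. -/

set_option autoImplicit false

open Cfsg.Lie

namespace Cfsg.Lib.Chev

/-- Every negative root descends to the negative of a fundamental root inside its support. -/
noncomputable def okDescJ (C : Cert) (T : List (List ℤ)) : Bool :=
  let h := Nat.div C.n 2
  kall (fun r =>
    let hr := T.getD r []
    !kall (fun i => !(!decide (hr.getD i 0 = 0) && (Nat.beq r (C.neg (C.sr i)) ||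
      (Nat.blt r (C.w i r) && Nat.blt (C.w i r) h &&
        (let hw := T.getD (C.w i r) []
         kall (fun k => Nat.beq k i || decide (hw.getD k 0 = hr.getD k 0)) (krange 0 C.l))))))
      (krange 0 C.l)) (krange 0 h)

theorem G2.descJ : okDescJ G2.cert G2.htTab = true := by decide +kernel
theorem B2.descJ : okDescJ B2.cert B2.htTab = true := by decide +kernel
theorem D4.descJ : okDescJ D4.cert D4.htTab = true := by decide +kernel
theorem F4.descJ : okDescJ F4.cert F4.htTab = true := by decide +kernel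
theorem E6.descJ : okDescJ E6.cert E6.htTab = true := by decide +kernel
theorem E7.descJ : okDescJ E7.cert E7.htTab = true := by decide +kernel
theorem E8.descJ : okDescJ E8.cert E8.htTab = true := by decide +kernel

theorem descJ_of_mem {D : ChevalleyDatum}
    (hD : D ∈ [chevG2, chevB2, chevD4, chevF4, chevE6, chevE7, chevE8]) :
    ∃ C T, Struct D C ∧ okNeg D = true ∧ okHt D T = true ∧ okDescJ C T = true := by
  simp only [List.mem_cons, List.not_mem_nil, or_false] at hD
  rcases hD with rfl | rfl | rfl | rfl | rfl | rfl | rfl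
  · exact ⟨_, _, ⟨G2.ok, G2.okChain_, G2.okBase_all, okOrder_G2⟩, okNeg_G2, G2.ht, G2.descJ⟩
  · exact ⟨_, _, ⟨B2.ok, B2.okChain_, B2.okBase_all, okOrder_B2⟩, okNeg_B2, B2.ht, B2.descJ⟩
  · exact ⟨_, _, ⟨D4.ok, D4.okChain_, D4.okBase_all, okOrder_D4⟩, okNeg_D4, D4.ht, D4.descJ⟩
  · exact ⟨_, _, ⟨F4.ok, F4.okChain_, F4.okBase_all, okOrder_F4⟩, okNeg_F4, F4.ht, F4.descJ⟩
  · exact ⟨_, _, ⟨E6.ok, E6.okChain_, E6.okBase_all, okOrder_E6⟩, okNeg_E6, E6.ht, E6.descJ⟩
  · exact ⟨_, _, ⟨E7.ok, E7.okChain_, E7.okBase_all, okOrder_E7⟩, okNeg_E7, E7.ht, E7.descJ⟩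
  · exact ⟨_, _, ⟨E8.ok, E8.okChain_, E8.okBase_all, okOrder_E8⟩, okNeg_E8, E8.ht, E8.descJ⟩

end Cfsg.Lib.Chev
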