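import Cfsg.Agent.Chev.Form
import Cfsg.Agent.Steinberg.Chev
import Cfsg.Agent.Steinberg.Vanish

/-! The Borel–Tits theorem for the tabulated finite Chevalley groups. -/

set_option autoImplicit false

open Cfsg.Lie Cfsg.Lib.Steinberg

namespace Cfsg.Lib.Chev

variable {D : ChevalleyDatum} {C : Cert} {T : List (List ℤ)} {F : Type*} [Field F]

/-- The roots pairing to at least `m` with a vector. -/
def Psi (S : Struct D C) (T : List (List ℤ)) (v : Fin D.rank → ℝ) (m : ℝ) : Fin D.nroots → Prop :=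
  fun r => m ≤ bF S T (rv T r) v

theorem commTerms_rv (S : Struct D C) (hT : okHt D T = true) {r s : Fin D.nroots} {q : ℕ × ℤ × ℕ × ℕ}
    (hq : q ∈ D.commTerms r.val s.val) (h : q.1 < D.nroots) :
    ∃ a b : ℕ, 1 ≤ a ∧ 1 ≤ b ∧
      rv T (⟨q.1, h⟩ : Fin D.nroots) = (a : ℝ) • rv T r + (b : ℝ) • rv T s := by
  obtain ⟨a, b, ha, hb, hab⟩ := ht_commTerms hT S.chain r.isLt s.isLt hq
  refine ⟨a, b, ha, hb, funext fun k => ?_⟩
  simp [rv, hab k k.isLt]

theorem closed_Psi (S : Struct D C) (hT : okHt D T = true) (v : Fin D.rank → ℝ) {m : ℝ} (hm : 0 ≤ m) :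
    ClosedPsi D (Psi S T v m) := by
  intro r s _ _ hr hs q hq h
  obtain ⟨a, b, ha, hb, e⟩ := commTerms_rv S hT hq h
  unfold Psi at *
  rw [e, bF_add', bF_smul', bF_smul']
  have ha' : (1 : ℝ) ≤ a := by exact_mod_cast ha
  have hb' : (1 : ℝ) ≤ b := by exact_mod_cast hb
  nlinarith

/-- `B` normalises the subgroup attached to a dominant vector. -/
theorem borel_conj_Psi (S : Struct D C) (hT : okHt D T = true) {lam : Fin D.rank → ℝ} (hd : Dom S T lam) {m : ℝ}
    (hm : 0 ≤ m) {b : GL D.Idx F} (hb : b ∈ D.borelSubgroup F) {u : GL D.Idx F}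
    (hu : u ∈ S.UPsi F (Psi S T lam m)) : b * u * b⁻¹ ∈ S.UPsi F (Psi S T lam m) := by
  suffices h : D.borelSubgroup F ≤ Subgroup.normalizer (S.UPsi F (Psi S T lam m) : Set (GL D.Idx F)) from
    (Subgroup.mem_normalizer_iff.1 (h hb) u).1 hu
  have key : ∀ g : GL D.Idx F,
      (∀ x ∈ S.UPsi F (Psi S T lam m), g * x * g⁻¹ ∈ S.UPsi F (Psi S T lam m)) →
      (∀ x ∈ S.UPsi F (Psi S T lam m), g⁻¹ * x * g⁻¹⁻¹ ∈ S.UPsi F (Psi S T lam m)) →
      g ∈ Subgroup.normalizer (S.UPsi F (Psi S T lam m) : Set (GL D.Idx F)) := by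
    intro g h1 h2
    rw [Subgroup.mem_normalizer_iff]
    exact fun x => ⟨h1 x, fun hx => by simpa [mul_assoc] using h2 _ hx⟩
  have hx : ∀ (r : Fin D.nroots), D.nroots / 2 ≤ r.val → ∀ t : F,
      ∀ x ∈ S.UPsi F (Psi S T lam m), S.ok.xG r.val t * x * (S.ok.xG r.val t)⁻¹ ∈ S.UPsi F (Psi S T lam m) := by
    intro r hr t
    refine Struct.conj_closure_le ?_
    rintro u ⟨s, v, hs, hsΨ, rfl⟩
    rcases eq_or_ne s r with rfl | hne
    · rw [show S.ok.xG s.val t * S.ok.xG s.val v * (S.ok.xG s.val t)⁻¹ = S.ok.xG s.val v by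
        rw [S.ok.xG_mul, S.ok.xG_inv, S.ok.xG_mul]; congr 1; ring]
      exact S.mem_UPsi hs hsΨ v
    have hne' : s.val ≠ r.val := fun e => hne (Fin.ext e)
    have hn : s.val ≠ D.neg r.val := by have := S.neg_lt_half r.isLt hr; omega
    have e := S.ok.commRel S.chain S.base r.isLt s.isLt hne' hn (-t) v
    have e' : S.ok.xG r.val t * S.ok.xG s.val v * (S.ok.xG r.val t)⁻¹ =
        S.ok.xG s.val v * S.ok.wG (D.commWord F r.val s.val (-t) v) := by
      rw [S.ok.xG_inv, mul_assoc, e, ← mul_assoc, ← mul_assoc, S.ok.xG_mul, add_neg_cancel, S.xG_zero, one_mul]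
    rw [e']
    refine mul_mem (S.mem_UPsi hs hsΨ v) (list_prod_mem fun g hg => ?_)
    simp only [ChevalleyDatum.commWord, List.map_map, List.mem_map] at hg
    obtain ⟨q, hq, rfl⟩ := hg
    obtain ⟨h1, -, h3⟩ := S.commTerms_gt r.isLt s.isLt hr hs hq
    refine S.mem_UPsi (r := ⟨q.1, h3⟩) (show D.nroots / 2 ≤ q.1 by omega) ?_ _
    obtain ⟨a, b, ha, hb, e⟩ := commTerms_rv S hT hq h3
    unfold Psi at *
    rw [e, bF_add', bF_smul', bF_smul']
    have hb' : (1 : ℝ) ≤ b := by exact_mod_cast hb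
    have := Dom.nonneg S hT hd hr
    have ha' : (0 : ℝ) ≤ a := by exact_mod_cast (Nat.zero_le a)
    nlinarith [mul_nonneg ha' this]
  refine sup_le ((Subgroup.closure_le _).2 ?_) fun g hg => ?_
  · rintro g ⟨r, t, hr, hg⟩
    obtain ⟨h1, h2⟩ := S.isPos_iff.1 hr
    rw [S.ok.eq_xG hg]
    refine key _ (hx ⟨r, h2⟩ h1 t) ?_
    rw [S.ok.xG_inv]
    exact hx ⟨r, h2⟩ h1 (-t)
  · have hd' : ∀ g ∈ D.diagonalSubgroup F, ∀ x ∈ S.UPsi F (Psi S T lam m),
        g * x * g⁻¹ ∈ S.UPsi F (Psi S T lam m) := fun g hg => by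
      refine Struct.conj_closure_le ?_
      rintro u ⟨s, v, hs, hsΨ, rfl⟩
      obtain ⟨-, c, -, e⟩ := S.act_diag hg s
      rw [(e v).1]
      exact S.mem_UPsi hs hsΨ _
    exact key g (hd' g hg) (hd' g⁻¹ (inv_mem hg))

/-- The fundamental roots orthogonal to a vector. -/
def orthSet (S : Struct D C) (T : List (List ℤ)) (lam : Fin D.rank → ℝ) : Set ℕ :=
  {i | ∀ h : i < D.rank, bF S T (Pi.single (⟨i, h⟩ : Fin D.rank) (1 : ℝ)) lam = 0}

/-- A Weyl element between dominant vectors fixes them and lies in the stabilising parabolic subgroup. -/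
theorem fix_dom (S : Struct D C) (hT : okHt D T = true) (hl : okLin D C T = true) :
    ∀ (N : ℕ), ∀ w ∈ S.WG, Struct.Nw D w = N → ∀ mu lam : Fin D.rank → ℝ, Dom S T mu → Dom S T lam →
      act S T w mu = lam →
      mu = lam ∧ ∃ L : List (Fin D.rank), (∀ i ∈ L, i.val ∈ orthSet S T lam) ∧ w = S.wpL L := by
  intro N
  induction N using Nat.strong_induction_on with
  | _ N ih =>
    intro w hw hN mu lam hmu hlam e
    by_cases hneg : ∃ i : Fin D.rank, (w (S.sp i)).val < D.nroots / 2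
    · obtain ⟨i, hi⟩ := hneg
      have hle : bF S T (Pi.single i (1 : ℝ)) mu ≤ 0 := by
        rw [← bF_act S hT hl hw, e, ← rv_sp S hT i, act_rv S hT hl hw]
        by_contra hp
        push Not at hp
        have := Dom.pos_of_pos S hT hlam hp
        omega
      have h0 : bF S T (Pi.single i (1 : ℝ)) mu = 0 := le_antisymm hle (hmu i)
      have e1 := refl_orth S hT hl i mu h0
      have e' : act S T (w * S.wp i) mu = lam := by
        rw [act_mul_apply S hT hl hw (wp_mem_WG S i), e1, e]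
      have hp := S.ok.sr_lt i.isLt
      have hsp : ∀ r : Fin D.nroots, r = S.sp i → (S.wp i r).val = D.neg (C.sr i.val) := by
        rintro r rfl
        show C.w i.val (C.sr i.val) = D.neg (C.sr i.val)
        rw [(S.ok.refl_simple i.isLt).1, S.ok.neg_eq hp]
      have hlt : Struct.Nw D (w * S.wp i) < N := by
        rw [← hN]
        let A := Finset.univ.filter fun r : Fin D.nroots => D.nroots / 2 ≤ r.val ∧ (w r).val < D.nroots / 2
        let A' := Finset.univ.filter fun r : Fin D.nroots =>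
          D.nroots / 2 ≤ r.val ∧ ((w * S.wp i) r).val < D.nroots / 2
        have hsub : A'.image (S.wp i) ⊆ A.erase (S.sp i) := by
          intro r hr
          obtain ⟨a, ha, rfl⟩ := Finset.mem_image.1 hr
          obtain ⟨-, ha1, ha2⟩ := Finset.mem_filter.1 ha
          have hne : a ≠ S.sp i := by
            intro e2
            rw [Equiv.Perm.mul_apply] at ha2
            obtain ⟨L, hL⟩ := S.exists_wpL hw
            have hn : D.neg (C.sr i.val) < D.nroots := by have := (S.order_row hp).1; omega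
            rw [show S.wp i a = ⟨D.neg (C.sr i.val), hn⟩ from Fin.ext (hsp a e2), hL,
              show (S.wpL L ⟨D.neg (C.sr i.val), hn⟩).val = D.neg (S.wpL L (S.sp i)).val from
                S.wp_neg L (S.sp i) hn] at ha2
            have hlt' := hL ▸ hi
            have := (S.neg_pos hlt').1
            omega
          have hpos : D.nroots / 2 ≤ (S.wp i a).val := by
            rw [Struct.wp_val]
            exact S.pos_w i.isLt ha1 a.isLt fun e2 => hne (Fin.ext e2)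
          refine Finset.mem_erase.2 ⟨fun e2 => ?_, Finset.mem_filter.2 ⟨Finset.mem_univ _, hpos, ha2⟩⟩
          have : a = S.wp i (S.sp i) := by
            rw [← e2, ← Equiv.Perm.mul_apply, S.wp_mul_self, Equiv.Perm.one_apply]
          rw [this, hsp _ rfl] at ha1
          have := S.neg_lt_half hp (S.sr_pos i.isLt)
          omega
        have hmem : S.sp i ∈ A := Finset.mem_filter.2 ⟨Finset.mem_univ _, S.sr_pos i.isLt, hi⟩
        calc Struct.Nw D (w * S.wp i) = (A'.image (S.wp i)).card :=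
              (Finset.card_image_of_injective _ (S.wp i).injective).symm
          _ ≤ (A.erase (S.sp i)).card := Finset.card_le_card hsub
          _ < A.card := Finset.card_erase_lt_of_mem hmem
      obtain ⟨heq, L, hL, eL⟩ := ih _ hlt _ (mul_mem hw (wp_mem_WG S i)) rfl mu lam hmu hlam e'
      refine ⟨heq, L ++ [i], fun j hj => ?_, ?_⟩
      · rcases List.mem_append.1 hj with h | h
        · exact hL j h
        · rw [List.mem_singleton.1 h]
          exact fun _ => heq ▸ h0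
      · rw [show S.wpL (L ++ [i]) = S.wpL L * S.wp i by simp [Struct.wpL], ← eL, mul_assoc, S.wp_mul_self,
          mul_one]
    · push Not at hneg
      obtain ⟨L, rfl⟩ := S.exists_wpL hw
      have h1 := S.eq_one_of_simple_pos D.rank _ L rfl (fun x _ => x.isLt) fun j _ => hneg j
      rw [h1, act_one_apply S hT] at e
      exact ⟨e, [], by simp, h1⟩

/-- The monomial representatives of `W_J` lie in `P_J`. -/
theorem mem_parabolic_of_word (S : Struct D C) {J : Set ℕ} {n : GL D.Idx F} (hn : n ∈ D.monomialSubgroup F)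
    {L : List (Fin D.rank)} (hL : ∀ i ∈ L, i.val ∈ J) (ha : Act S.ok n (S.wpL L)) :
    n ∈ D.parabolicSubgroup F J := by
  obtain ⟨L', hact, hiff⟩ := S.exists_act (mul_mem hn (inv_mem (S.nL_mem_mono (F := F) L)))
  have h1 := S.act_mul hact (S.act_nL (F := F) L)
  rw [inv_mul_cancel_right] at h1
  have hd : n * (S.nL F L)⁻¹ ∈ D.diagonalSubgroup F := hiff.1 (mul_eq_right.1 (S.act_unique h1 ha))
  have hnL : S.nL F L ∈ D.parabolicSubgroup F J := by
    refine list_prod_mem fun g hg => ?_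
    obtain ⟨i, hi, rfl⟩ := List.mem_map.1 hg
    exact Subgroup.mem_sup_right (Subgroup.subset_closure ⟨i, hL i hi, i.isLt, S.ok.val_nG _ _⟩)
  have := mul_mem (Subgroup.mem_sup_left (Subgroup.mem_sup_right hd) : _ ∈ D.parabolicSubgroup F J) hnL
  rwa [inv_mul_cancel_right] at this

/-- An optimal parabolic datum. -/
def Opt (S : Struct D C) (T : List (List ℤ)) (R : Subgroup (GL D.Idx F)) (m : ℝ) (h : GL D.Idx F)
    (lam : Fin D.rank → ℝ) : Prop :=
  h ∈ D.group F ∧ Dom S T lam ∧ bF S T lam lam = m ∧ ∀ x ∈ R, h⁻¹ * x * h ∈ S.UPsi F (Psi S T lam m)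

theorem opt_unique (S : Struct D C) (hN : okNeg D = true) (hT : okHt D T = true) (hl : okLin D C T = true)
    (R : Subgroup (GL D.Idx F)) {m : ℝ} (hm : 0 < m)
    (hmax : ∀ h ∈ D.group F, ∀ Ψ : Finset (Fin D.nroots), (∀ r ∈ Ψ, D.nroots / 2 ≤ r.val) →
      (∀ x ∈ R, h⁻¹ * x * h ∈ S.UPsi F (fun r => r ∈ Ψ)) →
      ∃ v ∈ convexHull ℝ (rv (D := D) T '' (Ψ : Set (Fin D.nroots))), bF S T v v ≤ m)
    {h₁ h₂ : GL D.Idx F} {lam mu : Fin D.rank → ℝ} (o₁ : Opt S T R m h₁ lam) (o₂ : Opt S T R m h₂ mu) :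
    h₁⁻¹ * h₂ ∈ D.parabolicSubgroup F (orthSet S T lam) := by
  classical
  obtain ⟨g₁, dl, ql, r₁⟩ := o₁
  obtain ⟨g₂, dm, qm, r₂⟩ := o₂
  obtain ⟨b, hb, n, hn, L, hact, u, hu, e⟩ := S.normal_form hN (mul_mem (inv_mem g₁) g₂)
  have huB := S.B_le_of (S.UPsi_le _ hu)
  have hw := S.wpL_mem_WG L
  set nu := act S T (S.wpL L) mu
  have qn : bF S T nu nu = m := by rw [bF_act S hT hl hw, qm]
  have hx : ∀ x ∈ R, (h₁ * b)⁻¹ * x * (h₁ * b) ∈
      S.UPsi F (fun r => Psi S T lam m r ∧ Psi S T nu m r) := by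
    intro x hx
    have k1 : b⁻¹ * (h₁⁻¹ * x * h₁) * b⁻¹⁻¹ ∈ S.UPsi F (Psi S T lam m) :=
      borel_conj_Psi S hT dl hm.le (inv_mem hb) (r₁ x hx)
    have k2 : u * (h₂⁻¹ * x * h₂) * u⁻¹ ∈ S.UPsi F (Psi S T mu m) :=
      borel_conj_Psi S hT dm hm.le huB (r₂ x hx)
    refine S.inter_conj hN (closed_Psi S hT lam hm.le) (closed_Psi S hT mu hm.le) (closed_Psi S hT nu hm.le)
      hact (fun r hr => ?_) ?_ k2 ?_
    · show m ≤ bF S T (rv T (S.wpL L r)) nu
      rw [← act_rv S hT hl hw, bF_act S hT hl hw]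
      exact hr
    · convert k1 using 1
      group
    · have e2 : h₂ = h₁ * b * n * u := by rw [mul_assoc h₁ b n, mul_assoc h₁ (b * n) u, ← e]; group
      rw [e2]
      group
  let Ψ := Finset.univ.filter fun r : Fin D.nroots =>
    D.nroots / 2 ≤ r.val ∧ Psi S T lam m r ∧ Psi S T nu m r
  obtain ⟨v, hv, hvm⟩ := hmax (h₁ * b) (mul_mem g₁ (S.borel_le_group hb)) Ψ
    (fun r hr => (Finset.mem_filter.1 hr).2.1)
    fun x hx' => S.UPsi_mono (fun r a hr => Finset.mem_filter.2 ⟨Finset.mem_univ _, a, hr⟩) (hx x hx')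
  have h2m : 2 * m ≤ bF S T v (lam + nu) := by
    refine le_bF_of_mem_hull S ?_ hv
    rintro _ ⟨r, hr, rfl⟩
    obtain ⟨-, -, a1, a2⟩ := Finset.mem_filter.1 (Finset.mem_coe.1 hr)
    rw [bF_add]
    unfold Psi at a1 a2
    linarith
  have heq : lam = nu := by
    have hcs := cauchy S (T := T) v (lam + nu)
    have hq : bF S T (lam + nu) (lam + nu) = 2 * m + 2 * bF S T lam nu := by
      rw [bF_add, bF_add', bF_add', ql, qn, bF_comm S nu lam]; ring
    have hd : bF S T (lam - nu) (lam - nu) = 2 * m - 2 * bF S T lam nu := by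
      rw [bF_sub, bF_sub', bF_sub', ql, qn, bF_comm S nu lam]; ring
    have h0 := bF_nonneg S (T := T) (lam - nu)
    refine sub_eq_zero.1 (bF_eq_zero S hT (le_antisymm ?_ h0))
    rw [hd]
    have h4 : (2 * m) ^ 2 ≤ bF S T v v * bF S T (lam + nu) (lam + nu) :=
      (pow_le_pow_left₀ (by linarith) h2m 2).trans hcs
    have h5 : bF S T v v * bF S T (lam + nu) (lam + nu) ≤ m * bF S T (lam + nu) (lam + nu) :=
      mul_le_mul_of_nonneg_right hvm (bF_nonneg S _)
    rw [hq] at h4 h5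
    nlinarith
  obtain ⟨-, L', hL', ew⟩ := fix_dom S hT hl _ _ hw rfl mu lam dm dl heq.symm
  rw [ew] at hact
  rw [e]
  exact mul_mem (mul_mem (Subgroup.mem_sup_left hb) (mem_parabolic_of_word S hn hL' hact))
    (Subgroup.mem_sup_left huB)

/-- A `p`-subgroup is conjugate into `U`. -/
theorem exists_conj_le_U [Fintype F] (p : ℕ) [Fact p.Prime] [CharP F p]
    (hD : D ∈ [chevG2, chevB2, chevD4, chevF4, chevE6, chevE7, chevE8]) {R : Subgroup (GL D.Idx F)}
    (hRG : R ≤ D.group F) (hR : IsPGroup p ↥R) :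
    ∃ g ∈ D.group F, ∀ x ∈ R, g⁻¹ * x * g ∈ D.posUnipotent F := by
  obtain ⟨P, U, hc⟩ := exists_chevData (F := F) p D hD
  have hR' : IsPGroup p ↥(R.subgroupOf (D.group F)) := hR.comap_subtype
  obtain ⟨c, hc'⟩ := hR'.nonempty_fixed_point_of_prime_not_dvd_card (Pt P) (not_dvd_index_B hc.split)
  induction c using QuotientGroup.induction_on with
  | _ y =>
    refine ⟨y, y.2, fun x hx => ?_⟩
    have h1 := smul_eq_self_iff.1
      (MulAction.mem_fixedPoints.1 hc' ⟨⟨x, hRG hx⟩, Subgroup.mem_subgroupOf.2 hx⟩)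
    obtain ⟨k, hk⟩ := IsPGroup.iff_orderOf.1 hR ⟨x, hx⟩
    rw [Subgroup.orderOf_mk] at hk
    have h2 : y⁻¹ * (⟨x, hRG hx⟩ : ↥(D.group F)) * y ∈ U :=
      hc.split.mem_U_of h1 ⟨k, by rw [orderOf_conj', Subgroup.orderOf_mk, hk]⟩
    rw [hc.U_eq, Subgroup.mem_subgroupOf] at h2
    simpa using h2

set_option maxHeartbeats 1000000 in
/-- **Borel–Tits.** -/
theorem borel_tits [Fintype F] (p : ℕ) [Fact p.Prime] [CharP F p]
    (hD : D ∈ [chevG2, chevB2, chevD4, chevF4, chevE6, chevE7, chevE8]) (R : Subgroup (GL D.Idx F))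
    (hRG : R ≤ D.group F) (hR : IsPGroup p ↥R) (hne : R ≠ ⊥) :
    ∃ g ∈ D.group F, ∃ J : Set ℕ, (∃ i, i < D.rank ∧ i ∉ J) ∧
      Subgroup.normalizer (R : Set (GL D.Idx F)) ⊓ D.group F ≤
        (D.parabolicSubgroup F J).map (MulAut.conj g).toMonoidHom ∧
      R ≤ (D.unipotentRadical F J).map (MulAut.conj g).toMonoidHom := by
  classical
  obtain ⟨g₀, hg₀, hU₀⟩ := exists_conj_le_U p hD hRG hR
  obtain ⟨C, T, S, hN, hT, -, hl⟩ := lin_of_mem hD
  let Cand := {c : ↥(D.group F) × Finset (Fin D.nroots) // (∀ r ∈ c.2, D.nroots / 2 ≤ r.val) ∧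
    ∀ x ∈ R, (c.1 : GL D.Idx F)⁻¹ * x * c.1 ∈ S.UPsi F (fun r => r ∈ c.2)}
  have hne' : ∀ c : Cand, c.1.2.Nonempty := by
    intro c
    by_contra h
    rw [Finset.not_nonempty_iff_eq_empty] at h
    refine hne ((Subgroup.eq_bot_iff_forall _).2 fun x hx => ?_)
    have h1 := c.2.2 x hx
    rw [h, S.UPsi_eq_bot (fun r _ hr => Finset.notMem_empty r hr), Subgroup.mem_bot] at h1
    calc x = (c.1.1 : GL D.Idx F) * ((c.1.1 : GL D.Idx F)⁻¹ * x * c.1.1) * (c.1.1 : GL D.Idx F)⁻¹ := by group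
      _ = 1 := by rw [h1]; group
  choose v hv hvmin using fun c : Cand => exists_minPt S (T := T) c.1.2 (hne' c)
  let Ψ₀ : Finset (Fin D.nroots) := Finset.univ.filter fun r => D.nroots / 2 ≤ r.val
  have hle₀ : S.UPsi F (fun _ => True) ≤ S.UPsi F (fun r => r ∈ Ψ₀) :=
    S.UPsi_mono fun r a _ => Finset.mem_filter.2 ⟨Finset.mem_univ _, a⟩
  have hc₁ : ∀ x ∈ R, ((⟨g₀, hg₀⟩ : ↥(D.group F)) : GL D.Idx F)⁻¹ * x * (⟨g₀, hg₀⟩ : ↥(D.group F)) ∈
      S.UPsi F (fun r => r ∈ Ψ₀) := fun x hx => hle₀ (S.posUnipotent_le_UPsi (hU₀ x hx))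
  haveI : Nonempty Cand :=
    ⟨⟨(⟨g₀, hg₀⟩, Ψ₀), fun r hr => (Finset.mem_filter.1 hr).2, hc₁⟩⟩
  obtain ⟨c₀, hc₀⟩ := Finite.exists_max fun c : Cand => bF S T (v c) (v c)
  set m := bF S T (v c₀) (v c₀) with hmdef
  have hm : 0 < m := by
    refine lt_of_le_of_ne (bF_nonneg S _) fun e => ?_
    have hz := bF_eq_zero S hT e.symm
    obtain ⟨ρ, hρ⟩ := exists_rho S hT
    have h1 : (1 : ℝ) ≤ bF S T (v c₀) ρ := by
      refine le_bF_of_mem_hull S ?_ (hv c₀)
      rintro _ ⟨r, hr, rfl⟩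
      have hrp := c₀.2.1 r (Finset.mem_coe.1 hr)
      obtain ⟨k, hk, hk0⟩ := exists_ne_zero hl r.isLt
      rw [bF_rv]
      simp only [hρ, mul_one]
      have h1 : (1 : ℤ) ≤ htAt T r.val k := by have := S.ht_nonneg hT hrp r.isLt hk; omega
      calc (1 : ℝ) ≤ (htAt T r.val k : ℝ) := by exact_mod_cast h1
        _ ≤ ∑ j : Fin D.rank, (htAt T r.val j : ℝ) :=
          Finset.single_le_sum (f := fun j : Fin D.rank => (htAt T r.val j : ℝ))
            (fun j _ => by exact_mod_cast S.ht_nonneg hT hrp r.isLt j.isLt) (Finset.mem_univ ⟨k, hk⟩)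
    rw [hz, bF_comm, bF_zero] at h1
    linarith
  have hmax : ∀ h ∈ D.group F, ∀ Ψ : Finset (Fin D.nroots), (∀ r ∈ Ψ, D.nroots / 2 ≤ r.val) →
      (∀ x ∈ R, h⁻¹ * x * h ∈ S.UPsi F (fun r => r ∈ Ψ)) →
      ∃ w ∈ convexHull ℝ (rv (D := D) T '' (Ψ : Set (Fin D.nroots))), bF S T w w ≤ m :=
    fun h hh Ψ hp hx => ⟨v ⟨(⟨h, hh⟩, Ψ), hp, hx⟩, hv ⟨(⟨h, hh⟩, Ψ), hp, hx⟩, hc₀ ⟨(⟨h, hh⟩, Ψ), hp, hx⟩⟩
  obtain ⟨w, hw, hdom⟩ := exists_dom S hT hl (v c₀)
  obtain ⟨L, rfl⟩ := S.exists_wpL hw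
  set lam := act S T (S.wpL L) (v c₀)
  set h₀ := (c₀.1.1 : GL D.Idx F) * (S.nL F L)⁻¹
  have hnG := S.mono_le_group (S.nL_mem_mono (F := F) L)
  have ql : bF S T lam lam = m := bF_act S hT hl hw _ _
  have o₀ : Opt S T R m h₀ lam := by
    refine ⟨mul_mem c₀.1.1.2 (inv_mem hnG), hdom, ql, fun x hx => ?_⟩
    have h1 : S.nL F L * ((c₀.1.1 : GL D.Idx F)⁻¹ * x * c₀.1.1) * (S.nL F L)⁻¹ ∈
        S.UPsi F (Psi S T lam m) := by
      refine Struct.conj_closure_le ?_ _ (c₀.2.2 x hx)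
      rintro u ⟨r, t, -, hr, rfl⟩
      obtain ⟨-, c, -, e⟩ := S.act_nL (F := F) L r
      rw [(e t).1]
      have hge : m ≤ bF S T (rv T (S.wpL L r)) lam := by
        rw [← act_rv S hT hl hw, bF_act S hT hl hw]; exact hvmin c₀ r hr
      exact S.mem_UPsi (Dom.pos_of_pos S hT hdom (hm.trans_le hge)) hge _
    convert h1 using 1
    simp only [h₀, mul_inv_rev, inv_inv, mul_assoc]
  have hrad : S.UPsi F (Psi S T lam m) ≤ D.unipotentRadical F (orthSet S T lam) := by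
    refine (Subgroup.closure_le _).2 ?_
    rintro u ⟨r, t, hr, hΨ, rfl⟩
    refine Subgroup.subset_closure ⟨r.val, t, S.isPos_iff.2 ⟨hr, r.isLt⟩, fun hin => ?_, S.ok.val_xG _ _⟩
    have h0 : bF S T (rv T r) lam = 0 := by
      rw [bF_rv]
      refine Finset.sum_eq_zero fun j _ => ?_
      by_cases hj : j.val ∈ orthSet S T lam
      · rw [hj j.isLt, mul_zero]
      · rw [((Struct.inRootSub_iff hT).1 hin).2 j j.isLt hj]; simp
    unfold Psi at hΨ
    linarith
  refine ⟨h₀, o₀.1, orthSet S T lam, ?_, ?_, ?_⟩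
  · by_contra hcon
    push Not at hcon
    have h1 : bF S T lam lam = 0 := by
      conv_lhs => arg 3; rw [eq_sum_single lam]
      rw [bF_sum]
      exact Finset.sum_eq_zero fun j _ => by rw [bF_smul', hcon j j.isLt j.isLt, mul_zero]
    linarith
  · intro x hx
    obtain ⟨hxn, hxG⟩ := Subgroup.mem_inf.1 hx
    have o₁ : Opt S T R m (x * h₀) lam := by
      refine ⟨mul_mem hxG o₀.1, hdom, ql, fun y hy => ?_⟩
      have h1 := (Subgroup.mem_normalizer_iff.1 (inv_mem hxn) y).1 hy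
      rw [inv_inv] at h1
      convert o₀.2.2.2 _ h1 using 1
      group
    refine ⟨h₀⁻¹ * (x * h₀), opt_unique S hN hT hl R hm hmax o₀ o₁, ?_⟩
    simp only [MulEquiv.toMonoidHom_eq_coe, MonoidHom.coe_coe, MulAut.conj_apply]
    group
  · intro x hx
    refine ⟨h₀⁻¹ * x * h₀, hrad (o₀.2.2.2 x hx), ?_⟩
    simp only [MulEquiv.toMonoidHom_eq_coe, MonoidHom.coe_coe, MulAut.conj_apply]
    group

end Cfsg.Lib.Chev
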