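import Cfsg.Agent.Chev.Torus

/-!
Equivariance of the chain tables under the fundamental reflections, read off from the conjugation of the root
elements over `ℚ`, and the induced transport of the terms of the commutator formula.
-/

set_option autoImplicit false

open Cfsg.Lie

namespace Cfsg.Lib.Chev

/-- Strictly increasing first components, starting above a bound. -/
noncomputable def kSorted {α : Type} (L : List (ℕ × α)) : ℕ → Bool :=
  @List.rec (ℕ × α) (fun _ => ℕ → Bool) (fun _ => true)
    (fun a _ ih b => Nat.ble b a.1 && ih (Nat.add a.1 1)) L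

theorem kSorted_spec {α : Type} : ∀ (L : List (ℕ × α)) (b : ℕ), kSorted L b = true →
    (∀ e ∈ L, b ≤ e.1) ∧ L.Pairwise (fun x y => x.1 < y.1)
  | [], _, _ => ⟨by simp, List.Pairwise.nil⟩
  | a :: L, b, h => by
    have h' : (Nat.ble b a.1 && kSorted L (Nat.add a.1 1)) = true := h
    simp only [Bool.and_eq_true, Nat.ble_eq, Nat.add_eq] at h'
    obtain ⟨ih1, ih2⟩ := kSorted_spec L (a.1 + 1) h'.2
    refine ⟨fun e he => ?_, List.pairwise_cons.2 ⟨fun e he => ?_, ih2⟩⟩
    · rcases List.mem_cons.1 he with rfl | he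
      · exact h'.1
      · have := ih1 e he; omega
    · have := ih1 e he; omega

/-- Conditions on a term of length at least three in the chain through `s` in direction `r`. -/
noncomputable def okLong (D : ChevalleyDatum) (r s : ℕ) : Bool :=
  (match D.chainRoot r s 3, D.chainRoot r s 1 with
    | some k', some k => decide (D.chainRoot k' s 1 = D.chainRoot k r 2) && decide ((3 : ℤ) ∣ D.chainM k r 2)
    | some _, none => false
    | none, _ => true) &&
  (match D.chainRoot r s 3, D.chainRoot s r 1 with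
    | some k', some k => decide (D.chainRoot k' s 1 = D.chainRoot k r 2) && decide ((3 : ℤ) ∣ D.chainM k r 2)
    | some _, none => false
    | none, _ => true)

/-- Well-formedness of the chain table: per row, increasing `s ≠ ±r`, non-zero coefficients, roots in range. -/
noncomputable def okChain (D : ChevalleyDatum) : Bool :=
  let n := D.nroots
  kall (fun r =>
    let L := (D.chain.getD r #[]).toList
    let nr := D.negIdx.getD r 0
    kSorted L 0 && kall (fun e => Nat.blt e.1 n && !Nat.beq e.1 r && !Nat.beq e.1 nr &&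
      kall (fun q => Nat.blt q.1 n && !decide (q.2 = 0)) e.2.toList &&
      (Nat.ble e.2.toList.length 2 || okLong D r e.1)) L) (krange 0 n)

/-- The coefficient of `t^k` of the entry `(e_v, e_s)` of `x_r(t)`, as a polynomial. -/
noncomputable def chainPoly (D : ChevalleyDatum) (r s v : ℕ) : Polynomial ℚ :=
  ((D.chainCoeff r s v).map fun km => Polynomial.monomial km.1 (km.2 : ℚ)).sum

theorem coeff_zipIdx (v k : ℕ) : ∀ (E : List (ℕ × ℤ)) (o : ℕ),
    (((E.zipIdx o).filter (fun q => q.1.1 = v)).map fun q => if q.2 = k then (q.1.2 : ℚ) else 0).sum =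
    if o ≤ k ∧ (E[k - o]?).map Prod.fst = some v then (((E[k - o]?).map Prod.snd).getD 0 : ℚ) else 0
  | [], o => by simp
  | a :: E, o => by
    rw [List.zipIdx_cons, List.filter_cons]
    have ih := coeff_zipIdx v k E (o + 1)
    rcases lt_trichotomy k o with hk | rfl | hk
    · simp only [show ¬ o ≤ k by omega, show ¬ o + 1 ≤ k by omega, false_and, if_false] at ih ⊢
      by_cases ha : a.1 = v
      · simp [ha, ih, show o ≠ k by omega]
      · simp [ha, ih]
    · rw [if_neg (fun hh => absurd hh.1 (by omega))] at ih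
      by_cases ha : a.1 = v
      · simp [ha, ih]
      · simp [ha, ih]
    · obtain ⟨j, rfl⟩ : ∃ j, k = o + 1 + j := ⟨k - o - 1, by omega⟩
      have e1 : o + 1 + j - o = j + 1 := by omega
      have e2 : o + 1 + j - (o + 1) = j := by omega
      rw [e2] at ih
      rw [e1, List.getElem?_cons_succ]
      simp only [show o ≤ o + 1 + j by omega, show o + 1 ≤ o + 1 + j by omega, true_and] at ih ⊢
      by_cases ha : a.1 = v
      · simp [ha, ih, show o ≠ o + 1 + j by omega]
      · simp [ha, ih]

variable {D : ChevalleyDatum} {C : Cert}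

theorem filter_eq_find (L : List (ℕ × Array (ℕ × ℤ))) (s : ℕ) (hL : L.Pairwise (fun x y => x.1 < y.1)) :
    L.filter (fun e => e.1 = s) = (L.find? (fun e => e.1 = s)).toList := by
  induction L with
  | nil => simp
  | cons a L ih =>
    rw [List.pairwise_cons] at hL
    by_cases ha : a.1 = s
    · have : L.filter (fun e => e.1 = s) = [] := by
        rw [List.filter_eq_nil_iff]
        intro e he
        have := hL.1 e he
        simp; omega
      simp [ha, this]
    · simp [ha, ih hL.2]

theorem okChain_row (h : okChain D = true) {r : ℕ} (hr : r < D.nroots) :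
    (D.chain.getD r #[]).toList.Pairwise (fun x y => x.1 < y.1) ∧
    ∀ e ∈ (D.chain.getD r #[]).toList, e.1 < D.nroots ∧ e.1 ≠ r ∧ e.1 ≠ D.neg r ∧
      (∀ q ∈ e.2.toList, q.1 < D.nroots ∧ q.2 ≠ 0) ∧ (e.2.toList.length ≤ 2 ∨ okLong D r e.1 = true) := by
  have h' := kall_krange h r hr
  simp only [Bool.and_eq_true, kall_iff] at h'
  refine ⟨(kSorted_spec _ _ h'.1).2, fun e he => ?_⟩
  have := h'.2 e he
  simp only [Nat.blt, Nat.ble_eq, Bool.and_eq_true, Bool.or_eq_true, Bool.not_eq_true', decide_eq_false_iff_not] at this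
  obtain ⟨⟨⟨⟨a, b⟩, c⟩, d⟩, f⟩ := this
  exact ⟨a, Nat.ne_of_beq_eq_false b, Nat.ne_of_beq_eq_false c, fun q hq => d q hq, f⟩

theorem chainEntry_eq (r s : ℕ) : D.chainEntry r s =
    ((D.chain.getD r #[]).toList.find? (fun e => e.1 = s)).toList.flatMap (fun e => e.2.toList) := by
  unfold ChevalleyDatum.chainEntry
  cases hf : (D.chain.getD r #[]).toList.find? (fun e => e.1 = s) <;> simp [hf]

theorem chainPoly_coeff (h : okChain D = true) {r : ℕ} (hr : r < D.nroots) (s v k : ℕ) :
    (chainPoly D r s v).coeff (k + 1) =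
      if D.chainRoot r s (k + 1) = some v then (D.chainM r s (k + 1) : ℚ) else 0 := by
  rw [chainPoly, ← Polynomial.lcoeff_apply, map_list_sum, ChevalleyDatum.chainCoeff,
    filter_eq_find _ s (okChain_row h hr).1, ChevalleyDatum.chainRoot, ChevalleyDatum.chainM, chainEntry_eq]
  cases (D.chain.getD r #[]).toList.find? (fun e => e.1 = s) with
  | none => simp
  | some e =>
    have := coeff_zipIdx v k e.2.toList 0
    simp only [zero_le, true_and, Nat.sub_zero] at this
    simp only [Option.toList_some, List.flatMap_cons, List.flatMap_nil, List.append_nil, Nat.add_sub_cancel,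
      List.map_map, Function.comp_def, Polynomial.lcoeff_apply, Polynomial.coeff_monomial, Nat.add_right_cancel_iff] at this ⊢
    rw [this]

theorem chain_some (h : okChain D = true) {r s k v : ℕ} (hr : r < D.nroots)
    (hk : D.chainRoot r s (k + 1) = some v) :
    v < D.nroots ∧ D.chainM r s (k + 1) ≠ 0 ∧ s < D.nroots ∧ s ≠ r ∧ s ≠ D.neg r := by
  rw [ChevalleyDatum.chainRoot, chainEntry_eq] at hk
  cases hf : (D.chain.getD r #[]).toList.find? (fun e => e.1 = s) with
  | none => rw [hf] at hk; exact absurd hk (by simp)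
  | some e =>
    have hmem := List.mem_of_find?_eq_some hf
    have hes : e.1 = s := by simpa using List.find?_some hf
    obtain ⟨a, b, c, d, -⟩ := (okChain_row h hr).2 e hmem
    simp only [hf, Option.toList_some, List.flatMap_cons, List.flatMap_nil, List.append_nil,
      Nat.add_sub_cancel] at hk
    cases hq : e.2.toList[k]? with
    | none => simp [hq] at hk
    | some q =>
      obtain ⟨hq1, hq2⟩ := d q (List.mem_of_getElem? hq)
      simp only [hq, Option.map_some, Option.some.injEq] at hk
      refine ⟨hk ▸ hq1, ?_, hes ▸ a, hes ▸ b, hes ▸ c⟩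
      rw [ChevalleyDatum.chainM, chainEntry_eq]
      simp only [hf, Option.toList_some, List.flatMap_cons, List.flatMap_nil, List.append_nil,
        Nat.add_sub_cancel, hq, Option.map_some, Option.getD_some]
      exact hq2

theorem xMat_root_entry {F : Type*} [Field F] {r : ℕ} (hr : r < D.nroots) (s v : Fin D.nroots)
    (h1 : s.val ≠ r) (h2 : s.val ≠ D.neg r) (t : F) :
    D.x F r t (Sum.inr v) (Sum.inr s) = (if v = s then 1 else 0) +
      ((D.chainCoeff r s v).map fun km => ((km.2 : ℤ) : F) * t ^ km.1).sum := by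
  rw [ChevalleyDatum.x, dif_pos hr]
  simp only [ChevalleyDatum.xMat, Matrix.of_apply]
  rw [if_neg (fun hh => h1 (congrArg Fin.val hh)), if_neg (show ¬ s.val = D.negIdx.getD r 0 from h2)]

theorem chainPoly_eval (r s v : ℕ) (t : ℚ) : (chainPoly D r s v).eval t =
    ((D.chainCoeff r s v).map fun km => (km.2 : ℚ) * t ^ km.1).sum := by
  rw [chainPoly]
  induction D.chainCoeff r s v with
  | nil => simp
  | cons a L ih => simp [ih]

namespace Ok

theorem neg_w (h : Ok D C) {i r : ℕ} (hi : i < D.rank) (hr : r < D.nroots) :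
    D.neg (C.w i r) = C.w i (D.neg r) := by
  rw [← h.neg_eq (h.w_lt hi hr), ← h.neg_eq hr, (h.refl_spec hi hr).2.2.1]

theorem w_w (h : Ok D C) {i r : ℕ} (hi : i < D.rank) (hr : r < D.nroots) : C.w i (C.w i r) = r :=
  (h.refl_spec hi hr).1

theorem w_inj (h : Ok D C) {i r s : ℕ} (hi : i < D.rank) (hr : r < D.nroots) (hs : s < D.nroots)
    (he : C.w i r = C.w i s) : r = s := by rw [← h.w_w hi hr, he, h.w_w hi hs]

theorem chainPoly_w (h : Ok D C) {i r s v : ℕ} (hi : i < D.rank) (hr : r < D.nroots) (hs : s < D.nroots)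
    (hv : v < D.nroots) (h1 : s ≠ r) (h2 : s ≠ D.neg r) :
    (chainPoly D (C.w i r) (C.w i s) (C.w i v)).comp (Polynomial.C (C.eta i r : ℚ) * Polynomial.X) =
      Polynomial.C ((C.eta i v : ℚ) * (C.eta i s : ℚ)) * chainPoly D r s v := by
  have hwr := h.w_lt hi hr
  have hws := h.w_lt hi hs
  have hwv := h.w_lt hi hv
  have h1' : C.w i s ≠ C.w i r := fun e => h1 (h.w_inj hi hs hr e)
  have h2' : C.w i s ≠ D.neg (C.w i r) := by
    rw [h.neg_w hi hr]
    exact fun e => h2 (h.w_inj hi hs (h.neg_eq hr ▸ h.neg_lt hr) e)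
  refine Polynomial.funext fun t => ?_
  have e := congrArg (fun g : GL D.Idx ℚ => (g : Matrix D.Idx D.Idx ℚ) (Sum.inr ⟨C.w i v, hwv⟩) (Sum.inr ⟨s, hs⟩))
    (h.nG_mul_xG (F := ℚ) hi hr t)
  simp only [Units.val_mul, val_xG, h.nG_one_val hi, Matrix.mul_apply] at e
  rw [Finset.sum_eq_single (Sum.inr ⟨v, hv⟩ : D.Idx), Finset.sum_eq_single (Sum.inr ⟨C.w i s, hws⟩ : D.Idx)] at e
  · rw [xMat_root_entry hr ⟨s, hs⟩ ⟨v, hv⟩ h1 h2,
      xMat_root_entry hwr ⟨C.w i s, hws⟩ ⟨C.w i v, hwv⟩ h1' h2', h.nc_apply_inr hi, h.nc_apply_inr hi] at e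
    simp only [Sum.elim_inr, ← (h.refl_spec hi hv).2.1, ← (h.refl_spec hi hs).2.1, if_true] at e
    simp only [Polynomial.eval_comp, Polynomial.eval_mul, Polynomial.eval_C, Polynomial.eval_X, chainPoly_eval]
    have hvs : (C.w i v = C.w i s) ↔ v = s := ⟨h.w_inj hi hv hs, fun e => e ▸ rfl⟩
    have sq := eta_sq (F := ℚ) C i s
    by_cases hd : v = s
    · subst hd
      simp only [if_true] at e
      linear_combination (-(C.eta i v : ℚ)) * e -
        ((((D.chainCoeff (C.w i r) (C.w i v) (C.w i v)).map fun km => (km.2 : ℚ) * ((C.eta i r : ℚ) * t) ^ km.1).sum)) * sq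
    · simp only [Fin.mk.injEq, hd, if_false, mt hvs.1 hd, zero_add] at e
      linear_combination (-(C.eta i s : ℚ)) * e -
        ((((D.chainCoeff (C.w i r) (C.w i s) (C.w i v)).map fun km => (km.2 : ℚ) * ((C.eta i r : ℚ) * t) ^ km.1).sum)) * sq
  · intro z _ hz
    rcases z with a | z
    · rw [h.nc_apply_inr hi]; simp
    · rw [h.nc_apply_inr hi]
      simp only [Sum.elim_inr, ← (h.refl_spec hi hs).2.1]
      rw [if_neg, mul_zero]
      exact fun e' => hz (congrArg Sum.inr (Fin.ext e'))
  · simp
  · intro z _ hz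
    rcases z with a | z
    · rw [h.nc_apply_inl hi]; simp
    · rw [h.nc_apply_inr hi]
      simp only [Sum.elim_inr, ← (h.refl_spec hi z.isLt).2.1]
      rw [if_neg, zero_mul]
      exact fun e' => hz (congrArg Sum.inr (Fin.ext (h.w_inj hi z.isLt hv e'.symm)))
  · simp

theorem chain_w_some (h : Ok D C) (hc : okChain D = true) {i r s k v : ℕ} (hi : i < D.rank)
    (hr : r < D.nroots) (hk : D.chainRoot r s (k + 1) = some v) :
    D.chainRoot (C.w i r) (C.w i s) (k + 1) = some (C.w i v) ∧
      D.chainM (C.w i r) (C.w i s) (k + 1) =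
        C.eta i r ^ (k + 1) * C.eta i s * C.eta i v * D.chainM r s (k + 1) := by
  obtain ⟨hv, hM, hs, h1, h2⟩ := chain_some hc hr hk
  have e := congrArg (fun p : Polynomial ℚ => p.coeff (k + 1)) (h.chainPoly_w hi hr hs hv h1 h2)
  simp only [Polynomial.comp_C_mul_X_coeff, Polynomial.coeff_C_mul, chainPoly_coeff hc hr,
    chainPoly_coeff hc (h.w_lt hi hr), hk, if_true] at e
  by_cases hw : D.chainRoot (C.w i r) (C.w i s) (k + 1) = some (C.w i v)
  · refine ⟨hw, ?_⟩
    rw [if_pos hw] at e
    have e' : D.chainM (C.w i r) (C.w i s) (k + 1) * C.eta i r ^ (k + 1) =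
        C.eta i v * C.eta i s * D.chainM r s (k + 1) := by exact_mod_cast e
    have sq : C.eta i r ^ (k + 1) * C.eta i r ^ (k + 1) = 1 := by
      rcases eta_cases C i r with hh | hh <;> simp [hh, ← pow_add, ← two_mul, pow_mul]
    linear_combination (C.eta i r ^ (k + 1)) * e' - D.chainM (C.w i r) (C.w i s) (k + 1) * sq
  · rw [if_neg hw, zero_mul] at e
    exact absurd e.symm (mul_ne_zero (mul_ne_zero (eta_ne_zero C i v) (eta_ne_zero C i s))
      (Int.cast_ne_zero.2 hM))

theorem chain_w (h : Ok D C) (hc : okChain D = true) {i r s : ℕ} (hi : i < D.rank)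
    (hr : r < D.nroots) (hs : s < D.nroots) (k : ℕ) :
    D.chainRoot (C.w i r) (C.w i s) (k + 1) = (D.chainRoot r s (k + 1)).map (C.w i) := by
  cases hk : D.chainRoot r s (k + 1) with
  | some v => exact (h.chain_w_some hc hi hr hk).1
  | none =>
    cases hk' : D.chainRoot (C.w i r) (C.w i s) (k + 1) with
    | none => rfl
    | some v' =>
      have := (h.chain_w_some hc hi (h.w_lt hi hr) hk').1
      rw [h.w_w hi hr, h.w_w hi hs, hk] at this
      exact absurd this (by simp)

end Ok

end Cfsg.Lib.Chev
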