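import Cfsg.Agent.Chev.TabE8
import Cfsg.Agent.Chev.Rel
import Cfsg.Agent.Chev.Chunk
import Cfsg.Prelude.Def_ChevE8

set_option autoImplicit false
set_option Elab.async false

open Cfsg.Lie

namespace Cfsg.Lib.Chev.E8

theorem tabB_0 : cert.tabBlock chevE8 0 40 = true := by decide +kernel
theorem tabB_1 : cert.tabBlock chevE8 40 40 = true := by decide +kernel
theorem tabB_2 : cert.tabBlock chevE8 80 40 = true := by decide +kernel
theorem tabB_3 : cert.tabBlock chevE8 120 40 = true := by decide +kernel
theorem tabB_4 : cert.tabBlock chevE8 160 40 = true := by decide +kernel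
theorem tabB_5 : cert.tabBlock chevE8 200 40 = true := by decide +kernel

theorem okTab : cert.okTab chevE8 = true := by
  refine cert.okTab_of chevE8 (by decide +kernel) (by decide +kernel) (by decide +kernel)
    (cert.tab_eq_of_blocks chevE8 40 (by norm_num) rfl (by decide +kernel) fun j hj => ?_)
    (by decide +kernel) (by decide +kernel) (by decide +kernel)
  replace hj : j * 40 < 240 := hj
  have hj' : j < 6 := by omega
  interval_cases j
  · exact tabB_0
  · exact tabB_1
  · exact tabB_2
  · exact tabB_3
  · exact tabB_4
  · exact tabB_5

theorem okAdd_162 : cert.okAdd 162 = true := by decide +kernel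
theorem okAdd_77 : cert.okAdd 77 = true := by decide +kernel
theorem okAdd_141 : cert.okAdd 141 = true := by decide +kernel
theorem okAdd_98 : cert.okAdd 98 = true := by decide +kernel
theorem okAdd_135 : cert.okAdd 135 = true := by decide +kernel
theorem okAdd_104 : cert.okAdd 104 = true := by decide +kernel
theorem okAdd_130 : cert.okAdd 130 = true := by decide +kernel
theorem okAdd_109 : cert.okAdd 109 = true := by decide +kernel
theorem okAdd_126 : cert.okAdd 126 = true := by decide +kernel
theorem okAdd_113 : cert.okAdd 113 = true := by decide +kernel
theorem okAdd_123 : cert.okAdd 123 = true := by decide +kernel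
theorem okAdd_116 : cert.okAdd 116 = true := by decide +kernel
theorem okAdd_121 : cert.okAdd 121 = true := by decide +kernel
theorem okAdd_118 : cert.okAdd 118 = true := by decide +kernel
theorem okAdd_120 : cert.okAdd 120 = true := by decide +kernel
theorem okAdd_119 : cert.okAdd 119 = true := by decide +kernel
theorem okN_0 : cert.okN 0 = true := by decide +kernel
theorem okInv_0 : cert.okInv 0 = true := by decide +kernel
theorem okN_1 : cert.okN 1 = true := by decide +kernel
theorem okInv_1 : cert.okInv 1 = true := by decide +kernel
theorem okN_2 : cert.okN 2 = true := by decide +kernel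
theorem okInv_2 : cert.okInv 2 = true := by decide +kernel
theorem okN_3 : cert.okN 3 = true := by decide +kernel
theorem okInv_3 : cert.okInv 3 = true := by decide +kernel
theorem okN_4 : cert.okN 4 = true := by decide +kernel
theorem okInv_4 : cert.okInv 4 = true := by decide +kernel
theorem okN_5 : cert.okN 5 = true := by decide +kernel
theorem okInv_5 : cert.okInv 5 = true := by decide +kernel
theorem okN_6 : cert.okN 6 = true := by decide +kernel
theorem okInv_6 : cert.okInv 6 = true := by decide +kernel
theorem okN_7 : cert.okN 7 = true := by decide +kernel
theorem okInv_7 : cert.okInv 7 = true := by decide +kernel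
theorem okPos : cert.okPos chevE8 = true := by decide +kernel
theorem okDesc : cert.okDesc = true := by decide +kernel

end Cfsg.Lib.Chev.E8
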