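import Cfsg.Agent.Chev.Desc
import Cfsg.Agent.Chev.Bruhat

/-! Standard parabolic subgroups, the Levi decomposition, normalisers. -/

set_option autoImplicit false

open Cfsg.Lie

namespace Cfsg.Lib.Chev

variable {D : ChevalleyDatum} {C : Cert} {T : List (List ℤ)} {F : Type*} [Field F]

theorem chainHt_spec {l : ℕ} {hr hs : List ℤ} : ∀ (L : List (ℕ × ℤ)) (k : ℕ),
    chainHt T l hr hs L k = true → ∀ (m : ℕ) (q : ℕ × ℤ), L[m]? = some q → ∀ i < l,
      htAt T q.1 i = ((k + m : ℕ) : ℤ) * hr.getD i 0 + hs.getD i 0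
  | [], _, _, m, q, hm, _, _ => by simp at hm
  | a :: L, k, h, m, q, hm, i, hi => by
    have h' : (kall (fun i => decide ((T.getD a.1 []).getD i 0 = (k : ℤ) * hr.getD i 0 + hs.getD i 0))
        (krange 0 l) && chainHt T l hr hs L (Nat.add k 1)) = true := h
    simp only [Bool.and_eq_true] at h'
    cases m with
    | zero =>
      simp only [List.getElem?_cons_zero, Option.some.injEq] at hm
      subst hm
      simpa [htAt] using of_decide_eq_true (kall_krange h'.1 i hi)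
    | succ m =>
      simp only [List.getElem?_cons_succ] at hm
      have := chainHt_spec L (k + 1) h'.2 m q hm i hi
      rw [this]
      push_cast
      ring

theorem ht_row (hT : okHt D T = true) {r i : ℕ} (hr : r < D.nroots) (hi : i < D.rank) :
    htAt T (D.neg r) i = -htAt T r i ∧
      (0 ≤ (D.coroot.getD r #[]).getD i 0 ↔ 0 ≤ htAt T r i) ∧
      ((D.coroot.getD r #[]).getD i 0 = 0 ↔ htAt T r i = 0) := by
  simp only [okHt, Bool.and_eq_true] at hT
  have h := kall_krange hT.1 r hr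
  simp only [Bool.and_eq_true] at h
  have h2 := kall_krange h.1 i hi
  simp only [Bool.and_eq_true, decide_eq_true_eq] at h2
  exact ⟨h2.1.1, h2.1.2, h2.2⟩

theorem ht_simple (hT : okHt D T = true) {i j : ℕ} (hi : i < D.rank) (hj : j < D.rank) :
    htAt T (D.simple i) j = if i = j then 1 else 0 := by
  simp only [okHt, Bool.and_eq_true] at hT
  have h := of_decide_eq_true (kall_krange (kall_krange hT.2 i hi) j hj)
  unfold ChevalleyDatum.simple
  rw [h]
  cases hb : Nat.beq i j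
  · rw [if_neg (Nat.ne_of_beq_eq_false hb)]
  · rw [if_pos (Nat.eq_of_beq_eq_true hb)]

theorem ht_entry (hT : okHt D T = true) {r : ℕ} (hr : r < D.nroots) {e : ℕ × Array (ℕ × ℤ)}
    (he : e ∈ (D.chain.getD r #[]).toList) {m : ℕ} {q : ℕ × ℤ} (hq : e.2.toList[m]? = some q)
    {i : ℕ} (hi : i < D.rank) : htAt T q.1 i = ((m + 1 : ℕ) : ℤ) * htAt T r i + htAt T e.1 i := by
  simp only [okHt, Bool.and_eq_true] at hT
  have h := kall_krange hT.1 r hr
  simp only [Bool.and_eq_true, kall_iff] at h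
  have := chainHt_spec _ 1 (h.2 e he) m q hq i hi
  rw [this]
  simp only [htAt]
  push_cast
  ring

theorem ht_chain (hT : okHt D T = true) {r s k v : ℕ} (hr : r < D.nroots)
    (hv : D.chainRoot r s (k + 1) = some v) {i : ℕ} (hi : i < D.rank) :
    htAt T v i = ((k + 1 : ℕ) : ℤ) * htAt T r i + htAt T s i := by
  rw [ChevalleyDatum.chainRoot, chainEntry_eq] at hv
  cases hf : (D.chain.getD r #[]).toList.find? (fun e => e.1 = s) with
  | none => rw [hf] at hv; exact absurd hv (by simp)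
  | some e =>
    have hes : e.1 = s := by simpa using List.find?_some hf
    rw [hf] at hv
    simp only [Option.toList_some, List.flatMap_cons, List.flatMap_nil, List.append_nil,
      Nat.add_sub_cancel, Option.map_eq_some_iff] at hv
    obtain ⟨q, hq, rfl⟩ := hv
    rw [ht_entry hT hr (List.mem_of_find?_eq_some hf) hq hi, hes]

theorem ht_commTerms (hT : okHt D T = true) (hc : okChain D = true) {r s : ℕ} (hr : r < D.nroots)
    (hs : s < D.nroots) {q : ℕ × ℤ × ℕ × ℕ} (hq : q ∈ D.commTerms r s) :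
    ∃ a b : ℕ, 1 ≤ a ∧ 1 ≤ b ∧ ∀ i < D.rank, htAt T q.1 i = a * htAt T r i + b * htAt T s i := by
  simp only [ChevalleyDatum.commTerms, List.mem_filterMap] at hq
  obtain ⟨c, hc', he⟩ := hq
  simp only [Option.map_eq_some_iff] at he
  obtain ⟨k, hk, rfl⟩ := he
  simp only [List.mem_cons, List.not_mem_nil, or_false] at hc'
  rcases hc' with rfl | rfl | rfl | rfl | rfl | rfl | rfl
  · exact ⟨1, 1, le_rfl, le_rfl, fun i hi => by simpa using ht_chain hT hr (k := 0) hk hi⟩
  · exact ⟨2, 1, by omega, le_rfl, fun i hi => by simpa using ht_chain hT hr (k := 1) hk hi⟩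
  · exact ⟨1, 2, le_rfl, by omega, fun i hi => by
      have := ht_chain hT hs (k := 1) hk hi; simp at this ⊢; linarith⟩
  · exact ⟨3, 1, by omega, le_rfl, fun i hi => by simpa using ht_chain hT hr (k := 2) hk hi⟩
  · exact ⟨1, 3, le_rfl, by omega, fun i hi => by
      have := ht_chain hT hs (k := 2) hk hi; simp at this ⊢; linarith⟩
  · obtain ⟨k', h1, h2⟩ := Option.bind_eq_some_iff.1 hk
    refine ⟨3, 2, by omega, by omega, fun i hi => ?_⟩
    have e1 := ht_chain hT hr (k := 2) h1 hi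
    have e2 := ht_chain hT (chain_some hc hr h1).1 (k := 0) h2 hi
    simp at e1 e2 ⊢; linarith
  · obtain ⟨k', h1, h2⟩ := Option.bind_eq_some_iff.1 hk
    refine ⟨2, 3, by omega, by omega, fun i hi => ?_⟩
    have e1 := ht_chain hT hs (k := 2) h1 hi
    have e2 := ht_chain hT (chain_some hc hs h1).1 (k := 0) h2 hi
    simp at e1 e2 ⊢; linarith

namespace Struct

theorem inRootSub_iff (hT : okHt D T = true) {J : Set ℕ} {r : ℕ} :
    D.InRootSub J r ↔ r < D.nroots ∧ ∀ i < D.rank, i ∉ J → htAt T r i = 0 :=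
  ⟨fun h => ⟨h.1, fun i hi hJ => (ht_row hT h.1 hi).2.2.1 (h.2 i hi hJ)⟩,
    fun h => ⟨h.1, fun i hi hJ => (ht_row hT h.1 hi).2.2.2 (h.2 i hi hJ)⟩⟩

theorem ht_nonneg (S : Struct D C) (hT : okHt D T = true) {r : ℕ} (hr : D.nroots / 2 ≤ r) (hr' : r < D.nroots)
    {i : ℕ} (hi : i < D.rank) : 0 ≤ htAt T r i := by
  refine (ht_row hT hr' hi).2.1.1 ?_
  have h := (S.isPos_iff.2 ⟨hr, hr'⟩).2
  rw [Array.getD_eq_getD_getElem?]
  cases hc : (D.coroot.getD r #[])[i]? with
  | none => simp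
  | some c =>
    simp only [Option.getD_some]
    exact h c (Array.mem_toList_iff.2 (Array.mem_of_getElem? hc))

theorem pos_of_ht (S : Struct D C) (hT : okHt D T = true) {r : ℕ} (hr : r < D.nroots) {i : ℕ} (hi : i < D.rank)
    (h : 0 < htAt T r i) : D.nroots / 2 ≤ r := by
  by_contra hlt
  obtain ⟨n1, n2, n3⟩ := S.neg_pos (show r < D.nroots / 2 by omega)
  have h1 := S.ht_nonneg hT n1 n2 hi
  rw [(ht_row hT hr hi).1] at h1
  omega

theorem conj_closure_le {G : Type*} [Group G] {s : Set G} {U : Subgroup G} {g : G}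
    (h : ∀ u ∈ s, g * u * g⁻¹ ∈ U) : ∀ u ∈ Subgroup.closure s, g * u * g⁻¹ ∈ U := by
  intro u hu
  exact (show Subgroup.closure s ≤ U.comap (MulAut.conj g).toMonoidHom from
    (Subgroup.closure_le _).2 fun x hx => h x hx) hu

/-- `U_J` is normalised by the root subgroups of the positive roots and of `Φ_J`. -/
theorem xG_conj_UJ (S : Struct D C) (hT : okHt D T = true) (J : Set ℕ) {r : ℕ} (hr : r < D.nroots)
    (hrJ : D.nroots / 2 ≤ r ∨ D.InRootSub J r) (t : F) :
    ∀ u ∈ D.unipotentRadical F J, S.ok.xG r t * u * (S.ok.xG r t)⁻¹ ∈ D.unipotentRadical F J := by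
  refine conj_closure_le ?_
  rintro u ⟨s, v, hs, hsJ, hu⟩
  rw [S.ok.eq_xG hu]
  obtain ⟨hs1, hs2⟩ := S.isPos_iff.1 hs
  have hmem : ∀ (k : ℕ) (w : F), D.nroots / 2 ≤ k → k < D.nroots → ¬ D.InRootSub J k →
      S.ok.xG k w ∈ D.unipotentRadical F J := fun k w a b c =>
    Subgroup.subset_closure ⟨k, w, S.isPos_iff.2 ⟨a, b⟩, c, S.ok.val_xG k w⟩
  rcases eq_or_ne s r with rfl | hne
  · rw [show S.ok.xG s t * S.ok.xG s v * (S.ok.xG s t)⁻¹ = S.ok.xG s v by
      rw [S.ok.xG_mul, S.ok.xG_inv, S.ok.xG_mul]; congr 1; ring]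
    exact hmem s v hs1 hs2 hsJ
  have hn : s ≠ D.neg r := by
    intro e
    rcases hrJ with h | h
    · have := S.neg_lt_half hr h; omega
    · refine hsJ ((inRootSub_iff hT).2 ⟨hs2, fun i hi hJ => ?_⟩)
      rw [e, (ht_row hT hr hi).1, ((inRootSub_iff hT).1 h).2 i hi hJ, neg_zero]
  have e := S.ok.commRel S.chain S.base hr hs2 hne hn (-t) v
  have e' : S.ok.xG r t * S.ok.xG s v * (S.ok.xG r t)⁻¹ =
      S.ok.xG s v * S.ok.wG (D.commWord F r s (-t) v) := by
    rw [S.ok.xG_inv, mul_assoc, e, ← mul_assoc, ← mul_assoc, S.ok.xG_mul, add_neg_cancel, S.xG_zero, one_mul]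
  rw [e']
  refine mul_mem (hmem s v hs1 hs2 hsJ) (list_prod_mem fun g hg => ?_)
  simp only [ChevalleyDatum.commWord, List.map_map, List.mem_map] at hg
  obtain ⟨q, hq, rfl⟩ := hg
  obtain ⟨a, b, ha, hb, hab⟩ := ht_commTerms hT S.chain hr hs2 hq
  have hk : q.1 < D.nroots := Ok.commTerms_lt S.chain hr hs2 hq
  obtain ⟨i, hi, hiJ, hsi⟩ : ∃ i < D.rank, i ∉ J ∧ htAt T s i ≠ 0 := by
    by_contra hcon
    push Not at hcon
    exact hsJ ((inRootSub_iff hT).2 ⟨hs2, hcon⟩)
  have hspos : 0 < htAt T s i := lt_of_le_of_ne (S.ht_nonneg hT hs1 hs2 hi) (Ne.symm hsi)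
  have hr0 : 0 ≤ htAt T r i := by
    rcases hrJ with h | h
    · exact S.ht_nonneg hT h hr hi
    · exact (((inRootSub_iff hT).1 h).2 i hi hiJ).ge
  have hkpos : 0 < htAt T q.1 i := by
    rw [hab i hi]
    have : (1 : ℤ) ≤ b := by exact_mod_cast hb
    nlinarith [Int.natCast_nonneg a, mul_nonneg (Int.natCast_nonneg a) hr0]
  refine hmem q.1 _ (S.pos_of_ht hT hk hi hkpos) hk fun hin => ?_
  exact hkpos.ne' (((inRootSub_iff hT).1 hin).2 i hi hiJ)

theorem diag_conj_UJ (S : Struct D C) (J : Set ℕ) {g : GL D.Idx F} (hg : g ∈ D.diagonalSubgroup F) :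
    ∀ u ∈ D.unipotentRadical F J, g * u * g⁻¹ ∈ D.unipotentRadical F J := by
  refine conj_closure_le ?_
  rintro u ⟨s, v, hs, hsJ, hu⟩
  rw [S.ok.eq_xG hu]
  obtain ⟨-, c, -, e⟩ := S.act_diag hg ⟨s, hs.1⟩
  rw [(e v).1]
  exact Subgroup.subset_closure ⟨s, _, hs, hsJ, S.ok.val_xG _ _⟩

/-- The subgroup `H ⊔ ⟨X_r : r ∈ Φ⁺ ∪ Φ_J⟩`. -/
noncomputable def HX (D : ChevalleyDatum) (F : Type*) [Field F] (J : Set ℕ) : Subgroup (GL D.Idx F) :=
  D.diagonalSubgroup F ⊔
    Subgroup.closure {g : GL D.Idx F | ∃ (r : ℕ) (t : F), (D.IsPosRoot r ∨ D.InRootSub J r) ∧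
      (g : Matrix D.Idx D.Idx F) = D.x F r t}

theorem HX_le_normalizer (S : Struct D C) (hT : okHt D T = true) (J : Set ℕ) :
    HX D F J ≤ Subgroup.normalizer (D.unipotentRadical F J : Set (GL D.Idx F)) := by
  have key : ∀ g : GL D.Idx F,
      (∀ u ∈ D.unipotentRadical F J, g * u * g⁻¹ ∈ D.unipotentRadical F J) →
      (∀ u ∈ D.unipotentRadical F J, g⁻¹ * u * g⁻¹⁻¹ ∈ D.unipotentRadical F J) →
      g ∈ Subgroup.normalizer (D.unipotentRadical F J : Set (GL D.Idx F)) := by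
    intro g h1 h2
    rw [Subgroup.mem_normalizer_iff]
    refine fun x => ⟨h1 x, fun hx => ?_⟩
    simpa [mul_assoc] using h2 _ hx
  refine sup_le (fun g hg => key g (S.diag_conj_UJ J hg) (S.diag_conj_UJ J (inv_mem hg)))
    ((Subgroup.closure_le _).2 ?_)
  rintro g ⟨r, t, hr, hg⟩
  rw [S.ok.eq_xG hg]
  have hrn : r < D.nroots := hr.elim (fun h => h.1) (fun h => h.1)
  have hr' : D.nroots / 2 ≤ r ∨ D.InRootSub J r := hr.imp (fun h => (S.isPos_iff.1 h).1) id
  refine key _ (S.xG_conj_UJ hT J hrn hr' t) ?_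
  rw [S.ok.xG_inv]
  exact S.xG_conj_UJ hT J hrn hr' (-t)

theorem parabolic_eq (S : Struct D C) (hT : okHt D T = true) (hDesc : okDescJ C T = true) (J : Set ℕ) :
    D.parabolicSubgroup F J = HX D F J := by
  have hxHX : ∀ r t, (D.IsPosRoot r ∨ D.InRootSub J r) → S.ok.xG r t ∈ HX D F J := fun r t h =>
    Subgroup.mem_sup_right (Subgroup.subset_closure ⟨r, t, h, S.ok.val_xG r t⟩)
  refine le_antisymm (sup_le (sup_le ((Subgroup.closure_le _).2 ?_) le_sup_left)
    ((Subgroup.closure_le _).2 ?_)) (sup_le (le_sup_right.trans le_sup_left) ((Subgroup.closure_le _).2 ?_))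
  · rintro g ⟨r, t, hr, hg⟩
    rw [S.ok.eq_xG hg]
    exact hxHX r t (Or.inl hr)
  · rintro g ⟨j, hjJ, hj, hg⟩
    have hsj : D.simple j < D.nroots := S.ok.sr_eq hj ▸ S.ok.sr_lt hj
    have e : g = S.ok.nG (D.simple j) 1 := Units.ext (by rw [hg, S.ok.val_nG])
    have h1 : D.IsPosRoot (D.simple j) :=
      S.isPos_iff.2 ⟨S.ok.sr_eq hj ▸ S.sr_pos hj, hsj⟩
    have hneg : D.neg (D.simple j) < D.nroots := by have := (S.order_row hsj).1; omega
    have h2 : D.InRootSub J (D.neg (D.simple j)) := by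
      refine (inRootSub_iff hT).2 ⟨hneg, fun i hi hiJ => ?_⟩
      rw [(ht_row hT hsj hi).1, ht_simple hT hj hi, if_neg (fun e : j = i => hiJ (e ▸ hjJ)), neg_zero]
    rw [e]
    exact mul_mem (mul_mem (hxHX _ _ (Or.inl h1)) (hxHX _ _ (Or.inr h2))) (hxHX _ _ (Or.inl h1))
  · rintro g ⟨r, t, hr, hg⟩
    rw [S.ok.eq_xG hg]
    have hposmem : ∀ r, D.IsPosRoot r → ∀ t : F, S.ok.xG r t ∈ D.parabolicSubgroup F J := fun r h t =>
      Subgroup.mem_sup_left (S.B_le_of (S.xG_mem_U (S.isPos_iff.1 h).1 h.1 t))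
    suffices H : ∀ d r, D.nroots / 2 - r = d → D.InRootSub J r → r < D.nroots / 2 →
        ∀ t : F, S.ok.xG r t ∈ D.parabolicSubgroup F J by
      rcases hr with hr | hr
      · exact hposmem r hr t
      · by_cases hp : D.nroots / 2 ≤ r
        · exact hposmem r (S.isPos_iff.2 ⟨hp, hr.1⟩) t
        · exact H _ r rfl hr (by omega) t
    clear hg g hr t r
    intro d
    induction d using Nat.strong_induction_on with
    | _ d ih =>
      intro r hd hr hlt t
      have e2 : Nat.div C.n 2 = D.nroots / 2 := by rw [S.ok.n_eq]; rfl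
      have h0 := kall_krange (show kall _ (krange 0 (Nat.div C.n 2)) = true from hDesc) r (e2.symm ▸ hlt)
      simp only [Bool.not_eq_true', ← Bool.not_eq_true, kall_iff, not_forall] at h0
      obtain ⟨i, hi, hcond⟩ := h0
      rw [krange_eq, List.mem_range'_1, Nat.zero_add, S.ok.l_eq] at hi
      simp only [Bool.not_eq_true', Bool.not_eq_false, Classical.not_not, Bool.and_eq_true, Bool.or_eq_true,
        decide_eq_false_iff_not, Nat.blt, Nat.ble_eq, e2] at hcond
      obtain ⟨hne, hcond⟩ := hcond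
      have hiJ : i ∈ J := by
        by_contra hiJ
        exact hne (((inRootSub_iff hT).1 hr).2 i hi.2 hiJ)
      have hn : S.ok.nG (D.simple i) (1 : F) ∈ D.parabolicSubgroup F J :=
        Subgroup.mem_sup_right (Subgroup.subset_closure ⟨i, hiJ, hi.2, S.ok.val_nG _ _⟩)
      have hw : r < D.nroots := by omega
      have hXw : ∀ t : F, S.ok.xG (C.w i r) t ∈ D.parabolicSubgroup F J := by
        rcases hcond with hcond | ⟨⟨h1, h2⟩, h3⟩
        · have hr' := Nat.eq_of_beq_eq_true hcond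
          rw [hr', ← (S.ok.refl_simple hi.2).1, S.ok.w_w hi.2 (S.ok.sr_lt hi.2)]
          exact hposmem _ (S.isPos_iff.2 ⟨S.sr_pos hi.2, S.ok.sr_lt hi.2⟩)
        · refine ih (D.nroots / 2 - C.w i r) (by omega) (C.w i r) rfl
            ((inRootSub_iff hT).2 ⟨S.ok.w_lt hi.2 hw, fun k hk hkJ => ?_⟩) (by omega)
          have h4 := kall_krange h3 k (S.ok.l_eq.symm ▸ hk)
          simp only [Bool.or_eq_true, decide_eq_true_eq] at h4
          rcases h4 with h4 | h4
          · exact absurd (Nat.eq_of_beq_eq_true h4 ▸ hiJ) hkJ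
          · show (T.getD (C.w i r) []).getD k 0 = 0
            rw [h4]
            exact ((inRootSub_iff hT).1 hr).2 k hk hkJ
      have hconj := mul_mem (mul_mem (inv_mem hn) (hXw ((C.eta i r : F) * t))) hn
      rwa [← S.ok.conj_nG_xG hi.2 hw, show (S.ok.nG (D.simple i) (1 : F))⁻¹ *
        (S.ok.nG (D.simple i) 1 * S.ok.xG r t * (S.ok.nG (D.simple i) 1)⁻¹) * S.ok.nG (D.simple i) 1 =
          S.ok.xG r t by group] at hconj

/-- Weight of a coordinate. -/
noncomputable def wtJ (T : List (List ℤ)) (i : ℕ) : D.Idx → ℤ :=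
  Sum.elim (fun _ => 0) fun r => htAt T r.val i

theorem entry_ht (S : Struct D C) (hT : okHt D T = true) {r : ℕ} (hr : r < D.nroots) (t : F) {x y : D.Idx}
    (hne : (D.x F r t - 1) x y ≠ 0) :
    ∃ k : ℕ, 1 ≤ k ∧ ∀ i < D.rank, wtJ T i x = wtJ T i y + k * htAt T r i := by
  rw [ChevalleyDatum.x, dif_pos hr, Matrix.sub_apply] at hne
  simp only [ChevalleyDatum.xMat, Matrix.of_apply] at hne
  rcases y with j | s
  · rcases x with a | u
    · simp [Matrix.one_apply, Sum.inl.injEq] at hne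
    · simp only [Matrix.one_apply_ne (show (Sum.inr u : D.Idx) ≠ Sum.inl j by simp), sub_zero] at hne
      obtain ⟨hu, -⟩ := ite_ne_right_iff.1 hne
      subst hu
      exact ⟨1, le_rfl, fun i _ => by simp [wtJ]⟩
  · by_cases hsr : s = (⟨r, hr⟩ : Fin D.nroots)
    · subst hsr
      rcases x with a | u
      · simp at hne
      · by_cases hu : u = (⟨r, hr⟩ : Fin D.nroots)
        · subst hu; simp at hne
        · simp [hu] at hne
    simp only [hsr, if_false] at hne
    by_cases hsn : s.val = D.negIdx.getD r 0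
    · simp only [hsn, if_true] at hne
      have hs' : ∀ i < D.rank, htAt T s.val i = -htAt T r i := fun i hi => by
        rw [hsn]; exact (ht_row hT hr hi).1
      rcases x with a | u
      · exact ⟨1, le_rfl, fun i hi => by simp [wtJ, hs' i hi]⟩
      · by_cases hus : u = s
        · subst hus; simp at hne
        · by_cases hur : u = (⟨r, hr⟩ : Fin D.nroots)
          · subst hur
            exact ⟨2, by omega, fun i hi => by simp [wtJ, hs' i hi]; ring⟩
          · simp [hus, hur] at hne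
    · simp only [hsn, if_false] at hne
      rcases x with a | u
      · simp at hne
      · simp only [Matrix.one_apply, Sum.inr.injEq, add_sub_cancel_left] at hne
        obtain ⟨km, hkm⟩ : ∃ km, km ∈ D.chainCoeff r s.val u.val := by
          rcases List.eq_nil_or_concat' (D.chainCoeff r s.val u.val) with h | ⟨L, a, h⟩
          · rw [h] at hne; simp at hne
          · exact ⟨a, by rw [h]; simp⟩
        simp only [ChevalleyDatum.chainCoeff, List.mem_flatMap, List.mem_filter, decide_eq_true_eq,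
          List.mem_map] at hkm
        obtain ⟨e, ⟨he, hes⟩, q, ⟨hq, hqu⟩, -⟩ := hkm
        obtain ⟨qv, qi⟩ := q
        refine ⟨qi + 1, by omega, fun i hi => ?_⟩
        have hget := List.mem_zipIdx' hq
        have := ht_entry hT hr he (m := qi) (q := qv)
          (by rw [List.getElem?_eq_getElem hget.1]; exact congrArg some hget.2.symm) hi
        simp only [wtJ, Sum.elim_inr]
        rw [← hqu, this, hes]
        ring

/-- `M` respects the grading outside `J`. -/
def DegJ (T : List (List ℤ)) (J : Set ℕ) (M : Matrix D.Idx D.Idx F) : Prop :=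
  ∀ x y, M x y ≠ 0 → ∀ i < D.rank, i ∉ J → wtJ T i x = wtJ T i y

/-- `M` raises the grading outside `J`. -/
def RaiseJ (T : List (List ℤ)) (J : Set ℕ) (M : Matrix D.Idx D.Idx F) : Prop :=
  ∀ x y, M x y ≠ 0 → (∀ i < D.rank, i ∉ J → wtJ T i y ≤ wtJ T i x) ∧
    ∃ i < D.rank, i ∉ J ∧ wtJ T i y < wtJ T i x

theorem DegJ.mul {J : Set ℕ} {A B : Matrix D.Idx D.Idx F} (hA : DegJ T J A) (hB : DegJ T J B) :
    DegJ T J (A * B) := by
  intro x y h i hi hJ
  rw [Matrix.mul_apply] at h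
  obtain ⟨z, -, hz⟩ := Finset.exists_ne_zero_of_sum_ne_zero h
  exact (hA x z (left_ne_zero_of_mul hz) i hi hJ).trans (hB z y (right_ne_zero_of_mul hz) i hi hJ)

theorem RaiseJ.mul {J : Set ℕ} {A B : Matrix D.Idx D.Idx F} (hA : RaiseJ T J A) (hB : RaiseJ T J B) :
    RaiseJ T J (A * B) := by
  intro x y h
  rw [Matrix.mul_apply] at h
  obtain ⟨z, -, hz⟩ := Finset.exists_ne_zero_of_sum_ne_zero h
  obtain ⟨a1, i, hi, hJ, a2⟩ := hA x z (left_ne_zero_of_mul hz)
  obtain ⟨b1, -⟩ := hB z y (right_ne_zero_of_mul hz)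
  exact ⟨fun k hk hkJ => (b1 k hk hkJ).trans (a1 k hk hkJ), i, hi, hJ, (b1 i hi hJ).trans_lt a2⟩

theorem RaiseJ.add {J : Set ℕ} {A B : Matrix D.Idx D.Idx F} (hA : RaiseJ T J A) (hB : RaiseJ T J B) :
    RaiseJ T J (A + B) := by
  intro x y h
  by_cases ha : A x y = 0
  · refine hB x y fun hb => h ?_
    rw [Matrix.add_apply, ha, hb, add_zero]
  · exact hA x y ha

theorem UJ_inf_LJ (S : Struct D C) (hT : okHt D T = true) (J : Set ℕ) :
    D.unipotentRadical F J ⊓ D.leviSubgroup F J = ⊥ := by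
  have h1deg : DegJ T J (1 : Matrix D.Idx D.Idx F) := fun x y h i _ _ => by
    by_cases e : x = y
    · rw [e]
    · exact absurd (Matrix.one_apply_ne e) h
  let L : Subgroup (GL D.Idx F) :=
    { carrier := {g | DegJ T J (g : Matrix D.Idx D.Idx F) ∧
        DegJ T J ((g⁻¹ : GL D.Idx F) : Matrix D.Idx D.Idx F)}
      one_mem' := ⟨by rw [Units.val_one]; exact h1deg, by rw [inv_one, Units.val_one]; exact h1deg⟩
      mul_mem' := fun {a b} ha hb => ⟨by rw [Units.val_mul]; exact ha.1.mul hb.1,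
        by rw [mul_inv_rev, Units.val_mul]; exact hb.2.mul ha.2⟩
      inv_mem' := fun {a} ha => ⟨ha.2, by rw [inv_inv]; exact ha.1⟩ }
  have h0raise : RaiseJ T J (0 : Matrix D.Idx D.Idx F) := fun x y h => absurd rfl h
  let U : Subgroup (GL D.Idx F) :=
    { carrier := {g | RaiseJ T J ((g : Matrix D.Idx D.Idx F) - 1) ∧
        RaiseJ T J (((g⁻¹ : GL D.Idx F) : Matrix D.Idx D.Idx F) - 1)}
      one_mem' := ⟨by rw [Units.val_one, sub_self]; exact h0raise,
        by rw [inv_one, Units.val_one, sub_self]; exact h0raise⟩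
      mul_mem' := fun {a b} ha hb => by
        have e : ∀ A B : Matrix D.Idx D.Idx F, A * B - 1 = (A - 1) * (B - 1) + (A - 1) + (B - 1) :=
          fun A B => by noncomm_ring
        exact ⟨by rw [Units.val_mul, e]; exact ((ha.1.mul hb.1).add ha.1).add hb.1,
          by rw [mul_inv_rev, Units.val_mul, e]; exact ((hb.2.mul ha.2).add hb.2).add ha.2⟩
      inv_mem' := fun {a} ha => ⟨ha.2, by rw [inv_inv]; exact ha.1⟩ }
  have hLle : D.leviSubgroup F J ≤ L := by
    refine sup_le ?_ ((Subgroup.closure_le _).2 ?_)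
    · intro g hg
      have : ∀ g ∈ D.diagonalSubgroup F, DegJ T J ((g : GL D.Idx F) : Matrix D.Idx D.Idx F) := by
        intro g hg x y h i _ _
        by_cases e : x = y
        · rw [e]
        · exact absurd (S.diag_apply_ne hg e) h
      exact ⟨this g hg, this _ (inv_mem hg)⟩
    · rintro g ⟨r, t, hr, hg⟩
      rw [S.ok.eq_xG hg]
      have key : ∀ t : F, DegJ T J ((S.ok.xG r t : GL D.Idx F) : Matrix D.Idx D.Idx F) := by
        intro t x y h i hi hiJ
        by_cases e : x = y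
        · rw [e]
        rw [S.ok.val_xG] at h
        obtain ⟨k, -, hk⟩ := S.entry_ht hT hr.1 t (x := x) (y := y) (by
          rwa [Matrix.sub_apply, Matrix.one_apply_ne e, sub_zero])
        rw [hk i hi, ((inRootSub_iff hT).1 hr).2 i hi hiJ, mul_zero, add_zero]
      refine ⟨key t, ?_⟩
      rw [S.ok.xG_inv]
      exact key (-t)
  have hUle : D.unipotentRadical F J ≤ U := by
    refine (Subgroup.closure_le _).2 ?_
    rintro g ⟨r, t, hr, hrJ, hg⟩
    rw [S.ok.eq_xG hg]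
    obtain ⟨i, hi, hiJ, hri⟩ : ∃ i < D.rank, i ∉ J ∧ htAt T r i ≠ 0 := by
      by_contra hcon
      push Not at hcon
      exact hrJ ((inRootSub_iff hT).2 ⟨hr.1, hcon⟩)
    have key : ∀ t : F, RaiseJ T J (((S.ok.xG r t : GL D.Idx F) : Matrix D.Idx D.Idx F) - 1) := by
      intro t x y h
      rw [S.ok.val_xG] at h
      obtain ⟨k, hk1, hk⟩ := S.entry_ht hT hr.1 t h
      have hnn : ∀ i < D.rank, 0 ≤ htAt T r i := fun i hi => S.ht_nonneg hT (S.isPos_iff.1 hr).1 hr.1 hi
      refine ⟨fun j hj _ => ?_, i, hi, hiJ, ?_⟩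
      · rw [hk j hj]; nlinarith [hnn j hj]
      · rw [hk i hi]
        have : 0 < htAt T r i := lt_of_le_of_ne (hnn i hi) (Ne.symm hri)
        have hk1' : (1 : ℤ) ≤ k := by exact_mod_cast hk1
        nlinarith
    refine ⟨key t, ?_⟩
    rw [S.ok.xG_inv]
    exact key (-t)
  refine eq_bot_iff.2 fun g hg => ?_
  obtain ⟨h1, h2⟩ := Subgroup.mem_inf.1 hg
  rw [Subgroup.mem_bot]
  refine Units.ext ?_
  rw [Units.val_one, ← sub_eq_zero]
  refine Matrix.ext fun x y => ?_
  by_contra h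
  obtain ⟨-, i, hi, hiJ, hlt⟩ := (hUle h1).1 x y h
  have hxy : x ≠ y := fun e => by rw [e] at hlt; exact lt_irrefl _ hlt
  refine hlt.ne ((hLle h2).1 x y (fun h0 => h ?_) i hi hiJ).symm
  show (g : Matrix D.Idx D.Idx F) x y - (1 : Matrix D.Idx D.Idx F) x y = 0
  rw [h0, Matrix.one_apply_ne hxy, sub_zero]

theorem levi (S : Struct D C) (hT : okHt D T = true) (hDesc : okDescJ C T = true) (J : Set ℕ) :
    D.parabolicSubgroup F J ≤ Subgroup.normalizer (D.unipotentRadical F J : Set (GL D.Idx F)) ∧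
      D.unipotentRadical F J ⊔ D.leviSubgroup F J = D.parabolicSubgroup F J ∧
      D.unipotentRadical F J ⊓ D.leviSubgroup F J = ⊥ := by
  rw [S.parabolic_eq hT hDesc J]
  refine ⟨S.HX_le_normalizer hT J, le_antisymm (sup_le ?_ ?_) (sup_le ?_ ((Subgroup.closure_le _).2 ?_)),
    S.UJ_inf_LJ hT J⟩
  · refine le_sup_of_le_right (Subgroup.closure_mono ?_)
    rintro g ⟨r, t, hr, -, hg⟩
    exact ⟨r, t, Or.inl hr, hg⟩
  · refine sup_le_sup_left (Subgroup.closure_mono ?_) _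
    rintro g ⟨r, t, hr, hg⟩
    exact ⟨r, t, Or.inr hr, hg⟩
  · exact le_sup_of_le_right le_sup_left
  · rintro g ⟨r, t, hr, hg⟩
    by_cases hJ : D.InRootSub J r
    · exact Subgroup.mem_sup_right (Subgroup.mem_sup_right (Subgroup.subset_closure ⟨r, t, hJ, hg⟩))
    · exact Subgroup.mem_sup_left (Subgroup.subset_closure ⟨r, t, hr.resolve_right hJ, hJ, hg⟩)

theorem normalizer_UJ (S : Struct D C) (hN : okNeg D = true) (hT : okHt D T = true)
    (hDesc : okDescJ C T = true) (J : Set ℕ) :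
    Subgroup.normalizer (D.unipotentRadical F J : Set (GL D.Idx F)) ⊓ D.group F = D.parabolicSubgroup F J := by
  obtain ⟨hle, -, -⟩ := S.levi (F := F) hT hDesc J
  have hPG : D.parabolicSubgroup F J ≤ D.group F := by
    refine sup_le S.borel_le_group ((Subgroup.closure_le _).2 ?_)
    rintro g ⟨j, -, -, hg⟩
    rw [show g = S.ok.nG (D.simple j) 1 from Units.ext (by rw [hg, S.ok.val_nG])]
    exact S.ok.nG_mem_group _ _
  refine le_antisymm (fun g hg => ?_) (le_inf hle hPG)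
  obtain ⟨hgn, hgG⟩ := Subgroup.mem_inf.1 hg
  obtain ⟨P, hPB, -, hPS⟩ := S.exists_bnPair (F := F) (fun i j h => S.simple_ne hN i j h)
  set M := (Subgroup.normalizer (D.unipotentRadical F J : Set (GL D.Idx F))).subgroupOf (D.group F)
  have hBM : P.B ≤ M := fun x hx => by
    rw [hPB, Subgroup.mem_subgroupOf] at hx
    exact hle (Subgroup.mem_sup_left hx)
  have hM : (⟨g, hgG⟩ : ↥(D.group F)) ∈ M := hgn
  rw [Cfsg.Lib.BN.eq_parabolic hBM] at hM
  refine (show P.parabolic {s | s ∈ P.S ∧ s ∈ M} ≤ (D.parabolicSubgroup F J).subgroupOf (D.group F) from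
    sup_le ?_ ((Subgroup.closure_le _).2 ?_)) hM
  · rw [hPB]; exact fun x hx => Subgroup.mem_sup_left hx
  · rintro x ⟨hxS, hxM⟩
    rw [hPS] at hxS
    obtain ⟨j, hj, hx⟩ := hxS
    refine Subgroup.mem_sup_right (Subgroup.subset_closure ⟨j, ?_, hj, hx⟩)
    by_contra hjJ
    have hsj := S.ok.sr_lt hj
    have hout : ¬ D.InRootSub J (D.simple j) := fun h => by
      have := ((inRootSub_iff hT).1 h).2 j hj hjJ
      rw [ht_simple hT hj hj, if_pos rfl] at this
      exact one_ne_zero this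
    have h1 : S.ok.xG (C.sr j) (1 : F) ∈ D.unipotentRadical F J :=
      Subgroup.subset_closure ⟨D.simple j, 1,
        S.ok.sr_eq hj ▸ S.isPos_iff.2 ⟨S.sr_pos hj, hsj⟩, hout, by rw [S.ok.val_xG, S.ok.sr_eq hj]⟩
    have hxn : (x : GL D.Idx F) = S.ok.nG (D.simple j) 1 := Units.ext (by rw [hx, S.ok.val_nG])
    have hxM' : (x : GL D.Idx F) ∈ Subgroup.normalizer (D.unipotentRadical F J : Set (GL D.Idx F)) := hxM
    have h2 := (Subgroup.mem_normalizer_iff.1 hxM' _).1 h1
    rw [hxn, S.ok.conj_nG_xG hj hsj, (S.ok.refl_simple hj).1, S.ok.neg_eq hsj] at h2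
    have hU : D.unipotentRadical F J ≤ D.posUnipotent F := by
      refine Subgroup.closure_mono ?_
      rintro y ⟨r, t, hr, -, hy⟩
      exact ⟨r, t, hr, hy⟩
    have hnegneg := S.neg_lt_half hsj (S.sr_pos hj)
    have h3 : S.ok.xG (D.neg (C.sr j)) ((C.eta j (C.sr j) : F) * 1) ∈
        D.borelSubgroup F ⊓ D.negUnipotent F :=
      Subgroup.mem_inf.2 ⟨S.B_le_of (hU h2), Subgroup.subset_closure
        ⟨_, _, S.isNeg_iff.2 hnegneg, S.ok.val_xG _ _⟩⟩
    rw [S.B_inf_V hN, Subgroup.mem_bot] at h3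
    exact mul_ne_zero (Ok.eta_ne_zero C j _) one_ne_zero (S.xG_eq_one (by omega) h3)

theorem conj_in_monomial (S : Struct D C) (hN : okNeg D = true) {h₁ h₂ g : GL D.Idx F}
    (h1 : h₁ ∈ D.diagonalSubgroup F) (h2 : h₂ ∈ D.diagonalSubgroup F) (hg : g ∈ D.group F)
    (hc : g * h₁ * g⁻¹ = h₂) : ∃ n ∈ D.monomialSubgroup F, n * h₁ * n⁻¹ = h₂ := by
  obtain ⟨b, hb, n, hn, L, hact, u, hu, rfl⟩ := S.normal_form hN hg
  refine ⟨n, hn, ?_⟩
  have hu' : h₁⁻¹ * u * h₁ ∈ S.UPsi F (Neg D (S.wpL L)) := by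
    have hle : S.UPsi F (Neg D (S.wpL L)) ≤
        (S.UPsi F (Neg D (S.wpL L))).comap (MulAut.conj h₁⁻¹).toMonoidHom := by
      refine (Subgroup.closure_le _).2 ?_
      rintro x ⟨r, t, a, c, rfl⟩
      obtain ⟨-, k, -, e⟩ := S.act_diag (inv_mem h1) r
      show h₁⁻¹ * S.ok.xG r.val t * h₁⁻¹⁻¹ ∈ S.UPsi F (Neg D (S.wpL L))
      rw [(e t).1]
      exact Subgroup.subset_closure ⟨_, _, a, c, rfl⟩
    have := hle hu
    simpa [mul_assoc] using this
  have hd := S.norm_diag hn h1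
  have e : h₂ * b * n * u = b * (n * h₁ * n⁻¹) * n * (h₁⁻¹ * u * h₁) := by
    rw [← hc]; group
  obtain ⟨e1, -⟩ := S.normal_form_unique hN (mul_mem (Subgroup.mem_sup_right h2) hb)
    (mul_mem hb (Subgroup.mem_sup_right hd)) hact hu hu' e
  obtain ⟨v, hv, d, hdd, rfl⟩ := S.borel_decomp hb
  have e2 : (h₂ * v * h₂⁻¹)⁻¹ * v = h₂ * d * (n * h₁ * n⁻¹)⁻¹ * d⁻¹ := by
    calc (h₂ * v * h₂⁻¹)⁻¹ * v
        = h₂ * v⁻¹ * h₂⁻¹ * (v * d * (n * h₁ * n⁻¹)) * ((n * h₁ * n⁻¹)⁻¹ * d⁻¹) := by group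
      _ = _ := by rw [← e1]; group
  have hmem : (h₂ * v * h₂⁻¹)⁻¹ * v ∈ D.posUnipotent F ⊓ D.diagonalSubgroup F :=
    Subgroup.mem_inf.2 ⟨mul_mem (inv_mem ((Subgroup.mem_normalizer_iff.1 (S.diag_normalises_U h2) v).1 hv)) hv,
      e2 ▸ mul_mem (mul_mem (mul_mem h2 hdd) (inv_mem hd)) (inv_mem hdd)⟩
  rw [S.U_inf_H, Subgroup.mem_bot] at hmem
  rw [hmem] at e2
  rw [S.ok.diagonalSubgroup_eq] at h2 hdd
  obtain ⟨c2, rfl⟩ := h2
  obtain ⟨cd, rfl⟩ := hdd
  rw [← map_mul, mul_comm c2 cd, map_mul, eq_comm, mul_assoc (Ok.tG D F cd), mul_inv_eq_one,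
    mul_eq_left, mul_inv_eq_one] at e2
  exact e2.symm

end Struct

end Cfsg.Lib.Chev
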