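import Cfsg.Agent.Chev.Bruhat
import Cfsg.Agent.Chev.Parab

/-! Subgroups of `U` attached to closed sets of positive roots. -/

set_option autoImplicit false

open Cfsg.Lie

namespace Cfsg.Lib.Chev

variable {D : ChevalleyDatum} {C : Cert} {F : Type*} [Field F]

/-- The set contains every root `a r + b s` occurring in the commutator formula of two of its positive members. -/
def ClosedPsi (D : ChevalleyDatum) (Ψ : Fin D.nroots → Prop) : Prop :=
  ∀ r s : Fin D.nroots, D.nroots / 2 ≤ r.val → D.nroots / 2 ≤ s.val → Ψ r → Ψ s →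
    ∀ q ∈ D.commTerms r.val s.val, ∀ h : q.1 < D.nroots, Ψ ⟨q.1, h⟩

namespace Struct

theorem mem_UPsi (S : Struct D C) {Ψ : Fin D.nroots → Prop} {r : Fin D.nroots} (hr : D.nroots / 2 ≤ r.val)
    (h : Ψ r) (t : F) : S.ok.xG r.val t ∈ S.UPsi F Ψ :=
  Subgroup.subset_closure ⟨r, t, hr, h, rfl⟩

theorem UPsi_mono (S : Struct D C) {Ψ Ψ' : Fin D.nroots → Prop}
    (h : ∀ r : Fin D.nroots, D.nroots / 2 ≤ r.val → Ψ r → Ψ' r) : S.UPsi F Ψ ≤ S.UPsi F Ψ' := by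
  refine (Subgroup.closure_le _).2 ?_
  rintro g ⟨r, t, a, b, rfl⟩
  exact S.mem_UPsi a (h r a b) t

theorem UPsi_eq_bot (S : Struct D C) {Ψ : Fin D.nroots → Prop}
    (h : ∀ r : Fin D.nroots, D.nroots / 2 ≤ r.val → ¬ Ψ r) : S.UPsi F Ψ = ⊥ := by
  refine eq_bot_iff.2 ((Subgroup.closure_le _).2 ?_)
  rintro g ⟨r, t, a, b, rfl⟩
  exact absurd b (h r a)

theorem posUnipotent_le_UPsi (S : Struct D C) :
    D.posUnipotent F ≤ S.UPsi F fun _ => True := by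
  refine (Subgroup.closure_le _).2 ?_
  rintro g ⟨r, t, hr, hg⟩
  obtain ⟨a, b⟩ := S.isPos_iff.1 hr
  rw [S.ok.eq_xG hg]
  exact S.mem_UPsi (r := ⟨r, b⟩) a trivial t

/-- Conjugation by a root element with index below `k` preserves the part of index at least `k` of a closed set. -/
theorem conj_UPsi_ge (S : Struct D C) {Ψ : Fin D.nroots → Prop} (hc : ClosedPsi D Ψ) {r : Fin D.nroots}
    (hr : D.nroots / 2 ≤ r.val) (hΨ : Ψ r) (t : F) {k : ℕ} :
    ∀ g ∈ S.UPsi F (fun s => Ψ s ∧ k ≤ s.val),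
      S.ok.xG r.val t * g * (S.ok.xG r.val t)⁻¹ ∈ S.UPsi F (fun s => Ψ s ∧ k ≤ s.val) := by
  refine conj_closure_le ?_
  rintro u ⟨s, v, hs, ⟨hsΨ, hsk⟩, rfl⟩
  rcases eq_or_ne s r with rfl | hne
  · rw [show S.ok.xG s.val t * S.ok.xG s.val v * (S.ok.xG s.val t)⁻¹ = S.ok.xG s.val v by
      rw [S.ok.xG_mul, S.ok.xG_inv, S.ok.xG_mul]; congr 1; ring]
    exact S.mem_UPsi (Ψ := fun s => Ψ s ∧ k ≤ s.val) hs ⟨hsΨ, hsk⟩ v
  have hne' : s.val ≠ r.val := fun e => hne (Fin.ext e)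
  have hn : s.val ≠ D.neg r.val := by have := S.neg_lt_half r.isLt hr; omega
  have e := S.ok.commRel S.chain S.base r.isLt s.isLt hne' hn (-t) v
  have e' : S.ok.xG r.val t * S.ok.xG s.val v * (S.ok.xG r.val t)⁻¹ =
      S.ok.xG s.val v * S.ok.wG (D.commWord F r.val s.val (-t) v) := by
    rw [S.ok.xG_inv, mul_assoc, e, ← mul_assoc, ← mul_assoc, S.ok.xG_mul, add_neg_cancel, S.xG_zero, one_mul]
  rw [e']
  refine mul_mem (S.mem_UPsi (Ψ := fun s => Ψ s ∧ k ≤ s.val) hs ⟨hsΨ, hsk⟩ v)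
    (list_prod_mem fun g hg => ?_)
  simp only [ChevalleyDatum.commWord, List.map_map, List.mem_map] at hg
  obtain ⟨q, hq, rfl⟩ := hg
  obtain ⟨a, b, c⟩ := S.commTerms_gt r.isLt s.isLt hr hs hq
  exact S.mem_UPsi (Ψ := fun s => Ψ s ∧ k ≤ s.val) (r := ⟨q.1, c⟩) (show D.nroots / 2 ≤ q.1 by omega)
    ⟨hc r s hr hs hΨ hsΨ q hq c, show k ≤ q.1 by omega⟩ _

theorem split_UPsi_ge (S : Struct D C) {Ψ : Fin D.nroots → Prop} (hc : ClosedPsi D Ψ) {k : ℕ}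
    (hk : k < D.nroots) (hkp : D.nroots / 2 ≤ k) (hΨ : Ψ ⟨k, hk⟩) {g : GL D.Idx F}
    (hg : g ∈ S.UPsi F (fun s => Ψ s ∧ k ≤ s.val)) :
    ∃ (t : F), ∃ v ∈ S.UPsi F (fun s => Ψ s ∧ k + 1 ≤ s.val), g = S.ok.xG k t * v := by
  have hle : S.UPsi F (fun s => Ψ s ∧ k ≤ s.val) ≤
      (S.xHom F k).range ⊔ S.UPsi F (fun s => Ψ s ∧ k + 1 ≤ s.val) := by
    refine (Subgroup.closure_le _).2 ?_
    rintro x ⟨r, t, a, ⟨b, c⟩, rfl⟩
    rcases eq_or_lt_of_le c with c' | c'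
    · exact Subgroup.mem_sup_left ⟨Multiplicative.ofAdd t, by rw [← c']; rfl⟩
    · exact Subgroup.mem_sup_right (S.mem_UPsi (Ψ := fun s => Ψ s ∧ k + 1 ≤ s.val) a ⟨b, c'⟩ t)
  have hn : (S.xHom F k).range ≤
      Subgroup.normalizer (S.UPsi F (fun s => Ψ s ∧ k + 1 ≤ s.val) : Set (GL D.Idx F)) := by
    rintro x ⟨a, rfl⟩
    rw [Subgroup.mem_normalizer_iff]
    intro y
    refine ⟨fun hy => S.conj_UPsi_ge hc (r := ⟨k, hk⟩) hkp hΨ a.toAdd y hy, fun hy => ?_⟩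
    have h2 := S.conj_UPsi_ge hc (r := ⟨k, hk⟩) hkp hΨ (-a.toAdd) _ hy
    change S.ok.xG k (-a.toAdd) * (S.ok.xG k a.toAdd * y * (S.ok.xG k a.toAdd)⁻¹) *
      (S.ok.xG k (-a.toAdd))⁻¹ ∈ _ at h2
    rwa [← S.ok.xG_inv, inv_inv, ← mul_assoc, ← mul_assoc, inv_mul_cancel, one_mul, mul_assoc,
      inv_mul_cancel, mul_one] at h2
  have hset : g ∈ (((S.xHom F k).range ⊔ S.UPsi F (fun s => Ψ s ∧ k + 1 ≤ s.val) : Subgroup (GL D.Idx F)) :
      Set (GL D.Idx F)) := hle hg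
  rw [Subgroup.coe_mul_of_left_le_normalizer_right _ _ hn] at hset
  obtain ⟨x, ⟨a, rfl⟩, v, hv, rfl⟩ := Set.mem_mul.1 hset
  exact ⟨a.toAdd, v, hv, rfl⟩

/-- Coordinates of an element of a closed subgroup are supported on the set. -/
theorem exists_pw_closed (S : Struct D C) {Ψ : Fin D.nroots → Prop} (hc : ClosedPsi D Ψ) :
    ∀ (d k : ℕ), d + k = D.nroots → D.nroots / 2 ≤ k →
      ∀ g ∈ S.UPsi F (fun s => Ψ s ∧ k ≤ s.val),
        ∃ t : ℕ → F, (∀ (r : ℕ) (h : r < D.nroots), ¬ Ψ ⟨r, h⟩ → t r = 0) ∧ g = S.pw k t := by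
  intro d
  induction d with
  | zero =>
    intro k hk _ g hg
    rw [S.UPsi_eq_bot (fun r _ h => by have := r.isLt; have := h.2; omega), Subgroup.mem_bot] at hg
    exact ⟨0, fun _ _ _ => rfl, by rw [hg, S.pw_top (by omega)]⟩
  | succ d ih =>
    intro k hk hkp g hg
    have hkn : k < D.nroots := by omega
    by_cases hΨ : Ψ ⟨k, hkn⟩
    · obtain ⟨a, v, hv, rfl⟩ := S.split_UPsi_ge hc hkn hkp hΨ hg
      obtain ⟨t, ht, rfl⟩ := ih (k + 1) (by omega) (by omega) v hv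
      refine ⟨Function.update t k a, fun r h hr => ?_, ?_⟩
      · rw [Function.update_of_ne (fun e => hr (by subst e; exact hΨ))]; exact ht r h hr
      · rw [S.pw_succ hkn, Function.update_self]
        congr 1
        exact S.pw_congr fun r hr _ => (Function.update_of_ne (by omega) _ _).symm
    · have hg' : g ∈ S.UPsi F (fun s => Ψ s ∧ k + 1 ≤ s.val) :=
        S.UPsi_mono (fun r _ h => ⟨h.1, Nat.lt_of_le_of_ne h.2 (fun e => hΨ (by
          rw [show (⟨k, hkn⟩ : Fin D.nroots) = r from Fin.ext e]; exact h.1))⟩) hg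
      obtain ⟨t, ht, rfl⟩ := ih (k + 1) (by omega) (by omega) g hg'
      refine ⟨Function.update t k 0, fun r h hr => ?_, ?_⟩
      · rcases eq_or_ne r k with rfl | hne
        · rw [Function.update_self]
        · rw [Function.update_of_ne hne]; exact ht r h hr
      · rw [S.pw_succ hkn, Function.update_self, S.xG_zero, one_mul]
        exact S.pw_congr fun r hr _ => (Function.update_of_ne (by omega) _ _).symm

theorem UPsi_inter (S : Struct D C) {A B : Fin D.nroots → Prop} (hA : ClosedPsi D A) (hB : ClosedPsi D B)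
    {g : GL D.Idx F} (h1 : g ∈ S.UPsi F A) (h2 : g ∈ S.UPsi F B) :
    g ∈ S.UPsi F (fun r => A r ∧ B r) := by
  have hh := S.hsum
  obtain ⟨t, ht, e⟩ := S.exists_pw_closed hA (D.nroots - D.nroots / 2) (D.nroots / 2) (by omega) le_rfl g
    (S.UPsi_mono (fun r a h => ⟨h, a⟩) h1)
  obtain ⟨t', ht', e'⟩ := S.exists_pw_closed hB (D.nroots - D.nroots / 2) (D.nroots / 2) (by omega) le_rfl g
    (S.UPsi_mono (fun r a h => ⟨h, a⟩) h2)
  have heq := S.pw_inj (D.nroots - D.nroots / 2) (D.nroots / 2) (by omega) le_rfl t t' (e.symm.trans e')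
  rw [e]
  refine list_prod_mem fun x hx => ?_
  obtain ⟨r, hr, rfl⟩ := List.mem_map.1 hx
  rw [List.mem_range'_1] at hr
  have hrn : r < D.nroots := by omega
  by_cases h0 : t r = 0
  · rw [h0, S.xG_zero]; exact one_mem _
  refine S.mem_UPsi (r := ⟨r, hrn⟩) hr.1 ⟨?_, ?_⟩ _
  · by_contra hn; exact h0 (ht r hrn hn)
  · by_contra hn; exact h0 (by rw [heq r hr.1 hrn]; exact ht' r hrn hn)

theorem split_closed (S : Struct D C) {Ψ : Fin D.nroots → Prop} (hc : ClosedPsi D Ψ)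
    (P : Fin D.nroots → Prop) :
    ∀ (d k : ℕ), d + k = D.nroots → D.nroots / 2 ≤ k → ∀ g ∈ S.UPsi F (fun s => Ψ s ∧ k ≤ s.val),
      ∃ a ∈ S.UPsi F (fun r => Ψ r ∧ ¬ P r), ∃ b ∈ S.UPsi F (fun r => Ψ r ∧ P r), g = a * b := by
  intro d
  induction d with
  | zero =>
    intro k hk _ g hg
    rw [S.UPsi_eq_bot (fun r _ h => by have := r.isLt; have := h.2; omega), Subgroup.mem_bot] at hg
    exact ⟨1, one_mem _, 1, one_mem _, by rw [hg, one_mul]⟩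
  | succ d ih =>
    intro k hk hkp g hg
    have hkn : k < D.nroots := by omega
    by_cases hΨ : Ψ ⟨k, hkn⟩
    · obtain ⟨t, v, hv, rfl⟩ := S.split_UPsi_ge hc hkn hkp hΨ hg
      by_cases hP : P ⟨k, hkn⟩
      · have hv' := S.conj_UPsi_ge hc (r := ⟨k, hkn⟩) hkp hΨ t v hv
        obtain ⟨a, ha, b, hb, e⟩ := ih (k + 1) (by omega) (by omega) _ hv'
        refine ⟨a, ha, b * S.ok.xG k t,
          mul_mem hb (S.mem_UPsi (Ψ := fun r => Ψ r ∧ P r) (r := ⟨k, hkn⟩) hkp ⟨hΨ, hP⟩ t), ?_⟩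
        rw [← mul_assoc, ← e]
        group
      · obtain ⟨a, ha, b, hb, rfl⟩ := ih (k + 1) (by omega) (by omega) v hv
        exact ⟨S.ok.xG k t * a,
          mul_mem (S.mem_UPsi (Ψ := fun r => Ψ r ∧ ¬ P r) (r := ⟨k, hkn⟩) hkp ⟨hΨ, hP⟩ t) ha, b, hb,
          by rw [mul_assoc]⟩
    · refine ih (k + 1) (by omega) (by omega) g
        (S.UPsi_mono (fun r _ h => ⟨h.1, Nat.lt_of_le_of_ne h.2 (fun e => hΨ (by
          rw [show (⟨k, hkn⟩ : Fin D.nroots) = r from Fin.ext e]; exact h.1))⟩) hg)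

/-- The two sides of the inversion set of `w`. -/
theorem inter_conj (S : Struct D C) (hN : okNeg D = true) {A B B' : Fin D.nroots → Prop}
    (hA : ClosedPsi D A) (hB : ClosedPsi D B) (hB' : ClosedPsi D B')
    {n : GL D.Idx F} {w : Equiv.Perm (Fin D.nroots)} (ha : Act S.ok n w)
    (hw : ∀ r : Fin D.nroots, B r → B' (w r))
    {x y : GL D.Idx F} (hx : x ∈ S.UPsi F A) (hy : y ∈ S.UPsi F B) (e : x = n * y * n⁻¹) :
    x ∈ S.UPsi F (fun r => A r ∧ B' r) := by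
  have hh := S.hsum
  obtain ⟨a, ha', b, hb, rfl⟩ := S.split_closed hB (Neg D w) (D.nroots - D.nroots / 2) (D.nroots / 2)
    (by omega) le_rfl y (S.UPsi_mono (fun r a h => ⟨h, a⟩) hy)
  have h1 : n * a * n⁻¹ ∈ S.UPsi F B' := by
    refine conj_closure_le ?_ a ha'
    rintro u ⟨r, t, -, ⟨hr, hnn⟩, rfl⟩
    obtain ⟨-, c, -, e⟩ := ha r
    rw [(e t).1]
    exact S.mem_UPsi (Nat.le_of_not_lt hnn) (hw r hr) _
  have h2 : n * b * n⁻¹ ∈ D.negUnipotent F :=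
    S.conj_Neg ha (S.UPsi_mono (fun r _ h => h.2) hb)
  have e2 : n * b * n⁻¹ = (n * a * n⁻¹)⁻¹ * x := by rw [e]; group
  have h3 : n * b * n⁻¹ ∈ D.borelSubgroup F ⊓ D.negUnipotent F :=
    Subgroup.mem_inf.2 ⟨e2 ▸ S.B_le_of (mul_mem (inv_mem (S.UPsi_le _ h1)) (S.UPsi_le _ hx)), h2⟩
  rw [S.B_inf_V hN, Subgroup.mem_bot] at h3
  have e3 : x = n * a * n⁻¹ := by
    rw [h3] at e2
    exact (inv_mul_eq_one.1 e2.symm).symm
  exact S.UPsi_inter hA hB' hx (e3 ▸ h1)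

end Struct

end Cfsg.Lib.Chev
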