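import Cfsg.Agent.Chev.Chain

/-!
Chevalley's commutator formula: the terms of the formula are equivariant under the fundamental reflections, and
the formula is checked as a polynomial identity on representatives of pairs of roots.
-/

set_option autoImplicit false

open Cfsg.Lie

namespace Cfsg.Lib.Chev

namespace Cert

variable (C : Cert)

/-- Descent measure of a root. -/
noncomputable def mu (r : ℕ) : ℕ := Bool.rec (Nat.sub C.n r) r (Nat.ble (Nat.div C.n 2) r)

/-- `x_k(c (-t)^a u^b)`. -/
noncomputable def substT (k : ℕ) (c : ℤ) (a b : ℕ) : List Tm :=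
  kmap (fun e => ⟨Nat.mul a e.j, Nat.mul b e.j, e.r, e.c, (c * (-1) ^ a) ^ e.j * e.k⟩) (C.row k)

/-- The product over a list of commutator terms. -/
noncomputable def wordT (L : List (ℕ × ℤ × ℕ × ℕ)) : List Tm :=
  @List.rec _ (fun _ => List Tm) []
    (fun q _ ih => kmul1 (Nat.add C.l C.n) (C.substT q.1 q.2.1 q.2.2.1 q.2.2.2) ih) L

/-- The pair `(r, s)` is lowered by a fundamental reflection fixing `r`. -/
noncomputable def lowers (r s : ℕ) : Bool :=
  !kall (fun j => !(Nat.beq (C.w j r) r && Nat.blt (C.mu (C.w j s)) (C.mu s))) (krange 0 C.l)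

/-- The commutator formula as a polynomial identity, on the pairs not lowered. -/
noncomputable def okBase (D : ChevalleyDatum) (i : ℕ) : Bool :=
  let N := Nat.add C.l C.n
  let p := C.sr i
  kall (fun s => Nat.beq s p || Nat.beq s (C.neg p) || C.lowers p s ||
    eqTest 12 (kmul1 N (C.row s) (inT (C.row p)))
      (kmul1 N (kmul1 N (inT (C.row p)) (C.row s)) (C.wordT (D.commTerms p s)))) (krange 0 C.n)

end Cert

variable {D : ChevalleyDatum} {C : Cert} {F : Type*} [Field F]

/-- Image of a commutator term under the fundamental reflection `i`. -/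
noncomputable def termW (C : Cert) (i r s : ℕ) (q : ℕ × ℤ × ℕ × ℕ) : ℕ × ℤ × ℕ × ℕ :=
  (C.w i q.1, q.2.1 * C.eta i r ^ q.2.2.1 * C.eta i s ^ q.2.2.2 * C.eta i q.1, q.2.2.1, q.2.2.2)

/-- A candidate of `commTerms`. -/
abbrev candMap (q : Option ℕ × ℤ × ℕ × ℕ) : Option (ℕ × ℤ × ℕ × ℕ) := q.1.map fun k => (k, q.2)

theorem filterMap_transport (φ : ℕ × ℤ × ℕ × ℕ → ℕ × ℤ × ℕ × ℕ) :
    ∀ (L L' : List (Option ℕ × ℤ × ℕ × ℕ)),
      List.Forall₂ (fun q q' => candMap q' = (candMap q).map φ) L L' →
      L'.filterMap candMap = (L.filterMap candMap).map φ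
  | _, _, List.Forall₂.nil => rfl
  | q :: L, q' :: L', List.Forall₂.cons hq hL => by
    rw [List.filterMap_cons, List.filterMap_cons, hq]
    have := filterMap_transport φ L L' hL
    cases candMap q <;> simp [this]

theorem okLong_of_three (h : okChain D = true) {r s k' : ℕ} (hr : r < D.nroots)
    (h3 : D.chainRoot r s 3 = some k') : okLong D r s = true := by
  rw [ChevalleyDatum.chainRoot, chainEntry_eq] at h3
  cases hf : (D.chain.getD r #[]).toList.find? (fun e => e.1 = s) with
  | none => rw [hf] at h3; exact absurd h3 (by simp)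
  | some e =>
    have hes : e.1 = s := by simpa using List.find?_some hf
    rcases ((okChain_row h hr).2 e (List.mem_of_find?_eq_some hf)).2.2.2.2 with hl | hl
    · simp only [hf, Option.toList_some, List.flatMap_cons, List.flatMap_nil, List.append_nil] at h3
      rw [List.getElem?_eq_none (by omega)] at h3
      exact absurd h3 (by simp)
    · exact hes ▸ hl

namespace Ok

theorem commTerms_w (h : Ok D C) (hc : okChain D = true) {i r s : ℕ} (hi : i < D.rank)
    (hr : r < D.nroots) (hs : s < D.nroots) :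
    D.commTerms (C.w i r) (C.w i s) = (D.commTerms r s).map (termW C i r s) := by
  have hwr := h.w_lt hi hr
  have sq : ∀ x, C.eta i x * C.eta i x = 1 := fun x => by
    rcases eta_cases C i x with e | e <;> simp [e]
  have hone : ∀ x, (C.eta i x) ^ 2 = 1 := fun x => by rcases eta_cases C i x with e | e <;> simp [e]
  refine filterMap_transport (termW C i r s) _ _ ?_
  have simple : ∀ (a b k : ℕ), a < D.nroots → b < D.nroots → ∀ (f : ℤ → ℤ) (ea eb : ℕ),
      (∀ v, D.chainRoot a b (k + 1) = some v →
        f (C.eta i a ^ (k + 1) * C.eta i b * C.eta i v * D.chainM a b (k + 1)) =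
          f (D.chainM a b (k + 1)) * C.eta i r ^ ea * C.eta i s ^ eb * C.eta i v) →
      candMap (D.chainRoot (C.w i a) (C.w i b) (k + 1), f (D.chainM (C.w i a) (C.w i b) (k + 1)), ea, eb) =
        (candMap (D.chainRoot a b (k + 1), f (D.chainM a b (k + 1)), ea, eb)).map (termW C i r s) := by
    intro a b k ha hb f ea eb hf
    cases hk : D.chainRoot a b (k + 1) with
    | none => simp [candMap, h.chain_w hc hi ha hb k, hk]
    | some v =>
      obtain ⟨e1, e2⟩ := h.chain_w_some hc hi ha hk
      simp [candMap, e1, e2, hf v hk, termW]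
  refine List.Forall₂.cons ?_ (List.Forall₂.cons ?_ (List.Forall₂.cons ?_ (List.Forall₂.cons ?_
    (List.Forall₂.cons ?_ (List.Forall₂.cons ?_ (List.Forall₂.cons ?_ List.Forall₂.nil))))))
  · exact simple r s 0 hr hs id 1 1 fun v _ => by simp; ring
  · exact simple r s 1 hr hs id 2 1 fun v _ => by simp; ring
  · exact simple s r 1 hs hr id 1 2 fun v _ => by simp; ring
  · exact simple r s 2 hr hs id 3 1 fun v _ => by simp; ring
  · exact simple s r 2 hs hr (fun x => -x) 1 3 fun v _ => by ring
  · cases h3 : D.chainRoot r s 3 with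
    | none => simp [candMap, h.chain_w hc hi hr hs 2, h3]
    | some k' =>
      have hl := okLong_of_three hc hr h3
      rw [okLong, Bool.and_eq_true, h3] at hl
      obtain ⟨hl, -⟩ := hl
      have hk' := (chain_some hc hr h3).1
      cases h1 : D.chainRoot r s 1 with
      | none => rw [h1] at hl; simp at hl
      | some k =>
        have hk := (chain_some hc hr h1).1
        rw [h1] at hl
        simp only [Bool.and_eq_true, decide_eq_true_eq] at hl
        obtain ⟨he, h3d⟩ := hl
        simp only [candMap, h.chain_w hc hi hr hs 2, h.chain_w hc hi hr hs 0, h3, h1, Option.map_some,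
          Option.bind_some, h.chain_w hc hi hk' hs 0, Option.getD_some]
        cases ho : D.chainRoot k' s 1 with
        | none => simp
        | some v =>
          obtain ⟨-, eM⟩ := h.chain_w_some hc hi hk (k := 1) (he ▸ ho)
          simp only [Option.map_some, termW, eM, hone k, one_mul]
          rw [Int.mul_ediv_assoc _ h3d]
          congr 3
          rw [hone s, mul_one, pow_succ, hone r]
          ring
  · cases h3 : D.chainRoot s r 3 with
    | none => simp [candMap, h.chain_w hc hi hs hr 2, h3]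
    | some k' =>
      have hl := okLong_of_three hc hs h3
      rw [okLong, Bool.and_eq_true, h3] at hl
      obtain ⟨-, hl⟩ := hl
      have hk' := (chain_some hc hs h3).1
      cases h1 : D.chainRoot r s 1 with
      | none => rw [h1] at hl; simp at hl
      | some k =>
        have hk := (chain_some hc hr h1).1
        rw [h1] at hl
        simp only [Bool.and_eq_true, decide_eq_true_eq] at hl
        obtain ⟨he, h3d⟩ := hl
        simp only [candMap, h.chain_w hc hi hs hr 2, h.chain_w hc hi hr hs 0, h3, h1, Option.map_some,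
          Option.bind_some, h.chain_w hc hi hk' hr 0, Option.getD_some]
        cases ho : D.chainRoot k' r 1 with
        | none => simp
        | some v =>
          obtain ⟨-, eM⟩ := h.chain_w_some hc hi hk (k := 1) (he ▸ ho)
          simp only [Option.map_some, termW, eM, hone k, one_mul]
          rw [show -2 * (C.eta i s * C.eta i v * D.chainM k s 2) =
            (C.eta i s * C.eta i v) * (-2 * D.chainM k s 2) by ring,
            Int.mul_ediv_assoc _ (h3d.mul_left (-2))]
          congr 3
          rw [hone r, mul_one, pow_succ, hone s]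
          ring

/-- The product of a word in root elements. -/
noncomputable def wG (h : Ok D C) (L : List (ℕ × F)) : GL D.Idx F :=
  (L.map fun p => h.xG p.1 p.2).prod

theorem val_wG (h : Ok D C) (L : List (ℕ × F)) :
    ((h.wG L : GL D.Idx F) : Matrix D.Idx D.Idx F) = D.wordMat F L := by
  induction L with
  | nil => simp [wG, ChevalleyDatum.wordMat]
  | cons a L ih =>
    simp only [wG, ChevalleyDatum.wordMat, List.map_cons, List.prod_cons, Units.val_mul, val_xG] at ih ⊢
    rw [ih]

/-- The commutator formula for one pair of roots. -/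
def CommRel (h : Ok D C) (F : Type*) [Field F] (r s : ℕ) : Prop :=
  ∀ t u : F, h.xG s u * h.xG r t = h.xG r t * h.xG s u * h.wG (D.commWord F r s t u)

theorem commTerms_lt (hc : okChain D = true) {r s : ℕ} (hr : r < D.nroots) (hs : s < D.nroots)
    {q : ℕ × ℤ × ℕ × ℕ} (hq : q ∈ D.commTerms r s) : q.1 < D.nroots := by
  simp only [ChevalleyDatum.commTerms, List.mem_filterMap] at hq
  obtain ⟨c, hc', he⟩ := hq
  simp only [Option.map_eq_some_iff] at he
  obtain ⟨k, hk, rfl⟩ := he
  simp only [List.mem_cons, List.not_mem_nil, or_false] at hc'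
  rcases hc' with rfl | rfl | rfl | rfl | rfl | rfl | rfl
  · exact (chain_some hc hr hk).1
  · exact (chain_some hc hr hk).1
  · exact (chain_some hc hs hk).1
  · exact (chain_some hc hr hk).1
  · exact (chain_some hc hs hk).1
  · obtain ⟨k', h1, h2⟩ := Option.bind_eq_some_iff.1 hk
    exact (chain_some hc (chain_some hc hr h1).1 h2).1
  · obtain ⟨k', h1, h2⟩ := Option.bind_eq_some_iff.1 hk
    exact (chain_some hc (chain_some hc hs h1).1 h2).1

theorem commRel_w (h : Ok D C) (hc : okChain D = true) {i r s : ℕ} (hi : i < D.rank)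
    (hr : r < D.nroots) (hs : s < D.nroots) (H : h.CommRel F (C.w i r) (C.w i s)) :
    h.CommRel F r s := by
  intro t u
  apply mul_left_cancel (a := h.nG (D.simple i) (1 : F))
  apply mul_right_cancel (b := (h.nG (D.simple i) (1 : F))⁻¹)
  rw [← conj_mul, ← conj_mul, ← conj_mul, h.conj_nG_xG hi hr, h.conj_nG_xG hi hs, H]
  congr 1
  have hrhs : ∀ L : List (ℕ × F), (∀ p ∈ L, p.1 < D.nroots) →
      h.nG (D.simple i) (1 : F) * h.wG L * (h.nG (D.simple i) (1 : F))⁻¹ =
        h.wG (L.map fun p => (C.w i p.1, (C.eta i p.1 : F) * p.2)) := by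
    intro L hL
    induction L with
    | nil => simp [wG]
    | cons a L ih =>
      simp only [List.forall_mem_cons] at hL
      have ih' := ih hL.2
      simp only [wG, List.map_cons, List.prod_cons] at ih' ⊢
      rw [← conj_mul, h.conj_nG_xG hi hL.1, ih']
  rw [hrhs _ fun p hp => ?_]
  · congr 1
    rw [ChevalleyDatum.commWord, ChevalleyDatum.commWord, h.commTerms_w hc hi hr hs, List.map_map, List.map_map]
    refine List.map_congr_left fun q _ => ?_
    simp only [Function.comp_apply, termW, Prod.mk.injEq, true_and]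
    push_cast
    have e1 := eta_sq (F := F) C i r
    have e2 := eta_sq (F := F) C i s
    rw [show -((C.eta i r : F) * t) = (C.eta i r : F) * -t by ring, mul_pow, mul_pow]
    have p1 : (C.eta i r : F) ^ q.2.2.1 * (C.eta i r : F) ^ q.2.2.1 = 1 := by rw [← mul_pow, e1, one_pow]
    have p2 : (C.eta i s : F) ^ q.2.2.2 * (C.eta i s : F) ^ q.2.2.2 = 1 := by rw [← mul_pow, e2, one_pow]
    linear_combination ((q.2.1 : F) * (C.eta i q.1 : F) * (-t) ^ q.2.2.1 * u ^ q.2.2.2 *
      (C.eta i s : F) ^ q.2.2.2 * (C.eta i s : F) ^ q.2.2.2) * p1 +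
      ((q.2.1 : F) * (C.eta i q.1 : F) * (-t) ^ q.2.2.1 * u ^ q.2.2.2) * p2
  · simp only [ChevalleyDatum.commWord, List.mem_map] at hp
    obtain ⟨q, hq, rfl⟩ := hp
    exact commTerms_lt hc hr hs hq

theorem ev_substT (h : Ok D C) {k : ℕ} (hk : k < D.nroots) (c : ℤ) (a b : ℕ) (t u : F) :
    1 + ev D.rank D.nroots t u (C.substT k c a b) = D.x F k ((c : F) * (-t) ^ a * u ^ b) := by
  rw [h.x_eq hk, h.xR_eq hk, Cert.substT, kmap_eq, ev, ev, List.map_map]
  congr 2
  refine List.map_congr_left fun e he => ?_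
  simp only [evT, Function.comp_apply, h.row_i_zero hk e he, pow_zero, one_mul, Nat.mul_eq, pow_mul]
  congr 1
  push_cast
  rw [neg_pow t a, mul_pow, mul_pow, mul_pow, mul_pow]
  ring

theorem ev_wordT (h : Ok D C) (t u : F) : ∀ L : List (ℕ × ℤ × ℕ × ℕ), (∀ q ∈ L, q.1 < D.nroots) →
    1 + ev D.rank D.nroots t u (C.wordT L) =
      D.wordMat F (L.map fun c => (c.1, (c.2.1 : F) * (-t) ^ c.2.2.1 * u ^ c.2.2.2)) := by
  intro L
  induction L with
  | nil => intro _; simp [Cert.wordT, ChevalleyDatum.wordMat]
  | cons q L ih =>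
    intro hL
    simp only [List.forall_mem_cons] at hL
    have hdef : C.wordT (q :: L) = kmul1 (Nat.add C.l C.n) (C.substT q.1 q.2.1 q.2.2.1 q.2.2.2) (C.wordT L) := rfl
    rw [hdef, h.l_eq, h.n_eq, Nat.add_eq, ev_kmul1, h.ev_substT hL.1, ih hL.2]
    simp [ChevalleyDatum.wordMat]

theorem commRel_base (h : Ok D C) (hc : okChain D = true) {i s : ℕ} (hi : i < D.rank) (hs : s < D.nroots)
    (hb : C.okBase D i = true) (h1 : s ≠ C.sr i) (h2 : s ≠ C.neg (C.sr i))
    (h3 : C.lowers (C.sr i) s = false) : h.CommRel F (C.sr i) s := by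
  intro t u
  have hp := h.sr_lt hi
  have h0 := kall_krange (show kall _ (krange 0 C.n) = true from hb) s (h.n_eq.symm ▸ hs)
  simp only [Bool.or_eq_true, h3, Bool.false_eq_true, or_false] at h0
  rcases h0 with (h0 | h0) | h0
  · exact absurd (Nat.eq_of_beq_eq_true h0) h1
  · exact absurd (Nat.eq_of_beq_eq_true h0) h2
  have e := congrArg (fun M => (1 : Matrix D.Idx D.Idx F) + M) (eqTest_sound D.rank D.nroots t u h0)
  simp only [h.l_eq, h.n_eq, Nat.add_eq, ev_kmul1] at e
  apply Units.ext
  simp only [Units.val_mul, val_xG, val_wG]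
  rw [ev_inT (h.row_i_zero hp), ev_indep (h.row_i_zero hs),
    h.ev_wordT t u _ fun q hq => commTerms_lt hc hp hs hq] at e
  rw [h.x_eq hs, h.x_eq hp, h.xR_eq hs, h.xR_eq hp, e, ChevalleyDatum.commWord]

theorem commRel (h : Ok D C) (hc : okChain D = true) (hb : ∀ i < D.rank, C.okBase D i = true) {r s : ℕ}
    (hr : r < D.nroots) (hs : s < D.nroots) (h1 : s ≠ r) (h2 : s ≠ D.neg r) : h.CommRel F r s := by
  suffices H : ∀ r < D.nroots, ∀ s < D.nroots, s ≠ r → s ≠ D.neg r → h.CommRel F r s from H r hr s hs h1 h2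
  clear h1 h2 hr hs r s
  have step : ∀ i r s, i < D.rank → r < D.nroots → s < D.nroots → s ≠ r → s ≠ D.neg r →
      C.w i s ≠ C.w i r ∧ C.w i s ≠ D.neg (C.w i r) := by
    intro i r s hi hr hs h1 h2
    refine ⟨fun e => h1 (h.w_inj hi hs hr e), ?_⟩
    rw [h.neg_w hi hr]
    exact fun e => h2 (h.w_inj hi hs (h.neg_eq hr ▸ h.neg_lt hr) e)
  have base : ∀ i < D.rank, ∀ m s, C.mu s = m → s < D.nroots → s ≠ C.sr i → s ≠ C.neg (C.sr i) →
      h.CommRel F (C.sr i) s := by
    intro i hi m
    induction m using Nat.strong_induction_on with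
    | _ m ih =>
      intro s hm hs h1 h2
      cases hl : C.lowers (C.sr i) s with
      | false => exact h.commRel_base hc hi hs (hb i hi) h1 h2 hl
      | true =>
        simp only [Cert.lowers, Bool.not_eq_true', ← Bool.not_eq_true, kall_iff, not_forall] at hl
        obtain ⟨j, hj, hjs⟩ := hl
        rw [krange_eq, List.mem_range'_1] at hj
        have hj' : j < D.rank := by rw [← h.l_eq]; omega
        simp only [Bool.not_eq_true', Bool.not_eq_false, Bool.and_eq_true, Nat.blt, Nat.ble_eq] at hjs
        replace hjs := Classical.not_not.1 hjs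
        have hfix : C.w j (C.sr i) = C.sr i := Nat.eq_of_beq_eq_true hjs.1
        refine h.commRel_w hc hj' (h.sr_lt hi) hs ?_
        rw [hfix]
        have := step j (C.sr i) s hj' (h.sr_lt hi) hs h1 (by rwa [← h.neg_eq (h.sr_lt hi)])
        rw [hfix, ← h.neg_eq (h.sr_lt hi)] at this
        exact ih (C.mu (C.w j s)) (by omega) _ rfl (h.w_lt hj' hs) this.1 this.2
  refine h.root_induction (fun i hi => ⟨fun s hs h1 h2 => ?_, fun s hs h1 h2 => ?_⟩) fun i r hi hr ih s hs h1 h2 => ?_
  · exact base i hi _ s rfl hs h1 (by rwa [h.neg_eq (h.sr_lt hi)])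
  · have hw : C.w i (C.neg (C.sr i)) = C.sr i := by
      rw [← (h.refl_simple hi).1, h.w_w hi (h.sr_lt hi)]
    refine h.commRel_w hc hi (h.neg_lt (h.sr_lt hi)) hs ?_
    have := step i _ s hi (h.neg_lt (h.sr_lt hi)) hs h1 h2
    rw [hw, ← h.neg_eq (h.sr_lt hi)] at this
    rw [hw]
    exact base i hi _ _ rfl (h.w_lt hi hs) this.1 this.2
  · have := step i r s hi hr hs h1 h2
    exact h.commRel_w hc hi hr hs (ih _ (h.w_lt hi hs) this.1 this.2)

end Ok

end Cfsg.Lib.Chev
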