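import Cfsg.Agent.Chev.Bruhat

/-!
The length generating function of the Weyl group, computed along a chain of parabolic subgroups from certified
lists of distinguished coset representatives.
-/

set_option autoImplicit false

open Cfsg.Lie

namespace Cfsg.Lib.Chev

/-- Number of elements satisfying a test, by the raw recursor. -/
noncomputable def kcount {α : Type} (p : α → Bool) (L : List α) : ℕ :=
  @List.rec α (fun _ => ℕ) 0 (fun a _ ih => Bool.rec ih (Nat.add ih 1) (p a)) L

theorem kcount_eq {α : Type} (p : α → Bool) (L : List α) : kcount p L = (L.filter p).length := by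
  induction L with
  | nil => rfl
  | cons a L ih =>
    have e : kcount p (a :: L) = Bool.rec (kcount p L) (Nat.add (kcount p L) 1) (p a) := rfl
    rw [e, List.filter_cons]
    cases p a <;> simp [ih]

/-- One step of the chain: coset representatives as byte-packed permutations of the roots, with their parents and
transitions, and the bit mask of the roots of the smaller subsystem. -/
structure Lev where
  /-- mask of the roots of the smaller subsystem -/
  sub : ℕ
  /-- packed permutations -/
  img : List ℕ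
  /-- generator and parent of each representative -/
  par : List (ℕ × ℕ)
  /-- transitions: representative and generator of the smaller subgroup (or `k` for none) -/
  nx : List (List (ℕ × ℕ))

namespace Lev

variable (C : Cert) (V : Lev)

/-- Number of representatives. -/
def num : ℕ := V.img.length

/-- Image of a root under a representative. -/
noncomputable def im (a s : ℕ) : ℕ := Cert.byte (V.img.getD a 0) s

/-- Membership in the smaller subsystem. -/
noncomputable def inSub (r : ℕ) : Bool := Nat.beq (Nat.land (Nat.shiftRight V.sub r) 1) 1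

/-- Number of positive roots made negative by a representative. -/
noncomputable def cnt (a : ℕ) : ℕ :=
  let h := Nat.div C.n 2
  kcount (fun r => Nat.blt (V.im a r) h) (krange h h)

/-- Correctness of the mask. -/
noncomputable def okSub (k : ℕ) : Bool :=
  kall (fun j => V.inSub (C.sr j) && kall (fun r => V.inSub (C.w j r) == V.inSub r) (krange 0 C.n)) (krange 0 k) &&
    kall (fun r => V.inSub (C.neg r) == V.inSub r) (krange 0 C.n)

/-- The representatives are products of generators. -/
noncomputable def okImg (k : ℕ) : Bool :=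
  Nat.blt 0 V.num && kall (fun a => Bool.rec
    (let p := V.par.getD a (0, 0)
     Nat.blt p.2 a && Nat.ble p.1 k && kall (fun s => Nat.beq (V.im a s) (C.w p.1 (V.im p.2 s))) (krange 0 C.n))
    (kall (fun s => Nat.beq (V.im a s) s) (krange 0 C.n)) (Nat.beq a 0)) (krange 0 V.num)

/-- The representatives keep the positive roots of the smaller subsystem positive. -/
noncomputable def okSign : Bool :=
  let h := Nat.div C.n 2
  kall (fun a => kall (fun r => !V.inSub r || Nat.ble h (V.im a r)) (krange h h)) (krange 0 V.num)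

/-- The representatives exhaust the cosets. -/
noncomputable def okNext (k : ℕ) : Bool :=
  kall (fun a => kall (fun i =>
    let q := (V.nx.getD a []).getD i (0, 0)
    Nat.blt q.1 V.num && Nat.ble q.2 k && kall (fun j => Nat.beq (C.w i (V.im a (C.sr j)))
      (V.im q.1 (Bool.rec (C.w q.2 (C.sr j)) (C.sr j) (Nat.beq q.2 k)))) (krange 0 C.l))
    (krange 0 (Nat.add k 1))) (krange 0 V.num)

/-- The representatives are distinct. -/
noncomputable def okDist : Bool :=
  kall (fun a => kall (fun b => !kall (fun j => Nat.beq (V.im a (C.sr j)) (V.im b (C.sr j))) (krange 0 C.l))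
    (krange 0 a)) (krange 0 V.num)

/-- All checks of a step. -/
noncomputable def okAll (k : ℕ) : Bool :=
  Nat.blt k C.l && V.okSub C k && V.okImg C k && V.okSign C && V.okNext C k && V.okDist C

end Lev

variable {D : ChevalleyDatum} {C : Cert}

namespace Struct

theorem exchange_perm (S : Struct D C) (i : Fin D.rank) : ∀ (L : List (Fin D.rank)),
    (S.wpL L (S.sp i)).val < D.nroots / 2 →
    ∃ L' : List (Fin D.rank), L'.length + 1 = L.length ∧ (∀ x ∈ L', x ∈ L) ∧ S.wpL L * S.wp i = S.wpL L'
  | [], hneg => by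
    simp only [wpL, List.map_nil, List.prod_nil, Equiv.Perm.one_apply, sp] at hneg
    exact absurd hneg (by have := S.sr_pos i.isLt; omega)
  | a :: M, hneg => by
    have hsplit : S.wpL (a :: M) = S.wp a * S.wpL M := by simp [wpL]
    rw [hsplit, Equiv.Perm.mul_apply] at hneg
    by_cases hv : (S.wpL M (S.sp i)).val < D.nroots / 2
    · obtain ⟨M', hlen, hsub, e⟩ := exchange_perm S i M hv
      refine ⟨a :: M', by simp [← hlen], ?_, ?_⟩
      · intro x hx
        rcases List.mem_cons.1 hx with rfl | hx
        · exact List.mem_cons_self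
        · exact List.mem_cons_of_mem _ (hsub x hx)
      · rw [hsplit, mul_assoc, e]; simp [wpL]
    · have hva : (S.wpL M (S.sp i)).val = C.sr a.val := by
        by_contra hne
        have := S.pos_w a.isLt (by omega) (S.wpL M (S.sp i)).isLt hne
        rw [wp_val] at hneg
        omega
      obtain ⟨-, c, hc, e⟩ := S.act_nL (F := ℚ) M (S.sp i)
      have e1 := (e 1).2
      rw [hva, S.ok.sr_eq a.isLt, mul_one, show (S.sp i).val = C.sr i.val from rfl,
        S.ok.sr_eq i.isLt, S.ok.nG_eq_hG_mul a.isLt hc, mul_inv_eq_iff_eq_mul] at e1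
      refine ⟨M, by simp, fun x hx => List.mem_cons_of_mem _ hx, ?_⟩
      have h1 := S.act_mul (S.act_nL (F := ℚ) M) (S.act_nG i)
      rw [e1] at h1
      have h2 := S.act_mul (S.act_mul (S.act_diag (S.hG_mem_diag (F := ℚ) a.isLt hc)) (S.act_nG a)) (S.act_nL M)
      have h3 : S.wpL M * S.wp i = S.wp a * S.wpL M := by
        rw [S.act_unique h1 h2, one_mul]
      rw [hsplit, mul_assoc, h3, ← mul_assoc, S.wp_mul_self, one_mul]

theorem eq_one_of_simple_pos (S : Struct D C) (k : ℕ) : ∀ (m : ℕ) (L : List (Fin D.rank)), L.length = m →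
    (∀ x ∈ L, x.val < k) → (∀ j : Fin D.rank, j.val < k → D.nroots / 2 ≤ (S.wpL L (S.sp j)).val) →
    S.wpL L = 1 := by
  intro m
  induction m using Nat.strong_induction_on with
  | _ m ih =>
    intro L hm hlet hpos
    rcases eq_or_ne L [] with rfl | hne
    · rfl
    obtain ⟨M, i, rfl⟩ : ∃ M i, L = M ++ [i] := ⟨L.dropLast, L.getLast hne, (List.dropLast_append_getLast hne).symm⟩
    have hi : i.val < k := hlet i (by simp)
    have e1 : S.wpL (M ++ [i]) = S.wpL M * S.wp i := by simp [wpL]
    have hp := S.ok.sr_lt i.isLt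
    have hneg : (S.wpL M (S.sp i)).val < D.nroots / 2 := by
      have h1 := hpos i hi
      rw [e1, Equiv.Perm.mul_apply] at h1
      have hn : D.neg (C.sr i) < D.nroots := by have := (S.order_row hp).1; omega
      have e2 : S.wp i (S.sp i) = ⟨D.neg (C.sr i), hn⟩ := Fin.ext (by
        rw [wp_val, show (S.sp i).val = C.sr i.val from rfl, (S.ok.refl_simple i.isLt).1, S.ok.neg_eq hp])
      rw [e2, show (S.wpL M ⟨D.neg (C.sr i), hn⟩).val = D.neg (S.wpL M (S.sp i)).val from
        S.wp_neg M (S.sp i) hn] at h1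
      by_contra hge
      have := S.neg_lt_half (S.wpL M (S.sp i)).isLt (Nat.le_of_not_lt hge)
      omega
    obtain ⟨M', hlen, hsub, e⟩ := S.exchange_perm i M hneg
    rw [e1, e]
    refine ih M'.length ?_ M' rfl (fun x hx => hlet x (by simp [hsub x hx])) fun j hj => ?_
    · simp at hm; omega
    · rw [← e, ← e1]; exact hpos j hj

/-- The parabolic subgroup of the first `k` fundamental reflections. -/
noncomputable def WJ (S : Struct D C) (k : ℕ) : Subgroup (Equiv.Perm (Fin D.nroots)) :=
  Subgroup.closure {g | ∃ i : Fin D.rank, i.val < k ∧ g = S.wp i}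

theorem exists_word_WJ (S : Struct D C) {k : ℕ} {w : Equiv.Perm (Fin D.nroots)} (hw : w ∈ S.WJ k) :
    ∃ L : List (Fin D.rank), (∀ x ∈ L, x.val < k) ∧ w = S.wpL L := by
  induction hw using Subgroup.closure_induction_left with
  | one => exact ⟨[], by simp, rfl⟩
  | mul_left x hx y _ ih =>
    obtain ⟨i, hi, rfl⟩ := hx
    obtain ⟨L, hL, rfl⟩ := ih
    exact ⟨i :: L, by simpa using ⟨hi, hL⟩, rfl⟩
  | inv_mul_cancel x hx y _ ih =>
    obtain ⟨i, hi, rfl⟩ := hx
    obtain ⟨L, hL, rfl⟩ := ih
    exact ⟨i :: L, by simpa using ⟨hi, hL⟩, by rw [inv_eq_of_mul_eq_one_right (S.wp_mul_self i)]; rfl⟩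

theorem wpL_mem_WJ (S : Struct D C) {k : ℕ} {L : List (Fin D.rank)} (hL : ∀ x ∈ L, x.val < k) :
    S.wpL L ∈ S.WJ k := by
  refine list_prod_mem fun g hg => ?_
  obtain ⟨i, hi, rfl⟩ := List.mem_map.1 hg
  exact Subgroup.subset_closure ⟨i, hL i hi, rfl⟩

theorem WJ_rank (S : Struct D C) : S.WJ D.rank = S.WG := by
  refine congrArg Subgroup.closure (Set.ext fun g => ?_)
  constructor
  · rintro ⟨i, -, rfl⟩; exact ⟨i, rfl⟩
  · rintro ⟨i, rfl⟩; exact ⟨i, i.isLt, rfl⟩

theorem WJ_le_WG (S : Struct D C) (k : ℕ) : S.WJ k ≤ S.WG :=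
  Subgroup.closure_mono fun _ ⟨i, _, h⟩ => ⟨i, h.symm⟩

theorem ext_simple (S : Struct D C) {g g' : Equiv.Perm (Fin D.nroots)} (hg : g ∈ S.WG) (hg' : g' ∈ S.WG)
    (h : ∀ j, g (S.sp j) = g' (S.sp j)) : g = g' := by
  obtain ⟨L, hL⟩ := S.exists_wpL (mul_mem (inv_mem hg) hg')
  have := S.eq_one_of_simple_pos D.rank _ L rfl (fun x _ => x.isLt) fun j _ => by
    rw [← hL, Equiv.Perm.mul_apply, ← h j, Equiv.Perm.inv_def, Equiv.symm_apply_apply]
    exact S.sr_pos j.isLt
  rw [← hL] at this
  exact inv_mul_eq_one.1 this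

open scoped Classical in
/-- The length generating function of a parabolic subgroup, at `q`. -/
noncomputable def Psum (S : Struct D C) (k q : ℕ) : ℕ :=
  ∑ w : ↥(S.WJ k), q ^ Nw D (w : Equiv.Perm _)

theorem Psum_zero (S : Struct D C) (q : ℕ) : S.Psum 0 q = 1 := by
  classical
  have h : S.WJ 0 = ⊥ := by simp [WJ]
  haveI : Unique ↥(S.WJ 0) :=
    { default := 1
      uniq := fun a => Subtype.ext (Subgroup.mem_bot.1 (h.le a.2)) }
  rw [Psum, Fintype.sum_unique]
  have hv : ((default : ↥(S.WJ 0)) : Equiv.Perm (Fin D.nroots)) = 1 := Subgroup.mem_bot.1 (h.le (Subtype.prop _))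
  rw [hv]
  have : Nw D (1 : Equiv.Perm (Fin D.nroots)) = 0 := by
    rw [Nw, Finset.card_eq_zero, Finset.filter_eq_empty_iff]
    intro r _ hr
    have : r.val < D.nroots / 2 := hr.2
    omega
  rw [this, pow_zero]

theorem Psum_succ (S : Struct D C) {k : ℕ} {V : Lev} (hV : V.okAll C k = true) (q : ℕ) :
    S.Psum (k + 1) q = S.Psum k q * ((List.range V.num).map fun a => q ^ V.cnt C a).sum := by
  classical
  simp only [Lev.okAll, Lev.okSub, Lev.okImg, Lev.okSign, Lev.okNext, Lev.okDist, Bool.and_eq_true,
    kall_iff, krange_eq, List.mem_range'_1, Nat.zero_add, Nat.zero_le, true_and, Nat.blt, Nat.ble_eq,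
    Nat.succ_le_iff, beq_iff_eq, Bool.not_eq_true'] at hV
  obtain ⟨⟨⟨⟨⟨hk, hsubj, hsubn⟩, hnum, himg⟩, hsign⟩, hnext⟩, hdist⟩ := hV
  rw [S.ok.n_eq] at hsubn himg
  have hkl : k < D.rank := S.ok.l_eq ▸ hk
  -- the representatives as permutations
  have hu : ∀ a, a < V.num → ∃ u, u ∈ S.WJ (k + 1) ∧ ∀ s : Fin D.nroots, V.im a s = (u s).val := by
    intro a
    induction a using Nat.strong_induction_on with
    | _ a ih =>
      intro ha
      have h1 := himg a ha
      rcases eq_or_ne a 0 with rfl | ha0
      · refine ⟨1, one_mem _, fun s => ?_⟩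
        simp only [Nat.beq_refl, kall_iff, krange_eq, List.mem_range'_1] at h1
        exact Nat.eq_of_beq_eq_true (h1 s.val ⟨Nat.zero_le _, by omega⟩)
      · have hb : Nat.beq a 0 = false := by
          cases hq : Nat.beq a 0
          · rfl
          · exact absurd (Nat.eq_of_beq_eq_true hq) ha0
        simp only [hb, Bool.and_eq_true, kall_iff, krange_eq, List.mem_range'_1, Nat.blt, Nat.ble_eq] at h1
        obtain ⟨⟨h2, h3⟩, h4⟩ := h1
        obtain ⟨u, hu, hus⟩ := ih (V.par.getD a (0, 0)).2 h2 (lt_trans h2 ha)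
        refine ⟨S.wp ⟨(V.par.getD a (0, 0)).1, by omega⟩ * u,
          mul_mem (Subgroup.subset_closure ⟨_, Nat.lt_succ_of_le h3, rfl⟩) hu, fun s => ?_⟩
        rw [Equiv.Perm.mul_apply, wp_val, ← hus s]
        exact Nat.eq_of_beq_eq_true (h4 s.val ⟨Nat.zero_le _, by omega⟩)
  choose u hu husem using hu
  -- the subsystem
  let Sub : Fin D.nroots → Prop := fun r => V.inSub r.val = true
  have hsub_w : ∀ (i : Fin D.rank), i.val < k → ∀ r, Sub (S.wp i r) ↔ Sub r := by
    intro i hi r
    have := (hsubj i.val hi).2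
    rw [S.ok.n_eq] at this
    show V.inSub (C.w i.val r.val) = true ↔ _
    rw [this r.val r.isLt]
  have hsub_v : ∀ v ∈ S.WJ k, ∀ r, (Sub (v r) ↔ Sub r) ∧
      (D.nroots / 2 ≤ r.val → ¬ Sub r → D.nroots / 2 ≤ (v r).val) := by
    intro v hv
    obtain ⟨L, hL, rfl⟩ := S.exists_word_WJ hv
    induction L with
    | nil => exact fun r => ⟨Iff.rfl, fun h _ => h⟩
    | cons i L ih =>
      intro r
      have hi := hL i List.mem_cons_self
      obtain ⟨ih1, ih2⟩ := ih (fun x hx => hL x (List.mem_cons_of_mem _ hx))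
        (S.wpL_mem_WJ fun x hx => hL x (List.mem_cons_of_mem _ hx)) r
      have e : S.wpL (i :: L) r = S.wp i (S.wpL L r) := by simp [wpL]
      rw [e, hsub_w i hi, ih1]
      refine ⟨Iff.rfl, fun hr hns => ?_⟩
      rw [wp_val]
      refine S.pos_w i.isLt (ih2 hr hns) (Fin.isLt _) fun hcon => hns (ih1.1 ?_)
      show V.inSub (S.wpL L r).val = true
      rw [hcon]
      exact (hsubj i.val hi).1
  have hsub_neg : ∀ (r : Fin D.nroots) (hr : D.neg r.val < D.nroots), Sub ⟨D.neg r.val, hr⟩ ↔ Sub r := by
    intro r hr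
    show V.inSub (D.neg r.val) = true ↔ _
    rw [← S.ok.neg_eq r.isLt, hsubn r.val r.isLt]
  have hW : ∀ w, w ∈ S.WJ (k + 1) → ∀ (r : Fin D.nroots) (hr : D.neg r.val < D.nroots),
      (w ⟨D.neg r.val, hr⟩).val = D.neg (w r).val := by
    intro w hw r hr
    obtain ⟨L, -, rfl⟩ := S.exists_word_WJ hw
    exact S.wp_neg L r hr
  have hs := S.hsum
  have hneg_flip : ∀ r : Fin D.nroots, r.val < D.nroots / 2 ↔ D.nroots / 2 ≤ D.neg r.val := fun r => by
    have := (S.order_row r.isLt).1; omega
  have hupos : ∀ a (ha : a < V.num), ∀ r : Fin D.nroots, Sub r →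
      ((u a ha r).val < D.nroots / 2 ↔ r.val < D.nroots / 2) := by
    intro a ha r hr
    have hpos : ∀ r : Fin D.nroots, Sub r → D.nroots / 2 ≤ r.val → D.nroots / 2 ≤ (u a ha r).val := by
      intro r hr hge
      have e : Nat.div C.n 2 = D.nroots / 2 := by rw [S.ok.n_eq]; rfl
      have h1 := hsign a ha r.val (by rw [e]; omega)
      rw [e] at h1
      simp only [Bool.or_eq_true, Bool.not_eq_true', Nat.ble_eq] at h1
      rcases h1 with h1 | h1
      · have hr' : V.inSub r.val = true := hr
        rw [h1] at hr'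
        exact Bool.noConfusion hr'
      · rw [← husem a ha r]; exact h1
    refine ⟨fun h => ?_, fun h => ?_⟩
    · by_contra hge
      have := hpos r hr (Nat.le_of_not_lt hge)
      omega
    · have hn : D.neg r.val < D.nroots := by have := (S.order_row r.isLt).1; omega
      have h1 := hpos ⟨D.neg r.val, hn⟩ ((hsub_neg r hn).2 hr) ((hneg_flip r).1 h)
      rw [hW _ (hu a ha) r hn] at h1
      exact (hneg_flip _).2 h1
  have hadd : ∀ a (ha : a < V.num), ∀ v ∈ S.WJ k, Nw D (u a ha * v) = Nw D (u a ha) + Nw D v := by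
    intro a ha v hv
    let P0 : Finset (Fin D.nroots) := Finset.univ.filter fun r => D.nroots / 2 ≤ r.val
    have hN : ∀ w : Equiv.Perm (Fin D.nroots),
        Nw D w = ((P0.filter fun r => Sub r).filter fun r => (w r).val < D.nroots / 2).card +
          ((P0.filter fun r => ¬ Sub r).filter fun r => (w r).val < D.nroots / 2).card := by
      intro w
      rw [← Finset.card_union_of_disjoint (by
        rw [Finset.disjoint_left]; intro r; simp only [Finset.mem_filter]; tauto)]
      unfold Nw
      congr 1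
      ext r
      simp only [P0, Finset.mem_union, Finset.mem_filter, Finset.mem_univ, true_and]
      tauto
    rw [hN (u a ha * v), hN (u a ha), hN v]
    have e1 : ((P0.filter fun r => Sub r).filter fun r => (u a ha r).val < D.nroots / 2) = ∅ := by
      rw [Finset.filter_eq_empty_iff]
      intro r hr
      simp only [P0, Finset.mem_filter, Finset.mem_univ, true_and] at hr
      rw [hupos a ha r hr.2]
      omega
    have e2 : ((P0.filter fun r => ¬ Sub r).filter fun r => (v r).val < D.nroots / 2) = ∅ := by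
      rw [Finset.filter_eq_empty_iff]
      intro r hr
      simp only [P0, Finset.mem_filter, Finset.mem_univ, true_and] at hr
      have := (hsub_v v hv r).2 hr.1 hr.2
      omega
    have e3 : ((P0.filter fun r => Sub r).filter fun r => ((u a ha * v) r).val < D.nroots / 2) =
        ((P0.filter fun r => Sub r).filter fun r => (v r).val < D.nroots / 2) := by
      refine Finset.filter_congr fun r hr => ?_
      simp only [P0, Finset.mem_filter, Finset.mem_univ, true_and] at hr
      rw [Equiv.Perm.mul_apply]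
      exact hupos a ha _ ((hsub_v v hv r).1.2 hr.2)
    have e4 : ((P0.filter fun r => ¬ Sub r).filter fun r => ((u a ha * v) r).val < D.nroots / 2).card =
        ((P0.filter fun r => ¬ Sub r).filter fun r => (u a ha r).val < D.nroots / 2).card := by
      refine Finset.card_bij' (fun r _ => v r) (fun r _ => v⁻¹ r) ?_ ?_ ?_ ?_
      · intro r hr
        simp only [P0, Finset.mem_filter, Finset.mem_univ, true_and] at hr ⊢
        exact ⟨⟨(hsub_v v hv r).2 hr.1.1 hr.1.2, fun h => hr.1.2 ((hsub_v v hv r).1.1 h)⟩, hr.2⟩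
      · intro r hr
        simp only [P0, Finset.mem_filter, Finset.mem_univ, true_and] at hr ⊢
        refine ⟨⟨(hsub_v _ (inv_mem hv) r).2 hr.1.1 hr.1.2,
          fun h => hr.1.2 ((hsub_v _ (inv_mem hv) r).1.1 h)⟩, ?_⟩
        rw [Equiv.Perm.mul_apply, Equiv.Perm.inv_def, Equiv.apply_symm_apply]
        exact hr.2
      · intro r _; simp
      · intro r _; simp
    rw [e1, e2, e3, e4, Finset.card_empty]
    ring
  have hcnt : ∀ a (ha : a < V.num), Nw D (u a ha) = V.cnt C a := by
    intro a ha
    simp only [Lev.cnt, kcount_eq, krange_eq]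
    have e : Nat.div C.n 2 = D.nroots / 2 := by rw [S.ok.n_eq]; rfl
    rw [e, ← List.toFinset_card_of_nodup (List.Nodup.filter _ List.nodup_range'), Nw]
    refine Finset.card_bij (fun r _ => r.val) ?_ (fun r _ s _ h => Fin.ext h) ?_
    · intro r hr
      simp only [Finset.mem_filter, Finset.mem_univ, true_and] at hr
      simp only [List.mem_toFinset, List.mem_filter, List.mem_range'_1, Nat.blt, Nat.ble_eq, husem a ha r]
      exact ⟨⟨hr.1, by omega⟩, hr.2⟩
    · intro b hb
      simp only [List.mem_toFinset, List.mem_filter, List.mem_range'_1, Nat.blt, Nat.ble_eq] at hb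
      refine ⟨⟨b, by omega⟩, ?_, rfl⟩
      simp only [Finset.mem_filter, Finset.mem_univ, true_and, ← husem a ha ⟨b, by omega⟩]
      exact ⟨hb.1.1, hb.2⟩
  have hle : S.WJ k ≤ S.WJ (k + 1) := Subgroup.closure_mono fun g ⟨i, hi, e⟩ => ⟨i, by omega, e⟩
  let f : ↥(S.WJ k) × Fin V.num → ↥(S.WJ (k + 1)) :=
    fun p => ⟨u p.2.val p.2.isLt * p.1.1, mul_mem (hu _ _) (hle p.1.2)⟩
  have hf : Function.Bijective f := by
    constructor
    · rintro ⟨⟨v, hv⟩, ⟨a, ha⟩⟩ ⟨⟨v', hv'⟩, ⟨b, hb⟩⟩ e
      have e' : u a ha * v = u b hb * v' := congrArg Subtype.val e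
      have hx : u b hb = u a ha * (v * v'⁻¹) := by rw [← mul_assoc, e', mul_inv_cancel_right]
      obtain ⟨L, hL, hLx⟩ := S.exists_word_WJ (mul_mem hv (inv_mem hv'))
      have hx1 : v * v'⁻¹ = 1 := by
        rw [hLx]
        refine S.eq_one_of_simple_pos k _ L rfl hL fun j hj => ?_
        rw [← hLx]
        by_contra hcon
        have hsubj' : Sub (S.sp j) := (hsubj j.val hj).1
        have h1 := (hupos a ha _ ((hsub_v _ (mul_mem hv (inv_mem hv')) (S.sp j)).1.2 hsubj')).2
          (Nat.lt_of_not_le hcon)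
        have h2 := hupos b hb _ hsubj'
        rw [hx, Equiv.Perm.mul_apply] at h2
        have h3 : (S.sp j).val < D.nroots / 2 := h2.1 h1
        have : D.nroots / 2 ≤ (S.sp j).val := S.sr_pos j.isLt
        omega
      have hvv : v = v' := mul_inv_eq_one.1 hx1
      subst hvv
      have hab : u a ha = u b hb := mul_right_cancel e'
      have heq : a = b := by
        by_contra hne
        have key : ∀ a b (ha : a < V.num) (hb : b < V.num), b < a → u a ha ≠ u b hb := by
          intro a b ha hb hlt hab
          have h5 : ∀ j < C.l, Nat.beq (V.im a (C.sr j)) (V.im b (C.sr j)) = true := fun j hj => by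
            have hj' : j < D.rank := S.ok.l_eq ▸ hj
            have e1 := husem a ha (S.sp ⟨j, hj'⟩)
            have e2 := husem b hb (S.sp ⟨j, hj'⟩)
            rw [show (S.sp ⟨j, hj'⟩).val = C.sr j from rfl] at e1 e2
            rw [e1, e2, hab, Nat.beq_refl]
          have h4 := hdist a ha b hlt
          rw [(kall_iff _ _).2 fun j hj => h5 j (by rw [List.mem_range'_1] at hj; omega)] at h4
          exact Bool.noConfusion h4
        rcases Nat.lt_or_gt_of_ne hne with h | h
        · exact key b a hb ha h hab.symm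
        · exact key a b ha hb h hab
      subst heq
      rfl
    · intro w
      have key : ∀ w ∈ S.WJ (k + 1), ∃ (v : ↥(S.WJ k)) (a : ℕ) (ha : a < V.num), u a ha * v.1 = w := by
        intro w hw
        obtain ⟨L, hL, rfl⟩ := S.exists_word_WJ hw
        clear hw
        induction L with
        | nil =>
          refine ⟨1, 0, hnum, ?_⟩
          have h1 := himg 0 hnum
          simp only [Nat.beq_refl, kall_iff, krange_eq, List.mem_range'_1] at h1
          have : u 0 hnum = 1 := Equiv.ext fun s => Fin.ext (by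
            rw [← husem 0 hnum s]
            exact Nat.eq_of_beq_eq_true (h1 s.val ⟨Nat.zero_le _, by omega⟩))
          simp [this, wpL]
        | cons i L ih =>
          obtain ⟨v, a, ha, e⟩ := ih fun x hx => hL x (List.mem_cons_of_mem _ hx)
          have hi : i.val < k + 1 := hL i List.mem_cons_self
          obtain ⟨⟨hb, hq2⟩, hj⟩ := hnext a ha i.val hi
          rw [S.ok.l_eq] at hj
          set qq := (V.nx.getD a []).getD i.val (0, 0)
          obtain ⟨x, hx, hxs⟩ : ∃ x ∈ S.WJ k, ∀ j : Fin D.rank, (x (S.sp j)).val =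
              Bool.rec (C.w qq.2 (C.sr j)) (C.sr j) (Nat.beq qq.2 k) := by
            cases hq : Nat.beq qq.2 k with
            | true => exact ⟨1, one_mem _, fun j => rfl⟩
            | false =>
              have hlt : qq.2 < k := lt_of_le_of_ne hq2 (Nat.ne_of_beq_eq_false hq)
              exact ⟨S.wp ⟨qq.2, by omega⟩, Subgroup.subset_closure ⟨_, hlt, rfl⟩, fun j => rfl⟩
          have heq : S.wp i * u a ha = u qq.1 hb * x := by
            refine S.ext_simple (mul_mem (Subgroup.subset_closure ⟨i, rfl⟩) (S.WJ_le_WG _ (hu a ha)))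
              (mul_mem (S.WJ_le_WG _ (hu _ hb)) (S.WJ_le_WG _ hx)) fun j => Fin.ext ?_
            have h6 := Nat.eq_of_beq_eq_true (hj j.val j.isLt)
            rw [← hxs j, husem qq.1 hb, show C.sr j.val = (S.sp j).val from rfl, husem a ha] at h6
            rw [Equiv.Perm.mul_apply, Equiv.Perm.mul_apply, wp_val]
            exact h6
          refine ⟨⟨x * v.1, mul_mem hx v.2⟩, qq.1, hb, ?_⟩
          show u qq.1 hb * (x * v.1) = _
          rw [← mul_assoc, ← heq, mul_assoc, e]
          simp [wpL]
      obtain ⟨v, a, ha, e⟩ := key w.1 w.2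
      exact ⟨(v, ⟨a, ha⟩), Subtype.ext e⟩
  have hbij := (Equiv.ofBijective f hf).sum_comp fun w : ↥(S.WJ (k + 1)) => q ^ Nw D (w : Equiv.Perm _)
  rw [Psum, ← hbij, Fintype.sum_prod_type, Psum, Finset.sum_mul]
  refine Finset.sum_congr rfl fun v _ => ?_
  rw [show ((List.range V.num).map fun a => q ^ V.cnt C a).sum = ∑ a : Fin V.num, q ^ V.cnt C a.val by
    rw [← List.map_coe_finRange_eq_range, List.map_map, ← List.sum_ofFn, List.ofFn_eq_map]; rfl,
    Finset.mul_sum]
  refine Finset.sum_congr rfl fun a _ => ?_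
  show q ^ Nw D (u a.val a.isLt * v.1) = _
  rw [hadd a.val a.isLt v.1 v.2, pow_add, hcnt a.val a.isLt, mul_comm]

end Struct

end Cfsg.Lib.Chev
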