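import Cfsg.Agent.Steinberg.Linear
import Cfsg.Agent.Chev.Poincare
import Cfsg.Agent.Chev.ClosedPsi

/-! An invariant inner product on the span of the roots, dominance, and minimal-norm points. -/

set_option autoImplicit false

open Cfsg.Lie Cfsg.Lib.Steinberg

namespace Cfsg.Lib.Chev

variable {D : ChevalleyDatum} {C : Cert} {T : List (List ℤ)}

/-- The coefficient vector of a root. -/
noncomputable def rv (T : List (List ℤ)) (r : Fin D.nroots) : Fin D.rank → ℝ := fun k => (htAt T r.val k : ℝ)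

/-- The linear action of a permutation of the roots on coefficient vectors. -/
noncomputable def act (S : Struct D C) (T : List (List ℤ)) (w : Equiv.Perm (Fin D.nroots)) :
    (Fin D.rank → ℝ) →ₗ[ℝ] (Fin D.rank → ℝ) where
  toFun x k := ∑ j, x j * rv T (w (S.sp j)) k
  map_add' x y := by ext k; simp [add_mul, Finset.sum_add_distrib]
  map_smul' c x := by ext k; simp [Finset.mul_sum, mul_assoc]

open scoped Classical in
/-- The invariant form. -/
noncomputable def bF (S : Struct D C) (T : List (List ℤ)) (x y : Fin D.rank → ℝ) : ℝ :=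
  ∑ w : ↥S.WG, ∑ k, act S T (w : Equiv.Perm _) x k * act S T (w : Equiv.Perm _) y k

section

variable (S : Struct D C)

open scoped Classical

theorem rv_sp (hT : okHt D T = true) (j : Fin D.rank) : rv T (S.sp j) = Pi.single j (1 : ℝ) := by
  funext k
  simp only [rv, Struct.sp, S.ok.sr_eq j.isLt, ht_simple hT j.isLt k.isLt, Pi.single_apply]
  by_cases h : j = k
  · subst h; simp
  · rw [if_neg (fun e => h (Fin.ext e)), if_neg (Ne.symm h)]; simp

theorem act_rv (hT : okHt D T = true) (hl : okLin D C T = true) {w : Equiv.Perm (Fin D.nroots)} (hw : w ∈ S.WG)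
    (r : Fin D.nroots) : act S T w (rv T r) = rv T (w r) := by
  obtain ⟨L, rfl⟩ := S.exists_wpL hw
  funext k
  simp only [act, LinearMap.coe_mk, AddHom.coe_mk, rv, ht_wpL S hT hl L r k k.isLt]
  push_cast
  rfl

theorem eq_sum_single (x : Fin D.rank → ℝ) : x = ∑ j, x j • (Pi.single j (1 : ℝ) : Fin D.rank → ℝ) := by
  funext k; simp [Finset.sum_apply, Pi.single_apply]

theorem act_mul_apply (hT : okHt D T = true) (hl : okLin D C T = true) {w w' : Equiv.Perm (Fin D.nroots)}
    (hw : w ∈ S.WG) (hw' : w' ∈ S.WG) (x : Fin D.rank → ℝ) :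
    act S T (w * w') x = act S T w (act S T w' x) := by
  rw [eq_sum_single x, map_sum, map_sum, map_sum]
  refine Finset.sum_congr rfl fun j _ => ?_
  rw [map_smul, map_smul, map_smul, ← rv_sp S hT j, act_rv S hT hl (mul_mem hw hw'), act_rv S hT hl hw',
    act_rv S hT hl hw, Equiv.Perm.mul_apply]

theorem act_one_apply (hT : okHt D T = true) (x : Fin D.rank → ℝ) : act S T 1 x = x := by
  funext k
  simp only [act, LinearMap.coe_mk, AddHom.coe_mk, Equiv.Perm.one_apply, rv_sp S hT]
  simp [Pi.single_apply]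

theorem rv_neg (hT : okHt D T = true) (r : Fin D.nroots) (h : D.neg r.val < D.nroots) :
    rv T ⟨D.neg r.val, h⟩ = -rv T r := by
  funext k
  simp [rv, (ht_row hT r.isLt k.isLt).1]

theorem bF_comm (x y : Fin D.rank → ℝ) : bF S T x y = bF S T y x :=
  Finset.sum_congr rfl fun _ _ => Finset.sum_congr rfl fun _ _ => mul_comm _ _

theorem bF_add (x y z : Fin D.rank → ℝ) : bF S T x (y + z) = bF S T x y + bF S T x z := by
  simp only [bF, map_add, Pi.add_apply, mul_add, Finset.sum_add_distrib]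

theorem bF_smul (c : ℝ) (x y : Fin D.rank → ℝ) : bF S T x (c • y) = c * bF S T x y := by
  simp only [bF, map_smul, Pi.smul_apply, smul_eq_mul, Finset.mul_sum]
  exact Finset.sum_congr rfl fun _ _ => Finset.sum_congr rfl fun _ _ => by ring

theorem bF_neg (x y : Fin D.rank → ℝ) : bF S T x (-y) = -bF S T x y := by
  rw [← neg_one_smul ℝ y, bF_smul, neg_one_mul]

theorem bF_sub (x y z : Fin D.rank → ℝ) : bF S T x (y - z) = bF S T x y - bF S T x z := by
  rw [sub_eq_add_neg, bF_add, bF_neg, sub_eq_add_neg]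

theorem bF_smul' (c : ℝ) (x y : Fin D.rank → ℝ) : bF S T (c • x) y = c * bF S T x y := by
  rw [bF_comm, bF_smul, bF_comm]

theorem bF_add' (x y z : Fin D.rank → ℝ) : bF S T (x + y) z = bF S T x z + bF S T y z := by
  rw [bF_comm, bF_add, bF_comm, bF_comm S z y]

theorem bF_sub' (x y z : Fin D.rank → ℝ) : bF S T (x - y) z = bF S T x z - bF S T y z := by
  rw [bF_comm, bF_sub, bF_comm, bF_comm S z y]

theorem bF_zero (x : Fin D.rank → ℝ) : bF S T x 0 = 0 := by
  rw [← zero_smul ℝ (0 : Fin D.rank → ℝ), bF_smul, zero_mul]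

theorem bF_sum {ι : Type} (s : Finset ι) (f : ι → Fin D.rank → ℝ) (y : Fin D.rank → ℝ) :
    bF S T (∑ i ∈ s, f i) y = ∑ i ∈ s, bF S T (f i) y := by
  induction s using Finset.induction_on with
  | empty => rw [Finset.sum_empty, Finset.sum_empty, bF_comm, bF_zero]
  | insert a s ha ih => rw [Finset.sum_insert ha, Finset.sum_insert ha, bF_add', ih]

theorem bF_nonneg (x : Fin D.rank → ℝ) : 0 ≤ bF S T x x :=
  Finset.sum_nonneg fun _ _ => Finset.sum_nonneg fun _ _ => mul_self_nonneg _

theorem bF_eq_zero (hT : okHt D T = true) {x : Fin D.rank → ℝ} (h : bF S T x x = 0) : x = 0 := by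
  unfold bF at h
  have h1 := (Finset.sum_eq_zero_iff_of_nonneg
    (fun (w : ↥S.WG) _ => Finset.sum_nonneg fun k _ => mul_self_nonneg (act S T (w : Equiv.Perm _) x k))).1 h
    (1 : ↥S.WG) (Finset.mem_univ _)
  funext k
  have h2 := (Finset.sum_eq_zero_iff_of_nonneg (fun k _ => mul_self_nonneg _)).1 h1 k (Finset.mem_univ _)
  rw [mul_self_eq_zero, OneMemClass.coe_one, act_one_apply S hT] at h2
  exact h2

theorem bF_act (hT : okHt D T = true) (hl : okLin D C T = true) {w : Equiv.Perm (Fin D.nroots)} (hw : w ∈ S.WG)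
    (x y : Fin D.rank → ℝ) : bF S T (act S T w x) (act S T w y) = bF S T x y := by
  unfold bF
  rw [← Equiv.sum_comp (Equiv.mulRight (⟨w, hw⟩ : ↥S.WG))
    (fun u : ↥S.WG => ∑ k, act S T (u : Equiv.Perm _) x k * act S T (u : Equiv.Perm _) y k)]
  refine Finset.sum_congr rfl fun u _ => ?_
  simp only [Equiv.coe_mulRight, Subgroup.coe_mul]
  rw [act_mul_apply S hT hl u.2 hw, act_mul_apply S hT hl u.2 hw]

theorem cauchy (x y : Fin D.rank → ℝ) : bF S T x y ^ 2 ≤ bF S T x x * bF S T y y := by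
  have h : ∀ t : ℝ, 0 ≤ bF S T y y * (t * t) + 2 * bF S T x y * t + bF S T x x := by
    intro t
    have := bF_nonneg S (T := T) (x + t • y)
    simp only [bF_add, bF_add', bF_smul, bF_smul', bF_comm S y x] at this
    linarith
  have := discrim_le_zero h
  rw [discrim] at this
  nlinarith

/-- A vector pairing positively with every fundamental root. -/
theorem exists_rho (hT : okHt D T = true) :
    ∃ ρ : Fin D.rank → ℝ, ∀ i : Fin D.rank, bF S T (Pi.single i (1 : ℝ)) ρ = 1 := by
  let φ : (Fin D.rank → ℝ) →ₗ[ℝ] (Fin D.rank → ℝ) :=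
    { toFun := fun x i => bF S T (Pi.single i (1 : ℝ)) x
      map_add' := fun x y => funext fun i => bF_add S _ x y
      map_smul' := fun c x => funext fun i => bF_smul S c _ x }
  have hinj : Function.Injective φ := by
    refine (injective_iff_map_eq_zero φ).2 fun x hx => bF_eq_zero S hT ?_
    conv_lhs => arg 3; rw [eq_sum_single x]
    rw [bF_sum]
    refine Finset.sum_eq_zero fun j _ => ?_
    rw [bF_smul', show bF S T (Pi.single j (1 : ℝ)) x = 0 from congrFun hx j, mul_zero]
  obtain ⟨ρ, hρ⟩ := (LinearMap.injective_iff_surjective.1 hinj) fun _ => 1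
  exact ⟨ρ, fun i => congrFun hρ i⟩

/-- The dominant vectors. -/
def Dom (S : Struct D C) (T : List (List ℤ)) (lam : Fin D.rank → ℝ) : Prop :=
  ∀ i : Fin D.rank, 0 ≤ bF S T (Pi.single i (1 : ℝ)) lam

theorem bF_rv (r : Fin D.nroots) (lam : Fin D.rank → ℝ) :
    bF S T (rv T r) lam = ∑ j : Fin D.rank, (htAt T r.val j : ℝ) * bF S T (Pi.single j (1 : ℝ)) lam := by
  conv_lhs => rw [eq_sum_single (rv T r)]
  rw [bF_sum]
  exact Finset.sum_congr rfl fun j _ => by rw [bF_smul']; rfl

theorem Dom.nonneg (hT : okHt D T = true) {lam : Fin D.rank → ℝ} (hd : Dom S T lam) {r : Fin D.nroots}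
    (hr : D.nroots / 2 ≤ r.val) : 0 ≤ bF S T (rv T r) lam := by
  rw [bF_rv]
  exact Finset.sum_nonneg fun j _ => mul_nonneg (by exact_mod_cast S.ht_nonneg hT hr r.isLt j.isLt) (hd j)

theorem Dom.pos_of_pos (hT : okHt D T = true) {lam : Fin D.rank → ℝ} (hd : Dom S T lam) {r : Fin D.nroots}
    (hr : 0 < bF S T (rv T r) lam) : D.nroots / 2 ≤ r.val := by
  by_contra hlt
  obtain ⟨n1, n2, -⟩ := S.neg_pos (show r.val < D.nroots / 2 by omega)
  have := Dom.nonneg S hT hd (r := ⟨D.neg r.val, n2⟩) n1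
  rw [rv_neg hT r n2, bF_comm, bF_neg, bF_comm] at this
  linarith

theorem wp_rv (hT : okHt D T = true) (hl : okLin D C T = true) (i : Fin D.rank) :
    act S T (S.wp i) (Pi.single i (1 : ℝ)) = -Pi.single i (1 : ℝ) := by
  have hp := S.ok.sr_lt i.isLt
  have hn : D.neg (S.sp i).val < D.nroots := by have := (S.order_row hp).1; simp only [Struct.sp]; omega
  rw [← rv_sp S hT i, act_rv S hT hl (Subgroup.subset_closure ⟨i, rfl⟩),
    show S.wp i (S.sp i) = ⟨D.neg (S.sp i).val, hn⟩ from Fin.ext (by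
      show C.w i.val (C.sr i.val) = D.neg (C.sr i.val)
      rw [(S.ok.refl_simple i.isLt).1, S.ok.neg_eq hp]),
    rv_neg hT]

theorem wp_mem_WG (i : Fin D.rank) : S.wp i ∈ S.WG := Subgroup.subset_closure ⟨i, rfl⟩

theorem act_wp_eq (hT : okHt D T = true) (hl : okLin D C T = true) (i : Fin D.rank) (lam : Fin D.rank → ℝ) :
    act S T (S.wp i) lam = lam + (act S T (S.wp i) lam i - lam i) • Pi.single i (1 : ℝ) := by
  funext k
  simp only [Pi.add_apply, Pi.smul_apply, Pi.single_apply, smul_eq_mul]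
  by_cases h : k = i
  · subst h; rw [if_pos rfl]; ring
  · rw [if_neg h, mul_zero, add_zero]
    simp only [act, LinearMap.coe_mk, AddHom.coe_mk]
    have : ∀ j, rv T (S.wp i (S.sp j)) k = (Pi.single j (1 : ℝ) : Fin D.rank → ℝ) k := by
      intro j
      rw [← rv_sp S hT j]
      simp only [rv, Struct.wp_val]
      exact congrArg Int.cast (lin_ne hl i.isLt (S.sp j).isLt k.isLt (fun e => h (Fin.ext e)))
    simp only [this]
    simp [Pi.single_apply]

theorem refl_orth (hT : okHt D T = true) (hl : okLin D C T = true) (i : Fin D.rank) (lam : Fin D.rank → ℝ)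
    (h : bF S T (Pi.single i (1 : ℝ)) lam = 0) : act S T (S.wp i) lam = lam := by
  obtain ⟨c, e⟩ : ∃ c : ℝ, act S T (S.wp i) lam = lam + c • Pi.single i (1 : ℝ) :=
    ⟨_, act_wp_eq S hT hl i lam⟩
  have h1 := bF_act S hT hl (wp_mem_WG S i) lam lam
  rw [e, bF_add, bF_add', bF_add', bF_smul, bF_smul, bF_smul', bF_smul', bF_comm S lam (Pi.single i 1), h] at h1
  have hc : c = 0 := by
    by_contra hc
    have hQ : bF S T (Pi.single i (1 : ℝ)) (Pi.single i (1 : ℝ)) = 0 := by
      have : c * c * bF S T (Pi.single i (1 : ℝ)) (Pi.single i (1 : ℝ)) = 0 := by linarith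
      rcases mul_eq_zero.1 this with h' | h'
      · exact absurd (mul_self_eq_zero.1 h') hc
      · exact h'
    have := congrFun (bF_eq_zero S hT hQ) i
    simp at this
  rw [e, hc, zero_smul, add_zero]

theorem refl_gain (hT : okHt D T = true) (hl : okLin D C T = true) (i : Fin D.rank) {lam ρ : Fin D.rank → ℝ}
    (hρ : bF S T (Pi.single i (1 : ℝ)) ρ = 1)
    (h : bF S T (act S T (S.wp i) lam) ρ ≤ bF S T lam ρ) : 0 ≤ bF S T (Pi.single i (1 : ℝ)) lam := by
  obtain ⟨c, e⟩ : ∃ c : ℝ, act S T (S.wp i) lam = lam + c • Pi.single i (1 : ℝ) :=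
    ⟨_, act_wp_eq S hT hl i lam⟩
  rw [e, bF_add', bF_smul', hρ, mul_one] at h
  have h2 := bF_act S hT hl (wp_mem_WG S i) (Pi.single i (1 : ℝ)) lam
  rw [wp_rv S hT hl, e, bF_add, bF_smul, bF_comm S (-_), bF_neg, bF_comm S lam, bF_comm S (-_), bF_neg] at h2
  nlinarith [bF_nonneg S (T := T) (Pi.single i (1 : ℝ))]

theorem exists_dom (hT : okHt D T = true) (hl : okLin D C T = true) (lam : Fin D.rank → ℝ) :
    ∃ w ∈ S.WG, Dom S T (act S T w lam) := by
  obtain ⟨ρ, hρ⟩ := exists_rho S hT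
  obtain ⟨w, hw⟩ := Finite.exists_max fun w : ↥S.WG => bF S T (act S T (w : Equiv.Perm _) lam) ρ
  refine ⟨w, w.2, fun i => refl_gain S hT hl i (hρ i) ?_⟩
  have := hw (⟨S.wp i, wp_mem_WG S i⟩ * w)
  rw [← act_mul_apply S hT hl (wp_mem_WG S i) w.2]
  exact this

/-- The point of least norm in the convex hull of a nonempty set of roots. -/
theorem exists_minPt (Ψ : Finset (Fin D.nroots)) (hne : Ψ.Nonempty) :
    ∃ v ∈ convexHull ℝ (rv (D := D) T '' (Ψ : Set (Fin D.nroots))),
      ∀ r ∈ Ψ, bF S T v v ≤ bF S T (rv T r) v := by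
  have hfin : (rv (D := D) T '' (Ψ : Set (Fin D.nroots))).Finite := Ψ.finite_toSet.image _
  have hc : Continuous fun x : Fin D.rank → ℝ => bF S T x x := by
    unfold bF
    refine continuous_finsetSum _ fun w _ => continuous_finsetSum _ fun k _ => ?_
    have h1 : Continuous (act S T (w : Equiv.Perm _)) := LinearMap.continuous_of_finiteDimensional _
    exact ((continuous_apply k).comp h1).mul ((continuous_apply k).comp h1)
  obtain ⟨v, hv, hmin⟩ := (hfin.isCompact_convexHull ℝ).exists_isMinOn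
    ((Finset.coe_nonempty.2 hne).image _).convexHull hc.continuousOn
  refine ⟨v, hv, fun r hr => ?_⟩
  by_contra hlt
  push Not at hlt
  set a := bF S T (rv T r) v
  set b := bF S T v v
  set c := bF S T (rv T r) (rv T r)
  have hden : 0 < b - 2 * a + c := by
    have h0 := bF_nonneg S (T := T) (rv T r - v)
    rw [bF_sub, bF_sub', bF_sub', bF_comm S v (rv T r)] at h0
    rcases eq_or_lt_of_le h0 with e | e
    · exfalso
      have h2 : a ^ 2 ≤ c * b := cauchy S (T := T) (rv T r) v
      have h3 : c = 2 * a - b := by change 0 = c - a - (a - b) at e; linarith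
      rw [h3] at h2
      nlinarith [mul_pos (sub_pos.2 hlt) (sub_pos.2 hlt)]
    · linarith
  set t := min 1 ((b - a) / (b - 2 * a + c))
  have ht0 : 0 < t := lt_min one_pos (div_pos (by linarith) hden)
  have ht1 : t ≤ 1 := min_le_left _ _
  have hmem := (convex_convexHull ℝ _).add_smul_sub_mem hv
    (subset_convexHull ℝ _ (Set.mem_image_of_mem (rv T) (Finset.mem_coe.2 hr))) ⟨ht0.le, ht1⟩
  have h1 : b ≤ bF S T (v + t • (rv T r - v)) (v + t • (rv T r - v)) := hmin hmem
  rw [bF_add, bF_add', bF_add', bF_smul, bF_smul, bF_smul', bF_smul', bF_sub, bF_sub, bF_sub', bF_sub',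
    bF_comm S v (rv T r)] at h1
  have ht2 : t * (b - 2 * a + c) ≤ b - a := by
    calc t * (b - 2 * a + c) ≤ (b - a) / (b - 2 * a + c) * (b - 2 * a + c) :=
          mul_le_mul_of_nonneg_right (min_le_right _ _) hden.le
      _ = b - a := div_mul_cancel₀ _ hden.ne'
  nlinarith

theorem le_bF_of_mem_hull {s : Set (Fin D.rank → ℝ)} {y : Fin D.rank → ℝ} {m : ℝ}
    (h : ∀ x ∈ s, m ≤ bF S T x y) {v : Fin D.rank → ℝ} (hv : v ∈ convexHull ℝ s) : m ≤ bF S T v y := by
  have hconv : Convex ℝ {x : Fin D.rank → ℝ | m ≤ bF S T x y} :=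
    convex_halfSpace_ge ⟨fun a b => bF_add' S a b y, fun c a => bF_smul' S c a y⟩ m
  exact convexHull_min h hconv hv

end

end Cfsg.Lib.Chev
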