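import Cfsg.Agent.Chev.SpanCert
import Cfsg.Agent.Chev.Form
import Cfsg.Agent.Components.CharP

/-! The centraliser of `U_J` in `P_J` lies in `U`; `F*(P_J)` is a `p`-group. -/

set_option autoImplicit false

open Cfsg.Lie

namespace Cfsg.Lib.Chev

variable {D : ChevalleyDatum} {C : Cert} {T : List (List ℤ)} {F : Type*} [Field F]

theorem zpow_sum' {M ι : Type*} [CommGroup M] (a : M) (s : Finset ι) (f : ι → ℤ) :
    a ^ (∑ j ∈ s, f j) = ∏ j ∈ s, a ^ f j := by
  classical
  induction s using Finset.induction_on with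
  | empty => simp
  | insert b t hb ih => rw [Finset.sum_insert hb, Finset.prod_insert hb, zpow_add, ih]

namespace Struct

/-- Conjugation by `U` fixes the leading coordinate. -/
theorem conj_pos_lead (S : Struct D C) {u : GL D.Idx F} (hu : u ∈ D.posUnipotent F) {r : ℕ}
    (hr : r < D.nroots) (hrp : D.nroots / 2 ≤ r) (t : F) :
    ∃ w ∈ S.Ugen F (r + 1), u * S.ok.xG r t * u⁻¹ = S.ok.xG r t * w := by
  have hU : D.posUnipotent F ≤ Subgroup.normalizer (S.Ugen F (r + 1) : Set (GL D.Idx F)) := by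
    rw [S.posUnipotent_eq]; exact S.le_normalizer_Ugen le_rfl (by omega)
  induction hu using Subgroup.closure_induction'' with
  | one => exact ⟨1, one_mem _, by simp⟩
  | mem g hg =>
    obtain ⟨s, v, hs, hg⟩ := hg
    obtain ⟨a, b⟩ := S.isPos_iff.1 hs
    rw [S.ok.eq_xG hg]
    obtain ⟨w, hw, e⟩ := S.conj_xG b hr a hrp v t
    exact ⟨w, S.Ugen_mono (by omega) hw, e⟩
  | inv_mem g hg =>
    obtain ⟨s, v, hs, hg⟩ := hg
    obtain ⟨a, b⟩ := S.isPos_iff.1 hs
    rw [S.ok.eq_xG hg, S.ok.xG_inv]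
    obtain ⟨w, hw, e⟩ := S.conj_xG b hr a hrp (-v) t
    exact ⟨w, S.Ugen_mono (by omega) hw, e⟩
  | mul a b ha _ iha ihb =>
    obtain ⟨wa, hwa, ea⟩ := iha
    obtain ⟨wb, hwb, eb⟩ := ihb
    refine ⟨wa * (a * wb * a⁻¹), mul_mem hwa ((Subgroup.mem_normalizer_iff.1 (hU ha) wb).1 hwb), ?_⟩
    calc a * b * S.ok.xG r t * (a * b)⁻¹ = a * (b * S.ok.xG r t * b⁻¹) * a⁻¹ := by group
      _ = (a * S.ok.xG r t * a⁻¹) * (a * wb * a⁻¹) := by rw [eb]; group
      _ = _ := by rw [ea, mul_assoc]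

/-- Uniqueness of the leading coordinate. -/
theorem lead_unique (S : Struct D C) {r s : ℕ} (hr : r < D.nroots) (hrp : D.nroots / 2 ≤ r)
    (hs : s < D.nroots) (hsp : D.nroots / 2 ≤ s) {a b : F} (ha : a ≠ 0) {w : GL D.Idx F}
    (hw : w ∈ S.Ugen F (r + 1)) (e : S.ok.xG r a * w = S.ok.xG s b) : r = s ∧ a = b := by
  rcases lt_trichotomy r s with h | h | h
  · refine absurd (S.xG_inf_Ugen hr hrp (t := a) ?_) ha
    rw [eq_mul_inv_of_mul_eq e]
    exact mul_mem (S.xG_mem_Ugen h hs b) (inv_mem hw)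
  · subst h
    refine ⟨rfl, ?_⟩
    have h2 : S.ok.xG r (-b + a) ∈ S.Ugen F (r + 1) := by
      rw [← S.ok.xG_mul, ← S.ok.xG_inv, eq_mul_inv_of_mul_eq e, inv_mul_cancel_left]
      exact inv_mem hw
    linear_combination S.xG_inf_Ugen hr hrp h2
  · by_cases hb : b = 0
    · refine absurd (S.xG_inf_Ugen hr hrp (t := a) ?_) ha
      rw [eq_mul_inv_of_mul_eq e, hb, S.xG_zero, one_mul]
      exact inv_mem hw
    · refine absurd (S.xG_inf_Ugen hs hsp (t := b) ?_) hb
      rw [← e]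
      exact mul_mem (S.xG_mem_Ugen h hr a) (S.Ugen_mono (by omega) hw)

end Struct

/-- An element of `P_J` centralising `U_J` lies in `U`. -/
theorem cent_radical_le (S : Struct D C) (hN : okNeg D = true) (hT : okHt D T = true)
    (hDesc : okDescJ C T = true) (hl : Cfsg.Lib.Steinberg.okLin D C T = true) (hsp : okSpan D T = true)
    {J : Set ℕ} (hJ : ∃ i, i < D.rank ∧ i ∉ J) {x : GL D.Idx F} (hx : x ∈ D.parabolicSubgroup F J)
    (hc : ∀ v ∈ D.unipotentRadical F J, x * v = v * x) : x ∈ D.posUnipotent F := by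
  classical
  obtain ⟨i₀, hi₀, hi₀J⟩ := hJ
  obtain ⟨hPn, -, -⟩ := S.levi (F := F) hT hDesc J
  have hPG : D.parabolicSubgroup F J ≤ D.group F := by
    rw [← S.normalizer_UJ hN hT hDesc J]; exact inf_le_right
  have hgen : ∀ (r : Fin D.nroots), D.nroots / 2 ≤ r.val → ¬ D.InRootSub J r.val → ∀ t : F,
      S.ok.xG r.val t ∈ D.unipotentRadical F J := fun r h1 h2 t =>
    Subgroup.subset_closure ⟨r.val, t, S.isPos_iff.2 ⟨h1, r.isLt⟩, h2, S.ok.val_xG _ _⟩
  have hRU : D.unipotentRadical F J ≤ D.posUnipotent F := by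
    refine Subgroup.closure_mono ?_
    rintro g ⟨r, t, hr, -, hg⟩
    exact ⟨r, t, hr, hg⟩
  obtain ⟨b, hb, n, hn, L, hact, u, hu, rfl⟩ := S.normal_form hN (hPG hx)
  set b' := u * b with hb'
  have hbB : b' ∈ D.borelSubgroup F := mul_mem (S.B_le_of (S.UPsi_le _ hu)) hb
  have hy : ∀ v ∈ D.unipotentRadical F J, n * b' * v = v * (n * b') := by
    intro v hv
    have h1 : b * v * b⁻¹ ∈ D.unipotentRadical F J :=
      (Subgroup.mem_normalizer_iff.1 (hPn (Subgroup.mem_sup_left hb)) v).1 hv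
    have h2 := hc _ h1
    calc n * b' * v = b⁻¹ * ((b * n * u) * (b * v * b⁻¹)) * b := by rw [hb']; group
      _ = b⁻¹ * ((b * v * b⁻¹) * (b * n * u)) * b := by rw [h2]
      _ = v * (n * b') := by rw [hb']; group
  obtain ⟨v, hv, d, hd, ebd⟩ := S.borel_decomp hbB
  have hfix : ∀ r : Fin D.nroots, D.nroots / 2 ≤ r.val → ¬ D.InRootSub J r.val → S.wpL L r = r := by
    intro r hrp hrJ
    have h1 : b' * S.ok.xG r.val (1 : F) * b'⁻¹ ∈ D.posUnipotent F :=
      hRU ((Subgroup.mem_normalizer_iff.1 (hPn (Subgroup.mem_sup_left hbB)) _).1 (hgen r hrp hrJ 1))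
    obtain ⟨-, c, hc0, e⟩ := S.act_diag (F := F) hd r
    obtain ⟨w, hw, ew⟩ := S.conj_pos_lead hv r.isLt hrp c
    have h2 : b' * S.ok.xG r.val (1 : F) * b'⁻¹ = S.ok.xG r.val c * w := by
      have e1 := (e 1).1
      rw [mul_one, Equiv.Perm.one_apply] at e1
      rw [← ew, ← e1, ebd]
      group
    set s := (S.wpL L).symm r
    obtain ⟨-, k, hk, ek⟩ := hact s
    have h3 := (ek k⁻¹).1
    rw [mul_inv_cancel₀ hk, show S.wpL L s = r from (S.wpL L).apply_symm_apply r] at h3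
    have h4 : b' * S.ok.xG r.val (1 : F) * b'⁻¹ = S.ok.xG s.val k⁻¹ := by
      have h5 := hy _ (hgen r hrp hrJ 1)
      calc b' * S.ok.xG r.val (1 : F) * b'⁻¹ = n⁻¹ * (n * b' * S.ok.xG r.val (1 : F)) * b'⁻¹ := by group
        _ = n⁻¹ * S.ok.xG r.val (1 : F) * n := by rw [h5]; group
        _ = S.ok.xG s.val k⁻¹ := by rw [← h3]; group
    have hsp : D.nroots / 2 ≤ s.val := by
      by_contra hneg
      have h6 : S.ok.xG s.val k⁻¹ ∈ D.borelSubgroup F ⊓ D.negUnipotent F :=
        Subgroup.mem_inf.2 ⟨h4 ▸ S.B_le_of h1, Subgroup.subset_closure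
          ⟨_, _, S.isNeg_iff.2 (by omega), S.ok.val_xG _ _⟩⟩
      rw [S.B_inf_V hN, Subgroup.mem_bot] at h6
      exact inv_ne_zero hk (S.xG_eq_one s.isLt h6)
    obtain ⟨hrs, -⟩ := S.lead_unique r.isLt hrp s.isLt hsp (by simpa using hc0) hw (h2.symm.trans h4)
    have : s = r := Fin.ext hrs.symm
    conv_lhs => rw [← this]
    exact (S.wpL L).apply_symm_apply r
  have hsimp : ∀ r : Fin D.nroots, 0 < htAt T r.val i₀ →
      D.nroots / 2 ≤ r.val ∧ ¬ D.InRootSub J r.val := fun r hr =>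
    ⟨S.pos_of_ht hT r.isLt hi₀ hr, fun hin => hr.ne' (((Struct.inRootSub_iff hT).1 hin).2 i₀ hi₀ hi₀J)⟩
  have hstep : ∀ j : Fin D.rank, j.val ≠ i₀ → ∃ r r' : Fin D.nroots,
      0 < htAt T r.val i₀ ∧ 0 < htAt T r'.val i₀ ∧
      ∀ k < D.rank, htAt T r'.val k = htAt T r.val k + (if j.val = k then 1 else 0) := by
    intro j hj
    obtain ⟨r, q, hr, hpos, hq⟩ := span_pair hsp hi₀ j.isLt (Ne.symm hj)
    have hsj : D.simple j.val < D.nroots := S.ok.sr_eq j.isLt ▸ S.ok.sr_lt j.isLt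
    have hqn : q < D.nroots := (chain_some S.chain hsj hq).1
    have hht : ∀ k < D.rank, htAt T q k = htAt T r k + (if j.val = k then 1 else 0) := fun k hk => by
      rw [ht_chain hT hsj (k := 0) hq hk, ht_simple hT j.isLt hk]; push_cast; ring
    refine ⟨⟨r, hr⟩, ⟨q, hqn⟩, hpos, ?_, hht⟩
    show 0 < htAt T q i₀
    rw [hht i₀ hi₀, if_neg hj, add_zero]; exact hpos
  have hw1 : S.wpL L = 1 := by
    refine S.eq_one_of_simple_pos D.rank _ L rfl (fun z _ => z.isLt) fun j _ => ?_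
    have hmem := S.wpL_mem_WG L
    by_cases hj : j.val = i₀
    · have h1 : 0 < htAt T (S.sp j).val i₀ := by
        show 0 < htAt T (C.sr j.val) i₀
        rw [S.ok.sr_eq j.isLt, ht_simple hT j.isLt hi₀, if_pos hj]; norm_num
      obtain ⟨a, b⟩ := hsimp _ h1
      rw [hfix _ a b]; exact a
    · obtain ⟨r, r', h1, h2, h3⟩ := hstep j hj
      obtain ⟨a, b⟩ := hsimp _ h1
      obtain ⟨a', b'⟩ := hsimp _ h2
      have e1 : rv T (S.sp j) = rv T r' - rv T r := by
        rw [rv_sp S hT]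
        funext k
        simp only [Pi.sub_apply, rv, h3 k.val k.isLt, Pi.single_apply]
        by_cases h : k = j
        · subst h; simp
        · rw [if_neg h, if_neg (fun e => h (Fin.ext e.symm))]; simp
      have e2 : rv T (S.wpL L (S.sp j)) = rv T (S.sp j) := by
        rw [← act_rv S hT hl hmem, e1, map_sub, act_rv S hT hl hmem, act_rv S hT hl hmem, hfix _ a b,
          hfix _ a' b']
      refine S.pos_of_ht hT (Fin.isLt _) j.isLt ?_
      have e3 := congrFun e2 j
      rw [rv_sp S hT, Pi.single_eq_same] at e3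
      simp only [rv] at e3
      have e4 : htAt T (S.wpL L (S.sp j)).val j.val = 1 := by exact_mod_cast e3
      omega
  obtain ⟨L', hact', hiff⟩ := S.exists_act hn
  have hnd : n ∈ D.diagonalSubgroup F := hiff.1 ((S.act_unique hact' hact).trans hw1)
  have hxB : b * n * u ∈ D.borelSubgroup F :=
    mul_mem (mul_mem hb (Subgroup.mem_sup_right hnd)) (S.B_le_of (S.UPsi_le _ hu))
  obtain ⟨v', hv', d', hd', exd⟩ := S.borel_decomp hxB
  have hd1 : d' = 1 := by
    rw [S.ok.diagonalSubgroup_eq] at hd'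
    obtain ⟨c, rfl⟩ := hd'
    set χ : ℕ → Fˣ := fun r => ∏ i, c i ^ D.cartan i r
    have hχ : ∀ r : Fin D.nroots, 0 < htAt T r.val i₀ → χ r.val = 1 := by
      intro r hr
      obtain ⟨a, b'⟩ := hsimp _ hr
      obtain ⟨w, hw, ew⟩ := S.conj_pos_lead hv' r.isLt a ((χ r.val : F))
      have h2 := hc _ (hgen r a b' 1)
      have h3 : S.ok.xG r.val (χ r.val : F) * w = S.ok.xG r.val 1 := by
        have e1 := S.tG_conj_xG r.isLt c (1 : F)
        rw [mul_one] at e1
        rw [← ew, ← e1]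
        calc v' * (Ok.tG D F c * S.ok.xG r.val 1 * (Ok.tG D F c)⁻¹) * v'⁻¹
            = (v' * Ok.tG D F c) * S.ok.xG r.val 1 * (v' * Ok.tG D F c)⁻¹ := by group
          _ = _ := by rw [← exd, h2, mul_inv_cancel_right]
      exact Units.ext (S.lead_unique r.isLt a r.isLt a (Units.ne_zero _) hw h3).2
    have hlin : ∀ r : Fin D.nroots, χ r.val = ∏ j : Fin D.rank, χ (D.simple j) ^ htAt T r.val j := by
      intro r
      simp only [χ, ← Finset.prod_zpow]
      rw [Finset.prod_comm]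
      refine Finset.prod_congr rfl fun i _ => ?_
      rw [cartan_lin hsp i.isLt r.isLt, zpow_sum']
      exact Finset.prod_congr rfl fun j _ => by rw [← zpow_mul, mul_comm]
    have hsj : ∀ j : Fin D.rank, χ (D.simple j) = 1 := by
      intro j
      by_cases hj : j.val = i₀
      · have h1 : 0 < htAt T (S.sp j).val i₀ := by
          show 0 < htAt T (C.sr j.val) i₀
          rw [S.ok.sr_eq j.isLt, ht_simple hT j.isLt hi₀, if_pos hj]; norm_num
        have := hχ _ h1
        rwa [show (S.sp j).val = D.simple j.val from S.ok.sr_eq j.isLt] at this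
      · obtain ⟨r, r', h1, h2, h3⟩ := hstep j hj
        have e := hχ _ h2
        have e' := hχ _ h1
        rw [hlin] at e e'
        simp only [h3 _ (Fin.isLt _), zpow_add, Finset.prod_mul_distrib, e', one_mul] at e
        rw [Finset.prod_eq_single j] at e
        · simpa using e
        · intro k _ hk; rw [if_neg (fun h => hk (Fin.ext h.symm))]; simp
        · simp
    refine Units.ext ?_
    rw [Ok.tG_val, Units.val_one, ← Matrix.diagonal_one]
    congr 1
    funext z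
    rcases z with a | s
    · rfl
    · show ((χ s.val : Fˣ) : F) = 1
      rw [hlin s, Finset.prod_eq_one fun j _ => by rw [hsj j, one_zpow]]
      rfl
  rw [exd, hd1, mul_one]
  exact hv'

end Cfsg.Lib.Chev
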