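import Cfsg.Agent.Chev.LevelSets
import Cfsg.Agent.Chev.RadCent
import Cfsg.Agent.Chev.Types
import Cfsg.Agent.BN.Basic

/-! The maximal parabolic subgroup of `E₈(2)` at the node of highest coefficient six: finite facts on levels. -/

set_option autoImplicit false

open Cfsg.Lie

namespace Cfsg.Lib.Chev.E8Core

/-- Words of fundamental reflections other than the fourth, one list per level. -/
def words : List (List (List ℕ)) := [[[2], [5], [0], [6], [4], [7], [1], [2, 0], [7, 6], [5, 4], [6, 5], [7, 6, 5], [6, 5, 4], [7, 6, 5, 4]], [[4], [1], [2], [2, 0], [4, 5], [4, 2], [4, 1], [2, 1], [4, 2, 0], [4, 2, 1], [2, 1, 0], [4, 5, 6], [4, 5, 2], [4, 5, 1], [4, 5, 6, 7], [4, 2, 1, 0], [4, 5, 2, 0], [4, 5, 2, 1], [4, 5, 6, 2], [4, 5, 6, 1], [4, 5, 6, 7, 2], [4, 5, 6, 7, 1], [4, 5, 2, 1, 0], [4, 5, 6, 2, 0], [4, 5, 6, 2, 1], [4, 5, 6, 7, 2, 1], [4, 5, 6, 7, 2, 0], [4, 5, 6, 2, 1, 0], [4, 5, 6, 7, 2, 1, 0]], [[2], [4], [4, 5], [4, 2], [4, 5, 6], [4, 5, 2], [4, 5, 6,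 2]], [[1], [4], [4, 1], [4, 5], [4, 5, 1]], [[2], [2, 0], [4], [4, 2], [4, 2, 0]], [[1], [2], [2, 1]], [[4], [4, 5], [4, 5, 6], [4, 5, 6, 7]]]

/-- The bounds known at level `k`. -/
def base : ℕ → List Bound
  | 0 => [([], [0, 1, 2, 3, 4, 5, 6, 7], 1)]
  | 1 => [([], [3], 1), ([3], [3], 0)]
  | k => [([], [3], (k : ℤ)), ([3], [3], (k : ℤ))]

/-- Level at least `k`. -/
def lvl (k : ℕ) : List Bound := [([], [3], (k : ℤ))]

/-- The roots meeting all shifted bounds at level `k` have level above `k`. -/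
noncomputable def okUp (k : ℕ) : Bool :=
  kall (fun r => !(satB E8.cert E8.htTab (base k ++ (words.getD k []).flatMap (shiftB (base k))) r) ||
    satB E8.cert E8.htTab (lvl (k + 1)) r) (krange 120 120)

/-- All words avoid the fourth node. -/
def okWords : Bool := words.all fun W => W.all fun M => M.all fun i => decide (i < 8) && decide (i ≠ 3)

/-- The fourth reflection lowers levels by at most one above level one, and moves only one root to a negative one. -/
noncomputable def okStep : Bool :=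
  kall (fun r =>
    (!(decide (2 ≤ htAt E8.htTab r 3)) ||
      (Nat.ble 120 (E8.cert.w 3 r) && decide (htAt E8.htTab r 3 - 1 ≤ htAt E8.htTab (E8.cert.w 3 r) 3))) &&
    (Nat.ble 120 (E8.cert.w 3 r) || Nat.beq r (E8.cert.sr 3)) &&
    (!(Nat.ble 120 (E8.cert.w 3 r)) || decide (0 ≤ htAt E8.htTab (E8.cert.w 3 r) 3)) &&
    decide (1 ≤ ([0, 1, 2, 3, 4, 5, 6, 7].map fun k => htAt E8.htTab r k).sum) &&
    decide (htAt E8.htTab r 3 ≤ 6)) (krange 120 120) &&
  !kall (fun r => decide (htAt E8.htTab r 3 ≠ 6)) (krange 120 120)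

theorem up_ok : kall okUp (krange 0 7) = true := by decide +kernel

theorem words_ok : okWords = true := by decide +kernel

theorem step_ok : okStep = true := by decide +kernel

end Cfsg.Lib.Chev.E8Core
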