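import Cfsg.Agent.Chev.CoreChainE8

/-! Iterated cores of the parabolic subgroup of `E₈(2)` of unipotent class six and a conjugate adjacent to it. -/

set_option autoImplicit false
set_option maxRecDepth 1000

open Cfsg.Lie Cfsg.Lib.Steinberg

namespace Cfsg.Lib.Chev.E8Core

/-- The `M`-core of a subgroup. -/
noncomputable def coreIn {G : Type*} [Group G] (M Y : Subgroup G) : Subgroup G :=
  ((Y.subgroupOf M).normalCore).map M.subtype

theorem mem_coreIn {G : Type*} [Group G] {M Y : Subgroup G} {x : G} :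
    x ∈ coreIn M Y ↔ x ∈ M ∧ ∀ p ∈ M, p * x * p⁻¹ ∈ Y := by
  constructor
  · rintro ⟨a, ha, rfl⟩
    exact ⟨a.2, fun p hp => ha ⟨p, hp⟩⟩
  · rintro ⟨hx, h⟩
    exact ⟨⟨x, hx⟩, fun b => h b b.2, rfl⟩

/-- The two descending sequences of iterated cores. -/
noncomputable def seq {G : Type*} [Group G] (M₁ M₂ : Subgroup G) : ℕ → Subgroup G × Subgroup G
  | 0 => (M₁, M₂)
  | i + 1 => (coreIn M₁ ((seq M₁ M₂ i).1 ⊓ (seq M₁ M₂ i).2), coreIn M₂ ((seq M₁ M₂ i).1 ⊓ (seq M₁ M₂ i).2))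

section Seq

variable {G : Type*} [Group G] (M : Subgroup G) (g : G)

/-- The first sequence for `M` and its conjugate by `g`. -/
noncomputable def seqA (i : ℕ) : Subgroup G := (seq M (M.map (MulAut.conj g).toMonoidHom) i).1

theorem seq_spec (hg : g * g ∈ M) : ∀ i, seqA M g i ≤ M ∧
    (∀ p ∈ M, ∀ x ∈ seqA M g i, p * x * p⁻¹ ∈ seqA M g i) ∧
    ∀ x, x ∈ (seq M (M.map (MulAut.conj g).toMonoidHom) i).2 ↔ g⁻¹ * x * g ∈ seqA M g i := by
  have hmap : ∀ (H : Subgroup G) (x : G), x ∈ H.map (MulAut.conj g).toMonoidHom ↔ g⁻¹ * x * g ∈ H := by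
    intro H x
    constructor
    · rintro ⟨y, hy, rfl⟩
      simpa [mul_assoc] using hy
    · intro h
      exact ⟨_, h, by simp [mul_assoc]⟩
  intro i
  induction i with
  | zero => exact ⟨le_rfl, fun p hp x hx => mul_mem (mul_mem hp hx) (inv_mem hp), hmap M⟩
  | succ i ih =>
    obtain ⟨hle, hn, hB⟩ := ih
    have key : ∀ x, g⁻¹ * x * g ∈ seqA M g i → g * x * g⁻¹ ∈ seqA M g i := by
      intro x hx
      convert hn _ hg _ hx using 1
      group
    have key' : ∀ x, g * x * g⁻¹ ∈ seqA M g i → g⁻¹ * x * g ∈ seqA M g i := by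
      intro x hx
      convert hn _ (inv_mem hg) _ hx using 1
      group
    refine ⟨fun x hx => (mem_coreIn.1 hx).1, fun p hp x hx => ?_, fun x => ?_⟩
    · obtain ⟨h1, h2⟩ := mem_coreIn.1 hx
      refine mem_coreIn.2 ⟨mul_mem (mul_mem hp h1) (inv_mem hp), fun r hr => ?_⟩
      convert h2 (r * p) (mul_mem hr hp) using 1
      group
    · constructor
      · intro hx
        obtain ⟨h1, h2⟩ := mem_coreIn.1 hx
        refine mem_coreIn.2 ⟨(hmap M x).1 h1, fun r hr => ?_⟩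
        have h3 := h2 (g * r * g⁻¹) ((hmap M _).2 (by convert hr using 1; group))
        obtain ⟨a, b⟩ := Subgroup.mem_inf.1 h3
        rw [hB] at b
        replace a : _ ∈ seqA M g i := a
        refine Subgroup.mem_inf.2 ⟨show _ ∈ seqA M g i from ?_, (hB _).2 (key' _ ?_)⟩
        · convert b using 1; group
        · convert a using 1; group
      · intro hx
        obtain ⟨h1, h2⟩ := mem_coreIn.1 hx
        refine mem_coreIn.2 ⟨(hmap M x).2 h1, fun p hp => ?_⟩
        have h3 := h2 (g⁻¹ * p * g) ((hmap M p).1 hp)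
        obtain ⟨a, b⟩ := Subgroup.mem_inf.1 h3
        rw [hB] at b
        replace a : _ ∈ seqA M g i := a
        refine Subgroup.mem_inf.2 ⟨show _ ∈ seqA M g i from ?_, (hB _).2 ?_⟩
        · have := key _ b
          convert this using 1; group
        · convert a using 1; group

theorem mem_seqA_succ (hg : g * g ∈ M) {i : ℕ} {x : G} :
    x ∈ seqA M g (i + 1) ↔ x ∈ M ∧ ∀ p ∈ M, p * x * p⁻¹ ∈ seqA M g i ∧ g⁻¹ * (p * x * p⁻¹) * g ∈ seqA M g i := by
  have h := (seq_spec M g hg i).2.2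
  show x ∈ coreIn M _ ↔ _
  rw [mem_coreIn]
  simp only [Subgroup.mem_inf, h]
  rfl

theorem seqA_succ_le (hg : g * g ∈ M) {i : ℕ} {x : G} (hx : x ∈ seqA M g (i + 1)) :
    x ∈ seqA M g i ∧ g⁻¹ * x * g ∈ seqA M g i := by
  simpa using ((mem_seqA_succ M g hg).1 hx).2 1 (one_mem _)

end Seq

theorem inv_conj_closure {G : Type*} [Group G] {s : Set G} {U : Subgroup G} {g : G}
    (h : ∀ u ∈ s, g⁻¹ * u * g ∈ U) {u : G} (hu : u ∈ Subgroup.closure s) : g⁻¹ * u * g ∈ U := by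
  have := Struct.conj_closure_le (g := g⁻¹) (fun u hu => by rw [inv_inv]; exact h u hu) u hu
  rwa [inv_inv] at this

/-- The coefficient field. -/
abbrev K2 : Type := ZMod 2

/-- The ambient linear group. -/
abbrev GA : Type := GL chevE8.Idx K2

/-- The nodes other than the fourth. -/
abbrev J3 : Set ℕ := {j | j ≠ 3}

/-- The subgroup of level at least `k`. -/
noncomputable def Uk (k : ℕ) : Subgroup GA := E8.struct.UPsi K2 (Sat chevE8 E8.cert E8.htTab (lvl k))

/-- The parabolic subgroup. -/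
noncomputable def P : Subgroup GA := chevE8.parabolicSubgroup K2 J3

/-- The element moving it. -/
noncomputable def n₀ : GA := E8.struct.ok.nG (chevE8.simple 3) 1

theorem rank_eq : chevE8.rank = 8 := rfl

theorem nroots_eq : chevE8.nroots = 240 := rfl

theorem three_lt : 3 < chevE8.rank := by rw [rank_eq]; norm_num

theorem fine_lvl (k : ℕ) : Fine chevE8 (lvl k) := by
  intro q hq
  simp only [lvl, List.mem_singleton] at hq
  subst hq
  refine ⟨by simp, fun j hj => ?_, by positivity⟩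
  simp only [List.mem_singleton] at hj
  subst hj; exact three_lt

theorem sat_lvl (k : ℕ) (r : ℕ) : satB E8.cert E8.htTab (lvl k) r = true ↔ (k : ℤ) ≤ htAt E8.htTab r 3 := by
  simp [satB, lvl, kall_iff]

theorem mem_Uk {r : Fin chevE8.nroots} {k : ℕ} (hr : chevE8.nroots / 2 ≤ r.val)
    (h : (k : ℤ) ≤ htAt E8.htTab r.val 3) (t : K2) : E8.struct.ok.xG r.val t ∈ Uk k :=
  E8.struct.mem_UPsi hr ((sat_lvl k r.val).2 h) t

theorem step_facts {r : ℕ} (h1 : 120 ≤ r) (h2 : r < 240) :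
    (2 ≤ htAt E8.htTab r 3 → 120 ≤ E8.cert.w 3 r ∧ htAt E8.htTab r 3 - 1 ≤ htAt E8.htTab (E8.cert.w 3 r) 3) ∧
    (120 ≤ E8.cert.w 3 r ∨ r = E8.cert.sr 3) ∧
    (120 ≤ E8.cert.w 3 r → 0 ≤ htAt E8.htTab (E8.cert.w 3 r) 3) ∧
    1 ≤ ([0, 1, 2, 3, 4, 5, 6, 7].map fun k => htAt E8.htTab r k).sum ∧
    htAt E8.htTab r 3 ≤ 6 := by
  have h := step_ok
  simp only [okStep, Bool.and_eq_true, kall_iff, krange_eq, List.mem_range'_1, Bool.or_eq_true,
    Bool.not_eq_true', decide_eq_true_eq, decide_eq_false_iff_not, Nat.ble_eq] at h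
  obtain ⟨⟨⟨⟨a, b⟩, c⟩, d⟩, e⟩ := h.1 r ⟨h1, by omega⟩
  refine ⟨fun h' => (a.resolve_left fun na => na h'), b.imp id Nat.eq_of_beq_eq_true, fun h' => ?_, d, e⟩
  rcases c with c | c
  · rw [Nat.ble_eq_true_of_le h'] at c; exact absurd c (by simp)
  · exact c

theorem exists_top : ∃ r : Fin chevE8.nroots, chevE8.nroots / 2 ≤ r.val ∧ htAt E8.htTab r.val 3 = 6 := by
  have h := step_ok
  simp only [okStep, Bool.and_eq_true] at h
  have h2 := h.2
  simp only [Bool.not_eq_true', ← Bool.not_eq_true, kall_iff, krange_eq, List.mem_range'_1, not_forall,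
    decide_eq_true_eq, not_not] at h2
  obtain ⟨r, hr, e⟩ := h2
  exact ⟨⟨r, by have := nroots_eq; omega⟩, by show chevE8.nroots / 2 ≤ r; have := nroots_eq; omega, e⟩

theorem inRootSub_J3 {r : ℕ} (hr : r < chevE8.nroots) :
    chevE8.InRootSub J3 r ↔ htAt E8.htTab r 3 = 0 := by
  rw [Struct.inRootSub_iff E8.ht]
  refine ⟨fun h => h.2 3 three_lt (by simp), fun h => ⟨hr, fun i _ hi => ?_⟩⟩
  simp only [Set.mem_setOf_eq, ne_eq, not_not] at hi
  rw [hi]; exact h

theorem Uk_one : Uk 1 = chevE8.unipotentRadical K2 J3 := by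
  have S := E8.struct
  refine le_antisymm ((Subgroup.closure_le _).2 ?_) ((Subgroup.closure_le _).2 ?_)
  · rintro x ⟨r, t, hr, hs, rfl⟩
    have hs' : (1 : ℤ) ≤ htAt E8.htTab r.val 3 := by simpa using (sat_lvl 1 r.val).1 hs
    exact Subgroup.subset_closure ⟨r.val, t, E8.struct.isPos_iff.2 ⟨hr, r.isLt⟩,
      fun h => by rw [inRootSub_J3 r.isLt] at h; omega, E8.struct.ok.val_xG _ _⟩
  · rintro x ⟨r, t, hr, hJ, hx⟩
    obtain ⟨a, b⟩ := E8.struct.isPos_iff.1 hr
    rw [E8.struct.ok.eq_xG hx]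
    refine mem_Uk (r := ⟨r, b⟩) a ?_ t
    rw [inRootSub_J3 b] at hJ
    have := E8.struct.ht_nonneg E8.ht a b three_lt
    show ((1 : ℕ) : ℤ) ≤ htAt E8.htTab r 3
    omega

theorem P_le_group : P ≤ chevE8.group K2 := by
  rw [P, ← E8.struct.normalizer_UJ okNeg_E8 E8.ht E8.descJ J3]
  exact inf_le_right

theorem n₀_mem_group : n₀ ∈ chevE8.group K2 := E8.struct.ok.nG_mem_group _ _

theorem U_le_P {x : GA} (hx : x ∈ chevE8.posUnipotent K2) : x ∈ P :=
  Subgroup.mem_sup_left (E8.struct.B_le_of hx)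

theorem Uk_le_P {k : ℕ} {x : GA} (hx : x ∈ Uk k) : x ∈ P := U_le_P (E8.struct.UPsi_le _ hx)

theorem nL_mem_P {L : List (Fin chevE8.rank)} (hL : ∀ i ∈ L, i.val ≠ 3) : E8.struct.nL K2 L ∈ P := by
  rw [Struct.nL]
  refine Subgroup.list_prod_mem P fun g hg => ?_
  obtain ⟨i, hi, rfl⟩ := List.mem_map.1 hg
  exact Subgroup.mem_sup_right (Subgroup.subset_closure ⟨i, hL i hi, i.isLt, E8.struct.ok.val_nG _ _⟩)

theorem neg_simple_notMem : E8.struct.ok.xG (chevE8.neg (chevE8.simple 3)) (1 : K2) ∉ P := by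
  intro h
  have hsj : chevE8.simple 3 < chevE8.nroots := E8.struct.ok.sr_eq three_lt ▸ E8.struct.ok.sr_lt three_lt
  have hpos : chevE8.nroots / 2 ≤ chevE8.simple 3 := E8.struct.ok.sr_eq three_lt ▸ E8.struct.sr_pos three_lt
  have hx : E8.struct.ok.xG (chevE8.simple 3) (1 : K2) ∈ Uk 1 := by
    refine mem_Uk (r := ⟨chevE8.simple 3, hsj⟩) hpos ?_ 1
    show ((1 : ℕ) : ℤ) ≤ htAt E8.htTab (chevE8.simple 3) 3
    rw [ht_simple E8.ht three_lt three_lt, if_pos rfl]; norm_num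
  have hn : n₀ ∈ P := by
    have e : E8.struct.ok.xG (chevE8.neg (chevE8.simple 3)) (-(1 : K2)⁻¹) ∈ P := by
      rw [show (-(1 : K2)⁻¹) = 1 from by rw [inv_one]; decide]; exact h
    exact mul_mem (mul_mem (Uk_le_P hx) e) (Uk_le_P hx)
  rw [P, ← E8.struct.normalizer_UJ okNeg_E8 E8.ht E8.descJ J3] at hn
  rw [Uk_one] at hx
  have h2 := (Subgroup.mem_normalizer_iff.1 (Subgroup.mem_inf.1 hn).1 _).1 hx
  rw [n₀, E8.struct.ok.conj_nG_xG three_lt hsj, ← E8.struct.ok.sr_eq three_lt,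
    (E8.struct.ok.refl_simple three_lt).1, E8.struct.ok.neg_eq (E8.struct.ok.sr_lt three_lt)] at h2
  have hneg := E8.struct.neg_lt_half (E8.struct.ok.sr_lt three_lt) (E8.struct.sr_pos three_lt)
  rw [← Uk_one] at h2
  have h3 : E8.struct.ok.xG (chevE8.neg (E8.cert.sr 3)) ((E8.cert.eta 3 (E8.cert.sr 3) : K2) * 1) ∈
      chevE8.borelSubgroup K2 ⊓ chevE8.negUnipotent K2 :=
    Subgroup.mem_inf.2 ⟨E8.struct.B_le_of (E8.struct.UPsi_le _ h2), Subgroup.subset_closure
      ⟨_, _, E8.struct.isNeg_iff.2 hneg, E8.struct.ok.val_xG _ _⟩⟩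
  rw [E8.struct.B_inf_V okNeg_E8, Subgroup.mem_bot] at h3
  exact mul_ne_zero (Ok.eta_ne_zero _ 3 _) one_ne_zero (E8.struct.xG_eq_one (by omega) h3)

theorem n₀_notMem : n₀ ∉ P := by
  intro hn
  refine neg_simple_notMem ?_
  have hsj := E8.struct.ok.sr_lt (D := chevE8) (C := E8.cert) three_lt
  have h := mul_mem (mul_mem hn (U_le_P (E8.struct.xG_mem_U (F := K2) (E8.struct.sr_pos three_lt) hsj 1)))
    (inv_mem hn)
  rw [n₀, E8.struct.ok.conj_nG_xG three_lt hsj, (E8.struct.ok.refl_simple three_lt).1,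
    E8.struct.ok.neg_eq hsj, E8.struct.ok.sr_eq three_lt] at h
  have e : ∀ a : K2, a ≠ 0 → a = 1 := by decide
  rwa [e _ (mul_ne_zero (Ok.eta_ne_zero _ 3 _) one_ne_zero)] at h

theorem n₀_sq : n₀ * n₀ ∈ P :=
  Subgroup.mem_sup_left (Subgroup.mem_sup_right (E8.struct.nG_mul_self_mem three_lt))

theorem conj_n₀ {s : ℕ} (hs : s < chevE8.nroots) (t : K2) :
    ∃ t' : K2, n₀⁻¹ * E8.struct.ok.xG s t * n₀ = E8.struct.ok.xG (E8.cert.w 3 s) t' := by
  have hw := E8.struct.ok.w_lt three_lt hs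
  refine ⟨(E8.cert.eta 3 (E8.cert.w 3 s) : K2) * t, ?_⟩
  have h := E8.struct.ok.conj_nG_xG (F := K2) three_lt hw ((E8.cert.eta 3 (E8.cert.w 3 s) : K2) * t)
  rw [E8.struct.ok.w_w three_lt hs, ← mul_assoc, Ok.eta_sq, one_mul] at h
  rw [n₀, ← h]; group

theorem conj_n₀_Uk {k : ℕ} (hk : 1 ≤ k) {x : GA} (hx : x ∈ Uk (k + 1)) : n₀⁻¹ * x * n₀ ∈ Uk k := by
  refine inv_conj_closure ?_ hx
  rintro y ⟨r, t, hr, hs, rfl⟩
  have hs' := (sat_lvl (k + 1) r.val).1 hs
  obtain ⟨t', e⟩ := conj_n₀ r.isLt t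
  obtain ⟨a, b⟩ := (step_facts (show 120 ≤ r.val by have := nroots_eq; omega) r.isLt).1 (by push_cast at hs'; omega)
  rw [e]
  refine mem_Uk (r := ⟨_, E8.struct.ok.w_lt three_lt r.isLt⟩) (by show chevE8.nroots / 2 ≤ E8.cert.w 3 r.val; have := nroots_eq; omega) ?_ t'
  show (k : ℤ) ≤ htAt E8.htTab (E8.cert.w 3 r.val) 3
  push_cast at hs'; omega

theorem P_conj_Uk {k : ℕ} (hk : 1 ≤ k) {p : GA} (hp : p ∈ P) {x : GA} (hx : x ∈ Uk k) :
    p * x * p⁻¹ ∈ Uk k :=
  E8.struct.parabolic_conj_lvl E8.ht E8.descJ three_lt hk hp hx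

theorem mem_words {k : ℕ} {M : List ℕ} (hM : M ∈ words.getD k []) {i : ℕ} (hi : i ∈ M) : i < 8 ∧ i ≠ 3 := by
  have h := words_ok
  simp only [okWords, List.all_eq_true, Bool.and_eq_true, decide_eq_true_eq] at h
  rw [List.getD_eq_getElem?_getD] at hM
  cases hk : words[k]? with
  | none => simp [hk] at hM
  | some W => rw [hk] at hM; exact h W (List.mem_of_getElem? hk) M hM i hi

/-- A set normalised by `P` satisfying the bounds of level `k` lies at level `k + 1`. -/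
theorem climb {k : ℕ} (hk : k < 7) {X : Set GA} (hconj : ∀ p ∈ P, ∀ x ∈ X, p * x * p⁻¹ ∈ X)
    (hX : X ⊆ E8.struct.UPsi K2 (Sat chevE8 E8.cert E8.htTab (base k))) {x : GA} (hx : x ∈ X) :
    x ∈ Uk (k + 1) := by
  have hf : Fine chevE8 (base k) := by
    have h3 := three_lt
    match k with
    | 0 => intro q hq; simp only [base, List.mem_singleton] at hq; subst hq; simp [rank_eq]
    | 1 =>
      intro q hq; simp only [base, List.mem_cons, List.not_mem_nil, or_false] at hq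
      rcases hq with rfl | rfl <;> simp [h3]
    | k + 2 =>
      intro q hq; simp only [base, List.mem_cons, List.not_mem_nil, or_false] at hq
      rcases hq with rfl | rfl <;> simp [h3] <;> positivity
  refine E8.struct.mem_shifts okNeg_E8 E8.ht E8_lin hf hX (words.getD k []) (fun M hM i hi => ?_)
    (fun M hM L hL y hy => ?_) (fun r hr hsat => ?_) hx
  · rw [rank_eq]; exact (mem_words hM hi).1
  · have hP : E8.struct.nL K2 L.reverse ∈ P := nL_mem_P fun i hi => (mem_words hM (by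
      rw [← hL]; exact List.mem_map.2 ⟨i, List.mem_reverse.1 hi, rfl⟩)).2
    have := hconj _ (inv_mem hP) y hy
    rwa [inv_inv] at this
  · have h := up_ok
    simp only [kall_iff, krange_eq, List.mem_range'_1] at h
    have h2 := h k ⟨Nat.zero_le _, by omega⟩
    simp only [okUp, kall_iff, krange_eq, List.mem_range'_1] at h2
    have hr1 : 120 ≤ r.val := by have := nroots_eq; omega
    have hr2 : r.val < 120 + 120 := r.isLt.trans_le (le_of_eq nroots_eq)
    have h3 := h2 r.val ⟨hr1, hr2⟩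
    rw [hsat] at h3
    simpa [Sat] using h3

section Main

/-- The simple group. -/
abbrev G8 : Type := ↥(chevE8.group K2)

/-- The parabolic subgroup inside the group. -/
noncomputable def M1 : Subgroup G8 := P.subgroupOf (chevE8.group K2)

/-- The conjugating element. -/
noncomputable def g8 : G8 := ⟨n₀, n₀_mem_group⟩

theorem g8_sq : g8 * g8 ∈ M1 := n₀_sq

theorem g8_conj_val (z : G8) : ((g8⁻¹ * z * g8 : G8) : GA) = n₀⁻¹ * (z : GA) * n₀ := by
  simp only [Subgroup.coe_mul, Subgroup.coe_inv, g8]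

theorem Uk_succ_le {k : ℕ} {x : GA} (hx : x ∈ Uk (k + 1)) : x ∈ Uk k :=
  E8.struct.UPsi_mono (fun r _ (h : Sat _ _ _ _ r) => by
    rw [Sat, sat_lvl] at h ⊢; push_cast at h; omega) hx

theorem Uk_le_one {k : ℕ} (hk : 1 ≤ k) {x : GA} (hx : x ∈ Uk k) : x ∈ Uk 1 := by
  induction k, hk using Nat.le_induction with
  | base => exact hx
  | succ k _ ih => exact ih (Uk_succ_le hx)

theorem lower : ∀ i (x : G8), (x : GA) ∈ Uk (i + 1) → x ∈ seqA M1 g8 i
  | 0, x, hx => Uk_le_P hx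
  | i + 1, x, hx => by
    refine (mem_seqA_succ M1 g8 g8_sq).2 ⟨Uk_le_P hx, fun p hp => ⟨lower i _ ?_, lower i _ ?_⟩⟩
    · exact Uk_succ_le (P_conj_Uk (by omega) hp hx)
    · exact conj_n₀_Uk (by omega) (P_conj_Uk (by omega) hp hx)

theorem not_pos_of_w {r : Fin chevE8.nroots} (hr : chevE8.nroots / 2 ≤ r.val)
    (h : E8.cert.w 3 r.val < chevE8.nroots / 2) : r.val = E8.cert.sr 3 := by
  have := nroots_eq
  exact (step_facts (by omega) r.isLt).2.1.resolve_left (by omega)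

theorem first_step {x : GA} (hx : x ∈ Uk 1) (hy : n₀⁻¹ * x * n₀ ∈ P) :
    x ∈ E8.struct.UPsi K2 (Sat chevE8 E8.cert E8.htTab (base 1)) := by
  obtain ⟨a, ha, b, hb, rfl⟩ := E8.struct.split_closed (E8.struct.closed_Sat E8.ht E8_lin (fine_lvl 1))
    (fun r => E8.cert.w 3 r.val < chevE8.nroots / 2) (chevE8.nroots - chevE8.nroots / 2) (chevE8.nroots / 2)
    (by have := nroots_eq; omega) le_rfl x (E8.struct.UPsi_mono (fun r a h => ⟨h, a⟩) hx)
  have ha' : n₀⁻¹ * a * n₀ ∈ P := by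
    refine inv_conj_closure ?_ ha
    rintro y ⟨r, t, hr, ⟨-, hw⟩, rfl⟩
    obtain ⟨t', e⟩ := conj_n₀ r.isLt t
    rw [e]
    exact U_le_P (E8.struct.xG_mem_U (Nat.le_of_not_lt hw) (E8.struct.ok.w_lt three_lt r.isLt) t')
  have hb' : n₀⁻¹ * b * n₀ ∈ P := by
    have := mul_mem (inv_mem ha') hy
    convert this using 1
    group
  have hb1 : b = 1 := by
    have hle : E8.struct.UPsi K2 (fun r => Sat chevE8 E8.cert E8.htTab (lvl 1) r ∧
        E8.cert.w 3 r.val < chevE8.nroots / 2) ≤ (E8.struct.xHom K2 (E8.cert.sr 3)).range := by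
      refine (Subgroup.closure_le _).2 ?_
      rintro y ⟨r, t, hr, ⟨-, hw⟩, rfl⟩
      exact ⟨Multiplicative.ofAdd t, by rw [Struct.xHom_val, toAdd_ofAdd, not_pos_of_w hr hw]⟩
    obtain ⟨u, rfl⟩ := hle hb
    have hsj := E8.struct.ok.sr_lt (D := chevE8) (C := E8.cert) three_lt
    obtain ⟨t', e⟩ := conj_n₀ hsj (u.toAdd : K2)
    rw [Struct.xHom_val] at hb' ⊢
    rw [e, (E8.struct.ok.refl_simple three_lt).1, E8.struct.ok.neg_eq hsj, E8.struct.ok.sr_eq three_lt] at hb'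
    have ht' : t' = 0 := by
      have h01 : ∀ a : K2, a = 0 ∨ a = 1 := by decide
      rcases h01 t' with h | h
      · exact h
      · rw [h] at hb'; exact absurd hb' neg_simple_notMem
    rw [ht', E8.struct.xG_zero] at e
    calc E8.struct.ok.xG (E8.cert.sr 3) (u.toAdd : K2)
        = n₀ * (n₀⁻¹ * E8.struct.ok.xG (E8.cert.sr 3) (u.toAdd : K2) * n₀) * n₀⁻¹ := by group
      _ = 1 := by rw [e]; group
  rw [hb1, mul_one]
  refine E8.struct.UPsi_mono (fun r hr h => ?_) ha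
  obtain ⟨h1, h2⟩ := h
  have h3 := (step_facts (show 120 ≤ r.val by have := nroots_eq; omega) r.isLt).2.2.1
    (by have := nroots_eq; omega)
  have h1' := (sat_lvl 1 r.val).1 h1
  simp only [Sat, base, satB, kall_iff, List.mem_cons, List.not_mem_nil, or_false, forall_eq_or_imp,
    forall_eq, List.foldr_nil, List.foldr_cons, List.map_cons, List.map_nil, List.sum_cons, List.sum_nil,
    add_zero, decide_eq_true_eq]
  exact ⟨by simpa using h1', h3⟩

theorem upper : ∀ i, i ≤ 6 → ∀ x : G8, x ∈ seqA M1 g8 i → (x : GA) ∈ Uk 1 → (x : GA) ∈ Uk (i + 1)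
  | 0, _, x, _, hU => hU
  | i + 1, hi, x, hx, hU => by
    let X : Set GA := {y | ∃ z : G8, z ∈ seqA M1 g8 (i + 1) ∧ (z : GA) ∈ Uk 1 ∧ (z : GA) = y}
    refine climb (k := i + 1) (by omega) (X := X) ?_ ?_ ⟨x, hx, hU, rfl⟩
    · rintro p hp _ ⟨z, hz, hzU, rfl⟩
      exact ⟨⟨p, P_le_group hp⟩ * z * ⟨p, P_le_group hp⟩⁻¹, (seq_spec M1 g8 g8_sq (i + 1)).2.1 _ hp z hz,
        P_conj_Uk le_rfl hp hzU, rfl⟩
    · rintro _ ⟨z, hz, hzU, rfl⟩
      obtain ⟨hz1, hz2⟩ := seqA_succ_le M1 g8 g8_sq hz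
      have hx1 := upper i (by omega) z hz1 hzU
      have hy : n₀⁻¹ * (z : GA) * n₀ ∈ P := by
        have h0 := (seq_spec M1 g8 g8_sq i).1 hz2
        rw [M1, Subgroup.mem_subgroupOf, g8_conj_val] at h0
        exact h0
      obtain rfl | hi1 := Nat.eq_zero_or_pos i
      · exact first_step hx1 hy
      have hy1 : n₀⁻¹ * (z : GA) * n₀ ∈ Uk (i + 1) := by
        have h0 := upper i (by omega) (g8⁻¹ * z * g8) hz2
        rw [g8_conj_val] at h0
        exact h0 (Uk_le_one hi1 (conj_n₀_Uk hi1 hx1))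
      have hsh : Fine chevE8 (shiftB (lvl (i + 1)) [3]) :=
        (fine_lvl (i + 1)).shift (by simp [rank_eq])
      have hm := E8.struct.inter_conj okNeg_E8 (E8.struct.closed_Sat E8.ht E8_lin (fine_lvl (i + 1)))
        (E8.struct.closed_Sat E8.ht E8_lin (fine_lvl (i + 1))) (E8.struct.closed_Sat E8.ht E8_lin hsh)
        (E8.struct.act_nG (⟨3, three_lt⟩ : Fin chevE8.rank)) (fun r hr => by
          show satB _ _ _ _ = true
          rw [satB_shift]
          simp only [List.foldr_cons, List.foldr_nil, Struct.wp_val]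
          rw [E8.struct.ok.w_w three_lt r.isLt]
          exact hr) hx1 hy1 (by rw [n₀]; group)
      refine E8.struct.UPsi_mono (fun r _ h => ?_) hm
      obtain ⟨h1, h2⟩ := h
      obtain ⟨j, rfl⟩ : ∃ j, i = j + 1 := ⟨i - 1, by omega⟩
      show satB E8.cert E8.htTab (base (j + 2)) r.val = true
      rw [show base (j + 2) = lvl (j + 2) ++ shiftB (lvl (j + 2)) [3] from rfl, satB_append]
      exact ⟨h1, h2⟩

theorem seqA_six : seqA M1 g8 6 = ⊥ := by
  have htriv : ∀ x : G8, x ∈ seqA M1 g8 6 → (x : GA) ∈ Uk 1 → x = 1 := by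
    intro x hx hU
    refine Subtype.ext (E8.struct.eq_one_of_UPsi (fun r hr h => ?_) (upper 6 le_rfl x hx hU))
    rw [Sat, sat_lvl] at h
    have := (step_facts (show 120 ≤ r.val by have := nroots_eq; omega) r.isLt).2.2.2.2
    push_cast at h; omega
  refine eq_bot_iff.2 fun x hx => ?_
  rw [Subgroup.mem_bot]
  refine htriv x hx ?_
  obtain ⟨hle, hnorm, -⟩ := seq_spec M1 g8 g8_sq 6
  let X : Set GA := {y | ∃ z : G8, z ∈ seqA M1 g8 6 ∧ (z : GA) = y}
  refine climb (k := 0) (by norm_num) (X := X) ?_ ?_ ⟨x, hx, rfl⟩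
  · rintro p hp _ ⟨z, hz, rfl⟩
    let q : G8 := ⟨p, P_le_group hp⟩
    have hq : q ∈ M1 := Subgroup.mem_subgroupOf.2 hp
    exact ⟨q * z * q⁻¹, hnorm q hq z hz, rfl⟩
  · rintro _ ⟨z, hz, rfl⟩
    have hzU : (z : GA) ∈ chevE8.posUnipotent K2 := by
      refine cent_radical_le E8.struct okNeg_E8 E8.ht E8.descJ E8_lin E8.span ⟨3, three_lt, by simp⟩ (hle hz)
        fun v hv => ?_
      rw [← Uk_one] at hv
      let v' : G8 := ⟨v, P_le_group (Uk_le_P hv)⟩
      have h1 : z * v' * z⁻¹ * v'⁻¹ = 1 := by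
        refine htriv _ ?_ (mul_mem (P_conj_Uk le_rfl (hle hz) hv) (inv_mem hv))
        have := mul_mem hz (hnorm v' (Uk_le_P hv) z⁻¹ (inv_mem hz))
        convert this using 1
        group
      have := congrArg (fun y : G8 => (y : GA)) (mul_inv_eq_iff_eq_mul.1 (mul_inv_eq_one.1 h1))
      simpa [v'] using this
    refine E8.struct.UPsi_mono (fun r hr _ => ?_) (E8.struct.posUnipotent_le_UPsi (F := K2) hzU)
    have := (step_facts (show 120 ≤ r.val by have := nroots_eq; omega) r.isLt).2.2.2.1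
    simpa [Sat, base, satB, kall_iff] using this

theorem seqA_five : seqA M1 g8 5 ≠ ⊥ := by
  obtain ⟨r, hr, h6⟩ := exists_top
  intro h
  have hx : E8.struct.ok.xG r.val (1 : K2) ∈ Uk 6 := mem_Uk hr (by simp [h6]) 1
  have := lower 5 ⟨_, P_le_group (Uk_le_P hx)⟩ hx
  rw [h, Subgroup.mem_bot] at this
  exact one_ne_zero (E8.struct.xG_eq_one r.isLt (congrArg Subtype.val this))

theorem isCoatom_M1 : IsCoatom M1 := by
  refine ⟨fun h => n₀_notMem (show g8 ∈ M1 from h ▸ Subgroup.mem_top g8), fun M hM => ?_⟩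
  obtain ⟨Pr, hB, -, hS⟩ := E8.struct.exists_bnPair (F := K2) (fun i j h => E8.struct.simple_ne okNeg_E8 i j h)
  have hBM : Pr.B ≤ M := fun x hx => by
    rw [hB, Subgroup.mem_subgroupOf] at hx
    exact hM.le (Subgroup.mem_sup_left hx)
  have hsimple : ∀ i, i < chevE8.rank → i ≠ 3 →
      (⟨E8.struct.ok.nG (chevE8.simple i) (1 : K2), E8.struct.ok.nG_mem_group _ _⟩ : G8) ∈ M1 := fun i hi h3 =>
    Subgroup.mem_sup_right (Subgroup.subset_closure ⟨i, h3, hi, E8.struct.ok.val_nG _ _⟩)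
  by_cases h3 : g8 ∈ M
  · refine eq_top_iff.2 fun x _ => ?_
    have hle : chevE8.borelSubgroup K2 ⊔ chevE8.monomialSubgroup K2 ≤ M.map (chevE8.group K2).subtype := by
      refine sup_le (fun b hb => ⟨⟨b, E8.struct.borel_le_group hb⟩, hBM (by rw [hB]; exact hb), rfl⟩) ?_
      rw [E8.struct.ok.monomialSubgroup_eq]
      refine sup_le (fun b hb => ⟨⟨b, E8.struct.diag_le_group hb⟩,
        hBM (by rw [hB]; exact Subgroup.mem_sup_right hb), rfl⟩) ((Subgroup.closure_le _).2 ?_)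
      rintro b ⟨i, hi, rfl⟩
      refine ⟨⟨_, E8.struct.ok.nG_mem_group _ _⟩, ?_, rfl⟩
      by_cases hi3 : i = 3
      · subst hi3; exact h3
      · exact hM.le (hsimple i hi hi3)
    have hx : (x : GA) ∈ chevE8.borelSubgroup K2 ⊔ chevE8.monomialSubgroup K2 := by
      rw [E8.struct.sup_eq_group]; exact x.2
    obtain ⟨y, hy, e⟩ := hle hx
    rw [show x = y from Subtype.ext e.symm]
    exact hy
  · exfalso
    refine hM.not_ge ?_
    rw [Cfsg.Lib.BN.eq_parabolic hBM]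
    refine sup_le (fun x hx => ?_) ((Subgroup.closure_le _).2 ?_)
    · rw [hB, Subgroup.mem_subgroupOf] at hx
      exact Subgroup.mem_sup_left hx
    · rintro s ⟨hsS, hsM⟩
      rw [hS] at hsS
      obtain ⟨i, hi, e⟩ := hsS
      have hs : s = ⟨E8.struct.ok.nG (chevE8.simple i) (1 : K2), E8.struct.ok.nG_mem_group _ _⟩ :=
        Subtype.ext (Units.ext (by rw [e]; exact (E8.struct.ok.val_nG _ _).symm))
      subst hs
      refine hsimple i hi ?_
      rintro rfl
      exact h3 hsM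

end Main

end Cfsg.Lib.Chev.E8Core
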