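import Cfsg.Agent.Chev.Sparse
import Cfsg.Prelude.Def_ChevStructure

/-!
The root elements of a Chevalley datum as sparse matrices, certificates for the fundamental reflections, and
the Boolean checks from which the basic relations follow.
-/

set_option autoImplicit false

open Cfsg.Lie

namespace Cfsg.Lib.Chev

/-- Build a term of degree `j` in the second variable. -/
def mkT (j r c : ℕ) (k : ℤ) : Tm := ⟨0, j, r, c, k⟩

/-- Boolean equality of terms. -/
noncomputable def tmBeq (a b : Tm) : Bool :=
  Nat.beq a.i b.i && Nat.beq a.j b.j && Nat.beq a.r b.r && Nat.beq a.c b.c && decide (a.k = b.k)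

theorem tmBeq_eq {a b : Tm} (h : tmBeq a b = true) : a = b := by
  obtain ⟨i, j, r, c, k⟩ := a
  obtain ⟨i', j', r', c', k'⟩ := b
  simp only [tmBeq, Bool.and_eq_true, decide_eq_true_eq] at h
  obtain ⟨⟨⟨⟨h1, h2⟩, h3⟩, h4⟩, h5⟩ := h
  rw [Nat.eq_of_beq_eq_true h1, Nat.eq_of_beq_eq_true h2, Nat.eq_of_beq_eq_true h3,
    Nat.eq_of_beq_eq_true h4, h5]

/-- Boolean equality of lists. -/
noncomputable def listBeq {α : Type} (eq : α → α → Bool) : List α → List α → Bool
  | [], [] => true
  | a :: s, b :: t => eq a b && listBeq eq s t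
  | _, _ => false

theorem listBeq_eq {α : Type} {eq : α → α → Bool} (heq : ∀ a b, eq a b = true → a = b) :
    ∀ {s t : List α}, listBeq eq s t = true → s = t
  | [], [], _ => rfl
  | a :: s, b :: t, h => by
    simp only [listBeq, Bool.and_eq_true] at h
    rw [heq a b h.1, listBeq_eq heq h.2]
  | [], _ :: _, h => by simp [listBeq] at h
  | _ :: _, [], h => by simp [listBeq] at h

/-- The non-constant terms of `x_r(u)`, read off the tables of the datum. -/
def rowTerms (D : ChevalleyDatum) (r : ℕ) : List Tm :=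
  (((List.range D.rank).map fun i =>
      mkT 1 (D.rank + r) i (-((D.cartanSR.getD i #[]).getD r 0))) ++
    ((List.range D.rank).map fun i =>
      mkT 1 i (D.rank + D.negIdx.getD r 0) ((D.coroot.getD r #[]).getD i 0)) ++
    [mkT 2 (D.rank + r) (D.rank + D.negIdx.getD r 0) (-1)] ++
    (D.chain.getD r #[]).toList.flatMap fun e =>
      if e.1 = r ∨ e.1 = D.negIdx.getD r 0 then []
      else e.2.toList.zipIdx.map fun q =>
        mkT (q.2 + 1) (D.rank + q.1.1) (D.rank + e.1) q.1.2).filter fun a => a.k != 0

/-- Certificate: tables of root elements and of the fundamental reflections. -/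
structure Cert where
  /-- number of fundamental roots -/
  l : ℕ
  /-- number of roots -/
  n : ℕ
  /-- the terms of `x_r(u)` -/
  tab : List (List Tm)
  /-- indices of the fundamental roots -/
  simp : List ℕ
  /-- index of the negative root, packed in bytes -/
  negP : ℕ
  /-- for each fundamental root, its reflection on root indices, packed in bytes -/
  refl : List ℕ
  /-- for each fundamental root, the roots with sign `-1`, as a bit mask -/
  sgn : List ℕ
  /-- for each fundamental root `p_i`, the numbers `A_{p_i,s} + 4`, packed in bytes -/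
  car : List ℕ

namespace Cert

variable (C : Cert)

/-- The `s`-th byte. -/
noncomputable def byte (P s : ℕ) : ℕ := Nat.land (Nat.shiftRight P (Nat.mul 8 s)) 255

/-- The terms of `x_r(u)`. -/
noncomputable def row (r : ℕ) : List Tm := C.tab.getD r []

/-- The fundamental root. -/
noncomputable def sr (i : ℕ) : ℕ := C.simp.getD i 0

/-- The negative root. -/
noncomputable def neg (r : ℕ) : ℕ := byte C.negP r

/-- The image of a root under a fundamental reflection. -/
noncomputable def w (i s : ℕ) : ℕ := byte (C.refl.getD i 0) s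

/-- The sign of a fundamental reflection at a root. -/
noncomputable def eta (i s : ℕ) : ℤ :=
  Bool.rec (1 : ℤ) (-1) (Nat.beq (Nat.land (Nat.shiftRight (C.sgn.getD i 0) s) 1) 1)

/-- Cartan integers. -/
noncomputable def cart (i s : ℕ) : ℤ := (byte (C.car.getD i 0) s : ℤ) - 4

/-- Entry `(a, b)` of the reflection `w_i` on the fundamental coroots. -/
noncomputable def hRefl (i a b : ℕ) : ℤ :=
  Bool.rec (0 : ℤ) 1 (Nat.beq a b) - Bool.rec (0 : ℤ) (C.cart b (C.sr i)) (Nat.beq a i)

/-- The non-zero entries of column `b` of `n_{p_i}`, as `(row, coefficient)`. -/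
noncomputable def nCol (i b : ℕ) : List (ℕ × ℤ) :=
  Bool.rec
    [(Nat.add C.l (C.w i (Nat.sub b C.l)), C.eta i (Nat.sub b C.l))]
    (kfilter (fun e => !decide (e.2 = 0)) (kmap (fun a => (a, C.hRefl i a b)) (krange 0 C.l)))
    (Nat.blt b C.l)

/-- The non-zero entries of row `a` of `n_{p_i}⁻¹`, as `(column, coefficient)`. -/
noncomputable def nRow (i a : ℕ) : List (ℕ × ℤ) :=
  Bool.rec
    [(Nat.add C.l (C.w i (Nat.sub a C.l)), C.eta i (Nat.sub a C.l))]
    (kfilter (fun e => !decide (e.2 = 0)) (kmap (fun b => (b, C.hRefl i a b)) (krange 0 C.l)))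
    (Nat.blt a C.l)

/-- The image of one term under conjugation by `n_{p_i}`. -/
noncomputable def conjT (i : ℕ) (e : Tm) : List Tm :=
  kflat (fun x => kmap (fun y => ⟨e.i, e.j, x.1, y.1, Int.mul (Int.mul x.2 y.2) e.k⟩) (C.nRow i e.c))
    (C.nCol i e.r)

/-- The identity matrix. -/
noncomputable def idL : List Tm := kmap (fun a => ⟨0, 0, a, a, 1⟩) (krange 0 (Nat.add C.l C.n))

/-- The monomial matrix `n_{p_i}(t)`; the second variable stands for the inverse of the first. -/
noncomputable def nMon (i : ℕ) : List Tm :=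
  kflat (fun b => kmap (fun x =>
    Bool.rec
      ⟨Int.toNat (C.cart i (Nat.sub x.1 C.l)), Int.toNat (-C.cart i (Nat.sub x.1 C.l)), x.1, b, x.2⟩
      ⟨0, 0, x.1, b, x.2⟩ (Nat.blt x.1 C.l)) (C.nCol i b)) (krange 0 (Nat.add C.l C.n))

/-- Replace the variable `u` by `t`. -/
noncomputable def inT (L : List Tm) : List Tm := kmap (fun e => ⟨e.j, 0, e.r, e.c, e.k⟩) L

/-- Scale `u` by the sign `η`. -/
noncomputable def scaleU (η : ℤ) (L : List Tm) : List Tm :=
  Bool.rec L (kmap (fun e => ⟨e.i, e.j, e.r, e.c, Bool.rec (-e.k) e.k (Nat.beq (Nat.mod e.j 2) 0)⟩) L)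
    (decide (η = -1))

/-- `x_r(t + u)`. -/
noncomputable def sumU (L : List Tm) : List Tm :=
  kflat (fun e => kmap (fun a => ⟨a, Nat.sub e.j a, e.r, e.c, (Nat.choose e.j a : ℤ) * e.k⟩)
    (krange 0 (Nat.add e.j 1))) L

/-- Cancel common powers of the two variables (used when they are inverse to each other). -/
noncomputable def cancel (L : List Tm) : List Tm :=
  kmap (fun e => ⟨Nat.sub e.i e.j, Nat.sub e.j e.i, e.r, e.c, e.k⟩) L

/-- Tables agree with the datum. -/
noncomputable def okTab (D : ChevalleyDatum) : Bool :=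
  Nat.beq C.l D.rank && Nat.beq C.n D.nroots && Nat.ble (Nat.add C.l C.n) 256 &&
    listBeq (listBeq tmBeq) C.tab ((List.range D.nroots).map (rowTerms D)) &&
    kall (fun r => Nat.beq (C.neg r) (D.negIdx.getD r 0) && Nat.blt (C.neg r) C.n && !Nat.beq (C.neg r) r &&
      Nat.beq (C.neg (C.neg r)) r) (krange 0 C.n) &&
    kall (fun i => Nat.beq (C.sr i) (D.simpleIdx.getD i 0) && Nat.blt (C.sr i) C.n &&
      kall (fun s => decide (C.cart i s = (D.cartanSR.getD i #[]).getD s 0)) (krange 0 C.n)) (krange 0 C.l) &&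
    kall (fun L => kall (fun e => Nat.blt e.r (Nat.add C.l C.n) && Nat.blt e.c (Nat.add C.l C.n)) L) C.tab

/-- Root elements of `±p` are additive. -/
noncomputable def okAdd (r : ℕ) : Bool :=
  eqTest 12 (kmul1 (Nat.add C.l C.n) (inT (C.row r)) (C.row r)) (sumU (C.row r))

/-- `n_{p_i}(t)` is the monomial matrix `nMon`. -/
noncomputable def okN (i : ℕ) : Bool :=
  let N := Nat.add C.l C.n
  let p := inT (C.row (C.sr i))
  let m := scaleU (-1) (C.row (C.neg (C.sr i)))
  eqTest 12 (kapp C.idL (cancel (kmul1 N p (kmul1 N m p)))) (C.nMon i)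

/-- The monomial matrix has the claimed inverse. -/
noncomputable def okInv (i : ℕ) : Bool := eqTest 0 (kflat (C.conjT i) C.idL) C.idL

/-- Conjugation by `n_{p_i}` permutes the root elements. -/
noncomputable def okConj (i : ℕ) : Bool :=
  kall (fun s => eqTest 2 (kflat (C.conjT i) (C.row s)) (scaleU (C.eta i s) (C.row (C.w i s))))
    (krange 0 C.n)

/-- Properties of the reflection certificates. -/
noncomputable def okRefl (D : ChevalleyDatum) (i : ℕ) : Bool :=
  Nat.beq (C.w i (C.sr i)) (C.neg (C.sr i)) &&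
    decide (C.eta i (C.sr i) = -1) && decide (C.eta i (C.neg (C.sr i)) = -1) &&
    decide (C.cart i (C.sr i) = 2) &&
    kall (fun s => Nat.blt (C.w i s) C.n && Nat.beq (C.w i (C.w i s)) s &&
      Nat.beq (C.w i s) (D.reflectRoot i s) &&
      Nat.beq (C.w i (C.neg s)) (C.neg (C.w i s)) &&
      decide (C.cart i (C.w i s) = -C.cart i s) && decide (C.cart i (C.neg s) = -C.cart i s) &&
      decide (C.eta i s * C.eta i (C.w i s) = (-1) ^ (C.cart i s).natAbs) &&
      decide (C.eta i (C.neg s) = C.eta i s) &&
      kall (fun j => decide (C.cart j (C.w i s) = C.cart j s - C.cart i s * C.cart j (C.sr i))) (krange 0 C.l))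
      (krange 0 C.n)

/-- Weight of a coordinate under the `i`-th fundamental coroot. -/
noncomputable def wt (i a : ℕ) : ℤ := Bool.rec (C.cart i (Nat.sub a C.l)) 0 (Nat.blt a C.l)

/-- The tables are homogeneous for the `i`-th fundamental coroot. -/
noncomputable def okWt (i : ℕ) : Bool :=
  kall (fun s => kall (fun e => decide (C.wt i e.r - C.wt i e.c = (e.j : ℤ) * C.cart i s)) (C.row s))
    (krange 0 C.n)

/-- Positive roots are the second half of the indices, negation exchanges the halves. -/
noncomputable def okPos (D : ChevalleyDatum) : Bool :=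
  let h := Nat.div C.n 2
  kall (fun r => (decide (D.IsPosRoot r) == Nat.ble h r) && (decide (D.IsNegRoot r) == Nat.blt r h) &&
    (Nat.ble h (C.neg r) == Nat.blt r h)) (krange 0 C.n) &&
    Nat.beq (Nat.add h h) C.n &&
    kall (fun i => Nat.ble h (C.sr i) &&
      kall (fun s => Nat.ble h (C.w i s) || Nat.beq s (C.sr i) || Nat.blt s h) (krange 0 C.n)) (krange 0 C.l)

/-- The root is the image, or the negative, of a fundamental root, or can be lowered by a fundamental reflection. -/
noncomputable def okDesc : Bool :=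
  let h := Nat.div C.n 2
  let mu : ℕ → ℕ := fun r => Bool.rec (Nat.sub C.n r) r (Nat.ble h r)
  kall (fun r => !kall (fun i => !(Nat.beq r (C.sr i) || Nat.beq r (C.neg (C.sr i)) ||
    Nat.blt (mu (C.w i r)) (mu r))) (krange 0 C.l)) (krange 0 C.n)

end Cert

end Cfsg.Lib.Chev
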