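import Cfsg.Agent.Chev.Reflect

/-! Relations in the general linear group over a field: root elements, `n_r(t)`, `h_r(t)`. -/

set_option autoImplicit false

open Cfsg.Lie

namespace Cfsg.Lib.Chev

/-- The datum has a verified certificate. -/
def Good (D : ChevalleyDatum) : Prop := ∃ C, Ok D C

variable {D : ChevalleyDatum} {C : Cert} {F : Type*} [Field F]

theorem blt_true {a b : ℕ} : Nat.blt a b = true ↔ a < b := by simp [Nat.blt]

theorem blt_false {a b : ℕ} : Nat.blt a b = false ↔ b ≤ a := by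
  rw [← not_iff_not, Bool.not_eq_false, blt_true, not_le]

namespace Ok

theorem x_eq (h : Ok D C) {r : ℕ} (hr : r < D.nroots) (t : F) : D.x F r t = xR F D r t :=
  x_eq_xR hr (by rw [show D.negIdx.getD r 0 = C.neg r from (h.neg_eq hr).symm]; exact h.neg_ne hr) t

theorem x_mul (h : Ok D C) (r : ℕ) (t u : F) : D.x F r t * D.x F r u = D.x F r (t + u) := by
  by_cases hr : r < D.nroots
  · rw [h.x_eq hr, h.x_eq hr, h.x_eq hr, h.x_add hr]
  · simp [ChevalleyDatum.x, hr]

theorem x_zero (h : Ok D C) (r : ℕ) : D.x F r (0 : F) = 1 := by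
  by_cases hr : r < D.nroots
  · rw [h.x_eq hr, h.xR_zero hr]
  · simp [ChevalleyDatum.x, hr]

theorem x_eq_one_iff (h : Ok D C) {r : ℕ} (hr : r < D.nroots) (t : F) : D.x F r t = 1 ↔ t = 0 := by
  refine ⟨fun h1 => ?_, fun h0 => h0 ▸ h.x_zero r⟩
  have hne : D.negIdx.getD r 0 ≠ r := by
    rw [show D.negIdx.getD r 0 = C.neg r from (h.neg_eq hr).symm]; exact h.neg_ne hr
  have hlt : D.negIdx.getD r 0 < D.nroots := by
    rw [show D.negIdx.getD r 0 = C.neg r from (h.neg_eq hr).symm]; exact h.neg_lt hr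
  have h2 := congrFun (congrFun h1 (Sum.inr ⟨r, hr⟩)) (Sum.inr ⟨D.negIdx.getD r 0, hlt⟩)
  simp only [ChevalleyDatum.x, dif_pos hr, ChevalleyDatum.xMat, Matrix.of_apply] at h2
  generalize D.negIdx.getD r 0 = nr at *
  simpa [hne, Ne.symm hne, Fin.ext_iff, Matrix.one_apply] using h2

/-- The root element as an element of the general linear group. -/
noncomputable def xG (h : Ok D C) (r : ℕ) (t : F) : GL D.Idx F :=
  ⟨D.x F r t, D.x F r (-t), by rw [h.x_mul, add_neg_cancel, h.x_zero],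
    by rw [h.x_mul, neg_add_cancel, h.x_zero]⟩

@[simp] theorem val_xG (h : Ok D C) (r : ℕ) (t : F) :
    ((h.xG r t : GL D.Idx F) : Matrix D.Idx D.Idx F) = D.x F r t := rfl

theorem eq_xG (h : Ok D C) {g : GL D.Idx F} {r : ℕ} {t : F}
    (hg : (g : Matrix D.Idx D.Idx F) = D.x F r t) : g = h.xG r t := Units.ext hg

theorem xG_mul (h : Ok D C) (r : ℕ) (t u : F) : h.xG r t * h.xG r u = h.xG r (t + u) :=
  Units.ext (h.x_mul r t u)

@[simp] theorem xG_zero (h : Ok D C) (r : ℕ) : h.xG r (0 : F) = 1 := Units.ext (h.x_zero r)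

theorem xG_inv (h : Ok D C) (r : ℕ) (t : F) : (h.xG r t)⁻¹ = h.xG r (-t) :=
  inv_eq_of_mul_eq_one_right (by rw [h.xG_mul, add_neg_cancel, h.xG_zero])

/-- `n_r(t)`. -/
noncomputable def nG (h : Ok D C) (r : ℕ) (t : F) : GL D.Idx F :=
  h.xG r t * h.xG (D.neg r) (-t⁻¹) * h.xG r t

/-- `h_r(t)`. -/
noncomputable def hG (h : Ok D C) (r : ℕ) (t : F) : GL D.Idx F := h.nG r t * h.nG r (-1)

theorem val_nG (h : Ok D C) (r : ℕ) (t : F) :
    ((h.nG r t : GL D.Idx F) : Matrix D.Idx D.Idx F) = D.nMat F r t := by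
  simp [nG, ChevalleyDatum.nMat, ChevalleyDatum.nWord, ChevalleyDatum.wordMat, mul_assoc]

theorem val_hG (h : Ok D C) (r : ℕ) (t : F) :
    ((h.hG r t : GL D.Idx F) : Matrix D.Idx D.Idx F) = D.hMat F r t := by
  rw [hG, Units.val_mul, h.val_nG, h.val_nG]
  simp [ChevalleyDatum.nMat, ChevalleyDatum.hMat, ChevalleyDatum.hWord, ChevalleyDatum.wordMat]

theorem nG_mul_neg (h : Ok D C) (r : ℕ) (t : F) : h.nG r t * h.nG r (-t) = 1 := by
  have e : (-(-t)⁻¹) = t⁻¹ := by simp [inv_neg]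
  rw [nG, nG, e]
  calc h.xG r t * h.xG (D.neg r) (-t⁻¹) * h.xG r t * (h.xG r (-t) * h.xG (D.neg r) t⁻¹ * h.xG r (-t))
      = h.xG r t * (h.xG (D.neg r) (-t⁻¹) * ((h.xG r t * h.xG r (-t)) * h.xG (D.neg r) t⁻¹)) *
          h.xG r (-t) := by simp only [mul_assoc]
    _ = 1 := by simp [h.xG_mul]

theorem nG_inv (h : Ok D C) (r : ℕ) (t : F) : (h.nG r t)⁻¹ = h.nG r (-t) :=
  inv_eq_of_mul_eq_one_right (h.nG_mul_neg r t)

/-- Weight of a coordinate: Cartan integer on root vectors, zero on coroots. -/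
noncomputable def cwt (D : ChevalleyDatum) (i : ℕ) (x : D.Idx) : ℤ :=
  Sum.elim (fun _ => 0) (fun s : Fin D.nroots => D.cartan i s) x

theorem wt_enc (h : Ok D C) {i : ℕ} (hi : i < D.rank) (x : D.Idx) :
    C.wt i (enc D.rank D.nroots x) = cwt D i x := by
  rcases x with a | s
  · have : Nat.blt a.val C.l = true := blt_true.2 (by rw [h.l_eq]; exact a.isLt)
    simp [Cert.wt, cwt, enc, this]
  · have : Nat.blt (D.rank + s.val) D.rank = false := blt_false.2 (Nat.le_add_right _ _)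
    simp [Cert.wt, cwt, enc, this, h.l_eq, h.cart_eq hi s.isLt]

theorem diag_mul_unit (g : ℕ → F) (a b : ℕ) :
    Matrix.diagonal (fun x : D.Idx => g (enc D.rank D.nroots x)) * unit F D.rank D.nroots a b =
      g a • unit F D.rank D.nroots a b := by
  ext x y
  simp only [Matrix.diagonal_mul, Matrix.smul_apply, smul_eq_mul, unit, Matrix.of_apply]
  split_ifs with hh
  · rw [hh.1]
  · simp

theorem unit_mul_diag (g : ℕ → F) (a b : ℕ) :
    unit F D.rank D.nroots a b * Matrix.diagonal (fun x : D.Idx => g (enc D.rank D.nroots x)) =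
      g b • unit F D.rank D.nroots a b := by
  ext x y
  simp only [Matrix.mul_diagonal, Matrix.smul_apply, smul_eq_mul, unit, Matrix.of_apply]
  split_ifs with hh
  · rw [hh.2]; ring
  · simp

/-- The diagonal matrix `diag(t^{A_{p_i,·}})`. -/
noncomputable def dMat (D : ChevalleyDatum) (i : ℕ) (t : F) : Matrix D.Idx D.Idx F :=
  Matrix.diagonal fun x => t ^ cwt D i x

theorem dMat_eq (h : Ok D C) {i : ℕ} (hi : i < D.rank) (t : F) :
    dMat D i t = Matrix.diagonal fun x => (fun a => t ^ C.wt i a) (enc D.rank D.nroots x) := by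
  unfold dMat
  congr 1
  funext x
  show t ^ cwt D i x = t ^ C.wt i (enc D.rank D.nroots x)
  rw [h.wt_enc hi]

theorem ev_nMon (h : Ok D C) {i : ℕ} (hi : i < D.rank) {t : F} (ht : t ≠ 0) :
    ev D.rank D.nroots t t⁻¹ (C.nMon i) = dMat D i t * nc F D C i := by
  rw [h.dMat_eq hi, nc, Cert.nMon, Cert.colsL, kflat_eq, kflat_eq, ev_flatMap, ev_flatMap, mul_sum_left']
  congr 1
  refine List.map_congr_left fun b _ => ?_
  rw [kmap_eq, kmap_eq, ev, ev, List.map_map, List.map_map, mul_sum_left']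
  congr 1
  refine List.map_congr_left fun x _ => ?_
  simp only [Function.comp_apply, evT, mul_smul_comm, diag_mul_unit (fun a => t ^ C.wt i a), smul_smul]
  cases hb : Nat.blt x.1 C.l
  · simp only [Cert.wt, hb, pow_zero, mul_one]
    congr 1
    congr 1
    rw [inv_pow, ← zpow_natCast, ← zpow_natCast, ← zpow_neg, ← zpow_add₀ ht]
    congr 1
    have := Int.toNat_sub_toNat_neg (C.cart i (x.1.sub C.l))
    omega
  · simp [Cert.wt, hb]

theorem nG_val_simple (h : Ok D C) {i : ℕ} (hi : i < D.rank) {t : F} (ht : t ≠ 0) :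
    ((h.nG (D.simple i) t : GL D.Idx F) : Matrix D.Idx D.Idx F) = dMat D i t * nc F D C i := by
  rw [← h.ev_nMon hi ht, ← h.n_eval hi (mul_inv_cancel₀ ht), ← h.sr_eq hi, nG, Units.val_mul,
    Units.val_mul, val_xG, val_xG, h.x_eq (h.sr_lt hi), ← h.neg_eq (h.sr_lt hi),
    h.x_eq (h.neg_lt (h.sr_lt hi)), mul_assoc]

theorem nG_one_val (h : Ok D C) {i : ℕ} (hi : i < D.rank) :
    ((h.nG (D.simple i) (1 : F) : GL D.Idx F) : Matrix D.Idx D.Idx F) = nc F D C i := by
  rw [h.nG_val_simple hi one_ne_zero]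
  simp [dMat]

theorem nG_negOne_val (h : Ok D C) {i : ℕ} (hi : i < D.rank) :
    ((h.nG (D.simple i) (-1 : F) : GL D.Idx F) : Matrix D.Idx D.Idx F) = nr F D C i := by
  rw [← h.nG_inv, Matrix.coe_units_inv, h.nG_one_val hi]
  exact Matrix.inv_eq_right_inv (nc_mul_nr h hi)

theorem hG_val_simple (h : Ok D C) {i : ℕ} (hi : i < D.rank) {t : F} (ht : t ≠ 0) :
    ((h.hG (D.simple i) t : GL D.Idx F) : Matrix D.Idx D.Idx F) = dMat D i t := by
  rw [hG, Units.val_mul, h.nG_val_simple hi ht, h.nG_negOne_val hi, mul_assoc, nc_mul_nr h hi, mul_one]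

theorem nG_eq_hG_mul (h : Ok D C) {i : ℕ} (hi : i < D.rank) {t : F} (ht : t ≠ 0) :
    h.nG (D.simple i) t = h.hG (D.simple i) t * h.nG (D.simple i) 1 := by
  apply Units.ext
  rw [Units.val_mul, h.nG_val_simple hi ht, h.hG_val_simple hi ht, h.nG_one_val hi]

theorem nG_mul_xG (h : Ok D C) {i s : ℕ} (hi : i < D.rank) (hs : s < D.nroots) (u : F) :
    h.nG (D.simple i) 1 * h.xG s u =
      h.xG (C.w i s) ((C.eta i s : F) * u) * h.nG (D.simple i) 1 := by
  apply Units.ext
  rw [Units.val_mul, Units.val_mul, val_xG, val_xG, h.nG_one_val hi, h.x_eq hs,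
    h.x_eq (h.w_lt hi hs)]
  exact h.nc_mul_x hi hs u

theorem conj_nG_xG (h : Ok D C) {i s : ℕ} (hi : i < D.rank) (hs : s < D.nroots) (u : F) :
    h.nG (D.simple i) 1 * h.xG s u * (h.nG (D.simple i) 1)⁻¹ =
      h.xG (C.w i s) ((C.eta i s : F) * u) := by
  rw [h.nG_mul_xG hi hs, mul_inv_cancel_right]

theorem eta_sq (C : Cert) (i s : ℕ) : (C.eta i s : F) * (C.eta i s : F) = 1 := by
  rcases eta_cases C i s with e | e <;> simp [e]

theorem eta_ne_zero (C : Cert) (i s : ℕ) : (C.eta i s : F) ≠ 0 := by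
  rcases eta_cases C i s with e | e <;> simp [e]

theorem hMat_conj_x (h : Ok D C) {i s : ℕ} (hi : i < D.rank) (hs : s < D.nroots) {c : F} (hc : c ≠ 0)
    (t : F) : dMat D i c * D.x F s t = D.x F s (c ^ D.cartan i s * t) * dMat D i c := by
  have h0 : kall _ (krange 0 C.n) = true := h.wt i (h.l_eq.symm ▸ hi)
  have h1 := (kall_iff _ _).1 (kall_krange h0 s (h.n_eq.symm ▸ hs))
  rw [h.x_eq hs, h.x_eq hs, h.xR_eq hs, h.xR_eq hs, mul_add, add_mul, mul_one, one_mul, h.dMat_eq hi]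
  congr 1
  rw [← h.cart_eq hi hs, ev, ev, mul_sum_left', sum_mul_right']
  congr 1
  refine List.map_congr_left fun e he => ?_
  have hw := of_decide_eq_true (h1 e he)
  simp only [evT, h.row_i_zero hs e he, pow_zero, one_mul, mul_smul_comm, smul_mul_assoc,
    diag_mul_unit (fun a => c ^ C.wt i a), unit_mul_diag (fun a => c ^ C.wt i a), smul_smul]
  congr 1
  rw [show C.wt i e.r = (e.j : ℤ) * C.cart i s + C.wt i e.c by omega, zpow_add₀ hc,
    mul_comm (e.j : ℤ), zpow_mul, zpow_natCast, mul_pow]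
  ring

theorem hG_mul_xG_simple (h : Ok D C) {i s : ℕ} (hi : i < D.rank) (hs : s < D.nroots) {c : F}
    (hc : c ≠ 0) (t : F) :
    h.hG (D.simple i) c * h.xG s t = h.xG s (c ^ D.cartan i s * t) * h.hG (D.simple i) c := by
  apply Units.ext
  rw [Units.val_mul, Units.val_mul, val_xG, val_xG, h.hG_val_simple hi hc]
  exact h.hMat_conj_x hi hs hc t

/-- The exponent function of a diagonal one-parameter subgroup transported by `n_{p_i}`. -/
noncomputable def wd (C : Cert) (D : ChevalleyDatum) (i : ℕ) (d : ℕ → ℤ) (s : ℕ) : ℤ := d (C.w i s)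

theorem conj_diag (h : Ok D C) {i : ℕ} (hi : i < D.rank) (f : ℕ → F) :
    nc F D C i * Matrix.diagonal (Sum.elim (fun _ => (1 : F)) fun s : Fin D.nroots => f s) * nr F D C i =
      Matrix.diagonal (Sum.elim (fun _ => (1 : F)) fun s : Fin D.nroots => f (C.w i s)) := by
  let g : ℕ → F := fun a => if a < D.rank then 1 else f (a - D.rank)
  let g' : ℕ → F := fun a => if a < D.rank then 1 else f (C.w i (a - D.rank))
  have hg : ∀ q : ℕ → F, (Matrix.diagonal fun x : D.Idx =>
      (fun a => if a < D.rank then (1 : F) else q (a - D.rank)) (enc D.rank D.nroots x)) =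
      Matrix.diagonal (Sum.elim (fun _ => (1 : F)) fun s : Fin D.nroots => q s) := by
    intro q
    congr 1
    funext x
    rcases x with a | s <;> simp [enc]
  suffices hs : nc F D C i * Matrix.diagonal (fun x : D.Idx => g (enc D.rank D.nroots x)) =
      Matrix.diagonal (fun x : D.Idx => g' (enc D.rank D.nroots x)) * nc F D C i by
    rw [← hg f, hs, mul_assoc, nc_mul_nr h hi, mul_one]
    exact hg (fun s => f (C.w i s))
  rw [nc, Cert.colsL, kflat_eq, ev_flatMap, sum_mul_right', mul_sum_left']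
  congr 1
  refine List.map_congr_left fun b hb => ?_
  rw [kmap_eq, ev, List.map_map, sum_mul_right', mul_sum_left']
  congr 1
  refine List.map_congr_left fun x hx => ?_
  simp only [Function.comp_apply, evT, smul_mul_assoc, mul_smul_comm, diag_mul_unit g', unit_mul_diag g]
  congr 2
  rw [krange_eq, List.mem_range'_1] at hb
  simp only [Nat.add_eq, h.l_eq, h.n_eq] at hb
  unfold Cert.nCol at hx
  cases hbl : Nat.blt b C.l
  · rw [hbl] at hx
    rw [h.l_eq, blt_false] at hbl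
    simp only [List.mem_singleton] at hx
    subst hx
    have hs : b - D.rank < D.nroots := by omega
    simp only [g, g', Nat.add_eq, Nat.sub_eq, h.l_eq, if_neg (show ¬ b < D.rank by omega),
      if_neg (show ¬ D.rank + C.w i (b - D.rank) < D.rank by omega), Nat.add_sub_cancel_left,
      (h.refl_spec hi hs).1]
  · rw [hbl] at hx
    simp only [Nat.blt, h.l_eq, Nat.ble_eq] at hbl
    simp only [kfilter_eq, kmap_eq, krange_eq, List.mem_filter, List.mem_map, List.mem_range'_1,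
      h.l_eq] at hx
    obtain ⟨⟨a, ha, rfl⟩, -⟩ := hx
    simp [g, g', show b < D.rank by omega, show a < D.rank by omega]

theorem conj_nG_nG (h : Ok D C) {i r : ℕ} (hi : i < D.rank) (hr : r < D.nroots) (u : F) :
    h.nG (D.simple i) 1 * h.nG r u * (h.nG (D.simple i) 1)⁻¹ =
      h.nG (C.w i r) ((C.eta i r : F) * u) := by
  have hneg : C.w i (D.neg r) = D.neg (C.w i r) := by
    rw [← h.neg_eq hr, (h.refl_spec hi hr).2.2.1, h.neg_eq (h.w_lt hi hr)]
  have hηinv : (C.eta i r : F)⁻¹ = C.eta i r := inv_eq_of_mul_eq_one_right (eta_sq C i r)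
  have hp := h.conj_nG_xG (F := F) hi hr u
  have hm := h.conj_nG_xG (F := F) hi (h.neg_eq hr ▸ h.neg_lt hr : D.neg r < D.nroots) (-u⁻¹)
  rw [hneg, show C.eta i (D.neg r) = C.eta i r by
    rw [← h.neg_eq hr]; exact (h.refl_spec hi hr).2.2.2.2.2.2.1] at hm
  have e : ∀ (s : ℕ) (v : F), h.nG s v = h.xG s v * h.xG (D.neg s) (-v⁻¹) * h.xG s v := fun _ _ => rfl
  rw [e r u, e (C.w i r), ← conj_mul, ← conj_mul, hp, hm, mul_inv, hηinv, mul_neg]

/-- For every root, `h_r` is a one-parameter diagonal subgroup. -/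
theorem exists_hG_diag (h : Ok D C) {r : ℕ} (hr : r < D.nroots) :
    ∃ d : ℕ → ℤ, ∀ t : F, t ≠ 0 → ((h.hG r t : GL D.Idx F) : Matrix D.Idx D.Idx F) =
      Matrix.diagonal (Sum.elim (fun _ => (1 : F)) fun s : Fin D.nroots => t ^ d s) := by
  -- transport along `n_{p_i}`
  have tr : ∀ {i r : ℕ}, i < D.rank → r < D.nroots →
      (∃ d : ℕ → ℤ, ∀ t : F, t ≠ 0 → ((h.hG r t : GL D.Idx F) : Matrix D.Idx D.Idx F) =
        Matrix.diagonal (Sum.elim (fun _ => (1 : F)) fun s : Fin D.nroots => t ^ d s)) →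
      ∃ d : ℕ → ℤ, ∀ t : F, t ≠ 0 → ((h.hG (C.w i r) t : GL D.Idx F) : Matrix D.Idx D.Idx F) =
        Matrix.diagonal (Sum.elim (fun _ => (1 : F)) fun s : Fin D.nroots => t ^ d s) := by
    rintro i r hi hr ⟨d, hd⟩
    refine ⟨fun s => d (C.w i s), fun t ht => ?_⟩
    set η : F := (C.eta i r : F) with hη
    have hcn : ∀ u : F, u ≠ 0 → h.nG (D.simple i) 1 * h.nG r u * (h.nG (D.simple i) 1)⁻¹ =
        h.nG (C.w i r) (η * u) := by
      intro u _; exact h.conj_nG_nG hi hr u
    have hH : ∀ u : F, u ≠ 0 → ((h.nG (C.w i r) (η * u) * h.nG (C.w i r) (η * -1) : GL D.Idx F) :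
        Matrix D.Idx D.Idx F) =
        Matrix.diagonal (Sum.elim (fun _ => (1 : F)) fun s : Fin D.nroots => u ^ d (C.w i s)) := by
      intro u hu
      rw [← hcn u hu, ← hcn (-1) (by simp), conj_mul, ← hG, Units.val_mul, Units.val_mul,
        Matrix.coe_units_inv, h.nG_one_val hi, hd u hu, Matrix.inv_eq_right_inv (nc_mul_nr h hi),
        h.conj_diag hi fun s => u ^ d s]
    rcases eta_cases C i r with he | he
    · have := hH t ht
      simpa [hη, he, hG] using this
    · have h1 := hH (-t) (by simpa using ht)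
      have h2 := hH (-1) (by simp)
      have e : h.hG (C.w i r) t = (h.nG (C.w i r) (η * -t) * h.nG (C.w i r) (η * -1)) *
          (h.nG (C.w i r) (η * -1) * h.nG (C.w i r) (η * -1))⁻¹ := by
        have e1 : η * -t = t := by simp [hη, he]
        have e2 : η * -1 = 1 := by simp [hη, he]
        rw [e1, e2, hG, mul_inv_rev, h.nG_inv, mul_assoc, ← mul_assoc (h.nG (C.w i r) 1),
          h.nG_mul_neg, one_mul]
      have hinv : ((h.nG (C.w i r) (η * -1) * h.nG (C.w i r) (η * -1))⁻¹ : GL D.Idx F).val =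
          Matrix.diagonal (Sum.elim (fun _ => (1 : F)) fun s : Fin D.nroots => (-1 : F) ^ d (C.w i s)) := by
        rw [Matrix.coe_units_inv, h2]
        apply Matrix.inv_eq_right_inv
        rw [Matrix.diagonal_mul_diagonal, ← Matrix.diagonal_one]
        congr 1
        funext x
        rcases x with a | s <;> simp [← mul_zpow]
      rw [e, Units.val_mul, h1, hinv, Matrix.diagonal_mul_diagonal]
      congr 1
      funext x
      rcases x with a | s
      · simp
      · simp only [Sum.elim_inr, ← mul_zpow]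
        simp
  have base : ∀ i < D.rank, ∃ d : ℕ → ℤ, ∀ t : F, t ≠ 0 →
      ((h.hG (C.sr i) t : GL D.Idx F) : Matrix D.Idx D.Idx F) =
      Matrix.diagonal (Sum.elim (fun _ => (1 : F)) fun s : Fin D.nroots => t ^ d s) := by
    intro i hi
    refine ⟨fun s => D.cartan i s, fun t ht => ?_⟩
    rw [h.sr_eq hi, h.hG_val_simple hi ht, dMat]
    congr 1
    funext x
    rcases x with a | s <;> simp [cwt]
  revert hr
  suffices H : ∀ r < D.nroots, ∃ d : ℕ → ℤ, ∀ t : F, t ≠ 0 →
      ((h.hG r t : GL D.Idx F) : Matrix D.Idx D.Idx F) =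
      Matrix.diagonal (Sum.elim (fun _ => (1 : F)) fun s : Fin D.nroots => t ^ d s) from H r
  refine h.root_induction (fun i hi => ⟨base i hi, ?_⟩) (fun i s hi hs ih => ?_)
  · have := tr hi (h.sr_lt hi) (base i hi)
    rwa [(h.refl_simple hi).1] at this
  · have := tr hi (h.w_lt hi hs) ih
    rwa [(h.refl_spec hi hs).1] at this

theorem hG_mul (h : Ok D C) {r : ℕ} (hr : r < D.nroots) {t u : F} (ht : t ≠ 0) (hu : u ≠ 0) :
    h.hG r t * h.hG r u = h.hG r (t * u) := by
  obtain ⟨d, hd⟩ := h.exists_hG_diag (F := F) hr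
  apply Units.ext
  rw [Units.val_mul, hd t ht, hd u hu, hd _ (mul_ne_zero ht hu), Matrix.diagonal_mul_diagonal]
  congr 1
  funext x
  rcases x with a | s <;> simp [mul_zpow]

theorem hG_inv (h : Ok D C) {r : ℕ} (hr : r < D.nroots) {t : F} (ht : t ≠ 0) :
    (h.hG r t)⁻¹ = h.hG r t⁻¹ := by
  refine inv_eq_of_mul_eq_one_right ?_
  rw [h.hG_mul hr ht (inv_ne_zero ht), mul_inv_cancel₀ ht, hG, h.nG_mul_neg]

theorem conj_nG_hG (h : Ok D C) {i r : ℕ} (hi : i < D.rank) (hr : r < D.nroots) {t : F} (ht : t ≠ 0) :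
    h.nG (D.simple i) 1 * h.hG r t * (h.nG (D.simple i) 1)⁻¹ = h.hG (C.w i r) t := by
  set η : F := (C.eta i r : F) with hη
  have hcn : ∀ u : F, h.nG (D.simple i) 1 * h.nG r u * (h.nG (D.simple i) 1)⁻¹ =
      h.nG (C.w i r) (η * u) := by
    intro u; exact h.conj_nG_nG hi hr u
  rw [hG, ← conj_mul, hcn, hcn]
  rcases eta_cases C i r with he | he
  · simp [hη, he, hG]
  · have hw := h.w_lt hi hr
    have e1 : h.nG (C.w i r) (η * t) = h.hG (C.w i r) (-t) * h.nG (C.w i r) 1 := by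
      simp [hη, he, hG, mul_assoc, ← h.nG_inv]
    have e2 : h.nG (C.w i r) 1 * h.nG (C.w i r) (η * -1) = (h.hG (C.w i r) (-1))⁻¹ := by
      simp [hη, he, hG, h.nG_inv]
    rw [e1, mul_assoc, e2, h.hG_inv hw (by simp), h.hG_mul hw (by simpa using ht) (by simp)]
    congr 1
    simp

end Ok

end Cfsg.Lib.Chev
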