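import Cfsg.Agent.Chev.RadCent
import Cfsg.Agent.Chev.BorelTits

/-! Proper parabolic subgroups have characteristic `p`. -/

set_option autoImplicit false

open Cfsg.Lie

namespace Cfsg.Lib.Chev

variable {D : ChevalleyDatum} {F : Type*} [Field F]

theorem isPGroup_posUnipotent [Fintype F] (p : ℕ) [Fact p.Prime] [CharP F p] {C : Cert} (S : Struct D C) :
    IsPGroup p ↥(D.posUnipotent F) := by
  obtain ⟨k, -, hk⟩ := FiniteField.card F p
  exact IsPGroup.of_card (n := k.val * (D.nroots / 2)) (by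
    rw [S.card_posUnipotent, hk, ← pow_mul])

theorem charP_parabolic [Fintype F] (p : ℕ) [Fact p.Prime] [CharP F p]
    (hD : D ∈ [chevG2, chevB2, chevD4, chevF4, chevE6, chevE7, chevE8]) {J : Set ℕ}
    (hJ : ∃ i, i < D.rank ∧ i ∉ J) : Components.CharPGroup p ↥(D.parabolicSubgroup F J) := by
  obtain ⟨C, T, S, hN, hT, hDesc, hl, hsp⟩ := span_of_mem hD
  obtain ⟨hPn, -, -⟩ := S.levi (F := F) hT hDesc J
  set P := D.parabolicSubgroup F J with hP
  have hRU : D.unipotentRadical F J ≤ D.posUnipotent F := by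
    refine Subgroup.closure_mono ?_
    rintro g ⟨r, t, hr, -, hg⟩
    exact ⟨r, t, hr, hg⟩
  have hRP : D.unipotentRadical F J ≤ P := fun g hg => Subgroup.mem_sup_left (S.B_le_of (hRU hg))
  set Q := (D.unipotentRadical F J).subgroupOf P
  haveI : Q.Normal := ⟨fun v hv g => by
    simp only [Q, Subgroup.mem_subgroupOf, Subgroup.coe_mul, Subgroup.coe_inv] at hv ⊢
    exact (Subgroup.mem_normalizer_iff.1 (hPn g.2) _).1 hv⟩
  have hpU := isPGroup_posUnipotent (F := F) p S
  have hQle : Q ≤ Cfsg.pCore p ↥P :=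
    Components.le_pCore ((hpU.to_le hRU).comap_subtype)
  have hcle : Subgroup.centralizer (Cfsg.pCore p ↥P : Set ↥P) ≤ (D.posUnipotent F).subgroupOf P := by
    intro x hx
    refine Subgroup.mem_subgroupOf.2 (cent_radical_le S hN hT hDesc hl hsp hJ x.2 fun v hv => ?_)
    have := Subgroup.mem_centralizer_iff.1 hx ⟨v, hRP hv⟩ (hQle (Subgroup.mem_subgroupOf.2 hv))
    exact (congrArg Subtype.val this).symm
  haveI : (Subgroup.centralizer (Cfsg.pCore p ↥P : Set ↥P)).Normal := inferInstance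
  exact Components.le_pCore (IsPGroup.to_le hpU.comap_subtype hcle)

end Cfsg.Lib.Chev
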