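import Cfsg.Agent.Chev.SepCert
import Cfsg.Agent.Chev.ParabCharP

/-! Weakly closed subgroups of `U` are unipotent radicals. -/

set_option autoImplicit false

open Cfsg.Lie

namespace Cfsg.Lib.Chev

variable {D : ChevalleyDatum} {C : Cert} {T : List (List ℤ)} {F : Type*} [Field F]

namespace Struct

theorem conj_pw (S : Struct D C) (c : Fin D.rank → Fˣ) {k : ℕ} (t : ℕ → F) :
    Ok.tG D F c * S.pw k t * (Ok.tG D F c)⁻¹ =
      S.pw k (fun r => ((∏ i, c i ^ D.cartan i r : Fˣ) : F) * t r) := by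
  rw [← MulAut.conj_apply, Struct.pw, map_list_prod, List.map_map, Struct.pw]
  refine congrArg List.prod (List.map_congr_left fun r hr => ?_)
  rw [List.mem_range'_1] at hr
  exact S.tG_conj_xG (by omega) c (t r)

theorem pw_high (S : Struct D C) : ∀ (d k : ℕ), d + k = D.nroots → D.nroots / 2 ≤ k → ∀ (t : ℕ → F) (M : ℕ),
    k ≤ M → ∀ z ∈ S.Ugen F M, ∃ t' : ℕ → F, S.pw k t * z = S.pw k t' ∧ ∀ r, k ≤ r → r < M → t' r = t r := by
  intro d
  induction d with
  | zero =>
    intro k hk _ t M hM z hz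
    refine ⟨t, ?_, fun _ _ _ => rfl⟩
    rw [S.Ugen_top (by omega), Subgroup.mem_bot] at hz
    rw [hz, mul_one]
  | succ d ih =>
    intro k hk hkp t M hM z hz
    rcases eq_or_lt_of_le hM with rfl | hlt
    · obtain ⟨t', e⟩ := S.exists_pw (d + 1) k hk hkp _ (mul_mem (S.pw_mem k t) hz)
      exact ⟨t', e, fun r h1 h2 => absurd h2 (by omega)⟩
    · obtain ⟨t', e, hag⟩ := ih (k + 1) (by omega) (by omega) t M (by omega) z hz
      refine ⟨Function.update t' k (t k), ?_, fun r h1 h2 => ?_⟩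
      · rw [S.pw_succ (show k < D.nroots by omega) t, mul_assoc, e,
          S.pw_succ (show k < D.nroots by omega) (Function.update t' k (t k)), Function.update_self]
        congr 1
        exact S.pw_congr fun r hr _ => (Function.update_of_ne (by omega) _ _).symm
      · rcases eq_or_lt_of_le h1 with rfl | h1'
        · rw [Function.update_self]
        · rw [Function.update_of_ne (by omega), hag r h1' h2]

theorem pw_pad (S : Struct D C) : ∀ (d i k : ℕ), d + i = k → k ≤ D.nroots → ∀ t : ℕ → F,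
    (∀ r, i ≤ r → r < k → t r = 0) → S.pw i t = S.pw k t := by
  intro d
  induction d with
  | zero => intro i k hi _ t _; simp only [Nat.zero_add] at hi; rw [hi]
  | succ d ih =>
    intro i k hi hk t h0
    rw [S.pw_succ (show i < D.nroots by omega), h0 i le_rfl (by omega), S.xG_zero, one_mul]
    exact ih (i + 1) k (by omega) hk t fun r h1 h2 => h0 r (by omega) h2

/-- Coordinates of a commutator word with increasing indices. -/
theorem pw_word (S : Struct D C) (f : ℕ × ℤ × ℕ × ℕ → F) : ∀ (L : List (ℕ × ℤ × ℕ × ℕ)) (k : ℕ),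
    D.nroots / 2 ≤ k → incFrom L k = true → (∀ q ∈ L, q.1 < D.nroots) →
    ∃ t : ℕ → F, S.ok.wG (L.map fun q => (q.1, f q)) = S.pw k t ∧ ∀ q ∈ L, k ≤ q.1 ∧ t q.1 = f q := by
  intro L
  induction L with
  | nil =>
    intro k _ _ _
    refine ⟨0, ?_, by simp⟩
    rw [Ok.wG, List.map_nil, List.map_nil, List.prod_nil]
    symm
    exact List.prod_eq_one fun g hg => by
      obtain ⟨r, -, rfl⟩ := List.mem_map.1 hg
      exact S.xG_zero r
  | cons q L ih =>
    intro k hk hinc hlt
    have hinc' : (Nat.ble k q.1 && incFrom L (Nat.add q.1 1)) = true := hinc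
    rw [Bool.and_eq_true, Nat.ble_eq] at hinc'
    obtain ⟨hkq, hinc'⟩ := hinc'
    have hq := hlt q List.mem_cons_self
    obtain ⟨t, e, ht⟩ := ih (q.1 + 1) (by omega) hinc' fun x hx => hlt x (List.mem_cons_of_mem _ hx)
    let t' : ℕ → F := fun r => if r < q.1 then 0 else if r = q.1 then f q else t r
    refine ⟨t', ?_, ?_⟩
    · rw [S.pw_pad (q.1 - k) k q.1 (by omega) hq.le t' (fun r _ h2 => if_pos h2), S.pw_succ hq,
        show t' q.1 = f q by simp [t'],
        show S.pw (q.1 + 1) t' = S.pw (q.1 + 1) t from S.pw_congr fun r hr _ => by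
          simp only [t']; rw [if_neg (by omega), if_neg (by omega)],
        ← e]
      simp [Ok.wG]
    · intro x hx
      rcases List.mem_cons.1 hx with rfl | hx
      · exact ⟨hkq, by simp [t']⟩
      · obtain ⟨h1, h2⟩ := ht x hx
        refine ⟨by omega, ?_⟩
        simp only [t']
        rw [if_neg (by omega), if_neg (by omega), h2]

end Struct

/-- All of the root subgroup lies in `X`. -/
def RootIn (S : Struct D C) (X : Subgroup (GL D.Idx F)) (r : ℕ) : Prop := ∀ c : F, S.ok.xG r c ∈ X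

/-- An element with first coordinates at `k` and `m` forces the root subgroup of `m`. -/
def Forces (S : Struct D C) (X : Subgroup (GL D.Idx F)) (k m : ℕ) : Prop :=
  (∀ (l : ℕ) (t : ℕ → F), k < l → l < D.nroots → S.pw l t ∈ X →
      ∀ r, l ≤ r → r < D.nroots → t r ≠ 0 → RootIn S X r) →
    ∀ a : F, a ≠ 0 → ∀ t : ℕ → F, t m ≠ 0 → S.ok.xG k a * S.pw m t ∈ X → RootIn S X m

section Coordinates

variable (S : Struct D C) {X : Subgroup (GL D.Idx F)}
  (hH : ∀ d ∈ D.diagonalSubgroup F, ∀ x ∈ X, d * x * d⁻¹ ∈ X)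
  (hU : ∀ u ∈ D.posUnipotent F, ∀ x ∈ X, u * x * u⁻¹ ∈ X)

include hH in
/-- A separating torus element isolates the coordinate at `m`. -/
theorem forces_of_sep {k m : ℕ} (hk : D.nroots / 2 ≤ k) (hkm : k < m) (hm : m < D.nroots)
    (hs : ∃ c : Fin D.rank → Fˣ, (∏ i, c i ^ D.cartan i k : Fˣ) = 1 ∧ (∏ i, c i ^ D.cartan i m : Fˣ) ≠ 1) :
    Forces S X k m := by
  intro IH a _ t ht0 hx
  obtain ⟨c, hck, hcm⟩ := hs
  have h1 : S.ok.xG k a * S.pw m (fun r => ((∏ i, c i ^ D.cartan i r : Fˣ) : F) * t r) ∈ X := by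
    have h := hH _ (by rw [S.ok.diagonalSubgroup_eq]; exact ⟨c, rfl⟩) _ hx
    rw [← conj_mul, S.tG_conj_xG (by omega) c, S.conj_pw, hck, Units.val_one, one_mul] at h
    exact h
  have h2 : (S.pw m t)⁻¹ * S.pw m (fun r => ((∏ i, c i ^ D.cartan i r : Fˣ) : F) * t r) ∈ X := by
    have := mul_mem (inv_mem hx) h1
    convert this using 1
    group
  set χ : F := ((∏ i, c i ^ D.cartan i m : Fˣ) : F)
  rw [S.pw_succ hm t, S.pw_succ hm] at h2
  set d : F := χ * t m - t m
  have e : (S.ok.xG m (t m) * S.pw (m + 1) t)⁻¹ *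
      (S.ok.xG m (χ * t m) * S.pw (m + 1) (fun r => ((∏ i, c i ^ D.cartan i r : Fˣ) : F) * t r)) =
      S.ok.xG m d * (((S.ok.xG m d)⁻¹ * (S.pw (m + 1) t)⁻¹ * S.ok.xG m d) *
        S.pw (m + 1) (fun r => ((∏ i, c i ^ D.cartan i r : Fˣ) : F) * t r)) := by
    have hadd : S.ok.xG m (χ * t m) = S.ok.xG m (t m) * S.ok.xG m d := by
      rw [S.ok.xG_mul]; congr 1; simp [d]
    rw [hadd]; group
  rw [e] at h2
  have hz : ((S.ok.xG m d)⁻¹ * (S.pw (m + 1) t)⁻¹ * S.ok.xG m d) *
      S.pw (m + 1) (fun r => ((∏ i, c i ^ D.cartan i r : Fˣ) : F) * t r) ∈ S.Ugen F (m + 1) := by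
    refine mul_mem ?_ (S.pw_mem _ _)
    have := S.conj_Ugen hm (by omega) (show D.nroots / 2 ≤ m + 1 by omega) (-d) (inv_mem (S.pw_mem (m + 1) t))
    rwa [← S.ok.xG_inv, inv_inv] at this
  obtain ⟨t', e'⟩ := S.exists_pw (D.nroots - (m + 1)) (m + 1) (by omega) (by omega) _ hz
  rw [e'] at h2
  let t'' : ℕ → F := Function.update t' m d
  have h3 : S.pw m t'' ∈ X := by
    rw [S.pw_succ hm]
    simp only [t'', Function.update_self]
    rwa [show S.pw (m + 1) (Function.update t' m d) = S.pw (m + 1) t' from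
      S.pw_congr fun r hr _ => Function.update_of_ne (by omega) _ _]
  refine IH m t'' hkm hm h3 m le_rfl hm ?_
  simp only [t'', Function.update_self, d]
  rw [← sub_one_mul]
  exact mul_ne_zero (sub_ne_zero.2 fun h => hcm (Units.ext h)) ht0

include hH in
/-- A nontrivial root element in `X` brings the whole root subgroup. -/
theorem rootIn_of_ne_zero [Finite F] {k : ℕ} (hk : k < D.nroots)
    (hsq : ∃ i : Fin D.rank, ∃ e : ℤ, D.cartan i k * e = 2) {a : F} (ha : a ≠ 0) (hx : S.ok.xG k a ∈ X) :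
    RootIn S X k := by
  obtain ⟨i, e, hie⟩ := hsq
  have hmul : ∀ b : Fˣ, S.ok.xG k ((b : F) ^ 2 * a) ∈ X := by
    intro b
    have h := hH _ (by rw [S.ok.diagonalSubgroup_eq]; exact ⟨Pi.mulSingle i (b ^ e), rfl⟩) _ hx
    rwa [S.tG_conj_xG hk, Fintype.prod_eq_single i (fun j hj => by rw [Pi.mulSingle_eq_of_ne hj, one_zpow]),
      Pi.mulSingle_eq_same, ← zpow_mul, mul_comm e, hie, show ((2 : ℤ)) = ((2 : ℕ) : ℤ) from rfl,
      zpow_natCast, Units.val_pow_eq_pow_val] at h
  have hall : ∀ b : F, S.ok.xG k (b ^ 2 * a) ∈ X := fun b => by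
    rcases eq_or_ne b 0 with rfl | hb
    · rw [zero_pow two_ne_zero, zero_mul, S.xG_zero]; exact one_mem _
    · exact hmul (Units.mk0 b hb)
  intro b
  by_cases h2 : (2 : F) = 0
  · haveI : CharP F 2 := (CharP.charP_iff_prime_eq_zero Nat.prime_two).2 (by exact_mod_cast h2)
    haveI := Fintype.ofFinite F
    obtain ⟨r, hr⟩ := FiniteField.isSquare_of_char_two
      ((ringChar.eq_iff).2 (inferInstance : CharP F 2)) (b / a)
    have := hall r
    rwa [pow_two, ← hr, div_mul_cancel₀ _ ha] at this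
  · have h1 := mul_mem (hall ((b / a + 1) / 2)) (inv_mem (hall ((b / a - 1) / 2)))
    rw [S.ok.xG_inv, S.ok.xG_mul] at h1
    convert h1 using 2
    field_simp
    ring

include hH hU in
/-- Every root with a nonzero coordinate in an element of `X` has its root subgroup in `X`. -/
theorem rootIn_of_coord [Finite F]
    (hsq : ∀ k, D.nroots / 2 ≤ k → k < D.nroots → ∃ i : Fin D.rank, ∃ e : ℤ, D.cartan i k * e = 2)
    (hF : ∀ k m, D.nroots / 2 ≤ k → k < m → m < D.nroots → Forces S X k m) :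
    ∀ (l : ℕ) (t : ℕ → F), D.nroots / 2 ≤ l → l < D.nroots → S.pw l t ∈ X →
      ∀ r, l ≤ r → r < D.nroots → t r ≠ 0 → RootIn S X r := by
  suffices H : ∀ d l, d + l = D.nroots → D.nroots / 2 ≤ l → ∀ t : ℕ → F, S.pw l t ∈ X →
      ∀ r, l ≤ r → r < D.nroots → t r ≠ 0 → RootIn S X r from
    fun l t hl hln => H (D.nroots - l) l (by omega) hl t
  intro d
  induction d using Nat.strong_induction_on with
  | _ d ih =>
    intro l hdl hl t hx r hlr hr htr
    have hln : l < D.nroots := by omega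
    rw [S.pw_succ hln] at hx
    by_cases ha : t l = 0
    · rw [ha, S.xG_zero, one_mul] at hx
      rcases eq_or_lt_of_le hlr with rfl | hlt
      · exact absurd ha htr
      · exact ih (D.nroots - (l + 1)) (by omega) (l + 1) (by omega) (by omega) t hx r hlt hr htr
    have IH : ∀ (j : ℕ) (u : ℕ → F), l < j → j < D.nroots → S.pw j u ∈ X →
        ∀ r, j ≤ r → r < D.nroots → u r ≠ 0 → RootIn S X r := fun j u h1 _ =>
      ih (D.nroots - j) (by omega) j (by omega) (by omega) u
    have clean : ∀ e m, e + m = D.nroots → l < m → ∀ u : ℕ → F, S.ok.xG l (t l) * S.pw m u ∈ X →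
        S.ok.xG l (t l) ∈ X := by
      intro e
      induction e with
      | zero => intro m hm _ u h; rwa [S.pw_top (by omega), mul_one] at h
      | succ e ihe =>
        intro m hm hlm u h
        have hmn : m < D.nroots := by omega
        rw [S.pw_succ hmn] at h
        refine ihe (m + 1) (by omega) (by omega) u ?_
        by_cases hu : u m = 0
        · rwa [hu, S.xG_zero, one_mul] at h
        · have hm' : RootIn S X m := hF l m hl hlm hmn IH (t l) ha u hu (by rwa [S.pw_succ hmn])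
          have h1 := mul_mem (hU _ (S.xG_mem_U hl hln (t l)) _ (inv_mem (hm' (u m)))) h
          convert h1 using 1
          group
    have hl' : RootIn S X l := rootIn_of_ne_zero S hH hln (hsq l hl hln) ha
      (clean (D.nroots - (l + 1)) (l + 1) (by omega) (by omega) t hx)
    rcases eq_or_lt_of_le hlr with rfl | hlt
    · exact hl'
    · refine ih (D.nroots - (l + 1)) (by omega) (l + 1) (by omega) (by omega) t ?_ r hlt hr htr
      have := mul_mem (inv_mem (hl' (t l))) hx
      rwa [inv_mul_cancel_left] at this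

include hU in
/-- The commutator of an element of `X` with a root element. -/
theorem comm_mem {r s : ℕ} (hr : r < D.nroots) (hrp : D.nroots / 2 ≤ r) (hs : s < D.nroots)
    (hne : s ≠ r) (hn : s ≠ D.neg r) (t u : F) {v : GL D.Idx F} (hx : S.ok.xG s u * v ∈ X) :
    v⁻¹ * S.ok.wG (D.commWord F r s (-t) u) * (S.ok.xG r t * v * (S.ok.xG r t)⁻¹) ∈ X := by
  have e := S.ok.commRel S.chain S.base hr hs hne hn (-t) u
  have e' : S.ok.xG r t * S.ok.xG s u * (S.ok.xG r t)⁻¹ =
      S.ok.xG s u * S.ok.wG (D.commWord F r s (-t) u) := by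
    rw [S.ok.xG_inv, mul_assoc, e, ← mul_assoc, ← mul_assoc, S.ok.xG_mul, add_neg_cancel, S.xG_zero, one_mul]
  have h := mul_mem (inv_mem hx) (hU _ (S.xG_mem_U hrp hr t) _ hx)
  rw [← conj_mul, e'] at h
  convert h using 1
  group

end Coordinates

end Cfsg.Lib.Chev

namespace Cfsg.Lib.Chev

variable {D : ChevalleyDatum} {C : Cert} {T : List (List ℤ)} {F : Type*} [Field F]

theorem prod_mul_single (c : Fˣ) (i : Fin D.rank) (r : ℕ) :
    (∏ l, (Pi.mulSingle i c : Fin D.rank → Fˣ) l ^ D.cartan l r) = c ^ D.cartan i r := by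
  rw [Fintype.prod_eq_single i (fun j hj => by rw [Pi.mulSingle_eq_of_ne hj, one_zpow]), Pi.mulSingle_eq_same]

/-- A torus element separating two roots. -/
theorem exists_sep [Fintype F] (S : Struct D C) {g0 i j k m : ℕ} (hi : i < D.rank) (hj : j < D.rank)
    (hk : k < D.nroots) (hm : m < D.nroots) (h1 : ¬ Fintype.card F - 1 ∣ 1) (h2 : ¬ Fintype.card F - 1 ∣ g0)
    (hu : unitOr g0 (redMinor C.cart k m i j) = true) :
    ∃ c : Fin D.rank → Fˣ, (∏ l, c l ^ D.cartan l k : Fˣ) = 1 ∧ (∏ l, c l ^ D.cartan l m : Fˣ) ≠ 1 := by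
  classical
  obtain ⟨x, hx⟩ := IsCyclic.exists_generator (α := Fˣ)
  have ho : orderOf x = Fintype.card F - 1 := by
    rw [orderOf_eq_card_of_forall_mem_zpowers hx, Nat.card_eq_fintype_card, Fintype.card_units]
  have hne : ∀ z : ℤ, (z.natAbs = 1 ∨ z.natAbs = g0) → x ^ z ≠ 1 := by
    intro z hz h
    have h' : Fintype.card F - 1 ∣ z.natAbs := by
      rw [← ho, ← Int.natCast_dvd]
      exact orderOf_dvd_iff_zpow_eq_one.2 h
    rcases hz with e | e <;> rw [e] at h'
    exacts [h1 h', h2 h']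
  simp only [unitOr, Bool.or_eq_true] at hu
  have hu' := hu.imp Nat.eq_of_beq_eq_true Nat.eq_of_beq_eq_true
  simp only [redMinor, S.ok.cart_eq hi hk, S.ok.cart_eq hj hk, S.ok.cart_eq hi hm, S.ok.cart_eq hj hm] at hu'
  set g : ℤ := (Int.gcd (D.cartan i k) (D.cartan j k) : ℤ)
  by_cases hg : g = 0
  · rw [decide_eq_true hg] at hu'
    have hik : D.cartan i k = 0 := (Int.gcd_eq_zero_iff.1 (by simpa [g] using hg)).1
    refine ⟨Pi.mulSingle ⟨i, hi⟩ x, ?_, ?_⟩
    · rw [prod_mul_single, hik, zpow_zero]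
    · rw [prod_mul_single]; exact hne _ hu'
  · rw [decide_eq_false hg] at hu'
    set p : ℤ := D.cartan j k / g
    set q : ℤ := D.cartan i k / g
    have hp : p * g = D.cartan j k := Int.ediv_mul_cancel (Int.gcd_dvd_right _ _)
    have hq : q * g = D.cartan i k := Int.ediv_mul_cancel (Int.gcd_dvd_left _ _)
    have hval : ∀ r : ℕ, (∏ l, (Pi.mulSingle (⟨i, hi⟩ : Fin D.rank) (x ^ p) *
        Pi.mulSingle (⟨j, hj⟩ : Fin D.rank) (x ^ (-q)) : Fin D.rank → Fˣ) l ^ D.cartan l r) =
          x ^ (p * D.cartan i r - q * D.cartan j r) := by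
      intro r
      simp only [Pi.mul_apply, mul_zpow, Finset.prod_mul_distrib, prod_mul_single, ← zpow_mul, ← zpow_add]
      congr 1
      ring
    refine ⟨Pi.mulSingle (⟨i, hi⟩ : Fin D.rank) (x ^ p) * Pi.mulSingle (⟨j, hj⟩ : Fin D.rank) (x ^ (-q)),
      ?_, ?_⟩
    · rw [hval k, show p * D.cartan i k - q * D.cartan j k = 0 by rw [← hp, ← hq]; ring, zpow_zero]
    · rw [hval m]; exact hne _ hu'

section Main

variable (S : Struct D C) {X : Subgroup (GL D.Idx F)}

/-- The general statement. -/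
theorem weakly_closed [Fintype F] (hN : okNeg D = true) (hT : okHt D T = true)
    (hl : Cfsg.Lib.Steinberg.okLin D C T = true) {g0 : ℕ} {exc : ℕ → ℕ → Bool}
    (hS : okSep D C g0 exc = true) (hR : okReach D C = true)
    (h1 : ¬ Fintype.card F - 1 ∣ 1) (h2 : ¬ Fintype.card F - 1 ∣ g0)
    (hexc : ∀ (Y : Subgroup (GL D.Idx F)), Y ≤ D.posUnipotent F →
      (∀ d ∈ D.diagonalSubgroup F, ∀ x ∈ Y, d * x * d⁻¹ ∈ Y) →
      (∀ u ∈ D.posUnipotent F, ∀ x ∈ Y, u * x * u⁻¹ ∈ Y) →
      (∀ k, D.nroots / 2 ≤ k → k < D.nroots → ∃ i : Fin D.rank, ∃ e : ℤ, D.cartan i k * e = 2) →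
      ∀ k m, D.nroots / 2 ≤ k → k < m → m < D.nroots → exc k m = true →
        (¬ ∃ c : Fin D.rank → Fˣ, (∏ l, c l ^ D.cartan l k : Fˣ) = 1 ∧ (∏ l, c l ^ D.cartan l m : Fˣ) ≠ 1) →
        Forces S Y k m)
    (hXU : X ≤ D.posUnipotent F)
    (hwc : ∀ g ∈ D.group F, X.map (MulAut.conj g).toMonoidHom ≤ D.posUnipotent F →
      X.map (MulAut.conj g).toMonoidHom = X) :
    ∃ J : Set ℕ, (∀ j ∈ J, j < D.rank) ∧ X = D.unipotentRadical F J := by
  classical
  have hhs := S.hsum
  have hB : ∀ b ∈ D.borelSubgroup F, ∀ x ∈ X, b * x * b⁻¹ ∈ X := by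
    intro b hb
    obtain ⟨v, hv, d, hd, rfl⟩ := S.borel_decomp hb
    intro x hx
    have hle : X.map (MulAut.conj (v * d)).toMonoidHom ≤ D.posUnipotent F := by
      rintro y ⟨z, hz, rfl⟩
      simp only [MulEquiv.toMonoidHom_eq_coe, MonoidHom.coe_coe, MulAut.conj_apply]
      have h1 := (Subgroup.mem_normalizer_iff.1 (S.diag_normalises_U hd) z).1 (hXU hz)
      rw [show v * d * z * (v * d)⁻¹ = v * (d * z * d⁻¹) * v⁻¹ by group]
      exact mul_mem (mul_mem hv h1) (inv_mem hv)
    have hge : v * d * x * (v * d)⁻¹ ∈ X.map (MulAut.conj (v * d)).toMonoidHom := ⟨x, hx, rfl⟩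
    rwa [hwc (v * d) (S.borel_le_group hb) hle] at hge
  have hH : ∀ d ∈ D.diagonalSubgroup F, ∀ x ∈ X, d * x * d⁻¹ ∈ X := fun d hd =>
    hB d (Subgroup.mem_sup_right hd)
  have hU : ∀ u ∈ D.posUnipotent F, ∀ x ∈ X, u * x * u⁻¹ ∈ X := fun u hu => hB u (S.B_le_of hu)
  simp only [okSep, kall_iff] at hS
  have hmem : ∀ {a n : ℕ}, a < n → a ∈ krange 0 n := fun h => by rw [krange_eq, List.mem_range'_1]; omega
  have hhalf : Nat.div D.nroots 2 = D.nroots / 2 := rfl
  have hsq : ∀ k, D.nroots / 2 ≤ k → k < D.nroots → ∃ i : Fin D.rank, ∃ e : ℤ, D.cartan i k * e = 2 := by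
    intro k hk hkn
    have h := hS k (hmem hkn)
    rw [show Nat.blt k (Nat.div D.nroots 2) = false from Bool.eq_false_iff.2
      (fun h => by rw [blt_true, hhalf] at h; omega), Bool.false_or, Bool.and_eq_true, Bool.not_eq_true',
      ← Bool.not_eq_true] at h
    simp only [kall_iff, not_forall] at h
    obtain ⟨⟨i, hi, hu⟩, -⟩ := h
    rw [krange_eq, List.mem_range'_1] at hi
    simp only [Bool.not_eq_true', Bool.not_eq_false, unitOr, Bool.or_eq_true] at hu
    have hi' : i < D.rank := by omega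
    rw [S.ok.cart_eq hi' hkn] at hu
    refine ⟨⟨i, hi'⟩, ?_⟩
    show ∃ e : ℤ, D.cartan i k * e = 2
    rcases hu.imp Nat.eq_of_beq_eq_true Nat.eq_of_beq_eq_true with h | h
    · rcases Int.natAbs_eq (D.cartan i k) with e | e <;> rw [h] at e <;> rw [e]
      exacts [⟨2, by norm_num⟩, ⟨-2, by norm_num⟩]
    · rcases Int.natAbs_eq (D.cartan i k) with e | e <;> rw [h] at e <;> rw [e]
      exacts [⟨1, by norm_num⟩, ⟨-1, by norm_num⟩]
  have hF : ∀ k m, D.nroots / 2 ≤ k → k < m → m < D.nroots → Forces S X k m := by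
    intro k m hk hkm hm
    by_cases hsep : ∃ c : Fin D.rank → Fˣ,
        (∏ l, c l ^ D.cartan l k : Fˣ) = 1 ∧ (∏ l, c l ^ D.cartan l m : Fˣ) ≠ 1
    · exact forces_of_sep S hH hk hkm hm hsep
    refine hexc X hXU hH hU hsq k m hk hkm hm ?_ hsep
    have h := hS k (hmem (show k < D.nroots by omega))
    rw [show Nat.blt k (Nat.div D.nroots 2) = false from Bool.eq_false_iff.2
      (fun h => by rw [blt_true, hhalf] at h; omega), Bool.false_or, Bool.and_eq_true] at h
    have h' := h.2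
    rw [kall_iff] at h'
    have h'' := h' m (hmem hm)
    rw [show Nat.ble m k = false from Bool.eq_false_iff.2 (fun h => by rw [Nat.ble_eq] at h; omega),
      Bool.false_or, Bool.or_eq_true] at h''
    rcases h'' with he | he
    · exact he
    · exfalso
      rw [Bool.not_eq_true', ← Bool.not_eq_true] at he
      simp only [kall_iff, not_forall] at he
      obtain ⟨i, hi, j, hj, hu⟩ := he
      rw [krange_eq, List.mem_range'_1] at hi hj
      simp only [Bool.not_eq_true', Bool.not_eq_false] at hu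
      exact hsep (exists_sep S (by omega) (by omega) (by omega) hm h1 h2 hu)
  have hcoord := rootIn_of_coord S hH hU hsq hF
  let J : Set ℕ := {j | ∃ h : j < D.rank,
    S.ok.nG (D.simple j) (1 : F) ∈ Subgroup.normalizer (X : Set (GL D.Idx F))}
  refine ⟨J, fun j hj => hj.1, le_antisymm ?_ ?_⟩
  · intro x hx
    obtain ⟨t, rfl⟩ := S.exists_pw (D.nroots - D.nroots / 2) (D.nroots / 2) (by omega) le_rfl x
      (by rw [← S.posUnipotent_eq]; exact hXU hx)
    refine list_prod_mem fun g hg => ?_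
    obtain ⟨r, hr, rfl⟩ := List.mem_map.1 hg
    rw [List.mem_range'_1] at hr
    have hrn : r < D.nroots := by omega
    by_cases htr : t r = 0
    · rw [htr, S.xG_zero]; exact one_mem _
    refine Subgroup.subset_closure ⟨r, t r, S.isPos_iff.2 ⟨hr.1, hrn⟩, fun hin => ?_, S.ok.val_xG _ _⟩
    have hrX := hcoord _ t le_rfl (by omega) hx r hr.1 hrn htr
    obtain ⟨L, hL, hneg⟩ := Cfsg.Lib.Steinberg.exists_neg_word S hT hl J
    have hnN : S.nL F L ∈ Subgroup.normalizer (X : Set (GL D.Idx F)) := by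
      refine list_prod_mem fun g hg => ?_
      obtain ⟨i, hi, rfl⟩ := List.mem_map.1 hg
      exact (hL i hi).2
    have h3 := (Subgroup.mem_normalizer_iff.1 hnN _).1 (hrX 1)
    obtain ⟨-, c, hc, e⟩ := S.act_nL (F := F) L ⟨r, hrn⟩
    have e1 := (e 1).1
    rw [e1] at h3
    have h4 : S.ok.xG (S.wpL L ⟨r, hrn⟩).val (c * 1) ∈ D.borelSubgroup F ⊓ D.negUnipotent F :=
      Subgroup.mem_inf.2 ⟨S.B_le_of (hXU h3), Subgroup.subset_closure
        ⟨_, _, S.isNeg_iff.2 (hneg ⟨r, hrn⟩ hr.1 hin), S.ok.val_xG _ _⟩⟩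
    rw [S.B_inf_V hN, Subgroup.mem_bot] at h4
    exact mul_ne_zero hc one_ne_zero (S.xG_eq_one (Fin.isLt _) h4)
  · refine (Subgroup.closure_le _).2 ?_
    rintro g ⟨q, t, hq, hqJ, hg⟩
    rw [S.ok.eq_xG hg]
    suffices H : ∀ q, D.nroots / 2 ≤ q → q < D.nroots → ¬ D.InRootSub J q → RootIn S X q from
      H q (S.isPos_iff.1 hq).1 hq.1 hqJ t
    clear hg hq hqJ t g q
    intro q
    induction q using Nat.strong_induction_on with
    | _ q ih =>
      intro hqp hqn hqJ
      simp only [okReach, kall_iff] at hR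
      have h := hR q (hmem hqn)
      rw [show Nat.blt q (Nat.div D.nroots 2) = false from Bool.eq_false_iff.2
        (fun h => by rw [blt_true, hhalf] at h; omega), Bool.false_or, Bool.not_eq_true', ← Bool.not_eq_true] at h
      simp only [kall_iff, not_forall] at h
      obtain ⟨j, hj, h⟩ := h
      rw [krange_eq, List.mem_range'_1] at hj
      have hj' : j < D.rank := by omega
      by_cases hsim : C.sr j = q
      · subst hsim
        have hjJ : ¬ S.ok.nG (D.simple j) (1 : F) ∈ Subgroup.normalizer (X : Set (GL D.Idx F)) := by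
          intro hn
          refine hqJ ((Struct.inRootSub_iff hT).2 ⟨hqn, fun i hi hiJ => ?_⟩)
          rw [S.ok.sr_eq hj', ht_simple hT hj' hi, if_neg (fun e : j = i => hiJ (e ▸ ⟨hj', hn⟩))]
        have hnle : ¬ X.map (MulAut.conj (S.ok.nG (D.simple j) (1 : F))).toMonoidHom ≤ D.posUnipotent F := by
          intro hle
          have heq := hwc _ (S.ok.nG_mem_group _ _) hle
          refine hjJ (Subgroup.mem_normalizer_iff.2 fun x => ⟨fun hx => ?_, fun hx => ?_⟩)
          · have h1 : S.ok.nG (D.simple j) (1 : F) * x * (S.ok.nG (D.simple j) (1 : F))⁻¹ ∈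
                X.map (MulAut.conj (S.ok.nG (D.simple j) (1 : F))).toMonoidHom := ⟨x, hx, rfl⟩
            rwa [heq] at h1
          · rw [← heq] at hx
            obtain ⟨y, hy, e⟩ := hx
            simp only [MulEquiv.toMonoidHom_eq_coe, MonoidHom.coe_coe, MulAut.conj_apply] at e
            rwa [← mul_left_cancel (mul_right_cancel e)]
        obtain ⟨y, ⟨x, hx, rfl⟩, hy⟩ := SetLike.not_le_iff_exists.1 hnle
        obtain ⟨t, rfl⟩ := S.exists_pw (D.nroots - D.nroots / 2) (D.nroots / 2) (by omega) le_rfl x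
          (by rw [← S.posUnipotent_eq]; exact hXU hx)
        refine hcoord _ t le_rfl (by omega) hx _ hqp hqn fun ht0 => hy ?_
        simp only [MulEquiv.toMonoidHom_eq_coe, MonoidHom.coe_coe, MulAut.conj_apply]
        refine S.nG_conj_Ui ⟨j, hj'⟩ (list_prod_mem fun g hg => ?_)
        obtain ⟨r, hr, rfl⟩ := List.mem_map.1 hg
        rw [List.mem_range'_1] at hr
        by_cases hrj : r = C.sr j
        · rw [hrj, ht0, S.xG_zero]; exact one_mem _
        · exact Subgroup.subset_closure ⟨r, t r, hr.1, by omega, hrj, rfl⟩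
      simp only [Bool.not_eq_true', Bool.not_eq_false, Bool.or_eq_true] at h
      obtain ⟨s, hsp, hsn, hit⟩ : ∃ s, D.nroots / 2 ≤ s ∧ s < D.nroots ∧ hitsUnit D (C.sr j) s q = true := by
        rcases h with (h | h) | h
        · exact absurd (Nat.eq_of_beq_eq_true h) hsim
        · exact ⟨_, S.pos_w hj' hqp hqn (Ne.symm hsim), S.ok.w_lt hj' hqn, h⟩
        · rw [← Bool.not_eq_true] at h
          simp only [kall_iff, not_forall] at h
          obtain ⟨i, hi, hu⟩ := h
          simp only [Bool.not_eq_true', Bool.not_eq_false] at hu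
          have hi' : i < D.rank := by
            rw [krange_eq, List.mem_range'_1] at hi
            cases hb : Nat.ble 50 D.nroots <;> rw [hb] at hi <;> simp at hi <;> omega
          exact ⟨_, S.sr_pos hi', S.ok.sr_lt hi', hu⟩
      simp only [hitsUnit, Bool.and_eq_true, Bool.not_eq_true'] at hit
      obtain ⟨⟨⟨⟨hrp, -⟩, hsne⟩, hinc⟩, hk⟩ := hit
      rw [← Bool.not_eq_true] at hk
      simp only [kall_iff, not_forall] at hk
      obtain ⟨e, he, hk⟩ := hk
      simp only [Bool.not_eq_true', Bool.not_eq_false, Bool.and_eq_true] at hk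
      obtain ⟨he1, he2⟩ := hk
      have he1' := Nat.eq_of_beq_eq_true he1
      have hrn := S.ok.sr_lt hj'
      have hrp' := S.sr_pos hj'
      have hne : s ≠ C.sr j := fun h => by rw [h, Nat.beq_refl] at hsne; exact Bool.noConfusion hsne
      have hneg : s ≠ D.neg (C.sr j) := by have := S.neg_lt_half hrn hrp'; omega
      obtain ⟨hgt1, hgt2, -⟩ := S.commTerms_gt hrn hsn hrp' hsp he
      obtain ⟨a, b, -, -, hab⟩ := ht_commTerms hT S.chain hrn hsn he
      have hor : ¬ D.InRootSub J (C.sr j) ∨ ¬ D.InRootSub J s := by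
        by_contra hcon
        push Not at hcon
        refine hqJ ((Struct.inRootSub_iff hT).2 ⟨hqn, fun i hi hiJ => ?_⟩)
        rw [← he1', hab i hi, ((Struct.inRootSub_iff hT).1 hcon.1).2 i hi hiJ,
          ((Struct.inRootSub_iff hT).1 hcon.2).2 i hi hiJ, mul_zero, mul_zero, add_zero]
      have ew : S.ok.wG (D.commWord F (C.sr j) s (-1) 1) =
          (S.ok.xG s 1)⁻¹ * (S.ok.xG (C.sr j) 1 * S.ok.xG s 1 * (S.ok.xG (C.sr j) 1)⁻¹) := by
        have e := S.ok.commRel S.chain S.base hrn hsn hne hneg (-1) (1 : F)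
        rw [S.ok.xG_inv (C.sr j), mul_assoc (S.ok.xG (C.sr j) 1), e, ← mul_assoc (S.ok.xG (C.sr j) 1),
          ← mul_assoc (S.ok.xG (C.sr j) 1), S.ok.xG_mul, add_neg_cancel, S.xG_zero, one_mul, inv_mul_cancel_left]
      have hwX : S.ok.wG (D.commWord F (C.sr j) s (-1) 1) ∈ X := by
        rw [ew]
        rcases hor with hr | hs
        · have hrX := ih (C.sr j) (by omega) hrp' hrn hr 1
          have h5 := mul_mem (hU _ (inv_mem (S.xG_mem_U hsp hsn 1)) _ hrX) (inv_mem hrX)
          convert h5 using 1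
          group
        · have hsX := ih s (by omega) hsp hsn hs 1
          exact mul_mem (inv_mem hsX) (hU _ (S.xG_mem_U hrp' hrn 1) _ hsX)
      obtain ⟨t, et, ht⟩ := S.pw_word
        (fun c : ℕ × ℤ × ℕ × ℕ => (c.2.1 : F) * (-(-1 : F)) ^ c.2.2.1 * (1 : F) ^ c.2.2.2)
        (D.commTerms (C.sr j) s) (D.nroots / 2) le_rfl hinc
        (fun c hc => (S.commTerms_gt hrn hsn hrp' hsp hc).2.2)
      have hcw : S.pw (D.nroots / 2) t ∈ X := et ▸ hwX
      refine hcoord _ t le_rfl (by omega) hcw q hqp hqn ?_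
      rw [← he1', (ht e he).2, neg_neg, one_pow, one_pow, mul_one, mul_one]
      rcases Int.natAbs_eq e.2.1 with h | h <;> rw [Nat.eq_of_beq_eq_true he2] at h <;> rw [h] <;> simp

end Main

end Cfsg.Lib.Chev
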