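import Cfsg.Agent.Chev.Bruhat
import Cfsg.Agent.Chev.SL2
import Cfsg.Agent.Chev.More
import Cfsg.Agent.Steinberg.Linear

/-!
# The split (B,N)-pair data of a Chevalley group inside the group itself

Root elements, torus, monomial elements with their root permutation, and the longest element.
-/

set_option autoImplicit false

open Cfsg.Lie

namespace Cfsg.Lib.Chev

variable {D : ChevalleyDatum} {C : Cert} {F : Type*} [Field F]

/-- The positive unipotent subgroup inside the group. -/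
noncomputable def UG (D : ChevalleyDatum) (F : Type*) [Field F] : Subgroup ↥(D.group F) :=
  (D.posUnipotent F).subgroupOf (D.group F)

theorem mem_UG {g : ↥(D.group F)} : g ∈ UG D F ↔ (g : GL D.Idx F) ∈ D.posUnipotent F := Iff.rfl

namespace SL2Rel

variable {G : Type*} [Group G] {x y : F → G}

theorem hx_neg_one (R : SL2Rel x y) (t : F) : hAbs x y (-1) * x t = x t * hAbs x y (-1) := by
  rw [R.conj _ _ (by simp)]
  norm_num

theorem inv_conj_x (R : SL2Rel x y) {d : F} (hd : d ≠ 0) :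
    (nAbs x y 1)⁻¹ * x d * nAbs x y 1 = x (-1 / d) * (hAbs x y (1 / d) * nAbs x y 1) * x (-1 / d) := by
  rw [R.flip, ← R.n_eq, nAbs, show -(1 / d)⁻¹ = -d by simp]
  rw [show x (-1 / d) * (x (1 / d) * y (-d) * x (1 / d)) * x (-1 / d) =
    (x (-1 / d) * x (1 / d)) * y (-d) * (x (1 / d) * x (-1 / d)) by group, R.addx, R.addx]
  rw [show -1 / d + 1 / d = (0 : F) by ring, show 1 / d + -1 / d = (0 : F) by ring, R.x_zero, one_mul, mul_one]

theorem n_x_n (R : SL2Rel x y) {b : F} (hb : b ≠ 0) :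
    nAbs x y 1 * x b * nAbs x y 1 = x (-1 / b) * (hAbs x y (-1 / b) * nAbs x y 1) * x (-1 / b) := by
  rw [show nAbs x y 1 * x b * nAbs x y 1 =
      nAbs x y 1 * nAbs x y 1 * ((nAbs x y 1)⁻¹ * x b * nAbs x y 1) by group, R.inv_conj_x hb, R.n_one_sq]
  rw [← mul_assoc, ← mul_assoc, R.hx_neg_one, mul_assoc (x _) (hAbs x y (-1)), ← mul_assoc (hAbs x y (-1)),
    R.mult _ _ (by simp) (one_div_ne_zero hb)]
  congr 3
  ring_nf

end SL2Rel

namespace Struct

variable (S : Struct D C)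
include S

/-- The torus inside the group. -/
noncomputable def tI (F : Type*) [Field F] : (Fin D.rank → Fˣ) →* ↥(D.group F) :=
  (Ok.tG D F).codRestrict (D.group F) fun c => S.diag_le_group (by rw [S.ok.diagonalSubgroup_eq]; exact ⟨c, rfl⟩)

theorem tI_val (c : Fin D.rank → Fˣ) : ((S.tI F c : ↥(D.group F)) : GL D.Idx F) = Ok.tG D F c := rfl

theorem tI_mem_diag (c : Fin D.rank → Fˣ) : ((S.tI F c : ↥(D.group F)) : GL D.Idx F) ∈ D.diagonalSubgroup F := by
  rw [S.ok.diagonalSubgroup_eq]; exact ⟨c, rfl⟩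

theorem exists_tI {g : ↥(D.group F)} (hg : (g : GL D.Idx F) ∈ D.diagonalSubgroup F) : ∃ c, g = S.tI F c := by
  rw [S.ok.diagonalSubgroup_eq] at hg
  obtain ⟨c, hc⟩ := hg
  exact ⟨c, Subtype.ext hc.symm⟩

theorem tI_normalises (c : Fin D.rank → Fˣ) (x : ↥(D.group F)) :
    x ∈ UG D F ↔ S.tI F c * x * (S.tI F c)⁻¹ ∈ UG D F := by
  simp only [mem_UG, Subgroup.coe_mul, Subgroup.coe_inv]
  exact Subgroup.mem_normalizer_iff.1 (S.diag_normalises_U (S.tI_mem_diag c)) _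

/-- The root element of a fundamental root. -/
noncomputable def xI (i : Fin D.rank) (t : F) : ↥(D.group F) :=
  ⟨S.ok.xG (D.simple i) t, S.ok.xG_mem_group _ _⟩

/-- The root element of a negative fundamental root. -/
noncomputable def yI (i : Fin D.rank) (t : F) : ↥(D.group F) :=
  ⟨S.ok.xG (D.neg (D.simple i)) t, S.ok.xG_mem_group _ _⟩

theorem coe_nAbs (i : Fin D.rank) (t : F) :
    ((nAbs (S.xI i) (S.yI i) t : ↥(D.group F)) : GL D.Idx F) =
      nAbs (fun t : F => S.ok.xG (D.simple i) t) (fun t : F => S.ok.xG (D.neg (D.simple i)) t) t := rfl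

theorem rel (i : Fin D.rank) : SL2Rel (S.xI (F := F) i) (S.yI i) := by
  have R := S.sl2Rel_simple (F := F) i
  exact ⟨fun t u => Subtype.ext (R.addx t u), fun t u => Subtype.ext (R.addy t u),
    fun a t ha => Subtype.ext (R.conj a t ha), fun a b ha hb => Subtype.ext (R.mult a b ha hb),
    fun s => Subtype.ext (R.flip s)⟩

theorem nAbs_one (i : Fin D.rank) : nAbs (S.xI (F := F) i) (S.yI i) 1 = S.gS F i := rfl

theorem hAbs_eq (i : Fin D.rank) (c : Fˣ) :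
    hAbs (S.xI (F := F) i) (S.yI i) (c : F) = S.tI F (Pi.mulSingle i c) :=
  Subtype.ext (S.ok.hG_simple_eq_tG i c)

theorem gS_sq (i : Fin D.rank) : S.gS F i * S.gS F i = S.tI F (Pi.mulSingle i (-1 : Fˣ)) := by
  rw [← S.nAbs_one, (S.rel i).n_one_sq, ← S.hAbs_eq]
  simp

theorem inv_conj_xI (i : Fin D.rank) (d : Fˣ) :
    (S.gS F i)⁻¹ * S.xI i (d : F) * S.gS F i =
      S.xI i (-1 / (d : F)) * (S.tI F (Pi.mulSingle i d⁻¹) * S.gS F i) * S.xI i (-1 / (d : F)) := by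
  rw [← S.nAbs_one, (S.rel i).inv_conj_x d.ne_zero, ← S.hAbs_eq]
  simp

theorem gS_xI_gS (i : Fin D.rank) (b : Fˣ) :
    S.gS F i * S.xI i (b : F) * S.gS F i =
      S.xI i (-1 / (b : F)) * (S.tI F (Pi.mulSingle i (-b⁻¹)) * S.gS F i) * S.xI i (-1 / (b : F)) := by
  rw [← S.nAbs_one, (S.rel i).n_x_n b.ne_zero, ← S.hAbs_eq]
  congr 3
  simp [neg_div]

theorem xI_add (i : Fin D.rank) (a b : F) : S.xI i a * S.xI i b = S.xI i (a + b) := (S.rel i).addx a b

theorem xI_zero (i : Fin D.rank) : S.xI i (0 : F) = 1 := (S.rel i).x_zero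

theorem xI_inv (i : Fin D.rank) (a : F) : (S.xI i a)⁻¹ = S.xI i (-a) :=
  inv_eq_of_mul_eq_one_right (by rw [S.xI_add, add_neg_cancel, S.xI_zero])

/-- The twist of the torus coordinates by a fundamental reflection. -/
noncomputable def conjT (i : Fin D.rank) (c : Fin D.rank → Fˣ) : Fin D.rank → Fˣ :=
  c * Pi.mulSingle i (∏ j, c j ^ (-D.cartan j (D.simple i)))

theorem gS_conj_tI (i : Fin D.rank) (c : Fin D.rank → Fˣ) :
    S.gS F i * S.tI F c * (S.gS F i)⁻¹ = S.tI F (conjT i c) :=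
  Subtype.ext (S.ok.conj_nG_tG i c)

theorem cartan_simple_self (i : Fin D.rank) : D.cartan i (D.simple i) = 2 := by
  have hsr := S.ok.sr_eq i.isLt
  have hs : D.simple i < D.nroots := hsr ▸ S.ok.sr_lt i.isLt
  rw [← S.ok.cart_eq i.isLt hs, ← hsr, (S.ok.refl_simple i.isLt).2.2.2]

theorem conjT_single (i : Fin D.rank) (c : Fˣ) :
    conjT i (Pi.mulSingle i c) = (Pi.mulSingle i c⁻¹ : Fin D.rank → Fˣ) := by
  rw [conjT, Fintype.prod_eq_single i (fun j hj => by simp [Pi.mulSingle_eq_of_ne hj]), Pi.mulSingle_eq_same,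
    S.cartan_simple_self, ← Pi.mulSingle_mul]
  congr 1
  group

theorem conjT_conjT (i : Fin D.rank) (c : Fin D.rank → Fˣ) : conjT i (conjT i c) = c := by
  have h1 : ∀ m : Fˣ, (∏ j, (Pi.mulSingle (M := fun _ => Fˣ) i m j) ^ (-D.cartan j (D.simple i))) = m⁻¹ * m⁻¹ := by
    intro m
    rw [Fintype.prod_eq_single i (fun j hj => by simp [Pi.mulSingle_eq_of_ne hj]), Pi.mulSingle_eq_same,
      S.cartan_simple_self]
    group
  set m := ∏ j, c j ^ (-D.cartan j (D.simple i)) with hm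
  have h2 : (∏ j, (c * Pi.mulSingle i m : Fin D.rank → Fˣ) j ^ (-D.cartan j (D.simple i))) = m⁻¹ := by
    simp only [Pi.mul_apply, mul_zpow, Finset.prod_mul_distrib, h1, ← hm]
    group
  show conjT i c * Pi.mulSingle i (∏ j, (conjT i c) j ^ (-D.cartan j (D.simple i))) = c
  rw [conjT, ← hm, h2, mul_assoc, ← Pi.mulSingle_mul, mul_inv_cancel, Pi.mulSingle_one, mul_one]

/-- `n` is monomial with root permutation `w`. -/
def Nd (n : ↥(D.group F)) (w : Equiv.Perm (Fin D.nroots)) : Prop :=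
  (n : GL D.Idx F) ∈ D.monomialSubgroup F ∧ Act S.ok (n : GL D.Idx F) w

theorem nd_one : S.Nd (1 : ↥(D.group F)) 1 := ⟨one_mem _, S.act_one⟩

theorem nd_mul {n m : ↥(D.group F)} {w v : Equiv.Perm (Fin D.nroots)} (h : S.Nd n w) (h' : S.Nd m v) :
    S.Nd (n * m) (w * v) := ⟨mul_mem h.1 h'.1, S.act_mul h.2 h'.2⟩

theorem nd_inv {n : ↥(D.group F)} {w : Equiv.Perm (Fin D.nroots)} (h : S.Nd n w) : S.Nd n⁻¹ w⁻¹ := by
  obtain ⟨L, hL, -⟩ := S.exists_act (inv_mem h.1)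
  have h1 := S.act_mul hL h.2
  rw [inv_mul_cancel] at h1
  have h2 := S.act_unique h1 S.act_one
  rw [← eq_inv_of_mul_eq_one_left h2]
  exact ⟨inv_mem h.1, hL⟩

theorem nd_tI (c : Fin D.rank → Fˣ) : S.Nd (S.tI F c) 1 :=
  ⟨(le_sup_left : D.diagonalSubgroup F ≤ D.monomialSubgroup F) (S.tI_mem_diag c), S.act_diag (S.tI_mem_diag c)⟩

theorem nd_gS (i : Fin D.rank) : S.Nd (S.gS F i) (S.wp i) := ⟨S.nG_mem_mono i, S.act_nG i⟩

theorem nd_unique {n : ↥(D.group F)} {w v : Equiv.Perm (Fin D.nroots)} (h : S.Nd n w) (h' : S.Nd n v) :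
    w = v := S.act_unique h.2 h'.2

theorem nd_exists {n : ↥(D.group F)} (h : (n : GL D.Idx F) ∈ D.monomialSubgroup F) :
    ∃ L, S.Nd n (S.wpL L) := by
  obtain ⟨L, hL, -⟩ := S.exists_act h
  exact ⟨L, h, hL⟩

theorem nd_wpL {n : ↥(D.group F)} {w : Equiv.Perm (Fin D.nroots)} (h : S.Nd n w) : ∃ L, w = S.wpL L := by
  obtain ⟨L, hL⟩ := S.nd_exists h.1
  exact ⟨L, S.nd_unique h hL⟩

theorem nd_eq_tI {n m : ↥(D.group F)} {w : Equiv.Perm (Fin D.nroots)} (h : S.Nd n w) (h' : S.Nd m w) :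
    ∃ c, m = n * S.tI F c := by
  have h1 := S.nd_mul (S.nd_inv h) h'
  rw [inv_mul_cancel] at h1
  obtain ⟨L, hL, hiff⟩ := S.exists_act h1.1
  obtain ⟨c, hc⟩ := S.exists_tI (hiff.1 (S.act_unique hL h1.2))
  exact ⟨c, by rw [← hc, mul_inv_cancel_left]⟩

theorem conj_tI {n : ↥(D.group F)} {w : Equiv.Perm (Fin D.nroots)} (h : S.Nd n w) (c : Fin D.rank → Fˣ) :
    ∃ c', n⁻¹ * S.tI F c * n = S.tI F c' := by
  refine S.exists_tI ?_
  have := S.norm_diag (inv_mem h.1) (S.tI_mem_diag (F := F) c)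
  rw [inv_inv] at this
  exact this

theorem xI_mem_U (i : Fin D.rank) (a : F) : S.xI i a ∈ UG D F := by
  show S.ok.xG (D.simple i) a ∈ D.posUnipotent F
  rw [← S.ok.sr_eq i.isLt]
  exact S.xG_mem_U (S.sr_pos i.isLt) (S.ok.sr_lt i.isLt) _

theorem conj_xI_mem {n : ↥(D.group F)} {w : Equiv.Perm (Fin D.nroots)} (h : S.Nd n w) {i : Fin D.rank}
    (hi : D.nroots / 2 ≤ (w (S.sp i)).val) (a : F) : n * S.xI i a * n⁻¹ ∈ UG D F := by
  obtain ⟨-, c, -, e⟩ := h.2 (S.sp i)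
  have h1 := (e a).1
  show (n : GL D.Idx F) * S.ok.xG (D.simple i) a * (n : GL D.Idx F)⁻¹ ∈ D.posUnipotent F
  rw [← S.ok.sr_eq i.isLt]
  rw [show (S.sp i).val = C.sr i.val from rfl] at h1
  rw [h1]
  exact S.xG_mem_U hi (Fin.isLt _) _

theorem U_split_right (i : Fin D.rank) {u : ↥(D.group F)} (hu : u ∈ UG D F) :
    ∃ u' ∈ UG D F, ∃ a : F, u = u' * S.xI i a ∧ S.gS F i * u' * (S.gS F i)⁻¹ ∈ UG D F := by
  obtain ⟨u', hu', t, e⟩ := S.U_split i (u := (u : GL D.Idx F)) hu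
  have hU : u' ∈ D.posUnipotent F := (show S.Ui F i ≤ D.posUnipotent F from (Subgroup.closure_le _).2 (by
    rintro g ⟨r, t, h1, h2, -, rfl⟩
    exact S.xG_mem_U h1 h2 t)) hu'
  refine ⟨⟨u', S.borel_le_group (S.B_le_of hU)⟩, hU, t, Subtype.ext ?_, S.nG_conj_Ui i hu'⟩
  rw [e, S.ok.sr_eq i.isLt]
  rfl

theorem gS_inv_conj_mem (i : Fin D.rank) {u : ↥(D.group F)} (h : S.gS F i * u * (S.gS F i)⁻¹ ∈ UG D F) :
    (S.gS F i)⁻¹ * u * S.gS F i ∈ UG D F := by
  rw [S.tI_normalises (Pi.mulSingle i (-1 : Fˣ)), ← S.gS_sq]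
  convert h using 1
  group

theorem U_split_left (i : Fin D.rank) {u : ↥(D.group F)} (hu : u ∈ UG D F) :
    ∃ a : F, ∃ u' ∈ UG D F, u = S.xI i a * u' ∧ S.gS F i * u' * (S.gS F i)⁻¹ ∈ UG D F := by
  obtain ⟨u', hu', a, e, h⟩ := S.U_split_right i (inv_mem hu)
  refine ⟨-a, u'⁻¹, inv_mem hu', ?_, ?_⟩
  · rw [← inv_inv u, e, mul_inv_rev, S.xI_inv]
  · have := inv_mem h
    convert this using 1
    group

theorem xI_conj_gS {i : Fin D.rank} {a : F} (h : (S.gS F i)⁻¹ * S.xI i a * S.gS F i ∈ UG D F)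
    (hN : okNeg D = true) : a = 0 := by
  rw [← S.nAbs_one, (S.rel i).flip] at h
  by_contra ha
  have hs : D.simple i < D.nroots := S.ok.sr_eq i.isLt ▸ S.ok.sr_lt i.isLt
  have hlt : D.neg (D.simple i) < D.nroots / 2 := by
    have := S.neg_lt_half (S.ok.sr_lt i.isLt) (S.sr_pos i.isLt)
    rwa [S.ok.sr_eq i.isLt] at this
  have h1 : S.ok.xG (D.neg (D.simple i)) (-a) ∈ D.borelSubgroup F ⊓ D.negUnipotent F :=
    Subgroup.mem_inf.2 ⟨S.B_le_of h,
      Subgroup.subset_closure ⟨_, _, S.isNeg_iff.2 hlt, S.ok.val_xG _ _⟩⟩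
  rw [S.B_inf_V hN, Subgroup.mem_bot] at h1
  exact ha (neg_eq_zero.1 (S.xG_eq_one (show D.neg (D.simple i) < D.nroots by omega) h1))

theorem bruhat_perm (hN : okNeg D = true) {u u' n n' : ↥(D.group F)} {w w' : Equiv.Perm (Fin D.nroots)}
    (hu : u ∈ UG D F) (hu' : u' ∈ UG D F) (h : S.Nd n w) (h' : S.Nd n' w') (e : u * n * u' = n') :
    w = w' := by
  have e' : (u : GL D.Idx F) * n * u' = 1 * n' * 1 := by
    rw [one_mul, mul_one, ← e]
    rfl
  have hd := S.normal_form_cong hN (S.B_le_of hu) (one_mem _) h.1 h'.1 hu' (one_mem _) e'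
  have h2 := S.act_mul h.2 (S.act_diag hd)
  rw [mul_inv_cancel_left, mul_one] at h2
  exact (S.act_unique h'.2 h2).symm

theorem bruhat_form (hN : okNeg D = true) (g : ↥(D.group F)) :
    ∃ u ∈ UG D F, ∃ (n : ↥(D.group F)) (w : Equiv.Perm (Fin D.nroots)), S.Nd n w ∧ ∃ c, ∃ u' ∈ UG D F,
      g = u * (n * S.tI F c) * u' := by
  obtain ⟨b, hb, n, hn, L, hact, u, hu, e⟩ := S.normal_form hN g.2
  obtain ⟨v, hv, d, hd, rfl⟩ := S.borel_decomp hb
  obtain ⟨c, hc⟩ := S.exists_tI (g := ⟨d, S.diag_le_group hd⟩) hd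
  let nI : ↥(D.group F) := ⟨n, S.mono_le_group hn⟩
  have hnd : S.Nd nI (S.wpL L) := ⟨hn, hact⟩
  obtain ⟨c', hc'⟩ := S.conj_tI hnd c
  have hu' := S.UPsi_le _ hu
  refine ⟨⟨v, S.borel_le_group (S.B_le_of hv)⟩, hv, nI, _, hnd, c',
    ⟨u, S.borel_le_group (S.B_le_of hu')⟩, hu', ?_⟩
  rw [← hc', ← hc]
  refine Subtype.ext ?_
  rw [e]
  simp only [nI, Subgroup.coe_mul, Subgroup.coe_inv]
  group

theorem nd_eq_one_of_diag {n : ↥(D.group F)} {c : Fin D.rank → Fˣ} (hinj : Function.Injective (Ok.tG D F))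
    (h : S.tI F c = n) (hn : n ∈ UG D F) : c = 1 := by
  have h1 : Ok.tG D F c ∈ D.posUnipotent F ⊓ D.diagonalSubgroup F :=
    Subgroup.mem_inf.2 ⟨by rw [← h] at hn; exact hn, S.tI_mem_diag c⟩
  rw [S.U_inf_H, Subgroup.mem_bot] at h1
  exact hinj (by rw [h1, map_one])

theorem mem_U_of_conj (hN : okNeg D = true) {n : ↥(D.group F)} {w : Equiv.Perm (Fin D.nroots)}
    (h : S.Nd n w) {u : ↥(D.group F)} (hu : u ∈ UG D F) (hb : ((n * u * n⁻¹ : ↥(D.group F)) : GL D.Idx F) ∈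
      D.borelSubgroup F) : n * u * n⁻¹ ∈ UG D F := by
  have hu' : (u : GL D.Idx F) ∈ D.posUnipotent F := hu
  rw [S.posUnipotent_eq] at hu'
  have hs := S.hsum
  obtain ⟨a, ha, v, hv, e⟩ := S.split_Ugen (Neg D w) (D.nroots - D.nroots / 2) (D.nroots / 2)
    (by omega) le_rfl _ hu'
  have h1 := S.conj_Pos h.2 ha
  have h2 : (n : GL D.Idx F) * v * (n : GL D.Idx F)⁻¹ ∈ D.borelSubgroup F ⊓ D.negUnipotent F := by
    refine Subgroup.mem_inf.2 ⟨?_, S.conj_Neg h.2 hv⟩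
    have := mul_mem (inv_mem (S.B_le_of h1)) hb
    convert this using 1
    simp only [Subgroup.coe_mul, Subgroup.coe_inv, e]
    group
  rw [S.B_inf_V hN, Subgroup.mem_bot, mul_inv_eq_one] at h2
  have h3 : v = 1 := mul_left_cancel (a := (n : GL D.Idx F)) (h2.trans (mul_one _).symm)
  show (n : GL D.Idx F) * (u : GL D.Idx F) * (n : GL D.Idx F)⁻¹ ∈ D.posUnipotent F
  rw [e, h3, mul_one]
  exact h1

theorem Nw_lt {w : Equiv.Perm (Fin D.nroots)} (hw : ∃ L, w = S.wpL L) {j : Fin D.rank}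
    (hj : D.nroots / 2 ≤ (w (S.sp j)).val) : Nw D w < Nw D (w * S.wp j) := by
  classical
  obtain ⟨L, rfl⟩ := hw
  have hsj : (S.wp j (S.sp j)).val = D.neg (C.sr j) := by
    rw [Struct.wp_val, Struct.sp, (S.ok.refl_simple j.isLt).1, S.ok.neg_eq (S.ok.sr_lt j.isLt)]
  have hlt := S.neg_lt_half (S.ok.sr_lt j.isLt) (S.sr_pos j.isLt)
  let A := Finset.univ.filter fun r : Fin D.nroots => D.nroots / 2 ≤ r.val ∧ (S.wpL L r).val < D.nroots / 2
  have hsub : insert (S.sp j) (A.image (S.wp j)) ⊆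
      Finset.univ.filter fun r : Fin D.nroots =>
        D.nroots / 2 ≤ r.val ∧ ((S.wpL L * S.wp j) r).val < D.nroots / 2 := by
    intro r hr
    rw [Finset.mem_filter]
    refine ⟨Finset.mem_univ _, ?_⟩
    rcases Finset.mem_insert.1 hr with rfl | hr
    · refine ⟨S.sr_pos j.isLt, ?_⟩
      have hn : D.neg (C.sr j) < D.nroots := by omega
      rw [Equiv.Perm.mul_apply, show S.wp j (S.sp j) = ⟨D.neg (C.sr j), hn⟩ from Fin.ext hsj,
        show (S.wpL L ⟨D.neg (C.sr j), hn⟩).val = D.neg (S.wpL L (S.sp j)).val from S.wp_neg L (S.sp j) hn]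
      exact S.neg_lt_half (Fin.isLt _) hj
    · obtain ⟨a, ha, rfl⟩ := Finset.mem_image.1 hr
      obtain ⟨-, ha1, ha2⟩ := Finset.mem_filter.1 ha
      have hne : a.val ≠ C.sr j := fun e => by
        rw [show a = S.sp j from Fin.ext e] at ha2; omega
      refine ⟨by rw [Struct.wp_val]; exact S.pos_w j.isLt ha1 a.isLt hne, ?_⟩
      rw [Equiv.Perm.mul_apply, ← Equiv.Perm.mul_apply (S.wp j), S.wp_mul_self]
      exact ha2
  have hnot : S.sp j ∉ A.image (S.wp j) := by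
    intro hm
    obtain ⟨a, ha, e⟩ := Finset.mem_image.1 hm
    have h0 : a = S.wp j (S.sp j) := by
      rw [← e, ← Equiv.Perm.mul_apply, S.wp_mul_self, Equiv.Perm.one_apply]
    have h1 := (Finset.mem_filter.1 ha).2.1
    rw [h0, hsj] at h1
    omega
  have h2 := Finset.card_le_card hsub
  rw [Finset.card_insert_of_notMem hnot, Finset.card_image_of_injective _ (S.wp j).injective] at h2
  exact Nat.lt_of_succ_le h2

theorem wp_sp_neg {w : Equiv.Perm (Fin D.nroots)} (hw : ∃ L, w = S.wpL L) (i : Fin D.rank)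
    (h : (w (S.sp i)).val < D.nroots / 2) : D.nroots / 2 ≤ ((w * S.wp i) (S.sp i)).val := by
  obtain ⟨L, rfl⟩ := hw
  have hlt := S.neg_lt_half (S.ok.sr_lt i.isLt) (S.sr_pos i.isLt)
  have hn : D.neg (C.sr i) < D.nroots := by omega
  have hsi : S.wp i (S.sp i) = ⟨D.neg (C.sr i), hn⟩ := Fin.ext (by
    rw [Struct.wp_val, Struct.sp, (S.ok.refl_simple i.isLt).1, S.ok.neg_eq (S.ok.sr_lt i.isLt)])
  rw [Equiv.Perm.mul_apply, hsi,
    show (S.wpL L ⟨D.neg (C.sr i), hn⟩).val = D.neg (S.wpL L (S.sp i)).val from S.wp_neg L (S.sp i) hn]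
  exact (S.neg_pos h).1

theorem exists_neg_simple : ∀ L : List (Fin D.rank), S.wpL L ≠ 1 →
    ∃ i, (S.wpL L (S.sp i)).val < D.nroots / 2 := by
  intro L
  induction hm : L.length using Nat.strong_induction_on generalizing L with
  | _ m ih =>
    intro hne
    obtain ⟨M, i, rfl⟩ : ∃ M i, L = M ++ [i] := by
      refine ⟨L.dropLast, L.getLast ?_, (List.dropLast_append_getLast ?_).symm⟩
      all_goals rintro rfl; exact hne rfl
    have e : S.wpL (M ++ [i]) = S.wpL M * S.wp i := by simp [wpL]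
    by_cases hcon : (S.wpL (M ++ [i]) (S.sp i)).val < D.nroots / 2
    · exact ⟨i, hcon⟩
    have hMneg : (S.wpL M (S.sp i)).val < D.nroots / 2 := by
      by_contra h
      push Not at h
      apply hcon
      have hlt := S.neg_lt_half (S.ok.sr_lt i.isLt) (S.sr_pos i.isLt)
      have hn : D.neg (C.sr i) < D.nroots := by omega
      rw [e, Equiv.Perm.mul_apply, show S.wp i (S.sp i) = ⟨D.neg (C.sr i), hn⟩ from Fin.ext (by
        rw [Struct.wp_val, Struct.sp, (S.ok.refl_simple i.isLt).1, S.ok.neg_eq (S.ok.sr_lt i.isLt)]),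
        show (S.wpL M ⟨D.neg (C.sr i), hn⟩).val = D.neg (S.wpL M (S.sp i)).val from S.wp_neg M (S.sp i) hn]
      exact S.neg_lt_half (Fin.isLt _) h
    obtain ⟨M', h', hh', hlen, e'⟩ := S.exchange (F := ℚ) i M hMneg
    have hperm : S.wpL (M ++ [i]) = S.wpL M' := by
      have h1 := S.act_mul (S.act_diag hh') (S.act_nL (F := ℚ) M')
      have h2 := S.act_mul (S.act_nL (F := ℚ) M) (S.act_nG i)
      rw [e'] at h2
      rw [e, ← S.act_unique h1 h2, one_mul]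
    rw [hperm] at hne ⊢
    refine ih M'.length ?_ M' rfl hne
    simp at hm
    omega

theorem neg_all {T : List (List ℤ)} (hT : okHt D T = true) (hl : Cfsg.Lib.Steinberg.okLin D C T = true)
    {L : List (Fin D.rank)} (h : ∀ i, (S.wpL L (S.sp i)).val < D.nroots / 2) (r : Fin D.nroots)
    (hr : D.nroots / 2 ≤ r.val) : (S.wpL L r).val < D.nroots / 2 := by
  by_contra hcon
  push Not at hcon
  obtain ⟨k, hk, hk0⟩ := Cfsg.Lib.Steinberg.exists_ne_zero hl (Fin.isLt (S.wpL L r))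
  have h1 := S.ht_nonneg hT hcon (Fin.isLt _) hk
  have h2 : htAt T (S.wpL L r).val k ≤ 0 := by
    rw [Cfsg.Lib.Steinberg.ht_wpL S hT hl L r k hk]
    refine Finset.sum_nonpos fun j _ => ?_
    refine mul_nonpos_of_nonneg_of_nonpos (S.ht_nonneg hT hr r.isLt j.isLt) ?_
    obtain ⟨n1, n2, -⟩ := S.neg_pos (h j)
    have h3 := S.ht_nonneg hT n1 n2 hk
    rw [(ht_row hT (Fin.isLt _) hk).1] at h3
    omega
  omega

theorem top_unique {T : List (List ℤ)} (hT : okHt D T = true) (hl : Cfsg.Lib.Steinberg.okLin D C T = true)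
    {L M : List (Fin D.rank)} (h : ∀ i, (S.wpL L (S.sp i)).val < D.nroots / 2)
    (h' : ∀ i, (S.wpL M (S.sp i)).val < D.nroots / 2) : S.wpL L = S.wpL M := by
  by_contra hne
  obtain ⟨K, hK⟩ := S.exists_wpL (mul_mem (inv_mem (S.wpL_mem_WG L)) (S.wpL_mem_WG M))
  have hne' : S.wpL K ≠ 1 := fun e => hne (inv_mul_eq_one.1 (hK.trans e))
  obtain ⟨i, hi⟩ := S.exists_neg_simple K hne'
  obtain ⟨n1, n2, n3⟩ := S.neg_pos hi
  have h1 := S.neg_all hT hl h ⟨D.neg (S.wpL K (S.sp i)).val, n2⟩ n1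
  rw [S.wp_neg L (S.wpL K (S.sp i)) n2] at h1
  have h2 : (S.wpL M (S.sp i)).val = (S.wpL L (S.wpL K (S.sp i))).val := by
    rw [← Equiv.Perm.mul_apply, ← hK, mul_inv_cancel_left]
  have h3 := h' i
  rw [h2] at h3
  have := (S.neg_pos h3).1
  omega

end Struct

end Cfsg.Lib.Chev
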