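import Cfsg.Agent.Chev.BNP
import Cfsg.Agent.Chev.All
import Cfsg.Prelude.Def_ChevAutomorphisms

/-! Generation by the monomial subgroup and root subgroups of fundamental roots. -/

set_option autoImplicit false

open Cfsg.Lie

namespace Cfsg.Lib.Chev

/-- One round: add the nodes whose root is the image of a known one under two reflections. -/
noncomputable def nodeStep (D : ChevalleyDatum) (C : Cert) (known : ℕ → Bool) (j : ℕ) : Bool :=
  known j || !kall (fun i => !(known i && Nat.beq (C.w i (C.w j (C.sr i))) (C.sr j))) (krange 0 D.rank)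

/-- The nodes reached in `k` rounds. -/
noncomputable def nodeClos (D : ChevalleyDatum) (C : Cert) (K : ℕ → Bool) : ℕ → ℕ → Bool :=
  @Nat.rec (fun _ => ℕ → Bool) K (fun _ ih => nodeStep D C ih)

/-- Short nodes reach all short nodes; lengths are invariant; a long node is a sum of two short roots. -/
noncomputable def okGen (D : ChevalleyDatum) (C : Cert) (m : ℕ) : Bool :=
  kall (fun i => D.isLong (D.simpleIdx.getD i 0) ||
    kall (fun j => D.isLong (D.simpleIdx.getD j 0) || nodeClos D C (fun k => Nat.beq k i) D.rank j)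
      (krange 0 D.rank)) (krange 0 D.rank) &&
  kall (fun i => kall (fun r => decide (D.isLong (C.w i r) = D.isLong r)) (krange 0 D.nroots))
    (krange 0 D.rank) &&
  kall (fun j => !D.isLong (D.simpleIdx.getD j 0) || !kall (fun r => D.isLong r || kall (fun s =>
      D.isLong s || Nat.beq s r || Nat.beq s (D.negIdx.getD r 0) ||
      match D.commTerms r s with
      | [q] => !(Nat.beq q.1 (D.simpleIdx.getD j 0) && Nat.beq q.2.2.1 1 && Nat.beq q.2.2.2 1 &&
          Nat.beq (m % q.2.1.natAbs) 0 && !Nat.beq q.2.1.natAbs 0)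
      | _ => true) (krange 0 D.nroots)) (krange 0 D.nroots)) (krange 0 D.rank)

theorem G2.gen : okGen chevG2 G2.cert 3 = true := by decide +kernel
theorem B2.gen : okGen chevB2 B2.cert 2 = true := by decide +kernel
theorem F4.gen : okGen chevF4 F4.cert 2 = true := by decide +kernel

/-- Every node reaches every node. -/
noncomputable def okGenSL (D : ChevalleyDatum) (C : Cert) : Bool :=
  kall (fun i => kall (fun j => nodeClos D C (fun k => Nat.beq k i) D.rank j) (krange 0 D.rank)) (krange 0 D.rank)

theorem D4.genSL : okGenSL chevD4 D4.cert = true := by decide +kernel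
theorem E6.genSL : okGenSL chevE6 E6.cert = true := by decide +kernel
theorem E7.genSL : okGenSL chevE7 E7.cert = true := by decide +kernel
theorem E8.genSL : okGenSL chevE8 E8.cert = true := by decide +kernel

/-- A joined short and long node reach every node. -/
noncomputable def okBond (D : ChevalleyDatum) (C : Cert) : Bool :=
  kall (fun i => kall (fun j => D.isLong (D.simpleIdx.getD i 0) || !D.isLong (D.simpleIdx.getD j 0) ||
    kall (fun k => nodeClos D C (fun a => Nat.beq a i || Nat.beq a j) D.rank k) (krange 0 D.rank))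
    (krange 0 D.rank)) (krange 0 D.rank)

theorem G2.bond : okBond chevG2 G2.cert = true := by decide +kernel
theorem B2.bond : okBond chevB2 B2.cert = true := by decide +kernel
theorem F4.bond : okBond chevF4 F4.cert = true := by decide +kernel

variable {D : ChevalleyDatum} {C : Cert} {F : Type*} [Field F]

section

variable (S : Struct D C) {H : Subgroup (GL D.Idx F)} (hN : D.monomialSubgroup F ≤ H)

include hN in
theorem move_root {i r : ℕ} (hi : i < D.rank) (hr : r < D.nroots) (h : ∀ t : F, S.ok.xG r t ∈ H) (t : F) :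
    S.ok.xG (C.w i r) t ∈ H := by
  have hn := hN (S.nG_mem_mono (F := F) ⟨i, hi⟩)
  have e := S.ok.conj_nG_xG (F := F) hi hr ((C.eta i r : F) * t)
  have h1 := mul_mem (mul_mem hn (h ((C.eta i r : F) * t))) (inv_mem hn)
  rw [e, ← mul_assoc, ← Int.cast_mul] at h1
  rcases Ok.eta_cases C i r with he | he <;> simpa [he] using h1

include hN in
theorem node_clos (K : ℕ → Bool) (hK : ∀ j < D.rank, K j = true → ∀ t : F, S.ok.xG (C.sr j) t ∈ H) :
    ∀ (k : ℕ) (j : ℕ), j < D.rank → nodeClos D C K k j = true → ∀ t : F, S.ok.xG (C.sr j) t ∈ H := by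
  intro k
  induction k with
  | zero => exact hK
  | succ k ih =>
    intro j hj h t
    change nodeStep D C (nodeClos D C K k) j = true at h
    simp only [nodeStep, Bool.or_eq_true, Bool.not_eq_true', ← Bool.not_eq_true, kall_iff, not_forall] at h
    rcases h with h | ⟨i, hi, h⟩
    · exact ih j hj h t
    · rw [krange_eq, List.mem_range'_1] at hi
      simp only [Bool.not_eq_true', Bool.not_eq_false, Classical.not_not, Bool.and_eq_true] at h
      rw [← Nat.eq_of_beq_eq_true h.2]
      exact move_root S hN (by omega) (S.ok.w_lt hj (S.ok.sr_lt (by omega)))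
        (move_root S hN hj (S.ok.sr_lt (by omega)) (ih i (by omega) h.1)) t

include hN in
theorem neg_simple {i : ℕ} (hi : i < D.rank) (h : ∀ t : F, S.ok.xG (C.sr i) t ∈ H) (t : F) :
    S.ok.xG (C.neg (C.sr i)) t ∈ H := by
  rw [← (S.ok.refl_simple hi).1]
  exact move_root S hN hi (S.ok.sr_lt hi) h t

include hN in
theorem group_le (h : ∀ j < D.rank, ∀ t : F, S.ok.xG (C.sr j) t ∈ H) : D.group F ≤ H := by
  refine (Subgroup.closure_le _).2 ?_
  rintro g ⟨r, t, hg⟩
  have hg' : (g : Matrix D.Idx D.Idx F) = D.x F r.val t := by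
    rw [hg]; simp [ChevalleyDatum.x, r.isLt]
  rw [S.ok.eq_xG hg']
  refine S.ok.root_induction (motive := fun r => ∀ t : F, S.ok.xG r t ∈ H)
    (fun i hi => ⟨h i hi, neg_simple S hN hi (h i hi)⟩) (fun i r hi hr ih t => ?_) r.val r.isLt t
  rw [← S.ok.w_w hi hr]
  exact move_root S hN hi (S.ok.w_lt hi hr) ih t

include hN in
theorem group_le_sl (hg : okGenSL D C = true) {i : ℕ} (hi : i < D.rank)
    (hX : ∀ t : F, S.ok.xG (C.sr i) t ∈ H) : D.group F ≤ H := by
  simp only [okGenSL, kall_iff] at hg
  exact group_le S hN fun j hj => node_clos S hN _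
    (fun k _ hk => by rw [Nat.eq_of_beq_eq_true hk]; exact hX) _ j hj
    (hg i (by rw [krange_eq, List.mem_range'_1]; omega) j (by rw [krange_eq, List.mem_range'_1]; omega))

include hN in
theorem group_le_short {m : ℕ} (hg : okGen D C m = true) (hm : (m : F) ≠ 0) {i : ℕ} (hi : i < D.rank)
    (hshort : D.isLong (D.simple i) = false) (hX : ∀ t : F, S.ok.xG (C.sr i) t ∈ H) : D.group F ≤ H := by
  simp only [okGen, Bool.and_eq_true, kall_iff] at hg
  obtain ⟨⟨h1, h2⟩, h3⟩ := hg
  have hmem : ∀ k < D.rank, k ∈ krange 0 D.rank := fun k hk => by rw [krange_eq, List.mem_range'_1]; omega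
  have hnode : ∀ j < D.rank, D.isLong (D.simple j) = false → ∀ t : F, S.ok.xG (C.sr j) t ∈ H := by
    intro j hj hs
    have h := h1 i (hmem i hi)
    rw [show D.isLong (D.simpleIdx.getD i 0) = false from hshort, Bool.false_or, kall_iff] at h
    have h' := h j (hmem j hj)
    rw [show D.isLong (D.simpleIdx.getD j 0) = false from hs, Bool.false_or] at h'
    exact node_clos S hN _ (fun k _ hk => by rw [Nat.eq_of_beq_eq_true hk]; exact hX) _ j hj h'
  have hinv : ∀ k r, k < D.rank → r < D.nroots → D.isLong (C.w k r) = D.isLong r := fun k r hk hr => by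
    have h := h2 k (hmem k hk)
    exact of_decide_eq_true (h r (by rw [krange_eq, List.mem_range'_1]; omega))
  have hroots : ∀ r < D.nroots, D.isLong r = false → ∀ t : F, S.ok.xG r t ∈ H := by
    refine S.ok.root_induction (fun j hj => ⟨fun hs => hnode j hj (S.ok.sr_eq hj ▸ hs), fun hs => ?_⟩)
      fun k r hk hr ih hs t => ?_
    · rw [← (S.ok.refl_simple hj).1, hinv j _ hj (S.ok.sr_lt hj), S.ok.sr_eq hj] at hs
      exact neg_simple S hN hj (hnode j hj hs)
    · rw [← S.ok.w_w hk hr]
      exact move_root S hN hk (S.ok.w_lt hk hr) (ih ((hinv k r hk hr).trans hs)) t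
  refine group_le S hN fun j hj t => ?_
  by_cases hs : D.isLong (D.simple j) = false
  · exact hnode j hj hs t
  have h := h3 j (hmem j hj)
  rw [show D.isLong (D.simpleIdx.getD j 0) = true from (Bool.not_eq_false _).mp hs, Bool.not_true,
    Bool.false_or, Bool.not_eq_true', ← Bool.not_eq_true] at h
  simp only [kall_iff, not_forall] at h
  obtain ⟨r, hr, h⟩ := h
  simp only [Bool.or_eq_true, not_or, kall_iff, not_forall] at h
  obtain ⟨hrs, s, hs', h⟩ := h
  obtain ⟨⟨⟨hss, hne⟩, hneg⟩, h⟩ := h
  rw [krange_eq, List.mem_range'_1] at hr hs'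
  split at h
  · rename_i q hq
    simp only [Bool.not_eq_true', Bool.not_eq_false, Bool.and_eq_true, Bool.not_eq_true] at h
    obtain ⟨⟨⟨⟨hq1, ha⟩, hb⟩, hdvd⟩, hne0⟩ := h
    have hM : (q.2.1 : F) ≠ 0 := by
      intro h0
      have hd : q.2.1.natAbs ∣ m := Nat.dvd_of_mod_eq_zero (Nat.eq_of_beq_eq_true hdvd)
      refine hm ?_
      have h1 : ((q.2.1.natAbs : ℕ) : F) = 0 := by
        rcases Int.natAbs_eq q.2.1 with e | e
        · rwa [e, Int.cast_natCast] at h0
        · rwa [e, Int.cast_neg, neg_eq_zero, Int.cast_natCast] at h0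
      obtain ⟨c, rfl⟩ := hd
      rw [Nat.cast_mul, h1, zero_mul]
    have hne1 : s ≠ r := fun e => hne (by rw [e]; exact Nat.beq_refl r)
    have hne2 : s ≠ D.neg r := fun e => hneg (by rw [e]; exact Nat.beq_refl _)
    have hw : S.ok.wG (D.commWord F r s (-(t / (q.2.1 : F))) 1) ∈ H := by
      have e := S.ok.commRel S.chain S.base (by omega) (by omega) hne1 hne2 (-(t / (q.2.1 : F))) (1 : F)
      have hxr := hroots r (by omega) (Bool.not_eq_true _ ▸ hrs) (-(t / (q.2.1 : F)))
      have hxs := hroots s (by omega) (Bool.not_eq_true _ ▸ hss) (1 : F)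
      have : S.ok.wG (D.commWord F r s (-(t / (q.2.1 : F))) 1) =
          (S.ok.xG r (-(t / (q.2.1 : F))) * S.ok.xG s 1)⁻¹ * (S.ok.xG s 1 * S.ok.xG r (-(t / (q.2.1 : F)))) := by
        rw [e]; group
      rw [this]
      exact mul_mem (inv_mem (mul_mem hxr hxs)) (mul_mem hxs hxr)
    simp only [Ok.wG, ChevalleyDatum.commWord, hq, List.map_cons, List.map_nil, List.prod_cons, List.prod_nil,
      mul_one, Nat.eq_of_beq_eq_true ha, Nat.eq_of_beq_eq_true hb, neg_neg, pow_one] at hw
    rw [show q.1 = C.sr j from (Nat.eq_of_beq_eq_true hq1).trans (S.ok.sr_eq hj).symm,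
      mul_div_cancel₀ _ hM] at hw
    exact hw
  · exact absurd rfl h

include hN in
theorem group_le_bond (hb : okBond D C = true) {i j : ℕ} (hi : i < D.rank) (hj : j < D.rank)
    (hshort : D.isLong (D.simple i) = false) (hlong : D.isLong (D.simple j) = true)
    (hX : ∀ t : F, S.ok.xG (C.sr i) t ∈ H) (hY : ∀ t : F, S.ok.xG (C.sr j) t ∈ H) : D.group F ≤ H := by
  simp only [okBond, kall_iff] at hb
  have h := hb i (by rw [krange_eq, List.mem_range'_1]; omega) j (by rw [krange_eq, List.mem_range'_1]; omega)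
  rw [show D.isLong (D.simpleIdx.getD i 0) = false from hshort,
    show D.isLong (D.simpleIdx.getD j 0) = true from hlong, Bool.false_or, Bool.not_true, Bool.false_or,
    kall_iff] at h
  refine group_le S hN fun k hk => node_clos S hN _ (fun a _ ha => ?_) _ k hk
    (h k (by rw [krange_eq, List.mem_range'_1]; omega))
  rw [Bool.or_eq_true] at ha
  rcases ha with ha | ha <;> rw [Nat.eq_of_beq_eq_true ha]
  exacts [hX, hY]

end

end Cfsg.Lib.Chev
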