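import Cfsg.Agent.Chev.WeightsBase
import Cfsg.Agent.Chev.WeylGroup
import Cfsg.Agent.Known.Hecke.Double

/-!
# The Bruhat cells of a Chevalley group as double coset data
-/

set_option autoImplicit false

open Cfsg.Lie

namespace Cfsg.Lib.Chev

variable {D : ChevalleyDatum} {C : Cert} {F : Type*} [Field F]

namespace Struct

variable (S : Struct D C)
include S

theorem wp_mem_WG (i : Fin D.rank) : S.wp i ∈ S.WG := Subgroup.subset_closure ⟨i, rfl⟩

/-- The fundamental reflection as an element of the group of root permutations. -/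
noncomputable def wW (i : Fin D.rank) : ↥S.WG := ⟨S.wp i, S.wp_mem_WG i⟩

theorem wp_negIdx {w : Equiv.Perm (Fin D.nroots)} (hw : ∃ L, w = S.wpL L) (r : Fin D.nroots)
    (hr : D.neg r < D.nroots) : (w ⟨D.neg r, hr⟩).val = D.neg (w r) := by
  obtain ⟨L, rfl⟩ := hw
  exact S.wp_neg L r hr

theorem neg_facts (r : Fin D.nroots) : D.neg r < D.nroots ∧ D.neg (D.neg r) = r.val ∧
    (D.neg r < D.nroots / 2 ↔ D.nroots / 2 ≤ r.val) := by
  rcases lt_or_ge r.val (D.nroots / 2) with h | h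
  · obtain ⟨a, b, c⟩ := S.neg_pos h
    exact ⟨b, c, ⟨fun h' => by omega, fun h' => by omega⟩⟩
  · have h1 := S.neg_lt_half r.isLt h
    refine ⟨by omega, ?_, iff_of_true h1 h⟩
    have e1 := (S.order_row r.isLt).1
    have e2 := (S.order_row (show D.neg r < D.nroots by omega)).1
    omega

/-- A fundamental reflection preserves the sign of every root but `± α_j`. -/
theorem wp_sign {j : Fin D.rank} {r : Fin D.nroots} (h1 : r.val ≠ C.sr j)
    (h2 : r.val ≠ D.neg (C.sr j)) :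
    (S.wp j r).val < D.nroots / 2 ↔ r.val < D.nroots / 2 := by
  rcases lt_or_ge r.val (D.nroots / 2) with h | h
  · refine iff_of_true ?_ h
    obtain ⟨a, b, c⟩ := S.neg_pos h
    have hne : D.neg r.val ≠ C.sr j := fun e => h2 (by rw [← e, c])
    have hp := S.pos_w j.isLt a b hne
    rw [← S.wp_val j ⟨D.neg r.val, b⟩,
      S.wp_negIdx ⟨[j], by simp [wpL]⟩ r b] at hp
    obtain ⟨p1, p2, p3⟩ := S.neg_facts (S.wp j r)
    by_contra hcon
    have := p3.2 (not_lt.1 hcon)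
    omega
  · refine iff_of_false ?_ (by omega)
    rw [S.wp_val]
    exact not_lt.2 (S.pos_w j.isLt h r.isLt h1)

theorem wp_sp_val (j : Fin D.rank) : (S.wp j (S.sp j)).val = D.neg (C.sr j) := by
  rw [Struct.wp_val, Struct.sp, (S.ok.refl_simple j.isLt).1, S.ok.neg_eq (S.ok.sr_lt j.isLt)]

/-- Conjugates of fundamental reflections. -/
theorem wp_conj_of_simple {w : Equiv.Perm (Fin D.nroots)} (hw : w ∈ S.WG) {i j : Fin D.rank}
    (h : w (S.sp j) = S.sp i) : S.wp i * w = w * S.wp j := by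
  obtain ⟨L, rfl⟩ := S.exists_wpL hw
  obtain ⟨-, c, hc, e⟩ := S.act_nL (F := ℚ) L (S.sp j)
  have e1 := (e 1).2
  rw [h, mul_one, show (S.sp j).val = C.sr j.val from rfl, show (S.sp i).val = C.sr i.val from rfl,
    S.ok.sr_eq j.isLt, S.ok.sr_eq i.isLt, S.ok.nG_eq_hG_mul i.isLt hc] at e1
  have hinv : Act S.ok (S.nL ℚ L)⁻¹ (S.wpL L)⁻¹ := by
    obtain ⟨M, hM, -⟩ := S.exists_act (inv_mem (S.nL_mem_mono (F := ℚ) L))
    have h1 := S.act_mul hM (S.act_nL (F := ℚ) L)
    rw [inv_mul_cancel] at h1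
    rwa [← eq_inv_of_mul_eq_one_left (S.act_unique h1 S.act_one)]
  have h2 := S.act_mul (S.act_mul (S.act_nL (F := ℚ) L) (S.act_nG j)) hinv
  rw [e1] at h2
  have h3 := S.act_mul (S.act_diag (S.hG_mem_diag i.isLt hc)) (S.act_nG (F := ℚ) i)
  have h4 := S.act_unique h2 h3
  rw [one_mul, mul_inv_eq_iff_eq_mul] at h4
  exact h4.symm

/-- The reflection sends `± α_i` only to each other. -/
theorem eq_simple_or_neg {i : Fin D.rank} {r : Fin D.nroots}
    (h : (S.wp i r).val = D.neg r) : r.val = C.sr i ∨ r.val = D.neg (C.sr i) := by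
  by_contra hcon
  push Not at hcon
  have h1 := S.wp_sign hcon.1 hcon.2
  obtain ⟨p1, p2, p3⟩ := S.neg_facts r
  rw [h, p3] at h1
  omega

/-- The reflection data of the type. -/
noncomputable def heckeSys : Cfsg.Lib.Hecke.Sys ↥S.WG (Fin D.rank) where
  s := S.wW
  down i w := ((w⁻¹ : ↥S.WG).1 (S.sp i)).val < D.nroots / 2
  m w := Nw D (w⁻¹ : ↥S.WG).1
  mul_self i := Subtype.ext (S.wp_mul_self i)
  flip i w := by
    have e : ((S.wW i * w)⁻¹ : ↥S.WG).1 (S.sp i) = (w⁻¹ : ↥S.WG).1 (S.wp i (S.sp i)) := by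
      rw [mul_inv_rev, Subgroup.coe_mul, Equiv.Perm.mul_apply]
      congr 1
    rw [e]
    have hn : D.neg (S.sp i).val < D.nroots := (S.neg_facts _).1
    rw [show S.wp i (S.sp i) = ⟨D.neg (S.sp i).val, hn⟩ from Fin.ext (S.wp_sp_val i),
      S.wp_negIdx (S.exists_wpL (w⁻¹).2), (S.neg_facts _).2.2]
    omega
  m_lt i w hd := by
    set v : Equiv.Perm (Fin D.nroots) := (w⁻¹ : ↥S.WG).1 * S.wp i with hv
    have hvm : v ∈ S.WG := mul_mem (w⁻¹).2 (S.wp_mem_WG i)
    have hpos := S.wp_sp_neg (S.exists_wpL (w⁻¹).2) i hd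
    have h := S.Nw_lt (S.exists_wpL hvm) (j := i) hpos
    rw [hv, mul_assoc, S.wp_mul_self, mul_one] at h
    have e : ((S.wW i * w)⁻¹ : ↥S.WG).1 = v := by
      rw [mul_inv_rev, Subgroup.coe_mul, hv]
      show _ * (S.wp i)⁻¹ = _
      rw [inv_eq_of_mul_eq_one_right (S.wp_mul_self i)]
    rw [e]
    exact h
  exists_down w hw := by
    obtain ⟨L, hL⟩ := S.exists_wpL (w⁻¹).2
    have hne : S.wpL L ≠ 1 := fun h => hw (inv_eq_one.1 (Subtype.ext (hL.trans h)))
    obtain ⟨i, hi⟩ := S.exists_neg_simple L hne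
    exact ⟨i, by rw [hL]; exact hi⟩
  not_down_one i := by
    rw [inv_one]
    exact not_lt.2 (S.sr_pos i.isLt)
  key i j w hne := by
    set r := (w⁻¹ : ↥S.WG).1 (S.sp i) with hr
    have e : ((w * S.wW j)⁻¹ : ↥S.WG).1 (S.sp i) = S.wp j r := by
      rw [mul_inv_rev, Subgroup.coe_mul, Equiv.Perm.mul_apply, ← hr]
      show (S.wp j)⁻¹ r = _
      rw [inv_eq_of_mul_eq_one_right (S.wp_mul_self j)]
    rw [e]
    refine S.wp_sign (fun h1 => hne ?_) (fun h2 => hne ?_)
    · have hw : w.1 (S.sp j) = S.sp i := by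
        rw [← show r = S.sp j from Fin.ext h1, hr, Subgroup.coe_inv, ← Equiv.Perm.mul_apply, mul_inv_cancel, Equiv.Perm.one_apply]
      exact Subtype.ext (S.wp_conj_of_simple w.2 hw)
    · have hw : (w * S.wW j).1 (S.sp j) = S.sp i := by
        rw [Subgroup.coe_mul, Equiv.Perm.mul_apply]
        show w.1 (S.wp j (S.sp j)) = S.sp i
        rw [show S.wp j (S.sp j) = r from Fin.ext ((S.wp_sp_val j).trans h2.symm), hr,
          Subgroup.coe_inv, ← Equiv.Perm.mul_apply, mul_inv_cancel, Equiv.Perm.one_apply]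
      have h := Subtype.ext (S.wp_conj_of_simple (w * S.wW j).2 hw) (a1 := S.wW i * (w * S.wW j))
        (a2 := w * S.wW j * S.wW j)
      have h' : S.wW i * (w * S.wW j) = w := by
        rw [h, mul_assoc, show S.wW j * S.wW j = 1 from Subtype.ext (S.wp_mul_self j), mul_one]
      conv_rhs => rw [← h']
      rw [← mul_assoc, mul_assoc _ (S.wW j), show S.wW j * S.wW j = 1 from
        Subtype.ext (S.wp_mul_self j), mul_one]
  key_eq i j w heq := by
    set r := (w⁻¹ : ↥S.WG).1 (S.sp i) with hr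
    rw [inv_inv]
    set γ := w.1 (S.sp j) with hγ
    have hn : D.neg (S.sp j).val < D.nroots := (S.neg_facts _).1
    have h1 : (S.wp i γ).val = D.neg γ := by
      have := congrArg (fun v : ↥S.WG => v.1 (S.sp j)) heq
      simp only [Subgroup.coe_mul, Equiv.Perm.mul_apply] at this
      rw [show S.wp i γ = w.1 (S.wp j (S.sp j)) from this,
        show S.wp j (S.sp j) = ⟨D.neg (S.sp j).val, hn⟩ from Fin.ext (S.wp_sp_val j),
        S.wp_negIdx (S.exists_wpL w.2)]
    rcases S.eq_simple_or_neg h1 with h | h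
    · have e : r = S.sp j := by
        rw [hr, Subgroup.coe_inv, Equiv.Perm.inv_eq_iff_eq, ← hγ]
        exact (Fin.ext h).symm
      rw [e]
      exact iff_of_false (not_lt.2 (S.sr_pos j.isLt)) (by rw [h]; exact not_lt.2 (S.sr_pos i.isLt))
    · have hn' : D.neg (S.sp i).val < D.nroots := (S.neg_facts _).1
      have e2 : (⟨D.neg (S.sp i).val, hn'⟩ : Fin D.nroots) = γ := Fin.ext h.symm
      have e3 : D.neg r.val = (S.sp j).val := by
        rw [hr, ← S.wp_negIdx (S.exists_wpL (w⁻¹).2) (S.sp i) hn', e2, hγ, Subgroup.coe_inv,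
          ← Equiv.Perm.mul_apply, inv_mul_cancel, Equiv.Perm.one_apply]
      refine iff_of_true ?_ ?_
      · have := (S.neg_facts r).2.2
        have h4 := S.sr_pos j.isLt
        by_contra hcon
        have := this.2 (not_lt.1 hcon)
        rw [e3] at this
        exact absurd h4 (not_le.2 this)
      · rw [h]
        exact S.neg_lt_half (S.ok.sr_lt i.isLt) (S.sr_pos i.isLt)

/-- `g` lies in the cell of `w`. -/
def InCell (g : ↥(D.group F)) (w : Equiv.Perm (Fin D.nroots)) : Prop :=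
  ∃ u ∈ UG D F, ∃ (n : ↥(D.group F)), S.Nd n w ∧ ∃ u' ∈ UG D F, g = u * n * u'

theorem inCell_exists (hN : okNeg D = true) (g : ↥(D.group F)) :
    ∃ w : ↥S.WG, S.InCell g w.1 := by
  obtain ⟨u, hu, n, w, hn, c, u', hu', e⟩ := S.bruhat_form hN g
  have hn' := S.nd_mul hn (S.nd_tI (F := F) c)
  rw [mul_one] at hn'
  obtain ⟨L, rfl⟩ := S.nd_wpL hn'
  exact ⟨⟨_, S.wpL_mem_WG L⟩, u, hu, _, hn', u', hu', e⟩

theorem inCell_unique (hN : okNeg D = true) {g : ↥(D.group F)}
    {w w' : Equiv.Perm (Fin D.nroots)} (h : S.InCell g w) (h' : S.InCell g w') : w = w' := by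
  obtain ⟨u, hu, n, hn, u', hu', e⟩ := h
  obtain ⟨v, hv, m, hm, v', hv', e'⟩ := h'
  refine S.bruhat_perm hN (u := v⁻¹ * u) (u' := u' * v'⁻¹) (mul_mem (inv_mem hv) hu)
    (mul_mem hu' (inv_mem hv')) hn hm ?_
  calc v⁻¹ * u * n * (u' * v'⁻¹) = v⁻¹ * (u * n * u') * v'⁻¹ := by group
    _ = m := by rw [← e, e']; group

/-- The cell of an element. -/
noncomputable def cellOf (hN : okNeg D = true) (g : ↥(D.group F)) : ↥S.WG :=
  (S.inCell_exists hN g).choose

theorem inCell_cellOf (hN : okNeg D = true) (g : ↥(D.group F)) : S.InCell g (S.cellOf hN g).1 :=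
  (S.inCell_exists hN g).choose_spec

theorem cellOf_eq (hN : okNeg D = true) {g : ↥(D.group F)} {w : ↥S.WG} (h : S.InCell g w.1) :
    S.cellOf hN g = w :=
  Subtype.ext (S.inCell_unique hN (S.inCell_cellOf hN g) h)

theorem tI_conj_mem (c : Fin D.rank → Fˣ) {x : ↥(D.group F)} (hx : x ∈ UG D F) :
    S.tI F c * x * (S.tI F c)⁻¹ ∈ UG D F ∧ (S.tI F c)⁻¹ * x * S.tI F c ∈ UG D F :=
  ⟨(S.tI_normalises c x).1 hx, (S.tI_normalises c _).2 (by simpa [mul_assoc] using hx)⟩

theorem mem_borel_split {b : ↥(D.group F)}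
    (hb : b ∈ (D.borelSubgroup F).subgroupOf (D.group F)) :
    ∃ u ∈ UG D F, ∃ c, b = u * S.tI F c := by
  obtain ⟨v, hv, d, hd, e⟩ := S.borel_decomp (Subgroup.mem_subgroupOf.1 hb)
  obtain ⟨c, hc⟩ := S.exists_tI (g := ⟨d, S.diag_le_group hd⟩) hd
  exact ⟨⟨v, S.borel_le_group (S.B_le_of hv)⟩, hv, c, by rw [← hc]; exact Subtype.ext e⟩

theorem U_le_borel {u : ↥(D.group F)} (hu : u ∈ UG D F) :
    u ∈ (D.borelSubgroup F).subgroupOf (D.group F) := Subgroup.mem_subgroupOf.2 (S.B_le_of hu)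

theorem tI_mem_borel (c : Fin D.rank → Fˣ) :
    S.tI F c ∈ (D.borelSubgroup F).subgroupOf (D.group F) :=
  Subgroup.mem_subgroupOf.2 (Subgroup.mem_sup_right (S.tI_mem_diag c))

theorem inCell_mul_left {g b : ↥(D.group F)} {w : Equiv.Perm (Fin D.nroots)}
    (hb : b ∈ (D.borelSubgroup F).subgroupOf (D.group F)) (h : S.InCell g w) :
    S.InCell (b * g) w := by
  obtain ⟨v, hv, c, rfl⟩ := S.mem_borel_split hb
  obtain ⟨u, hu, n, hn, u', hu', rfl⟩ := h
  have hn' := S.nd_mul (S.nd_tI c) hn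
  rw [one_mul] at hn'
  refine ⟨v * (S.tI F c * u * (S.tI F c)⁻¹), mul_mem hv (S.tI_conj_mem c hu).1, _, hn', u', hu', ?_⟩
  group

theorem inCell_mul_right {g b : ↥(D.group F)} {w : Equiv.Perm (Fin D.nroots)}
    (hb : b ∈ (D.borelSubgroup F).subgroupOf (D.group F)) (h : S.InCell g w) :
    S.InCell (g * b) w := by
  obtain ⟨v, hv, c, rfl⟩ := S.mem_borel_split hb
  obtain ⟨u, hu, n, hn, u', hu', rfl⟩ := h
  have hn' := S.nd_mul hn (S.nd_tI c)
  rw [mul_one] at hn'
  refine ⟨u, hu, _, hn', (S.tI F c)⁻¹ * (u' * v) * S.tI F c,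
    (S.tI_conj_mem c (mul_mem hu' hv)).2, ?_⟩
  group

theorem exists_gS_tI {n : ↥(D.group F)} {i : Fin D.rank} (h : S.Nd n (S.wp i)) :
    ∃ c, n = S.gS F i * S.tI F c := S.nd_eq_tI (S.nd_gS i) h

theorem cell_up (hN : okNeg D = true) (i : Fin D.rank) {g h : ↥(D.group F)}
    (hg : S.cellOf hN g = S.wW i) (hd : ¬ S.heckeSys.down i (S.cellOf hN h)) :
    S.cellOf hN (g * h) = S.wW i * S.cellOf hN h := by
  have hgc := S.inCell_cellOf hN g
  rw [hg] at hgc
  obtain ⟨u, hu, n, hn, u', hu', rfl⟩ := hgc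
  obtain ⟨c, rfl⟩ := S.exists_gS_tI hn
  obtain ⟨v, hv, m, hm, v', hv', e⟩ := S.inCell_cellOf hN h
  set t := S.tI F c with ht
  obtain ⟨u₁, hu₁, a, ea, hua⟩ := S.U_split_right i ((S.tI_conj_mem c (mul_mem hu' hv)).1)
  have hm' := S.nd_mul (S.nd_tI (F := F) c) hm
  rw [one_mul] at hm'
  refine S.cellOf_eq hN ⟨u * (S.gS F i * u₁ * (S.gS F i)⁻¹), mul_mem hu hua,
    S.gS F i * (t * m), S.nd_mul (S.nd_gS i) hm', (t * m)⁻¹ * S.xI i a * (t * m) * v', mul_mem ?_ hv',
    ?_⟩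
  · have := S.conj_xI_mem (S.nd_inv hm') (i := i) (not_lt.1 hd) a
    rwa [inv_inv] at this
  · have e2 : t * (u' * v) = u₁ * S.xI i a * t := by
      rw [← ea, ← ht]
      group
    calc u * (S.gS F i * t) * u' * h = u * S.gS F i * (t * (u' * v)) * m * v' := by
          rw [e]; group
      _ = _ := by rw [e2]; group

theorem cell_quad (hN : okNeg D = true) (i : Fin D.rank) {g h : ↥(D.group F)}
    (hg : S.cellOf hN g = S.wW i) (hh : S.cellOf hN h = S.wW i) :
    S.cellOf hN (g * h) = 1 ∨ S.cellOf hN (g * h) = S.wW i := by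
  have hgc := S.inCell_cellOf hN g
  rw [hg] at hgc
  obtain ⟨u, hu, n, hn, u', hu', rfl⟩ := hgc
  obtain ⟨c, rfl⟩ := S.exists_gS_tI hn
  have hhc := S.inCell_cellOf hN h
  rw [hh] at hhc
  obtain ⟨v, hv, m, hm, v', hv', rfl⟩ := hhc
  obtain ⟨d, rfl⟩ := S.exists_gS_tI hm
  set t := S.tI F c with ht
  obtain ⟨u₁, hu₁, a, ea, hua⟩ := S.U_split_right i ((S.tI_conj_mem c (mul_mem hu' hv)).1)
  have e2 : t * (u' * v) = u₁ * S.xI i a * t := by
    rw [← ea, ← ht]
    group
  obtain ⟨d', hd'⟩ := S.conj_tI (S.nd_gS (F := F) i) c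
  set t' := S.tI F (d' * d) with ht'
  have e3 : u * (S.gS F i * t) * u' * (v * (S.gS F i * S.tI F d) * v') =
      u * (S.gS F i * u₁ * (S.gS F i)⁻¹) * (S.gS F i * S.xI i a * S.gS F i) * t' * v' := by
    calc _ = u * S.gS F i * (t * (u' * v)) * S.gS F i * S.tI F d * v' := by group
      _ = u * (S.gS F i * u₁ * (S.gS F i)⁻¹) * (S.gS F i * S.xI i a * S.gS F i) *
            ((S.gS F i)⁻¹ * t * S.gS F i * S.tI F d) * v' := by rw [e2]; group
      _ = _ := by rw [ht, hd', ht', map_mul]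
  rcases eq_or_ne a 0 with rfl | ha
  · left
    have hn1 := S.nd_mul (S.nd_mul (S.nd_gS (F := F) i) (S.nd_gS i)) (S.nd_tI (F := F) (d' * d))
    rw [S.wp_mul_self, one_mul] at hn1
    refine S.cellOf_eq hN ⟨u * (S.gS F i * u₁ * (S.gS F i)⁻¹), mul_mem hu hua, _, hn1, v', hv', ?_⟩
    rw [e3, S.xI_zero, mul_one, ← ht']
    group
  · right
    obtain ⟨b, rfl⟩ : ∃ b : Fˣ, a = b := ⟨Units.mk0 a ha, rfl⟩
    have hn1 := S.nd_mul (S.nd_mul (S.nd_tI (F := F) (Pi.mulSingle i (-b⁻¹))) (S.nd_gS i))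
      (S.nd_tI (F := F) (d' * d))
    rw [one_mul, mul_one] at hn1
    refine S.cellOf_eq hN ⟨u * (S.gS F i * u₁ * (S.gS F i)⁻¹) * S.xI i (-1 / (b : F)),
      mul_mem (mul_mem hu hua) (S.xI_mem_U i _), _, hn1,
      t'⁻¹ * S.xI i (-1 / (b : F)) * t' * v',
      mul_mem (S.tI_conj_mem _ (S.xI_mem_U i _)).2 hv', ?_⟩
    rw [e3, S.gS_xI_gS, ← ht']
    group

/-- The double coset data of the standard Borel subgroup. -/
noncomputable def dcData [Fintype F] (hN : okNeg D = true) :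
    Cfsg.Lib.Hecke.DCData ((D.borelSubgroup F).subgroupOf (D.group F)) S.heckeSys
      (Fintype.card F) where
  cls := S.cellOf hN
  cls_surj w := by
    obtain ⟨L, hL⟩ := S.exists_wpL w.2
    refine ⟨(L.map (S.gS F)).prod,
      S.cellOf_eq hN ⟨1, one_mem _, (L.map (S.gS F)).prod, ?_, 1, one_mem _, by simp⟩⟩
    rw [hL]
    clear hL
    induction L with
    | nil => exact S.nd_one
    | cons i L ih => simpa [wpL] using S.nd_mul (S.nd_gS (F := F) i) ih
  cls_eq g h := by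
    constructor
    · intro e
      obtain ⟨u, hu, n, hn, u', hu', eg⟩ := S.inCell_cellOf hN g
      obtain ⟨v, hv, m, hm, v', hv', eh⟩ := S.inCell_cellOf hN h
      rw [← e] at hm
      obtain ⟨c, rfl⟩ := S.nd_eq_tI hn hm
      refine ⟨v * u⁻¹, mul_mem (S.U_le_borel hv) (inv_mem (S.U_le_borel hu)),
        u'⁻¹ * S.tI F c * v', mul_mem (mul_mem (inv_mem (S.U_le_borel hu')) (S.tI_mem_borel c))
          (S.U_le_borel hv'), ?_⟩
      rw [eh, eg]
      group
    · rintro ⟨b, hb, b', hb', rfl⟩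
      exact (S.cellOf_eq hN (S.inCell_mul_right hb' (S.inCell_mul_left hb (S.inCell_cellOf hN g)))).symm
  cls_one := S.cellOf_eq hN ⟨1, one_mem _, 1, S.nd_one, 1, one_mem _, by simp⟩
  cls_inv g := by
    obtain ⟨u, hu, n, hn, u', hu', e⟩ := S.inCell_cellOf hN g
    refine S.cellOf_eq hN ⟨u'⁻¹, inv_mem hu', n⁻¹, ?_, u⁻¹, inv_mem hu, ?_⟩
    · rw [Subgroup.coe_inv]; exact S.nd_inv hn
    · conv_lhs => rw [e]
      group
  up i g h hg hd := S.cell_up hN i hg hd
  quad i g h hg hh := S.cell_quad hN i hg hh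
  card_cell i := by
    rw [← Nat.card_eq_fintype_card (α := F)]
    set B := (D.borelSubgroup F).subgroupOf (D.group F)
    have hcell : ∀ g : ↥(D.group F), S.cellOf hN (g : ↥(D.group F) ⧸ B).out = S.cellOf hN g := by
      intro g
      obtain ⟨⟨b, hb⟩, e⟩ := QuotientGroup.mk_out_eq_mul B g
      rw [e]
      exact S.cellOf_eq hN (S.inCell_mul_right hb (S.inCell_cellOf hN g))
    have hmem : ∀ a : F, S.cellOf hN ((S.xI i a * S.gS F i : ↥(D.group F)) :
        ↥(D.group F) ⧸ B).out = S.wW i := fun a => by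
      rw [hcell]
      exact S.cellOf_eq hN ⟨_, S.xI_mem_U i a, _, S.nd_gS i, 1, one_mem _, by rw [mul_one]⟩
    refine (Nat.card_eq_of_bijective (fun a : F =>
      (⟨((S.xI i a * S.gS F i : ↥(D.group F)) : ↥(D.group F) ⧸ B), hmem a⟩ :
        {y : ↥(D.group F) ⧸ B // S.cellOf hN y.out = S.wW i})) ⟨?_, ?_⟩).symm
    · intro a b e
      have e1 := QuotientGroup.eq.1 (congrArg Subtype.val e)
      have e2 : (S.xI i a * S.gS F i)⁻¹ * (S.xI i b * S.gS F i) =
          (S.gS F i)⁻¹ * S.xI i (-a + b) * S.gS F i := by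
        rw [← S.xI_add, ← S.xI_inv]
        group
      rw [e2] at e1
      have hn := S.nd_inv (S.nd_gS (F := F) i)
      have h3 := S.mem_U_of_conj hN hn (S.xI_mem_U i (-a + b))
        (by rw [inv_inv]; exact Subgroup.mem_subgroupOf.1 e1)
      rw [inv_inv] at h3
      linear_combination -(S.xI_conj_gS h3 hN)
    · rintro ⟨y, hy⟩
      obtain ⟨g, rfl⟩ := QuotientGroup.mk_surjective y
      have hc := S.inCell_cellOf hN g
      rw [← hcell, hy] at hc
      obtain ⟨u, hu, n, hn, u', hu', rfl⟩ := hc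
      obtain ⟨c, rfl⟩ := S.exists_gS_tI hn
      obtain ⟨a, u₁, hu₁, rfl, hua⟩ := S.U_split_left i hu
      refine ⟨a, Subtype.ext (QuotientGroup.eq.2 ?_)⟩
      have e : (S.xI i a * S.gS F i)⁻¹ * (S.xI i a * u₁ * (S.gS F i * S.tI F c) * u') =
          (S.gS F i)⁻¹ * u₁ * S.gS F i * S.tI F c * u' := by group
      rw [e]
      exact mul_mem (mul_mem (S.U_le_borel (S.gS_inv_conj_mem i hua)) (S.tI_mem_borel c))
        (S.U_le_borel hu')

/-- The constituents of the permutation character on the Borel subgroup are as many as the classes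
of the Weyl group. -/
theorem card_borel_constituents [Fintype F] (hN : okNeg D = true) {l : ℕ} (hl : D.rank = l)
    (M : CoxeterMatrix (Fin l)) (hM : ∀ i j : Fin l, C.okCoxAt i j (M i j) = true) :
    Nat.card {χ : Cfsg.IrrCharacter ↥(D.group F) //
      ∃ φ : ↥(D.group F) → ℂ, Cfsg.IsCharacter ↥(D.group F) φ ∧
        Cfsg.fixedPointCharacter ((D.borelSubgroup F).subgroupOf (D.group F)) =
          (χ : ↥(D.group F) → ℂ) + φ} = Nat.card (ConjClasses M.Group) := by
  classical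
  have := Fintype.ofFinite ↥S.WG
  rw [(S.dcData (F := F) hN).card_constituents Fintype.card_pos]
  obtain ⟨ψ, hinj, hr, -⟩ := S.exists_permHom hN hl M hM
  let e : M.Group ≃* ↥S.WG := (MonoidHom.ofInjective hinj).trans (MulEquiv.subgroupCongr hr)
  refine (Nat.card_eq_of_bijective (ConjClasses.map e.toMonoidHom) ⟨fun a b h => ?_, ?_⟩).symm
  · obtain ⟨x, rfl⟩ := ConjClasses.exists_rep a
    obtain ⟨y, rfl⟩ := ConjClasses.exists_rep b
    simp only [ConjClasses.map, Quotient.map_mk, ConjClasses.mk] at h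
    have h' := ConjClasses.mk_eq_mk_iff_isConj.1 h
    refine ConjClasses.mk_eq_mk_iff_isConj.2 ?_
    simpa using e.symm.toMonoidHom.map_isConj h'
  · exact ConjClasses.map_surjective e.surjective

end Struct

end Cfsg.Lib.Chev
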