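import Cfsg.Agent.Chev.Full

/-! Coefficients of the roots on the fundamental roots (from the comments of the tables). -/

set_option autoImplicit false

namespace Cfsg.Lib.Chev

/-- Root coefficients of type G2. -/
noncomputable def G2.htTab : List (List ℤ) := [
  [-3, -2],
  [-3, -1],
  [-2, -1],
  [-1, -1],
  [-1, 0],
  [0, -1],
  [0, 1],
  [1, 0],
  [1, 1],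
  [2, 1],
  [3, 1],
  [3, 2]]

/-- Root coefficients of type B2. -/
noncomputable def B2.htTab : List (List ℤ) := [
  [-2, -1],
  [-1, -1],
  [-1, 0],
  [0, -1],
  [0, 1],
  [1, 0],
  [1, 1],
  [2, 1]]

/-- Root coefficients of type D4. -/
noncomputable def D4.htTab : List (List ℤ) := [
  [-1, -2, -1, -1],
  [-1, -1, -1, -1],
  [-1, -1, -1, 0],
  [-1, -1, 0, -1],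
  [-1, -1, 0, 0],
  [-1, 0, 0, 0],
  [0, -1, -1, -1],
  [0, -1, -1, 0],
  [0, -1, 0, -1],
  [0, -1, 0, 0],
  [0, 0, -1, 0],
  [0, 0, 0, -1],
  [0, 0, 0, 1],
  [0, 0, 1, 0],
  [0, 1, 0, 0],
  [0, 1, 0, 1],
  [0, 1, 1, 0],
  [0, 1, 1, 1],
  [1, 0, 0, 0],
  [1, 1, 0, 0],
  [1, 1, 0, 1],
  [1, 1, 1, 0],
  [1, 1, 1, 1],
  [1, 2, 1, 1]]

/-- Root coefficients of type F4. -/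
noncomputable def F4.htTab : List (List ℤ) := [
  [-2, -4, -3, -2],
  [-2, -4, -3, -1],
  [-2, -4, -2, -1],
  [-2, -3, -2, -1],
  [-2, -2, -2, -1],
  [-2, -2, -1, -1],
  [-2, -2, -1, 0],
  [-1, -3, -2, -1],
  [-1, -2, -2, -1],
  [-1, -2, -1, -1],
  [-1, -2, -1, 0],
  [-1, -1, -1, -1],
  [-1, -1, -1, 0],
  [-1, -1, 0, 0],
  [-1, 0, 0, 0],
  [0, -2, -2, -1],
  [0, -2, -1, -1],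
  [0, -2, -1, 0],
  [0, -1, -1, -1],
  [0, -1, -1, 0],
  [0, -1, 0, 0],
  [0, 0, -1, -1],
  [0, 0, -1, 0],
  [0, 0, 0, -1],
  [0, 0, 0, 1],
  [0, 0, 1, 0],
  [0, 0, 1, 1],
  [0, 1, 0, 0],
  [0, 1, 1, 0],
  [0, 1, 1, 1],
  [0, 2, 1, 0],
  [0, 2, 1, 1],
  [0, 2, 2, 1],
  [1, 0, 0, 0],
  [1, 1, 0, 0],
  [1, 1, 1, 0],
  [1, 1, 1, 1],
  [1, 2, 1, 0],
  [1, 2, 1, 1],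
  [1, 2, 2, 1],
  [1, 3, 2, 1],
  [2, 2, 1, 0],
  [2, 2, 1, 1],
  [2, 2, 2, 1],
  [2, 3, 2, 1],
  [2, 4, 2, 1],
  [2, 4, 3, 1],
  [2, 4, 3, 2]]

/-- Root coefficients of type E6. -/
noncomputable def E6.htTab : List (List ℤ) := [
  [-1, -2, -2, -3, -2, -1],
  [-1, -1, -2, -3, -2, -1],
  [-1, -1, -2, -2, -2, -1],
  [-1, -1, -2, -2, -1, -1],
  [-1, -1, -2, -2, -1, 0],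
  [-1, -1, -1, -2, -2, -1],
  [-1, -1, -1, -2, -1, -1],
  [-1, -1, -1, -2, -1, 0],
  [-1, -1, -1, -1, -1, -1],
  [-1, -1, -1, -1, -1, 0],
  [-1, -1, -1, -1, 0, 0],
  [-1, 0, -1, -1, -1, -1],
  [-1, 0, -1, -1, -1, 0],
  [-1, 0, -1, -1, 0, 0],
  [-1, 0, -1, 0, 0, 0],
  [-1, 0, 0, 0, 0, 0],
  [0, -1, -1, -2, -2, -1],
  [0, -1, -1, -2, -1, -1],
  [0, -1, -1, -2, -1, 0],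
  [0, -1, -1, -1, -1, -1],
  [0, -1, -1, -1, -1, 0],
  [0, -1, -1, -1, 0, 0],
  [0, -1, 0, -1, -1, -1],
  [0, -1, 0, -1, -1, 0],
  [0, -1, 0, -1, 0, 0],
  [0, -1, 0, 0, 0, 0],
  [0, 0, -1, -1, -1, -1],
  [0, 0, -1, -1, -1, 0],
  [0, 0, -1, -1, 0, 0],
  [0, 0, -1, 0, 0, 0],
  [0, 0, 0, -1, -1, -1],
  [0, 0, 0, -1, -1, 0],
  [0, 0, 0, -1, 0, 0],
  [0, 0, 0, 0, -1, -1],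
  [0, 0, 0, 0, -1, 0],
  [0, 0, 0, 0, 0, -1],
  [0, 0, 0, 0, 0, 1],
  [0, 0, 0, 0, 1, 0],
  [0, 0, 0, 0, 1, 1],
  [0, 0, 0, 1, 0, 0],
  [0, 0, 0, 1, 1, 0],
  [0, 0, 0, 1, 1, 1],
  [0, 0, 1, 0, 0, 0],
  [0, 0, 1, 1, 0, 0],
  [0, 0, 1, 1, 1, 0],
  [0, 0, 1, 1, 1, 1],
  [0, 1, 0, 0, 0, 0],
  [0, 1, 0, 1, 0, 0],
  [0, 1, 0, 1, 1, 0],
  [0, 1, 0, 1, 1, 1],
  [0, 1, 1, 1, 0, 0],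
  [0, 1, 1, 1, 1, 0],
  [0, 1, 1, 1, 1, 1],
  [0, 1, 1, 2, 1, 0],
  [0, 1, 1, 2, 1, 1],
  [0, 1, 1, 2, 2, 1],
  [1, 0, 0, 0, 0, 0],
  [1, 0, 1, 0, 0, 0],
  [1, 0, 1, 1, 0, 0],
  [1, 0, 1, 1, 1, 0],
  [1, 0, 1, 1, 1, 1],
  [1, 1, 1, 1, 0, 0],
  [1, 1, 1, 1, 1, 0],
  [1, 1, 1, 1, 1, 1],
  [1, 1, 1, 2, 1, 0],
  [1, 1, 1, 2, 1, 1],
  [1, 1, 1, 2, 2, 1],
  [1, 1, 2, 2, 1, 0],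
  [1, 1, 2, 2, 1, 1],
  [1, 1, 2, 2, 2, 1],
  [1, 1, 2, 3, 2, 1],
  [1, 2, 2, 3, 2, 1]]

/-- Root coefficients of type E7. -/
noncomputable def E7.htTab : List (List ℤ) := [
  [-2, -2, -3, -4, -3, -2, -1],
  [-1, -2, -3, -4, -3, -2, -1],
  [-1, -2, -2, -4, -3, -2, -1],
  [-1, -2, -2, -3, -3, -2, -1],
  [-1, -2, -2, -3, -2, -2, -1],
  [-1, -2, -2, -3, -2, -1, -1],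
  [-1, -2, -2, -3, -2, -1, 0],
  [-1, -1, -2, -3, -3, -2, -1],
  [-1, -1, -2, -3, -2, -2, -1],
  [-1, -1, -2, -3, -2, -1, -1],
  [-1, -1, -2, -3, -2, -1, 0],
  [-1, -1, -2, -2, -2, -2, -1],
  [-1, -1, -2, -2, -2, -1, -1],
  [-1, -1, -2, -2, -2, -1, 0],
  [-1, -1, -2, -2, -1, -1, -1],
  [-1, -1, -2, -2, -1, -1, 0],
  [-1, -1, -2, -2, -1, 0, 0],
  [-1, -1, -1, -2, -2, -2, -1],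
  [-1, -1, -1, -2, -2, -1, -1],
  [-1, -1, -1, -2, -2, -1, 0],
  [-1, -1, -1, -2, -1, -1, -1],
  [-1, -1, -1, -2, -1, -1, 0],
  [-1, -1, -1, -2, -1, 0, 0],
  [-1, -1, -1, -1, -1, -1, -1],
  [-1, -1, -1, -1, -1, -1, 0],
  [-1, -1, -1, -1, -1, 0, 0],
  [-1, -1, -1, -1, 0, 0, 0],
  [-1, 0, -1, -1, -1, -1, -1],
  [-1, 0, -1, -1, -1, -1, 0],
  [-1, 0, -1, -1, -1, 0, 0],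
  [-1, 0, -1, -1, 0, 0, 0],
  [-1, 0, -1, 0, 0, 0, 0],
  [-1, 0, 0, 0, 0, 0, 0],
  [0, -1, -1, -2, -2, -2, -1],
  [0, -1, -1, -2, -2, -1, -1],
  [0, -1, -1, -2, -2, -1, 0],
  [0, -1, -1, -2, -1, -1, -1],
  [0, -1, -1, -2, -1, -1, 0],
  [0, -1, -1, -2, -1, 0, 0],
  [0, -1, -1, -1, -1, -1, -1],
  [0, -1, -1, -1, -1, -1, 0],
  [0, -1, -1, -1, -1, 0, 0],
  [0, -1, -1, -1, 0, 0, 0],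
  [0, -1, 0, -1, -1, -1, -1],
  [0, -1, 0, -1, -1, -1, 0],
  [0, -1, 0, -1, -1, 0, 0],
  [0, -1, 0, -1, 0, 0, 0],
  [0, -1, 0, 0, 0, 0, 0],
  [0, 0, -1, -1, -1, -1, -1],
  [0, 0, -1, -1, -1, -1, 0],
  [0, 0, -1, -1, -1, 0, 0],
  [0, 0, -1, -1, 0, 0, 0],
  [0, 0, -1, 0, 0, 0, 0],
  [0, 0, 0, -1, -1, -1, -1],
  [0, 0, 0, -1, -1, -1, 0],
  [0, 0, 0, -1, -1, 0, 0],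
  [0, 0, 0, -1, 0, 0, 0],
  [0, 0, 0, 0, -1, -1, -1],
  [0, 0, 0, 0, -1, -1, 0],
  [0, 0, 0, 0, -1, 0, 0],
  [0, 0, 0, 0, 0, -1, -1],
  [0, 0, 0, 0, 0, -1, 0],
  [0, 0, 0, 0, 0, 0, -1],
  [0, 0, 0, 0, 0, 0, 1],
  [0, 0, 0, 0, 0, 1, 0],
  [0, 0, 0, 0, 0, 1, 1],
  [0, 0, 0, 0, 1, 0, 0],
  [0, 0, 0, 0, 1, 1, 0],
  [0, 0, 0, 0, 1, 1, 1],
  [0, 0, 0, 1, 0, 0, 0],
  [0, 0, 0, 1, 1, 0, 0],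
  [0, 0, 0, 1, 1, 1, 0],
  [0, 0, 0, 1, 1, 1, 1],
  [0, 0, 1, 0, 0, 0, 0],
  [0, 0, 1, 1, 0, 0, 0],
  [0, 0, 1, 1, 1, 0, 0],
  [0, 0, 1, 1, 1, 1, 0],
  [0, 0, 1, 1, 1, 1, 1],
  [0, 1, 0, 0, 0, 0, 0],
  [0, 1, 0, 1, 0, 0, 0],
  [0, 1, 0, 1, 1, 0, 0],
  [0, 1, 0, 1, 1, 1, 0],
  [0, 1, 0, 1, 1, 1, 1],
  [0, 1, 1, 1, 0, 0, 0],
  [0, 1, 1, 1, 1, 0, 0],
  [0, 1, 1, 1, 1, 1, 0],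
  [0, 1, 1, 1, 1, 1, 1],
  [0, 1, 1, 2, 1, 0, 0],
  [0, 1, 1, 2, 1, 1, 0],
  [0, 1, 1, 2, 1, 1, 1],
  [0, 1, 1, 2, 2, 1, 0],
  [0, 1, 1, 2, 2, 1, 1],
  [0, 1, 1, 2, 2, 2, 1],
  [1, 0, 0, 0, 0, 0, 0],
  [1, 0, 1, 0, 0, 0, 0],
  [1, 0, 1, 1, 0, 0, 0],
  [1, 0, 1, 1, 1, 0, 0],
  [1, 0, 1, 1, 1, 1, 0],
  [1, 0, 1, 1, 1, 1, 1],
  [1, 1, 1, 1, 0, 0, 0],
  [1, 1, 1, 1, 1, 0, 0],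
  [1, 1, 1, 1, 1, 1, 0],
  [1, 1, 1, 1, 1, 1, 1],
  [1, 1, 1, 2, 1, 0, 0],
  [1, 1, 1, 2, 1, 1, 0],
  [1, 1, 1, 2, 1, 1, 1],
  [1, 1, 1, 2, 2, 1, 0],
  [1, 1, 1, 2, 2, 1, 1],
  [1, 1, 1, 2, 2, 2, 1],
  [1, 1, 2, 2, 1, 0, 0],
  [1, 1, 2, 2, 1, 1, 0],
  [1, 1, 2, 2, 1, 1, 1],
  [1, 1, 2, 2, 2, 1, 0],
  [1, 1, 2, 2, 2, 1, 1],
  [1, 1, 2, 2, 2, 2, 1],
  [1, 1, 2, 3, 2, 1, 0],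
  [1, 1, 2, 3, 2, 1, 1],
  [1, 1, 2, 3, 2, 2, 1],
  [1, 1, 2, 3, 3, 2, 1],
  [1, 2, 2, 3, 2, 1, 0],
  [1, 2, 2, 3, 2, 1, 1],
  [1, 2, 2, 3, 2, 2, 1],
  [1, 2, 2, 3, 3, 2, 1],
  [1, 2, 2, 4, 3, 2, 1],
  [1, 2, 3, 4, 3, 2, 1],
  [2, 2, 3, 4, 3, 2, 1]]

/-- Root coefficients of type E8. -/
noncomputable def E8.htTab : List (List ℤ) := [
  [-2, -3, -4, -6, -5, -4, -3, -2],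
  [-2, -3, -4, -6, -5, -4, -3, -1],
  [-2, -3, -4, -6, -5, -4, -2, -1],
  [-2, -3, -4, -6, -5, -3, -2, -1],
  [-2, -3, -4, -6, -4, -3, -2, -1],
  [-2, -3, -4, -5, -4, -3, -2, -1],
  [-2, -3, -3, -5, -4, -3, -2, -1],
  [-2, -2, -4, -5, -4, -3, -2, -1],
  [-2, -2, -3, -5, -4, -3, -2, -1],
  [-2, -2, -3, -4, -4, -3, -2, -1],
  [-2, -2, -3, -4, -3, -3, -2, -1],
  [-2, -2, -3, -4, -3, -2, -2, -1],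
  [-2, -2, -3, -4, -3, -2, -1, -1],
  [-2, -2, -3, -4, -3, -2, -1, 0],
  [-1, -3, -3, -5, -4, -3, -2, -1],
  [-1, -2, -3, -5, -4, -3, -2, -1],
  [-1, -2, -3, -4, -4, -3, -2, -1],
  [-1, -2, -3, -4, -3, -3, -2, -1],
  [-1, -2, -3, -4, -3, -2, -2, -1],
  [-1, -2, -3, -4, -3, -2, -1, -1],
  [-1, -2, -3, -4, -3, -2, -1, 0],
  [-1, -2, -2, -4, -4, -3, -2, -1],
  [-1, -2, -2, -4, -3, -3, -2, -1],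
  [-1, -2, -2, -4, -3, -2, -2, -1],
  [-1, -2, -2, -4, -3, -2, -1, -1],
  [-1, -2, -2, -4, -3, -2, -1, 0],
  [-1, -2, -2, -3, -3, -3, -2, -1],
  [-1, -2, -2, -3, -3, -2, -2, -1],
  [-1, -2, -2, -3, -3, -2, -1, -1],
  [-1, -2, -2, -3, -3, -2, -1, 0],
  [-1, -2, -2, -3, -2, -2, -2, -1],
  [-1, -2, -2, -3, -2, -2, -1, -1],
  [-1, -2, -2, -3, -2, -2, -1, 0],
  [-1, -2, -2, -3, -2, -1, -1, -1],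
  [-1, -2, -2, -3, -2, -1, -1, 0],
  [-1, -2, -2, -3, -2, -1, 0, 0],
  [-1, -1, -2, -3, -3, -3, -2, -1],
  [-1, -1, -2, -3, -3, -2, -2, -1],
  [-1, -1, -2, -3, -3, -2, -1, -1],
  [-1, -1, -2, -3, -3, -2, -1, 0],
  [-1, -1, -2, -3, -2, -2, -2, -1],
  [-1, -1, -2, -3, -2, -2, -1, -1],
  [-1, -1, -2, -3, -2, -2, -1, 0],
  [-1, -1, -2, -3, -2, -1, -1, -1],
  [-1, -1, -2, -3, -2, -1, -1, 0],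
  [-1, -1, -2, -3, -2, -1, 0, 0],
  [-1, -1, -2, -2, -2, -2, -2, -1],
  [-1, -1, -2, -2, -2, -2, -1, -1],
  [-1, -1, -2, -2, -2, -2, -1, 0],
  [-1, -1, -2, -2, -2, -1, -1, -1],
  [-1, -1, -2, -2, -2, -1, -1, 0],
  [-1, -1, -2, -2, -2, -1, 0, 0],
  [-1, -1, -2, -2, -1, -1, -1, -1],
  [-1, -1, -2, -2, -1, -1, -1, 0],
  [-1, -1, -2, -2, -1, -1, 0, 0],
  [-1, -1, -2, -2, -1, 0, 0, 0],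
  [-1, -1, -1, -2, -2, -2, -2, -1],
  [-1, -1, -1, -2, -2, -2, -1, -1],
  [-1, -1, -1, -2, -2, -2, -1, 0],
  [-1, -1, -1, -2, -2, -1, -1, -1],
  [-1, -1, -1, -2, -2, -1, -1, 0],
  [-1, -1, -1, -2, -2, -1, 0, 0],
  [-1, -1, -1, -2, -1, -1, -1, -1],
  [-1, -1, -1, -2, -1, -1, -1, 0],
  [-1, -1, -1, -2, -1, -1, 0, 0],
  [-1, -1, -1, -2, -1, 0, 0, 0],
  [-1, -1, -1, -1, -1, -1, -1, -1],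
  [-1, -1, -1, -1, -1, -1, -1, 0],
  [-1, -1, -1, -1, -1, -1, 0, 0],
  [-1, -1, -1, -1, -1, 0, 0, 0],
  [-1, -1, -1, -1, 0, 0, 0, 0],
  [-1, 0, -1, -1, -1, -1, -1, -1],
  [-1, 0, -1, -1, -1, -1, -1, 0],
  [-1, 0, -1, -1, -1, -1, 0, 0],
  [-1, 0, -1, -1, -1, 0, 0, 0],
  [-1, 0, -1, -1, 0, 0, 0, 0],
  [-1, 0, -1, 0, 0, 0, 0, 0],
  [-1, 0, 0, 0, 0, 0, 0, 0],
  [0, -1, -1, -2, -2, -2, -2, -1],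
  [0, -1, -1, -2, -2, -2, -1, -1],
  [0, -1, -1, -2, -2, -2, -1, 0],
  [0, -1, -1, -2, -2, -1, -1, -1],
  [0, -1, -1, -2, -2, -1, -1, 0],
  [0, -1, -1, -2, -2, -1, 0, 0],
  [0, -1, -1, -2, -1, -1, -1, -1],
  [0, -1, -1, -2, -1, -1, -1, 0],
  [0, -1, -1, -2, -1, -1, 0, 0],
  [0, -1, -1, -2, -1, 0, 0, 0],
  [0, -1, -1, -1, -1, -1, -1, -1],
  [0, -1, -1, -1, -1, -1, -1, 0],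
  [0, -1, -1, -1, -1, -1, 0, 0],
  [0, -1, -1, -1, -1, 0, 0, 0],
  [0, -1, -1, -1, 0, 0, 0, 0],
  [0, -1, 0, -1, -1, -1, -1, -1],
  [0, -1, 0, -1, -1, -1, -1, 0],
  [0, -1, 0, -1, -1, -1, 0, 0],
  [0, -1, 0, -1, -1, 0, 0, 0],
  [0, -1, 0, -1, 0, 0, 0, 0],
  [0, -1, 0, 0, 0, 0, 0, 0],
  [0, 0, -1, -1, -1, -1, -1, -1],
  [0, 0, -1, -1, -1, -1, -1, 0],
  [0, 0, -1, -1, -1, -1, 0, 0],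
  [0, 0, -1, -1, -1, 0, 0, 0],
  [0, 0, -1, -1, 0, 0, 0, 0],
  [0, 0, -1, 0, 0, 0, 0, 0],
  [0, 0, 0, -1, -1, -1, -1, -1],
  [0, 0, 0, -1, -1, -1, -1, 0],
  [0, 0, 0, -1, -1, -1, 0, 0],
  [0, 0, 0, -1, -1, 0, 0, 0],
  [0, 0, 0, -1, 0, 0, 0, 0],
  [0, 0, 0, 0, -1, -1, -1, -1],
  [0, 0, 0, 0, -1, -1, -1, 0],
  [0, 0, 0, 0, -1, -1, 0, 0],
  [0, 0, 0, 0, -1, 0, 0, 0],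
  [0, 0, 0, 0, 0, -1, -1, -1],
  [0, 0, 0, 0, 0, -1, -1, 0],
  [0, 0, 0, 0, 0, -1, 0, 0],
  [0, 0, 0, 0, 0, 0, -1, -1],
  [0, 0, 0, 0, 0, 0, -1, 0],
  [0, 0, 0, 0, 0, 0, 0, -1],
  [0, 0, 0, 0, 0, 0, 0, 1],
  [0, 0, 0, 0, 0, 0, 1, 0],
  [0, 0, 0, 0, 0, 0, 1, 1],
  [0, 0, 0, 0, 0, 1, 0, 0],
  [0, 0, 0, 0, 0, 1, 1, 0],
  [0, 0, 0, 0, 0, 1, 1, 1],
  [0, 0, 0, 0, 1, 0, 0, 0],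
  [0, 0, 0, 0, 1, 1, 0, 0],
  [0, 0, 0, 0, 1, 1, 1, 0],
  [0, 0, 0, 0, 1, 1, 1, 1],
  [0, 0, 0, 1, 0, 0, 0, 0],
  [0, 0, 0, 1, 1, 0, 0, 0],
  [0, 0, 0, 1, 1, 1, 0, 0],
  [0, 0, 0, 1, 1, 1, 1, 0],
  [0, 0, 0, 1, 1, 1, 1, 1],
  [0, 0, 1, 0, 0, 0, 0, 0],
  [0, 0, 1, 1, 0, 0, 0, 0],
  [0, 0, 1, 1, 1, 0, 0, 0],
  [0, 0, 1, 1, 1, 1, 0, 0],
  [0, 0, 1, 1, 1, 1, 1, 0],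
  [0, 0, 1, 1, 1, 1, 1, 1],
  [0, 1, 0, 0, 0, 0, 0, 0],
  [0, 1, 0, 1, 0, 0, 0, 0],
  [0, 1, 0, 1, 1, 0, 0, 0],
  [0, 1, 0, 1, 1, 1, 0, 0],
  [0, 1, 0, 1, 1, 1, 1, 0],
  [0, 1, 0, 1, 1, 1, 1, 1],
  [0, 1, 1, 1, 0, 0, 0, 0],
  [0, 1, 1, 1, 1, 0, 0, 0],
  [0, 1, 1, 1, 1, 1, 0, 0],
  [0, 1, 1, 1, 1, 1, 1, 0],
  [0, 1, 1, 1, 1, 1, 1, 1],
  [0, 1, 1, 2, 1, 0, 0, 0],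
  [0, 1, 1, 2, 1, 1, 0, 0],
  [0, 1, 1, 2, 1, 1, 1, 0],
  [0, 1, 1, 2, 1, 1, 1, 1],
  [0, 1, 1, 2, 2, 1, 0, 0],
  [0, 1, 1, 2, 2, 1, 1, 0],
  [0, 1, 1, 2, 2, 1, 1, 1],
  [0, 1, 1, 2, 2, 2, 1, 0],
  [0, 1, 1, 2, 2, 2, 1, 1],
  [0, 1, 1, 2, 2, 2, 2, 1],
  [1, 0, 0, 0, 0, 0, 0, 0],
  [1, 0, 1, 0, 0, 0, 0, 0],
  [1, 0, 1, 1, 0, 0, 0, 0],
  [1, 0, 1, 1, 1, 0, 0, 0],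
  [1, 0, 1, 1, 1, 1, 0, 0],
  [1, 0, 1, 1, 1, 1, 1, 0],
  [1, 0, 1, 1, 1, 1, 1, 1],
  [1, 1, 1, 1, 0, 0, 0, 0],
  [1, 1, 1, 1, 1, 0, 0, 0],
  [1, 1, 1, 1, 1, 1, 0, 0],
  [1, 1, 1, 1, 1, 1, 1, 0],
  [1, 1, 1, 1, 1, 1, 1, 1],
  [1, 1, 1, 2, 1, 0, 0, 0],
  [1, 1, 1, 2, 1, 1, 0, 0],
  [1, 1, 1, 2, 1, 1, 1, 0],
  [1, 1, 1, 2, 1, 1, 1, 1],
  [1, 1, 1, 2, 2, 1, 0, 0],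
  [1, 1, 1, 2, 2, 1, 1, 0],
  [1, 1, 1, 2, 2, 1, 1, 1],
  [1, 1, 1, 2, 2, 2, 1, 0],
  [1, 1, 1, 2, 2, 2, 1, 1],
  [1, 1, 1, 2, 2, 2, 2, 1],
  [1, 1, 2, 2, 1, 0, 0, 0],
  [1, 1, 2, 2, 1, 1, 0, 0],
  [1, 1, 2, 2, 1, 1, 1, 0],
  [1, 1, 2, 2, 1, 1, 1, 1],
  [1, 1, 2, 2, 2, 1, 0, 0],
  [1, 1, 2, 2, 2, 1, 1, 0],
  [1, 1, 2, 2, 2, 1, 1, 1],
  [1, 1, 2, 2, 2, 2, 1, 0],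
  [1, 1, 2, 2, 2, 2, 1, 1],
  [1, 1, 2, 2, 2, 2, 2, 1],
  [1, 1, 2, 3, 2, 1, 0, 0],
  [1, 1, 2, 3, 2, 1, 1, 0],
  [1, 1, 2, 3, 2, 1, 1, 1],
  [1, 1, 2, 3, 2, 2, 1, 0],
  [1, 1, 2, 3, 2, 2, 1, 1],
  [1, 1, 2, 3, 2, 2, 2, 1],
  [1, 1, 2, 3, 3, 2, 1, 0],
  [1, 1, 2, 3, 3, 2, 1, 1],
  [1, 1, 2, 3, 3, 2, 2, 1],
  [1, 1, 2, 3, 3, 3, 2, 1],
  [1, 2, 2, 3, 2, 1, 0, 0],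
  [1, 2, 2, 3, 2, 1, 1, 0],
  [1, 2, 2, 3, 2, 1, 1, 1],
  [1, 2, 2, 3, 2, 2, 1, 0],
  [1, 2, 2, 3, 2, 2, 1, 1],
  [1, 2, 2, 3, 2, 2, 2, 1],
  [1, 2, 2, 3, 3, 2, 1, 0],
  [1, 2, 2, 3, 3, 2, 1, 1],
  [1, 2, 2, 3, 3, 2, 2, 1],
  [1, 2, 2, 3, 3, 3, 2, 1],
  [1, 2, 2, 4, 3, 2, 1, 0],
  [1, 2, 2, 4, 3, 2, 1, 1],
  [1, 2, 2, 4, 3, 2, 2, 1],
  [1, 2, 2, 4, 3, 3, 2, 1],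
  [1, 2, 2, 4, 4, 3, 2, 1],
  [1, 2, 3, 4, 3, 2, 1, 0],
  [1, 2, 3, 4, 3, 2, 1, 1],
  [1, 2, 3, 4, 3, 2, 2, 1],
  [1, 2, 3, 4, 3, 3, 2, 1],
  [1, 2, 3, 4, 4, 3, 2, 1],
  [1, 2, 3, 5, 4, 3, 2, 1],
  [1, 3, 3, 5, 4, 3, 2, 1],
  [2, 2, 3, 4, 3, 2, 1, 0],
  [2, 2, 3, 4, 3, 2, 1, 1],
  [2, 2, 3, 4, 3, 2, 2, 1],
  [2, 2, 3, 4, 3, 3, 2, 1],
  [2, 2, 3, 4, 4, 3, 2, 1],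
  [2, 2, 3, 5, 4, 3, 2, 1],
  [2, 2, 4, 5, 4, 3, 2, 1],
  [2, 3, 3, 5, 4, 3, 2, 1],
  [2, 3, 4, 5, 4, 3, 2, 1],
  [2, 3, 4, 6, 4, 3, 2, 1],
  [2, 3, 4, 6, 5, 3, 2, 1],
  [2, 3, 4, 6, 5, 4, 2, 1],
  [2, 3, 4, 6, 5, 4, 3, 1],
  [2, 3, 4, 6, 5, 4, 3, 2]]

end Cfsg.Lib.Chev
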