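import Cfsg.Agent.Chev.Weights

/-!
# Every weight occurs

For a character of the torus and a set of fundamental roots on whose tori it is trivial, a vector with
that weight is written down inside the permutation representation on the cosets of `U`.
-/

set_option autoImplicit false
set_option linter.unusedSectionVars false

open Cfsg.Lie

namespace Cfsg.Lib.Chev

open Cfsg.Lib.Modular

variable {D : ChevalleyDatum} {C : Cert} {F : Type*} [Field F]
variable {k : Type*} [Field k]

/-- The permutation representation on functions. -/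
def funRep (k : Type*) [Field k] (G X : Type*) [Group G] [MulAction G X] : Representation k G (X → k) where
  toFun g :=
    { toFun := fun f x => f (g⁻¹ • x)
      map_add' := fun _ _ => rfl
      map_smul' := fun _ _ => rfl }
  map_one' := by ext f x; simp
  map_mul' g h := by ext f x; simp [mul_smul]

theorem funRep_single (k : Type*) [Field k] {G X : Type*} [Group G] [MulAction G X] [DecidableEq X] (g : G)
    (x : X) : funRep k G X g (Pi.single x (1 : k)) = Pi.single (g • x) 1 := by
  funext y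
  show Pi.single (M := fun _ => k) x 1 (g⁻¹ • y) = _
  simp [Pi.single_apply, inv_smul_eq_iff]

namespace Struct

variable (S : Struct D C)
include S

/-- The product of the fundamental monomial elements along a word. -/
noncomputable def nW (F : Type*) [Field F] (L : List (Fin D.rank)) : ↥(D.group F) := (L.map (S.gS F)).prod

theorem nW_cons (i : Fin D.rank) (L : List (Fin D.rank)) : S.nW F (i :: L) = S.gS F i * S.nW F L := rfl

theorem nW_append (L M : List (Fin D.rank)) : S.nW F (L ++ M) = S.nW F L * S.nW F M := by simp [nW]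

theorem wpL_append (L M : List (Fin D.rank)) : S.wpL (L ++ M) = S.wpL L * S.wpL M := by simp [wpL]

theorem wpL_cons (i : Fin D.rank) (L : List (Fin D.rank)) : S.wpL (i :: L) = S.wp i * S.wpL L := rfl

theorem wpL_reverse (L : List (Fin D.rank)) : S.wpL L.reverse = (S.wpL L)⁻¹ := by
  induction L with
  | nil => simp [wpL]
  | cons i L ih =>
    rw [List.reverse_cons, S.wpL_append, ih, S.wpL_cons i L, S.wpL_cons i [], show S.wpL [] = 1 from rfl,
      mul_one, mul_inv_rev, inv_eq_of_mul_eq_one_right (S.wp_mul_self i)]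

theorem nW_val (L : List (Fin D.rank)) : ((S.nW F L : ↥(D.group F)) : GL D.Idx F) = S.nL F L := by
  induction L with
  | nil => rfl
  | cons i L ih =>
    rw [S.nW_cons, Subgroup.coe_mul, ih]
    simp [nL, gS]

theorem nd_nW (L : List (Fin D.rank)) : S.Nd (S.nW F L) (S.wpL L) := by
  induction L with
  | nil => exact S.nd_one
  | cons i L ih => exact S.nd_mul (S.nd_gS i) ih

variable (χ : (Fin D.rank → Fˣ) →* kˣ)

/-- A word in the fundamental roots where `χ` is trivial. -/
def JW (L : List (Fin D.rank)) : Prop := ∀ i ∈ L, Triv χ i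

/-- A torus element killed by `χ`. -/
def Ker (g : ↥(D.group F)) : Prop := ∃ c, g = S.tI F c ∧ χ c = 1

variable {χ}

theorem ker_mul {g h : ↥(D.group F)} (hg : S.Ker χ g) (hh : S.Ker χ h) : S.Ker χ (g * h) := by
  obtain ⟨c, rfl, hc⟩ := hg
  obtain ⟨d, rfl, hd⟩ := hh
  exact ⟨c * d, (map_mul _ _ _).symm, by rw [map_mul, hc, hd, one_mul]⟩

theorem chi_conjT {i : Fin D.rank} (hi : Triv χ i) (c : Fin D.rank → Fˣ) : χ (conjT i c) = χ c := by
  rw [conjT, map_mul, hi, mul_one]

theorem ker_single {i : Fin D.rank} (hi : Triv χ i) (a : Fˣ) : S.Ker χ (S.tI F (Pi.mulSingle i a)) :=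
  ⟨_, rfl, hi a⟩

theorem ker_conj {i : Fin D.rank} (hi : Triv χ i) {g : ↥(D.group F)} (hg : S.Ker χ g) :
    S.Ker χ (S.gS F i * g * (S.gS F i)⁻¹) := by
  obtain ⟨c, rfl, hc⟩ := hg
  exact ⟨_, S.gS_conj_tI i c, by rw [S.chi_conjT hi, hc]⟩

theorem exch_ker (i : Fin D.rank) (hi : Triv χ i) : ∀ (L : List (Fin D.rank)), JW χ L →
    (S.wpL L (S.sp i)).val < D.nroots / 2 →
    ∃ (L' : List (Fin D.rank)) (g : ↥(D.group F)), JW χ L' ∧ S.Ker χ g ∧ L'.length + 1 = L.length ∧
      S.nW F L * S.gS F i = g * S.nW F L'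
  | [], _, hneg => by
    simp only [wpL, List.map_nil, List.prod_nil, Equiv.Perm.one_apply, sp] at hneg
    exact absurd hneg (by have := S.sr_pos i.isLt; omega)
  | a :: M, hJ, hneg => by
    simp only [wpL, List.map_cons, List.prod_cons, Equiv.Perm.mul_apply] at hneg
    have ha : Triv χ a := hJ a List.mem_cons_self
    have hM : JW χ M := fun x hx => hJ x (List.mem_cons_of_mem _ hx)
    by_cases hv : (S.wpL M (S.sp i)).val < D.nroots / 2
    · obtain ⟨M', g, hM', hg, hlen, e⟩ := exch_ker i hi M hM hv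
      refine ⟨a :: M', S.gS F a * g * (S.gS F a)⁻¹, ?_, S.ker_conj ha hg, by simp [← hlen], ?_⟩
      · intro x hx
        rcases List.mem_cons.1 hx with rfl | hx
        · exact ha
        · exact hM' x hx
      · rw [S.nW_cons, S.nW_cons, mul_assoc, e]
        group
    · have hva : (S.wpL M (S.sp i)).val = C.sr a.val := by
        by_contra hne
        have := S.pos_w a.isLt (by omega) (S.wpL M (S.sp i)).isLt hne
        simp only [wpL] at this
        rw [wp_val] at hneg
        omega
      obtain ⟨-, c, hc, e⟩ := S.act_nL (F := F) M (S.sp i)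
      have e1 := (e 1).2
      rw [hva, S.ok.sr_eq a.isLt, mul_one, show (S.sp i).val = C.sr i.val from rfl,
        S.ok.sr_eq i.isLt, S.ok.nG_eq_hG_mul a.isLt hc] at e1
      have e2 : S.nW F M * S.gS F i = S.tI F (Pi.mulSingle a (Units.mk0 c hc)) * S.gS F a * S.nW F M := by
        refine Subtype.ext ?_
        rw [Subgroup.coe_mul, Subgroup.coe_mul, Subgroup.coe_mul, S.nW_val, S.tI_val,
          ← S.ok.hG_simple_eq_tG]
        exact mul_inv_eq_iff_eq_mul.1 e1
      refine ⟨M, S.gS F a * S.tI F (Pi.mulSingle a (Units.mk0 c hc)) * (S.gS F a)⁻¹ *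
        (S.gS F a * S.gS F a), hM, S.ker_mul (S.ker_conj ha (S.ker_single ha _)) ?_, by simp, ?_⟩
      · rw [S.gS_sq]; exact S.ker_single ha _
      · rw [S.nW_cons, mul_assoc, e2]
        group

theorem nW_ker : ∀ (m : ℕ) (L : List (Fin D.rank)), L.length = m → JW χ L → S.wpL L = 1 →
    S.Ker χ (S.nW F L) := by
  intro m
  induction m using Nat.strong_induction_on with
  | _ m ih =>
    intro L hm hJ hL
    rcases eq_or_ne L [] with rfl | hne
    · exact ⟨1, by simp [nW], map_one χ⟩
    obtain ⟨M, i, rfl⟩ : ∃ M i, L = M ++ [i] := ⟨L.dropLast, L.getLast hne, (List.dropLast_append_getLast hne).symm⟩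
    have hM : JW χ M := fun x hx => hJ x (List.mem_append.2 (Or.inl hx))
    have hi : Triv χ i := hJ i (by simp)
    have hwM : S.wpL M = S.wp i := by
      have h1 : S.wpL M * S.wp i = 1 := by simpa [wpL] using hL
      rw [eq_inv_of_mul_eq_one_left h1, inv_eq_of_mul_eq_one_right (S.wp_mul_self i)]
    have hneg : (S.wpL M (S.sp i)).val < D.nroots / 2 := by
      rw [hwM, wp_val, show (S.sp i).val = C.sr i.val from rfl, (S.ok.refl_simple i.isLt).1,
        S.ok.neg_eq (S.ok.sr_lt i.isLt)]
      exact S.neg_lt_half (S.ok.sr_lt i.isLt) (S.sr_pos i.isLt)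
    obtain ⟨M', g, hM', hg, hlen, e⟩ := S.exch_ker (F := F) i hi M hM hneg
    have hperm : S.wpL M' = 1 := by
      obtain ⟨c, hc, -⟩ := hg
      have h1 := S.nd_mul (S.nd_tI (F := F) c) (S.nd_nW (F := F) M')
      have h2 := S.nd_mul (S.nd_nW (F := F) M) (S.nd_gS i)
      rw [e, hc] at h2
      have := S.nd_unique h1 h2
      rw [one_mul, hwM, S.wp_mul_self] at this
      exact this
    have : S.nW F (M ++ [i]) = g * S.nW F M' := by
      rw [← e, S.nW_append]; simp [nW]
    rw [this]
    refine S.ker_mul hg (ih M'.length ?_ M' rfl hM' hperm)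
    simp at hm
    omega

theorem palindrome_ker : ∀ L : List (Fin D.rank), JW χ L → S.Ker χ (S.nW F L * S.nW F L.reverse)
  | [], _ => ⟨1, by simp [nW], map_one χ⟩
  | i :: L, hJ => by
    have hi : Triv χ i := hJ i List.mem_cons_self
    have h := palindrome_ker L fun x hx => hJ x (List.mem_cons_of_mem _ hx)
    rw [List.reverse_cons, S.nW_append, S.nW_cons, show S.nW F [i] = S.gS F i by simp [nW],
      show S.gS F i * S.nW F L * (S.nW F L.reverse * S.gS F i) =
        S.gS F i * (S.nW F L * S.nW F L.reverse) * (S.gS F i)⁻¹ * (S.gS F i * S.gS F i) by group, S.gS_sq]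
    exact S.ker_mul (S.ker_conj hi h) (S.ker_single hi _)

variable [Fintype F] {V : Type*} [AddCommGroup V] [Module k V] {ρ : Representation k ↥(D.group F) V} {v0 : V}

theorem jw_weight (hv : Fixed ρ (UG D F) v0) (hw : S.Weight ρ χ v0) {L : List (Fin D.rank)} (hL : JW χ L) :
    S.Weight ρ χ (hop ρ (UG D F) (S.nW F L) v0) := by
  have key : ∀ L : List (Fin D.rank), JW χ L → ∀ c, ∃ c', (S.nW F L)⁻¹ * S.tI F c * S.nW F L = S.tI F c' ∧
      χ c' = χ c := by
    intro L
    induction L with
    | nil => exact fun _ c => ⟨c, by simp [nW], rfl⟩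
    | cons i L ih =>
      intro hJ c
      obtain ⟨c', hc', he⟩ := ih (fun x hx => hJ x (List.mem_cons_of_mem _ hx)) (conjT i c)
      refine ⟨c', ?_, by rw [he, S.chi_conjT (hJ i List.mem_cons_self)]⟩
      rw [← hc', S.nW_cons, ← S.inv_gS_conj_tI]
      group
  intro c
  obtain ⟨c', hc', he⟩ := key L hL c
  rw [S.weight_hop hv hw hc', he]

theorem jw_congr (hv : Fixed ρ (UG D F) v0) (hw : S.Weight ρ χ v0) {L L' : List (Fin D.rank)} (hL : JW χ L)
    (hL' : JW χ L') (h : S.wpL L = S.wpL L') :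
    hop ρ (UG D F) (S.nW F L) v0 = hop ρ (UG D F) (S.nW F L') v0 := by
  have hrev : JW χ L'.reverse := fun x hx => hL' x (List.mem_reverse.1 hx)
  have happ : JW χ (L ++ L'.reverse) := fun x hx => by
    rcases List.mem_append.1 hx with hx | hx
    · exact hL x hx
    · exact hrev x hx
  obtain ⟨c, hc, hχc⟩ := S.nW_ker (F := F) _ (L ++ L'.reverse) rfl happ
    (by rw [S.wpL_append, S.wpL_reverse, h, mul_inv_cancel])
  obtain ⟨d, hd, hχd⟩ := S.palindrome_ker (F := F) L' hL'
  have e : S.nW F L = S.tI F (c * d⁻¹) * S.nW F L' := by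
    rw [map_mul, map_inv, ← hc, ← hd, S.nW_append]
    group
  rw [e, hop_left hv (S.tI_normalises _), S.jw_weight hv hw hL', map_mul, map_inv, hχc, hχd, inv_one, mul_one,
    Units.val_one, one_smul]

variable {p : ℕ} [Fact p.Prime] [CharP k p] [CharP F p]
include p

theorem jw_step (hN : okNeg D = true) (hv : Fixed ρ (UG D F) v0) (hw : S.Weight ρ χ v0) {i : Fin D.rank}
    (hi : Triv χ i) {L : List (Fin D.rank)} (hL : JW χ L) :
    (D.nroots / 2 ≤ ((S.wpL L)⁻¹ (S.sp i)).val →
      hop ρ (UG D F) (S.gS F i) (hop ρ (UG D F) (S.nW F L) v0) = hop ρ (UG D F) (S.nW F (i :: L)) v0) ∧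
    (((S.wpL L)⁻¹ (S.sp i)).val < D.nroots / 2 →
      hop ρ (UG D F) (S.gS F i) (hop ρ (UG D F) (S.nW F L) v0) = -hop ρ (UG D F) (S.nW F L) v0) := by
  have hpos : ∀ L : List (Fin D.rank), D.nroots / 2 ≤ ((S.wpL L)⁻¹ (S.sp i)).val →
      hop ρ (UG D F) (S.gS F i) (hop ρ (UG D F) (S.nW F L) v0) = hop ρ (UG D F) (S.nW F (i :: L)) v0 :=
    fun L h => by rw [S.hop_gS_hop hN (S.nd_nW L) h hv]; rfl
  refine ⟨hpos L, fun h => ?_⟩
  have hiL : JW χ (i :: L) := fun x hx => by
    rcases List.mem_cons.1 hx with rfl | hx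
    · exact hi
    · exact hL x hx
  have hiiL : JW χ (i :: i :: L) := fun x hx => by
    rcases List.mem_cons.1 hx with rfl | hx
    · exact hi
    · exact hiL x hx
  have hp : D.nroots / 2 ≤ ((S.wpL (i :: L))⁻¹ (S.sp i)).val := by
    rw [S.wpL_cons, mul_inv_rev, inv_eq_of_mul_eq_one_right (S.wp_mul_self i)]
    exact S.wp_sp_neg ⟨L.reverse, (S.wpL_reverse L).symm⟩ i h
  have e : hop ρ (UG D F) (S.nW F L) v0 =
      hop ρ (UG D F) (S.gS F i) (hop ρ (UG D F) (S.nW F (i :: L)) v0) := by
    rw [hpos _ hp]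
    refine S.jw_congr hv hw hL hiiL ?_
    rw [S.wpL_cons, S.wpL_cons, ← mul_assoc, S.wp_mul_self, one_mul]
  rw [e, S.hop_gS_sq (p := p) hN i (fixed_hop hv _) (S.jw_weight hv hw hiL), if_pos hi, neg_smul, one_smul]

open Classical in
theorem exists_vector (hN : okNeg D = true) {T : List (List ℤ)} (hT : okHt D T = true)
    (hl : Cfsg.Lib.Steinberg.okLin D C T = true) (hinj : Function.Injective (Ok.tG D F))
    (χ : (Fin D.rank → Fˣ) →* kˣ) (A : Set (Fin D.rank)) (hA : ∀ i ∈ A, Triv χ i) :
    ∃ v : (↥(D.group F) ⧸ UG D F) → k, v ≠ 0 ∧ Fixed (funRep k ↥(D.group F) _) (UG D F) v ∧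
      S.Weight (funRep k ↥(D.group F) _) χ v ∧
      ∀ i, Triv χ i → hop (funRep k ↥(D.group F) _) (UG D F) (S.gS F i) v = if i ∈ A then -v else 0 := by
  haveI : Fintype (↥(D.group F) ⧸ UG D F) := Fintype.ofFinite _
  set ρ := funRep k ↥(D.group F) (↥(D.group F) ⧸ UG D F)
  set δ : ↥(D.group F) → ((↥(D.group F) ⧸ UG D F) → k) :=
    fun g => Pi.single ((g : ↥(D.group F) ⧸ UG D F)) 1
  have hδ : ∀ g h, ρ g (δ h) = δ (g * h) := fun g h => funRep_single k g _
  set v0 := ∑ c : Fin D.rank → Fˣ, (χ c⁻¹ : k) • δ (S.tI F c) with hv0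
  have hfix : Fixed ρ (UG D F) v0 := by
    intro u hu
    rw [hv0, map_sum]
    refine Finset.sum_congr rfl fun c _ => ?_
    rw [map_smul, hδ]
    congr 1
    simp only [δ]
    congr 1
    refine QuotientGroup.eq.2 ((S.tI_normalises c _).2 ?_)
    convert inv_mem hu using 1
    group
  have hwt : S.Weight ρ χ v0 := by
    intro d
    rw [hv0, map_sum, Finset.smul_sum]
    refine Fintype.sum_equiv (Equiv.mulLeft d) _ _ fun c => ?_
    rw [map_smul, hδ, smul_smul, Equiv.coe_mulLeft, ← map_mul, ← Units.val_mul, ← map_mul, mul_inv_rev,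
      mul_comm c⁻¹ d⁻¹, mul_inv_cancel_left]
  set J : Set ℕ := {j | ∃ h : j < D.rank, Triv χ ⟨j, h⟩}
  obtain ⟨L0, hL0J, hL0⟩ := Cfsg.Lib.Steinberg.exists_neg_word S hT hl J
  have hJd : JW χ L0.reverse := fun x hx => (hL0J x (List.mem_reverse.1 hx)).2
  set B : Fin D.rank → Prop := fun i => Triv χ i ∧ i ∉ A
  let Y := {w : Equiv.Perm (Fin D.nroots) // ∃ L : List (Fin D.rank), (∀ i ∈ L, B i) ∧ w = S.wpL L}
  haveI : Fintype Y := Fintype.ofFinite _
  choose Ly hLy hLy' using fun y : Y => y.2
  let d : Y → List (Fin D.rank) := fun y => Ly y ++ L0.reverse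
  have hd : ∀ y, JW χ (d y) := fun y x hx => by
    rcases List.mem_append.1 hx with hx | hx
    · exact (hLy y x hx).1
    · exact hJd x hx
  have hdperm : ∀ y, S.wpL (d y) = y.1 * S.wpL L0.reverse := fun y => by
    rw [S.wpL_append, ← hLy' y]
  let f : Y → ((↥(D.group F) ⧸ UG D F) → k) := fun y => hop ρ (UG D F) (S.nW F (d y)) v0
  refine ⟨∑ y, f y, ?_, ?_, ?_, ?_⟩
  · let y0 : Y := ⟨1, [], by simp, rfl⟩
    intro h
    have h1 := congrFun h ((S.nW F (d y0) : ↥(D.group F)) : ↥(D.group F) ⧸ UG D F)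
    rw [Finset.sum_apply, Pi.zero_apply] at h1
    set n0 := S.nW F (d y0)
    have hout : ∀ y (c : ↥(D.group F) ⧸ UG D F), c ∈ cosets (UG D F) (S.nW F (d y)) →
        ∀ t, ((c.out * S.tI F t : ↥(D.group F)) : ↥(D.group F) ⧸ UG D F) = (n0 : ↥(D.group F) ⧸ UG D F) →
          y = y0 ∧ t = 1 ∧ c = (n0 : ↥(D.group F) ⧸ UG D F) := by
      intro y c hc t ht
      obtain ⟨u, hu, h'⟩ := mem_cosets.1 (show ((c.out : ↥(D.group F)) : ↥(D.group F) ⧸ UG D F) ∈
        cosets (UG D F) (S.nW F (d y)) by rw [QuotientGroup.out_eq']; exact hc)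
      have h'' := QuotientGroup.eq.1 ht
      set h1 := (u * S.nW F (d y))⁻¹ * c.out with hh1
      set h2 := (c.out * S.tI F t)⁻¹ * n0 with hh2
      have h3 : (S.tI F t)⁻¹ * h1 * S.tI F t ∈ UG D F := by
        rw [S.tI_normalises t]
        convert h' using 1
        group
      have e : u * (S.nW F (d y) * S.tI F t) * ((S.tI F t)⁻¹ * h1 * S.tI F t * h2) = n0 := by
        rw [hh1, hh2]; group
      have hp := S.bruhat_perm hN hu (mul_mem h3 h'') (S.nd_mul (S.nd_nW _) (S.nd_tI t)) (S.nd_nW _) e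
      rw [mul_one, hdperm, hdperm] at hp
      have hy : y = y0 := Subtype.ext (mul_right_cancel hp)
      subst hy
      have hb : ((n0⁻¹ * u * n0⁻¹⁻¹ : ↥(D.group F)) : GL D.Idx F) ∈ D.borelSubgroup F := by
        have : n0⁻¹ * u * n0⁻¹⁻¹ = ((S.tI F t)⁻¹ * h1 * S.tI F t * h2)⁻¹ * (S.tI F t)⁻¹ := by
          conv_lhs => arg 1; rw [← e]
          simp only [n0]
          group
        rw [this]
        exact mul_mem (S.B_le_of (inv_mem (mul_mem h3 h'') : _ ∈ UG D F))
          (inv_mem (Subgroup.mem_sup_right (S.tI_mem_diag t)))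
      have h4 := S.mem_U_of_conj hN (S.nd_inv (S.nd_nW (d y0))) hu hb
      have ht1 : S.tI F t ∈ UG D F := by
        have : S.tI F t = (n0⁻¹ * u * n0⁻¹⁻¹)⁻¹ * ((S.tI F t)⁻¹ * h1 * S.tI F t * h2)⁻¹ := by
          conv_rhs => arg 1; arg 1; arg 1; arg 1; rw [← e]
          simp only [n0]
          group
        rw [this]
        exact mul_mem (inv_mem h4) (inv_mem (mul_mem h3 h''))
      have ht' : t = 1 := S.nd_eq_one_of_diag hinj rfl ht1
      refine ⟨rfl, ht', ?_⟩
      rw [← ht, ht', map_one, mul_one, QuotientGroup.out_eq']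
    have hval : ∀ y, f y ((n0 : ↥(D.group F) ⧸ UG D F)) =
        ∑ c ∈ cosets (UG D F) (S.nW F (d y)), ∑ t : Fin D.rank → Fˣ, (χ t⁻¹ : k) *
          if ((n0 : ↥(D.group F)) : ↥(D.group F) ⧸ UG D F) =
            ((c.out * S.tI F t : ↥(D.group F)) : ↥(D.group F) ⧸ UG D F) then 1 else 0 := by
      intro y
      simp only [f, hop, hv0, map_sum, map_smul, hδ, Finset.sum_apply, Pi.smul_apply, smul_eq_mul, δ,
        Pi.single_apply]
    simp only [hval] at h1
    rw [Finset.sum_eq_single y0, Finset.sum_eq_single (n0 : ↥(D.group F) ⧸ UG D F),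
      Finset.sum_eq_single (1 : Fin D.rank → Fˣ)] at h1
    · simp [QuotientGroup.out_eq'] at h1
    · intro t _ ht
      rw [if_neg, mul_zero]
      exact fun e => ht (hout y0 _ (mem_cosets.2 ⟨1, one_mem _, by simp [n0]⟩) t e.symm).2.1
    · simp
    · intro c hc hne
      refine Finset.sum_eq_zero fun t _ => ?_
      rw [if_neg, mul_zero]
      exact fun e => hne (hout y0 c hc t e.symm).2.2
    · exact fun h' => absurd (mem_cosets.2 ⟨1, one_mem _, by simp [n0]⟩) h'
    · intro y _ hy
      refine Finset.sum_eq_zero fun c hc => Finset.sum_eq_zero fun t _ => ?_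
      rw [if_neg, mul_zero]
      exact fun e => hy (hout y c hc t e.symm).1
    · simp
  · intro u hu
    rw [map_sum]
    exact Finset.sum_congr rfl fun y _ => fixed_hop hfix _ u hu
  · intro c
    rw [map_sum, Finset.smul_sum]
    exact Finset.sum_congr rfl fun y _ => S.jw_weight hfix hwt (hd y) c
  · intro i hi
    rw [hop_sum]
    by_cases hiA : i ∈ A
    · rw [if_pos hiA, ← Finset.sum_neg_distrib]
      refine Finset.sum_congr rfl fun y _ => (S.jw_step (p := p) hN hfix hwt hi (hd y)).2 ?_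
      rw [hdperm, mul_inv_rev, hLy' y, ← S.wpL_reverse, ← S.wpL_reverse, List.reverse_reverse, Equiv.Perm.mul_apply]
      have key : ∀ L : List (Fin D.rank), (∀ j ∈ L, B j) → ∀ l < D.rank,
          (l = i.val ∨ l ∉ J → htAt T (S.wpL L (S.sp i)).val l = htAt T (S.sp i).val l) := by
        intro L
        induction L with
        | nil => intro _ l _ _; simp [wpL]
        | cons j L ih =>
          intro hL l hl' hor
          have hne : l ≠ j.val := by
            have hj := hL j List.mem_cons_self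
            rcases hor with rfl | hor
            · exact fun e => hj.2 (Fin.ext e ▸ hiA)
            · rintro rfl; exact hor ⟨j.isLt, hj.1⟩
          rw [S.wpL_cons, Equiv.Perm.mul_apply, wp_val,
            Cfsg.Lib.Steinberg.lin_ne hl j.isLt (Fin.isLt _) hl' hne]
          exact ih (fun x hx => hL x (List.mem_cons_of_mem _ hx)) l hl' hor
      set r := S.wpL (Ly y).reverse (S.sp i)
      have hLr : ∀ j ∈ (Ly y).reverse, B j := fun j hj => hLy y j (List.mem_reverse.1 hj)
      have h1 : htAt T r.val i.val = 1 := by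
        rw [key _ hLr i.val i.isLt (Or.inl rfl)]
        show htAt T (C.sr i.val) i.val = 1
        rw [S.ok.sr_eq i.isLt, ht_simple hT i.isLt i.isLt,
          if_pos rfl]
      refine hL0 r ?_ ?_
      · by_contra hneg
        push Not at hneg
        obtain ⟨n1, n2, -⟩ := S.neg_pos hneg
        have h2 := S.ht_nonneg hT n1 n2 i.isLt
        rw [(ht_row hT r.isLt i.isLt).1, h1] at h2
        omega
      · refine (Struct.inRootSub_iff hT).2 ⟨r.isLt, fun l hl' hlJ => ?_⟩
        have hli : l ≠ i.val := fun e => hlJ ⟨hl', by subst e; exact hi⟩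
        rw [key _ hLr l hl' (Or.inr hlJ)]
        show htAt T (C.sr i.val) l = 0
        rw [S.ok.sr_eq i.isLt, ht_simple hT i.isLt hl',
          if_neg (Ne.symm hli)]
    · rw [if_neg hiA]
      have hB : B i := ⟨hi, hiA⟩
      have hτmem : ∀ y : Y, ∃ L : List (Fin D.rank), (∀ j ∈ L, B j) ∧ S.wp i * y.1 = S.wpL L := fun y =>
        ⟨i :: Ly y, fun x hx => by
          rcases List.mem_cons.1 hx with rfl | hx
          · exact hB
          · exact hLy y x hx, by rw [S.wpL_cons, ← hLy' y]⟩
      let τ : Y → Y := fun y => ⟨S.wp i * y.1, hτmem y⟩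
      have hττ : ∀ y, τ (τ y) = y := fun y => Subtype.ext (by
        show S.wp i * (S.wp i * y.1) = y.1
        rw [← mul_assoc, S.wp_mul_self, one_mul])
      have hτd : ∀ y, S.wpL (d (τ y)) = S.wp i * S.wpL (d y) := fun y => by
        rw [hdperm, hdperm, ← mul_assoc]
      let pos : Y → Prop := fun y => D.nroots / 2 ≤ ((S.wpL (d y))⁻¹ (S.sp i)).val
      have hpos : ∀ y, pos y → ¬ pos (τ y) := by
        intro y h h'
        simp only [pos, hτd, mul_inv_rev,
          inv_eq_of_mul_eq_one_right (S.wp_mul_self i)] at h'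
        have hw := S.nd_wpL (S.nd_inv (S.nd_nW (F := F) (d y)))
        obtain ⟨M, hM⟩ := hw
        have hlt := S.neg_lt_half (S.ok.sr_lt i.isLt) (S.sr_pos i.isLt)
        have hn : D.neg (C.sr i) < D.nroots := by omega
        rw [Equiv.Perm.mul_apply, hM, show S.wp i (S.sp i) = ⟨D.neg (C.sr i), hn⟩ from Fin.ext (by
          rw [Struct.wp_val, Struct.sp, (S.ok.refl_simple i.isLt).1, S.ok.neg_eq (S.ok.sr_lt i.isLt)]),
          show (S.wpL M ⟨D.neg (C.sr i), hn⟩).val = D.neg (S.wpL M (S.sp i)).val from S.wp_neg M (S.sp i) hn] at h'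
        simp only [pos, hM] at h
        have := S.neg_lt_half (Fin.isLt (S.wpL M (S.sp i))) h
        omega
      have hneg : ∀ y, ¬ pos y → pos (τ y) := by
        intro y h
        simp only [pos, hτd, mul_inv_rev,
          inv_eq_of_mul_eq_one_right (S.wp_mul_self i)]
        exact S.wp_sp_neg (S.nd_wpL (S.nd_inv (S.nd_nW (F := F) (d y)))) i (Nat.lt_of_not_le h)
      rw [← Finset.sum_filter_add_sum_filter_not Finset.univ pos,
        Finset.sum_congr rfl (g := fun y => f (τ y)) (fun y hy => by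
          rw [(S.jw_step (p := p) hN hfix hwt hi (hd y)).1 (Finset.mem_filter.1 hy).2]
          refine S.jw_congr hfix hwt (fun x hx => ?_) (hd _) ?_
          · rcases List.mem_cons.1 hx with rfl | hx
            · exact hi
            · exact hd y x hx
          · rw [hdperm, S.wpL_cons, hdperm, mul_assoc]),
        Finset.sum_congr rfl (g := fun y => -f y) (fun y hy =>
          (S.jw_step (p := p) hN hfix hwt hi (hd y)).2 (Nat.lt_of_not_le (Finset.mem_filter.1 hy).2)),
        Finset.sum_neg_distrib, ← sub_eq_add_neg, sub_eq_zero]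
      refine Finset.sum_nbij' τ τ ?_ ?_ (fun y _ => hττ y) (fun y _ => hττ y) fun y _ => rfl
      · exact fun y hy => Finset.mem_filter.2 ⟨Finset.mem_univ _, hpos y (Finset.mem_filter.1 hy).2⟩
      · exact fun y hy => Finset.mem_filter.2 ⟨Finset.mem_univ _, hneg y (Finset.mem_filter.1 hy).2⟩

variable [IsAlgClosed k]

set_option maxHeartbeats 1600000 in

/-- Every weight is the weight of an irreducible representation. -/
theorem exists_irred (hN : okNeg D = true) {T : List (List ℤ)} (hT : okHt D T = true)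
    (hl : Cfsg.Lib.Steinberg.okLin D C T = true) (hinj : Function.Injective (Ok.tG D F))
    (χ : (Fin D.rank → Fˣ) →* kˣ) (A : Set (Fin D.rank)) (hA : ∀ i ∈ A, Triv χ i) :
    ∃ (X : Submodule k ((↥(D.group F) ⧸ UG D F) → k)) (U : Submodule k X) (σ : Representation k ↥(D.group F) (X ⧸ U))
      (x : X ⧸ U), Irred σ ∧ S.Eig σ χ A x := by
  classical
  haveI : Fintype (↥(D.group F) ⧸ UG D F) := Fintype.ofFinite _
  obtain ⟨v, hv, hvf, hvw, hvh⟩ := S.exists_vector (p := p) hN hT hl hinj χ A hA
  set ρ := funRep k ↥(D.group F) (↥(D.group F) ⧸ UG D F)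
  obtain ⟨U, hU, hirr, hne⟩ := exists_irred_quotient ρ hv
  set σ := quotRep (subRep ρ _ (orbitSpan_invariant ρ v)) U hU
  set v' : orbitSpan ρ v := ⟨v, Submodule.subset_span ⟨1, by simp⟩⟩
  set x := (Submodule.Quotient.mk v' : _ ⧸ U)
  have hsub : Equivariant (subRep ρ _ (orbitSpan_invariant ρ v)) ρ (orbitSpan ρ v).subtype := fun _ _ => rfl
  have hq : Equivariant (subRep ρ _ (orbitSpan_invariant ρ v)) σ U.mkQ := fun _ _ => rfl
  have hxf : Fixed σ (UG D F) x := fun u hu => by
    rw [quotRep_mk]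
    exact congrArg Submodule.Quotient.mk (Subtype.ext (hvf u hu))
  have hxw : S.Weight σ χ x := fun c => by
    rw [quotRep_mk, ← Submodule.Quotient.mk_smul]
    exact congrArg Submodule.Quotient.mk (Subtype.ext (hvw c))
  have hxh : ∀ i, Triv χ i → hop σ (UG D F) (S.gS F i) x = if i ∈ A then -x else 0 := by
    intro i hi
    have h1 : (hop (subRep ρ _ (orbitSpan_invariant ρ v)) (UG D F) (S.gS F i) v' : orbitSpan ρ v) =
        if i ∈ A then -v' else 0 := by
      apply Subtype.ext
      have h2 := hop_map (U := UG D F) hsub (S.gS F i) v'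
      simp only [Submodule.coe_subtype] at h2
      rw [h2, hvh i hi]
      split <;> simp [v']
    have h3 := hop_map (U := UG D F) hq (S.gS F i) v'
    rw [Submodule.mkQ_apply, Submodule.mkQ_apply, h1] at h3
    rw [← h3]
    split <;> simp [x]
  haveI := hirr.nontrivial
  obtain ⟨χ', A', w, hw⟩ := S.exists_eig (p := p) hN σ
  obtain ⟨c, hc⟩ := S.fixed_line (p := p) hN hT hl hirr hne hxf hw.fixed
  have hc0 : c ≠ 0 := fun h => hw.ne (by rw [hc, h, zero_smul])
  refine ⟨_, U, σ, w, hirr, ?_⟩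
  have hχ : χ' = χ := by
    refine MonoidHom.ext fun t => Units.ext (smul_left_injective k hw.ne ?_)
    show (χ' t : k) • w = (χ t : k) • w
    rw [← hw.weight t, hc, map_smul, hxw t, smul_comm]
  subst hχ
  have hA' : A' = A := by
    ext i
    by_cases hi : Triv χ' i
    · have h1 : hop σ (UG D F) (S.gS F i) w = if i ∈ A then -w else 0 := by
        rw [hc, hop_smul, hxh i hi]
        split <;> simp
      constructor
      · intro hi'
        by_contra hiA
        rw [if_neg hiA, hw.mem i hi', neg_eq_zero] at h1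
        exact hw.ne h1
      · intro hiA
        by_contra hi'
        rw [if_pos hiA, hw.not_mem i hi'] at h1
        exact hw.ne (neg_eq_zero.1 h1.symm)
    · exact ⟨fun h => absurd (hw.triv i h) hi, fun h => absurd (hA i h) hi⟩
  exact hA' ▸ hw

end Struct

end Cfsg.Lib.Chev
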