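import Cfsg.Agent.Chev.ClosedPsi
import Cfsg.Agent.Steinberg.Linear

/-! Subgroups of `U` cut out by lower bounds on linear functions of the roots, and their behaviour
under the monomial elements normalising them. -/

set_option autoImplicit false

open Cfsg.Lie Cfsg.Lib.Steinberg

namespace Cfsg.Lib.Chev

universe u

variable {D : ChevalleyDatum} {C : Cert} {T : List (List ℤ)} {F : Type u} [Field F]

/-- A lower bound `c` on the sum of the coefficients in `ks` of the image of a root under a word. -/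
abbrev Bound : Type := List ℕ × List ℕ × ℤ

/-- The root satisfies all the bounds. -/
noncomputable def satB (C : Cert) (T : List (List ℤ)) (cs : List Bound) (r : ℕ) : Bool :=
  kall (fun q => decide (q.2.2 ≤ (q.2.1.map fun k => htAt T (q.1.foldr C.w r) k).sum)) cs

/-- The set of roots satisfying all the bounds. -/
def Sat (D : ChevalleyDatum) (C : Cert) (T : List (List ℤ)) (cs : List Bound) (r : Fin D.nroots) : Prop :=
  satB C T cs r.val = true

/-- The bounds are non-negative and refer to fundamental roots. -/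
def Fine (D : ChevalleyDatum) (cs : List Bound) : Prop :=
  ∀ q ∈ cs, (∀ i ∈ q.1, i < D.rank) ∧ (∀ k ∈ q.2.1, k < D.rank) ∧ 0 ≤ q.2.2

/-- The bounds pulled back along a word. -/
def shiftB (cs : List Bound) (M : List ℕ) : List Bound := cs.map fun q => (q.1 ++ M, q.2.1, q.2.2)

theorem satB_append (cs cs' : List Bound) (r : ℕ) :
    satB C T (cs ++ cs') r = true ↔ satB C T cs r = true ∧ satB C T cs' r = true := by
  simp only [satB, kall_iff, List.mem_append]
  exact ⟨fun h => ⟨fun q hq => h q (Or.inl hq), fun q hq => h q (Or.inr hq)⟩,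
    fun h q hq => hq.elim (h.1 q) (h.2 q)⟩

theorem satB_shift (cs : List Bound) (M : List ℕ) (r : ℕ) :
    satB C T (shiftB cs M) r = satB C T cs (M.foldr C.w r) := by
  rw [Bool.eq_iff_iff]
  simp only [satB, shiftB, kall_iff, List.mem_map, forall_exists_index, and_imp, forall_apply_eq_imp_iff₂,
    List.foldr_append]

theorem Fine.append {cs cs' : List Bound} (h : Fine D cs) (h' : Fine D cs') : Fine D (cs ++ cs') :=
  fun q hq => (List.mem_append.1 hq).elim (h q) (h' q)

theorem Fine.shift {cs : List Bound} (h : Fine D cs) {M : List ℕ} (hM : ∀ i ∈ M, i < D.rank) :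
    Fine D (shiftB cs M) := by
  intro q hq
  obtain ⟨p, hp, rfl⟩ := List.mem_map.1 hq
  exact ⟨fun i hi => (List.mem_append.1 hi).elim ((h p hp).1 i) (hM i), (h p hp).2⟩

namespace Struct

theorem exists_fins {L : List ℕ} (h : ∀ i ∈ L, i < D.rank) :
    ∃ L' : List (Fin D.rank), L'.map Fin.val = L := by
  induction L with
  | nil => exact ⟨[], rfl⟩
  | cons a L ih =>
    obtain ⟨L', e⟩ := ih fun i hi => h i (List.mem_cons_of_mem _ hi)
    exact ⟨⟨a, h a List.mem_cons_self⟩ :: L', by simp [e]⟩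

theorem wpL_val (S : Struct D C) : ∀ (L : List (Fin D.rank)) (r : Fin D.nroots),
    (S.wpL L r).val = (L.map Fin.val).foldr C.w r.val
  | [], r => by simp [wpL]
  | i :: L, r => by
    rw [wpL, List.map_cons, List.prod_cons, Equiv.Perm.mul_apply, wp_val, List.map_cons, List.foldr_cons,
      ← wpL_val S L r]
    rfl

theorem closed_Sat (S : Struct D C) (hT : okHt D T = true) (hl : okLin D C T = true) {cs : List Bound}
    (hf : Fine D cs) : ClosedPsi D (Sat D C T cs) := by
  intro r s hr hs hA hB q hq hk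
  obtain ⟨a, b, ha, hb, hab⟩ := ht_commTerms hT S.chain r.isLt s.isLt hq
  simp only [Sat, satB, kall_iff, decide_eq_true_eq] at hA hB ⊢
  intro p hp
  obtain ⟨hw, hks, hc⟩ := hf p hp
  obtain ⟨L, hL⟩ := exists_fins hw
  have key : ∀ k ∈ p.2.1, htAt T (p.1.foldr C.w q.1) k =
      (a : ℤ) * htAt T (p.1.foldr C.w r.val) k + (b : ℤ) * htAt T (p.1.foldr C.w s.val) k := by
    intro k hk'
    rw [← hL, show q.1 = (⟨q.1, hk⟩ : Fin D.nroots).val from rfl, ← S.wpL_val, ← S.wpL_val, ← S.wpL_val,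
      ht_wpL S hT hl L _ k (hks k hk'), ht_wpL S hT hl L r k (hks k hk'), ht_wpL S hT hl L s k (hks k hk'),
      Finset.mul_sum, Finset.mul_sum, ← Finset.sum_add_distrib]
    exact Finset.sum_congr rfl fun j _ => by rw [hab j j.isLt]; ring
  rw [List.map_congr_left key, List.sum_map_add, List.sum_map_mul_left, List.sum_map_mul_left]
  have h1 := hA p hp
  have h2 := hB p hp
  have ha' : (1 : ℤ) ≤ a := by exact_mod_cast ha
  have hb' : (1 : ℤ) ≤ b := by exact_mod_cast hb
  nlinarith

/-- A set normalised by `n_M` inside the subgroup of some bounds lies in that of the shifted bounds. -/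
theorem mem_shift (S : Struct D C) (hN : okNeg D = true) (hT : okHt D T = true) (hl : okLin D C T = true)
    {cs : List Bound} (hf : Fine D cs) {X : Set (GL D.Idx F)} (hX : X ⊆ S.UPsi F (Sat D C T cs))
    {L : List (Fin D.rank)} (hconj : ∀ x ∈ X, (S.nL F L.reverse)⁻¹ * x * S.nL F L.reverse ∈ X)
    {x : GL D.Idx F} (hx : x ∈ X) :
    x ∈ S.UPsi F (Sat D C T (cs ++ shiftB cs (L.map Fin.val))) := by
  have hM : ∀ i ∈ L.map Fin.val, i < D.rank := fun i hi => by
    obtain ⟨j, -, rfl⟩ := List.mem_map.1 hi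
    exact j.isLt
  have hmem := S.inter_conj hN (A := Sat D C T cs) (B := Sat D C T cs)
    (B' := Sat D C T (shiftB cs (L.map Fin.val))) (S.closed_Sat hT hl hf) (S.closed_Sat hT hl hf)
    (S.closed_Sat hT hl (hf.shift hM)) (S.act_nL L.reverse) (fun r hr => by
      have e : (S.wpL L) (S.wpL L.reverse r) = r := by
        rw [← Equiv.Perm.mul_apply]
        have : S.wpL L * S.wpL L.reverse = 1 := by
          clear hr hM hconj
          induction L with
          | nil => simp [wpL]
          | cons i L ih =>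
            simp only [wpL, List.reverse_cons, List.map_append, List.map_cons, List.map_nil, List.prod_append,
              List.prod_cons, List.prod_nil, mul_one] at ih ⊢
            rw [mul_assoc, ← mul_assoc (List.map S.wp L).prod, ih, one_mul, S.wp_mul_self]
        rw [this, Equiv.Perm.one_apply]
      show satB C T _ _ = true
      rw [satB_shift, ← S.wpL_val, e]
      exact hr)
    (hX hx) (hX (hconj x hx)) (by group)
  exact S.UPsi_mono (fun r _ h => (satB_append _ _ _).2 h) hmem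

/-- Repeating `mem_shift` over a list of words. -/
theorem mem_shifts (S : Struct D C) (hN : okNeg D = true) (hT : okHt D T = true) (hl : okLin D C T = true)
    {cs : List Bound} (hf : Fine D cs) {X : Set (GL D.Idx F)} (hX : X ⊆ S.UPsi F (Sat D C T cs))
    (W : List (List ℕ)) (hW : ∀ M ∈ W, ∀ i ∈ M, i < D.rank)
    (hconj : ∀ M ∈ W, ∀ L : List (Fin D.rank), L.map Fin.val = M →
      ∀ x ∈ X, (S.nL F L.reverse)⁻¹ * x * S.nL F L.reverse ∈ X)
    {Φ : Fin D.nroots → Prop}
    (hΦ : ∀ r : Fin D.nroots, D.nroots / 2 ≤ r.val → satB C T (cs ++ W.flatMap (shiftB cs)) r.val = true → Φ r)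
    {x : GL D.Idx F} (hx : x ∈ X) : x ∈ S.UPsi F Φ := by
  refine S.UPsi_mono (fun r h1 h2 => hΦ r h1 h2) ?_
  clear hΦ
  suffices H : Fine D (cs ++ W.flatMap (shiftB cs)) ∧ x ∈ S.UPsi F (Sat D C T (cs ++ W.flatMap (shiftB cs))) from
    H.2
  induction W with
  | nil => simpa using And.intro hf (hX hx)
  | cons M W ih =>
    obtain ⟨hfW, hmem⟩ := ih (fun N hN' => hW N (List.mem_cons_of_mem _ hN'))
      (fun N hN' => hconj N (List.mem_cons_of_mem _ hN'))
    obtain ⟨L, hL⟩ := exists_fins (hW M List.mem_cons_self)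
    have hM := S.mem_shift hN hT hl hf hX (hconj M List.mem_cons_self L hL) hx
    rw [hL] at hM
    have hfM : Fine D (cs ++ shiftB cs M) := hf.append (hf.shift (hW M List.mem_cons_self))
    refine ⟨hf.append fun q hq => ?_, S.UPsi_mono (fun r _ h => ?_)
      (S.UPsi_inter (S.closed_Sat hT hl hfM) (S.closed_Sat hT hl hfW) hM hmem)⟩
    · rw [List.flatMap_cons, List.mem_append] at hq
      exact hq.elim (fun h => (hf.shift (hW M List.mem_cons_self)) q h)
        (fun h => hfW q (List.mem_append_right _ h))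
    · obtain ⟨h1, h2⟩ := h
      simp only [Sat, satB_append, List.flatMap_cons] at h1 h2 ⊢
      exact ⟨h1.1, h1.2, h2.2⟩

theorem sat_single (i₀ : ℕ) (c : ℤ) (r : ℕ) :
    satB C T [([], [i₀], c)] r = true ↔ c ≤ htAt T r i₀ := by
  simp [satB, kall_iff]

theorem mem_lvl (S : Struct D C) {i₀ : ℕ} {c : ℤ} {r : Fin D.nroots} (hr : D.nroots / 2 ≤ r.val)
    (h : c ≤ htAt T r.val i₀) (t : F) : S.ok.xG r.val t ∈ S.UPsi F (Sat D C T [([], [i₀], c)]) :=
  S.mem_UPsi hr ((sat_single i₀ c r.val).2 h) t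

/-- A maximal parabolic subgroup normalises the subgroups of level at least `k`. -/
theorem parabolic_conj_lvl (S : Struct D C) (hT : okHt D T = true) (hDesc : okDescJ C T = true) {i₀ : ℕ}
    (hi₀ : i₀ < D.rank) {k : ℕ} (hk : 1 ≤ k) {p : GL D.Idx F}
    (hp : p ∈ D.parabolicSubgroup F {j | j ≠ i₀}) {x : GL D.Idx F}
    (hx : x ∈ S.UPsi F (Sat D C T [([], [i₀], (k : ℤ))])) :
    p * x * p⁻¹ ∈ S.UPsi F (Sat D C T [([], [i₀], (k : ℤ))]) := by
  have hle : D.parabolicSubgroup F {j | j ≠ i₀} ≤ Subgroup.normalizer (S.UPsi F (Sat D C T [([], [i₀], (k : ℤ))]) : Set (GL D.Idx F)) := by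
    have key : ∀ g : (GL D.Idx F), (∀ u ∈ S.UPsi F (Sat D C T [([], [i₀], (k : ℤ))]), g * u * g⁻¹ ∈ S.UPsi F (Sat D C T [([], [i₀], (k : ℤ))])) → (∀ u ∈ S.UPsi F (Sat D C T [([], [i₀], (k : ℤ))]), g⁻¹ * u * g⁻¹⁻¹ ∈ S.UPsi F (Sat D C T [([], [i₀], (k : ℤ))])) →
        g ∈ Subgroup.normalizer (S.UPsi F (Sat D C T [([], [i₀], (k : ℤ))]) : Set (GL D.Idx F)) := by
      intro g h1 h2
      rw [Subgroup.mem_normalizer_iff]
      refine fun x => ⟨h1 x, fun hx => ?_⟩
      simpa [mul_assoc] using h2 _ hx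
    have hroot : ∀ r, r < D.nroots → 0 ≤ htAt T r i₀ → ∀ t : F, ∀ u ∈ S.UPsi F (Sat D C T [([], [i₀], (k : ℤ))]),
        S.ok.xG r t * u * (S.ok.xG r t)⁻¹ ∈ S.UPsi F (Sat D C T [([], [i₀], (k : ℤ))]) := by
      intro r hr h0 t
      refine Struct.conj_closure_le ?_
      rintro u ⟨s, v, hs, hsat, rfl⟩
      have hsat' := (sat_single i₀ _ s.val).1 hsat
      rcases eq_or_ne s.val r with rfl | hne
      · rw [show S.ok.xG s.val t * S.ok.xG s.val v * (S.ok.xG s.val t)⁻¹ =
          S.ok.xG s.val v by rw [S.ok.xG_mul, S.ok.xG_inv, S.ok.xG_mul]; congr 1; ring]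
        exact S.mem_lvl hs hsat' v
      have hn : s.val ≠ D.neg r := by
        intro e
        rw [e, (ht_row hT hr hi₀).1] at hsat'
        omega
      have e := S.ok.commRel S.chain S.base hr s.isLt hne hn (-t) v
      have e' : S.ok.xG r t * S.ok.xG s.val v * (S.ok.xG r t)⁻¹ =
          S.ok.xG s.val v * S.ok.wG (D.commWord F r s.val (-t) v) := by
        rw [S.ok.xG_inv, mul_assoc, e, ← mul_assoc, ← mul_assoc, S.ok.xG_mul, add_neg_cancel,
          S.xG_zero, one_mul]
      rw [e']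
      refine mul_mem (S.mem_lvl hs hsat' v) (list_prod_mem fun g hg => ?_)
      simp only [ChevalleyDatum.commWord, List.map_map, List.mem_map] at hg
      obtain ⟨q, hq, rfl⟩ := hg
      obtain ⟨a, b, ha, hb, hab⟩ := ht_commTerms hT S.chain hr s.isLt hq
      have hk' : q.1 < D.nroots := Ok.commTerms_lt S.chain hr s.isLt hq
      have hlev : (k : ℤ) ≤ htAt T q.1 i₀ := by
        rw [hab i₀ hi₀]
        have hb' : (1 : ℤ) ≤ b := by exact_mod_cast hb
        nlinarith [mul_nonneg (Int.natCast_nonneg a) h0]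
      have hpos : 0 < htAt T q.1 i₀ := by omega
      exact S.mem_lvl (r := ⟨q.1, hk'⟩) (S.pos_of_ht hT hk' hi₀ hpos) hlev _
    rw [S.parabolic_eq hT hDesc]
    refine sup_le (fun g hg => ?_) ((Subgroup.closure_le _).2 ?_)
    · have hd : ∀ g ∈ D.diagonalSubgroup F, ∀ u ∈ S.UPsi F (Sat D C T [([], [i₀], (k : ℤ))]), g * u * g⁻¹ ∈ S.UPsi F (Sat D C T [([], [i₀], (k : ℤ))]) := by
        intro g hg
        refine Struct.conj_closure_le ?_
        rintro u ⟨s, v, hs, hsat, rfl⟩
        obtain ⟨-, c, -, e⟩ := S.act_diag hg s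
        rw [(e v).1]
        exact S.mem_lvl hs ((sat_single i₀ _ s.val).1 hsat) _
      exact key g (hd g hg) (hd _ (inv_mem hg))
    · rintro g ⟨r, t, hr, hg⟩
      rw [S.ok.eq_xG hg]
      have hrn : r < D.nroots := hr.elim (fun h => h.1) (fun h => h.1)
      have h0 : 0 ≤ htAt T r i₀ := by
        rcases hr with h | h
        · exact S.ht_nonneg hT (S.isPos_iff.1 h).1 hrn hi₀
        · exact (((inRootSub_iff hT).1 h).2 i₀ hi₀ (by simp)).ge
      refine key _ (hroot r hrn h0 t) ?_
      rw [S.ok.xG_inv]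
      exact hroot r hrn h0 (-t)
  exact (Subgroup.mem_normalizer_iff.1 (hle hp) x).1 hx

theorem xHom_val (S : Struct D C) (k : ℕ) (a : Multiplicative F) : S.xHom F k a = S.ok.xG k a.toAdd := rfl

/-- Membership in a `UPsi` whose set avoids the positive roots is triviality. -/
theorem eq_one_of_UPsi (S : Struct D C) {Φ : Fin D.nroots → Prop}
    (h : ∀ r : Fin D.nroots, D.nroots / 2 ≤ r.val → ¬ Φ r) {x : GL D.Idx F} (hx : x ∈ S.UPsi F Φ) : x = 1 := by
  rw [S.UPsi_eq_bot h] at hx
  exact Subgroup.mem_bot.1 hx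

end Struct

end Cfsg.Lib.Chev
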