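import Cfsg.Agent.Chev.Rel

/-! The fundamental reflections act on the root elements; additivity of all root elements. -/

set_option autoImplicit false

open Cfsg.Lie

namespace Cfsg.Lib.Chev

variable {D : ChevalleyDatum} {C : Cert} {R : Type*} [CommRing R]

namespace Cert

/-- `nCol` as a list of terms. -/
noncomputable def colsL (C : Cert) (i : ℕ) : List Tm :=
  kflat (fun b => kmap (fun x => ⟨0, 0, x.1, b, x.2⟩) (C.nCol i b)) (krange 0 (Nat.add C.l C.n))

/-- `nRow` as a list of terms. -/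
noncomputable def rowsL (C : Cert) (i : ℕ) : List Tm :=
  kflat (fun a => kmap (fun y => ⟨0, 0, a, y.1, y.2⟩) (C.nRow i a)) (krange 0 (Nat.add C.l C.n))

end Cert

theorem ev_flatMap {α : Type} (l n : ℕ) (t u : R) (f : α → List Tm) (L : List α) :
    ev l n t u (L.flatMap f) = (L.map fun a => ev l n t u (f a)).sum := by
  induction L with
  | nil => rfl
  | cons a L ih => simp [ih]

theorem sum_map_eq_single {M : Type*} [AddCommMonoid M] (N r : ℕ) (hr : r < N) (f : ℕ → M)
    (h : ∀ b < N, b ≠ r → f b = 0) : ((List.range N).map f).sum = f r := by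
  induction N with
  | zero => omega
  | succ m ih =>
    rw [List.range_succ, List.map_append, List.sum_append, List.map_singleton, List.sum_singleton]
    rcases Nat.lt_succ_iff_lt_or_eq.1 hr with hr' | rfl
    · rw [ih hr' fun b hb => h b (by omega), h m (by omega) (by omega), add_zero]
    · rw [List.sum_eq_zero, zero_add]
      intro z hz
      obtain ⟨b, hb, rfl⟩ := List.mem_map.1 hz
      rw [List.mem_range] at hb
      exact h b (by omega) (by omega)

theorem sum_mul_right' {ι : Type} (L : List ι) (f : ι → Matrix D.Idx D.Idx R) (X : Matrix D.Idx D.Idx R) :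
    (L.map f).sum * X = (L.map fun a => f a * X).sum := by
  induction L with
  | nil => simp
  | cons a L ih => simp [add_mul, ih]

theorem mul_sum_left' {ι : Type} (L : List ι) (f : ι → Matrix D.Idx D.Idx R) (X : Matrix D.Idx D.Idx R) :
    X * (L.map f).sum = (L.map fun a => X * f a).sum := by
  induction L with
  | nil => simp
  | cons a L ih => simp [mul_add, ih]

/-- The integral matrix `n_{p_i}(1)`. -/
noncomputable def nc (R : Type*) [CommRing R] (D : ChevalleyDatum) (C : Cert) (i : ℕ) :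
    Matrix D.Idx D.Idx R := ev D.rank D.nroots 1 1 (C.colsL i)

/-- Its inverse. -/
noncomputable def nr (R : Type*) [CommRing R] (D : ChevalleyDatum) (C : Cert) (i : ℕ) :
    Matrix D.Idx D.Idx R := ev D.rank D.nroots 1 1 (C.rowsL i)

theorem nc_mul_unit (h : Ok D C) (i : ℕ) {r : ℕ} (hr : r < D.rank + D.nroots) (c : ℕ) :
    nc R D C i * unit R D.rank D.nroots r c =
      ((C.nCol i r).map fun x => (x.2 : R) • unit R D.rank D.nroots x.1 c).sum := by
  rw [nc, Cert.colsL, kflat_eq, ev_flatMap, krange_eq, ← List.range_eq_range', sum_mul_right',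
    sum_map_eq_single _ r (by rw [h.l_eq, h.n_eq]; exact hr)]
  · rw [kmap_eq, ev, List.map_map, sum_mul_right']
    congr 1
    refine List.map_congr_left fun x _ => ?_
    simp [evT, unit_mul_unit, hr]
  · intro b _ hb
    rw [kmap_eq, ev, List.map_map, sum_mul_right']
    refine List.sum_eq_zero fun z hz => ?_
    obtain ⟨x, -, rfl⟩ := List.mem_map.1 hz
    simp [evT, unit_mul_unit, hb]

theorem unit_mul_nr (h : Ok D C) (i : ℕ) {c : ℕ} (hc : c < D.rank + D.nroots) (r : ℕ) :
    unit R D.rank D.nroots r c * nr R D C i =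
      ((C.nRow i c).map fun y => (y.2 : R) • unit R D.rank D.nroots r y.1).sum := by
  rw [nr, Cert.rowsL, kflat_eq, ev_flatMap, krange_eq, ← List.range_eq_range', mul_sum_left',
    sum_map_eq_single _ c (by rw [h.l_eq, h.n_eq]; exact hc)]
  · rw [kmap_eq, ev, List.map_map, mul_sum_left']
    congr 1
    refine List.map_congr_left fun x _ => ?_
    simp [evT, unit_mul_unit, hc]
  · intro b _ hb
    rw [kmap_eq, ev, List.map_map, mul_sum_left']
    refine List.sum_eq_zero fun z hz => ?_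
    obtain ⟨x, -, rfl⟩ := List.mem_map.1 hz
    simp [evT, unit_mul_unit, Ne.symm hb]

theorem ev_conjT (h : Ok D C) (i : ℕ) (t u : R) (L : List Tm)
    (hL : ∀ e ∈ L, e.r < D.rank + D.nroots ∧ e.c < D.rank + D.nroots) :
    ev D.rank D.nroots t u (kflat (C.conjT i) L) =
      nc R D C i * ev D.rank D.nroots t u L * nr R D C i := by
  rw [kflat_eq]
  induction L with
  | nil => simp
  | cons e L ih =>
    simp only [List.forall_mem_cons] at hL
    rw [List.flatMap_cons, ev_append, ev_cons, mul_add, add_mul, ih hL.2]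
    congr 1
    rw [Cert.conjT, kflat_eq, ev_flatMap]
    rw [show evT D.rank D.nroots t u e = ((e.k : R) * (t ^ e.i * u ^ e.j)) • unit R D.rank D.nroots e.r e.c from rfl,
      mul_smul_comm, smul_mul_assoc, nc_mul_unit h i hL.1.1, sum_mul_right', List.smul_sum, List.map_map]
    congr 1
    refine List.map_congr_left fun x _ => ?_
    simp only [Function.comp_apply]
    rw [smul_mul_assoc, unit_mul_nr h i hL.1.2, List.smul_sum, List.smul_sum, kmap_eq, ev, List.map_map,
      List.map_map, List.map_map]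
    congr 1
    refine List.map_congr_left fun y _ => ?_
    simp only [Function.comp_apply, evT, smul_smul, Int.mul_def, Int.cast_mul]
    congr 1
    ring

theorem nc_mul_nr (h : Ok D C) {i : ℕ} (hi : i < D.rank) : nc R D C i * nr R D C i = 1 := by
  have h1 := eqTest_sound D.rank D.nroots (1 : R) 1 (h.ninv i (h.l_eq.symm ▸ hi))
  rw [ev_conjT h i 1 1 _ fun e he => ?_, ev_idL h, mul_one] at h1
  · exact h1
  · rw [Cert.idL, kmap_eq, krange_eq] at he
    obtain ⟨a, ha, rfl⟩ := List.mem_map.1 he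
    rw [List.mem_range'_1] at ha
    simp only [Nat.add_eq, h.l_eq, h.n_eq] at ha
    exact ⟨by dsimp only; omega, by dsimp only; omega⟩

theorem nr_mul_nc (h : Ok D C) {i : ℕ} (hi : i < D.rank) : nr R D C i * nc R D C i = 1 :=
  mul_eq_one_comm.1 (nc_mul_nr h hi)

namespace Ok

theorem row_range (h : Ok D C) {r : ℕ} (hr : r < D.nroots) :
    ∀ e ∈ C.row r, e.r < D.rank + D.nroots ∧ e.c < D.rank + D.nroots := by
  intro e he
  have hlen : r < C.tab.length := by rw [h.basics.2.2.2.1]; simpa using hr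
  rw [Cert.row, List.getD_eq_getElem _ _ hlen] at he
  have := h.basics.2.2.2.2.2.2 _ (List.getElem_mem hlen) e he
  rwa [h.l_eq, h.n_eq] at this

theorem xR_eq (h : Ok D C) {r : ℕ} (hr : r < D.nroots) (u : R) :
    xR R D r u = 1 + ev D.rank D.nroots 0 u (C.row r) := by
  rw [xR, h.row_eq hr]

theorem w_lt (h : Ok D C) {i s : ℕ} (hi : i < D.rank) (hs : s < D.nroots) : C.w i s < D.nroots := by
  have := h.refl i (h.l_eq.symm ▸ hi)
  simp only [Cert.okRefl, Bool.and_eq_true] at this
  have h2 := kall_krange this.2 s (h.n_eq.symm ▸ hs)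
  simp only [Bool.and_eq_true, Nat.blt, Nat.ble_eq] at h2
  exact h.n_eq ▸ h2.1.1.1.1.1.1.1.1

theorem refl_spec (h : Ok D C) {i s : ℕ} (hi : i < D.rank) (hs : s < D.nroots) :
    C.w i (C.w i s) = s ∧ C.w i s = D.reflectRoot i s ∧ C.w i (C.neg s) = C.neg (C.w i s) ∧
      C.cart i (C.w i s) = -C.cart i s ∧ C.cart i (C.neg s) = -C.cart i s ∧
      C.eta i s * C.eta i (C.w i s) = (-1) ^ (C.cart i s).natAbs ∧ C.eta i (C.neg s) = C.eta i s ∧
      ∀ j < D.rank, C.cart j (C.w i s) = C.cart j s - C.cart i s * C.cart j (C.sr i) := by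
  have := h.refl i (h.l_eq.symm ▸ hi)
  simp only [Cert.okRefl, Bool.and_eq_true] at this
  have h2 := kall_krange this.2 s (h.n_eq.symm ▸ hs)
  simp only [Bool.and_eq_true, decide_eq_true_eq] at h2
  obtain ⟨⟨⟨⟨⟨⟨⟨⟨-, a⟩, b⟩, c⟩, d⟩, e⟩, f⟩, g⟩, k⟩ := h2
  exact ⟨Nat.eq_of_beq_eq_true a, Nat.eq_of_beq_eq_true b, Nat.eq_of_beq_eq_true c, d, e, f, g,
    fun j hj => of_decide_eq_true (kall_krange k j (h.l_eq.symm ▸ hj))⟩

theorem refl_simple (h : Ok D C) {i : ℕ} (hi : i < D.rank) :
    C.w i (C.sr i) = C.neg (C.sr i) ∧ C.eta i (C.sr i) = -1 ∧ C.eta i (C.neg (C.sr i)) = -1 ∧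
      C.cart i (C.sr i) = 2 := by
  have := h.refl i (h.l_eq.symm ▸ hi)
  simp only [Cert.okRefl, Bool.and_eq_true, decide_eq_true_eq] at this
  exact ⟨Nat.eq_of_beq_eq_true this.1.1.1.1, this.1.1.1.2, this.1.1.2, this.1.2⟩

theorem eta_cases (C : Cert) (i s : ℕ) : C.eta i s = 1 ∨ C.eta i s = -1 := by
  unfold Cert.eta
  cases Nat.beq (Nat.land (Nat.shiftRight (C.sgn.getD i 0) s) 1) 1
  · exact Or.inl rfl
  · exact Or.inr rfl

/-- Conjugation by `n_{p_i}` permutes the root elements up to sign. -/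
theorem nc_mul_x (h : Ok D C) {i s : ℕ} (hi : i < D.rank) (hs : s < D.nroots) (u : R) :
    nc R D C i * xR R D s u = xR R D (C.w i s) ((C.eta i s : R) * u) * nc R D C i := by
  have h0 : kall _ (krange 0 C.n) = true := h.conj i (h.l_eq.symm ▸ hi)
  have h1 := eqTest_sound D.rank D.nroots (0 : R) u (kall_krange h0 s (h.n_eq.symm ▸ hs))
  rw [ev_conjT h i 0 u _ (h.row_range hs), ev_scaleU (eta_cases C i s)] at h1
  rw [h.xR_eq hs, h.xR_eq (h.w_lt hi hs), ← h1, add_mul, one_mul, mul_assoc, nr_mul_nc h hi, mul_one,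
    mul_add, mul_one]

/-- Every root reduces to a fundamental root or its negative. -/
theorem root_induction (h : Ok D C) {motive : ℕ → Prop}
    (base : ∀ i < D.rank, motive (C.sr i) ∧ motive (C.neg (C.sr i)))
    (step : ∀ i r, i < D.rank → r < D.nroots → motive (C.w i r) → motive r) :
    ∀ r < D.nroots, motive r := by
  let mu : ℕ → ℕ := fun r => Bool.rec (Nat.sub C.n r) r (Nat.ble (Nat.div C.n 2) r)
  have hd : ∀ r < D.nroots, ∃ i < D.rank, r = C.sr i ∨ r = C.neg (C.sr i) ∨ mu (C.w i r) < mu r := by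
    intro r hr
    have h0 : kall _ (krange 0 C.n) = true := h.desc
    have := kall_krange h0 r (h.n_eq.symm ▸ hr)
    rw [Bool.not_eq_true'] at this
    have hne : ¬ ∀ i ∈ krange 0 C.l, (!(Nat.beq r (C.sr i) || Nat.beq r (C.neg (C.sr i)) ||
        Nat.blt (mu (C.w i r)) (mu r))) = true := by
      rw [← kall_iff, this]; simp
    push Not at hne
    obtain ⟨i, hi, hc⟩ := hne
    rw [krange_eq, List.mem_range'_1, h.l_eq] at hi
    refine ⟨i, by omega, ?_⟩
    simp only [ne_eq, Bool.not_eq_true', Bool.not_eq_false, Bool.or_eq_true, Nat.blt,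
      Nat.ble_eq] at hc
    rcases hc with (hc | hc) | hc
    · exact Or.inl (Nat.eq_of_beq_eq_true hc)
    · exact Or.inr (Or.inl (Nat.eq_of_beq_eq_true hc))
    · exact Or.inr (Or.inr hc)
  suffices H : ∀ k, ∀ r < D.nroots, mu r = k → motive r from fun r hr => H _ r hr rfl
  intro k
  induction k using Nat.strong_induction_on with
  | _ k ih =>
    intro r hr hk
    obtain ⟨i, hi, hc⟩ := hd r hr
    rcases hc with rfl | rfl | hc
    · exact (base i hi).1
    · exact (base i hi).2
    · exact step i r hi hr (ih _ (hk ▸ hc) _ (h.w_lt hi hr) rfl)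

theorem x_add_of_ok (h : Ok D C) {r : ℕ} (hr : r < D.nroots) (hk : C.okAdd r = true) (t u : R) :
    xR R D r t * xR R D r u = xR R D r (t + u) := by
  have h0 : eqTest 12 (kmul1 (C.l + C.n) (Cert.inT (C.row r)) (C.row r)) (Cert.sumU (C.row r)) = true := hk
  rw [h.l_eq, h.n_eq] at h0
  have h1 := eqTest_sound D.rank D.nroots t u h0
  have h2 := ev_kmul1 D.rank D.nroots t u (Cert.inT (C.row r)) (C.row r)
  rw [h1, ev_inT (h.row_i_zero hr), ev_indep (h.row_i_zero hr) _ _ t u,
    ev_sumU (h.row_i_zero hr)] at h2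
  rw [h.xR_eq hr, h.xR_eq hr, h.xR_eq hr, h2]

/-- Root elements are additive. -/
theorem x_add (h : Ok D C) {r : ℕ} (hr : r < D.nroots) (t u : R) :
    xR R D r t * xR R D r u = xR R D r (t + u) := by
  revert t u
  refine h.root_induction (motive := fun r => ∀ t u : R, xR R D r t * xR R D r u = xR R D r (t + u))
    ?_ ?_ r hr
  · exact fun i hi => ⟨h.x_add_of_ok (h.sr_lt hi) (h.add i (h.l_eq.symm ▸ hi)),
      h.x_add_of_ok (h.neg_lt (h.sr_lt hi)) (h.addNeg i (h.l_eq.symm ▸ hi))⟩
  · intro i r hi hr ih t u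
    have hmove : nc R D C i * (xR R D r t * xR R D r u) = nc R D C i * xR R D r (t + u) := by
      rw [← mul_assoc, h.nc_mul_x hi hr, mul_assoc, h.nc_mul_x hi hr, ← mul_assoc, ih, ← mul_add,
        ← h.nc_mul_x hi hr]
    calc xR R D r t * xR R D r u = nr R D C i * (nc R D C i * (xR R D r t * xR R D r u)) := by
          rw [← mul_assoc, nr_mul_nc h hi, one_mul]
      _ = _ := by rw [hmove, ← mul_assoc, nr_mul_nc h hi, one_mul]

theorem xR_zero (h : Ok D C) {r : ℕ} (hr : r < D.nroots) : xR R D r 0 = 1 := by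
  rw [h.xR_eq hr, add_eq_left, ev]
  refine List.sum_eq_zero fun z hz => ?_
  obtain ⟨e, he, rfl⟩ := List.mem_map.1 hz
  have hj : 1 ≤ e.j := by
    rw [h.row_eq hr] at he
    simp only [rowTerms, List.mem_filter, List.mem_append, List.mem_map, List.mem_singleton,
      List.mem_flatMap] at he
    rcases he.1 with ((⟨a, -, rfl⟩ | ⟨a, -, rfl⟩) | rfl) | ⟨a, -, ha⟩
    · simp [mkT]
    · simp [mkT]
    · simp [mkT]
    · split_ifs at ha
      · simp at ha
      · obtain ⟨q, -, rfl⟩ := List.mem_map.1 ha; simp [mkT]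
  simp [evT, zero_pow (by omega : e.j ≠ 0)]

/-- `n_{p_i}(t)` is monomial, for invertible `t` (with inverse `s`). -/
theorem n_eval (h : Ok D C) {i : ℕ} (hi : i < D.rank) {t s : R} (hts : t * s = 1) :
    xR R D (C.sr i) t * (xR R D (C.neg (C.sr i)) (-s) * xR R D (C.sr i) t) =
      ev D.rank D.nroots t s (C.nMon i) := by
  have h0 := h.nmon i (h.l_eq.symm ▸ hi)
  simp only [Cert.okN, Nat.add_eq, h.l_eq, h.n_eq] at h0
  have h1 := eqTest_sound D.rank D.nroots t s h0
  have hp := h.sr_lt hi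
  have hm := h.neg_lt hp
  rw [kapp_eq, ev_append, ev_cancel hts, ev_idL h, ev_kmul1, ev_kmul1, ev_inT (h.row_i_zero hp),
    ev_scaleU (Or.inr rfl), ev_indep (h.row_i_zero hm) _ _ t] at h1
  simp only [Int.cast_neg, Int.cast_one, neg_one_mul] at h1
  rw [h.xR_eq hp, h.xR_eq hm]
  exact h1

theorem ev_nMon_one (h : Ok D C) (i : ℕ) : ev D.rank D.nroots (1 : R) 1 (C.nMon i) = nc R D C i := by
  rw [nc, Cert.nMon, Cert.colsL, kflat_eq, kflat_eq, ev_flatMap, ev_flatMap]
  congr 1
  refine List.map_congr_left fun b _ => ?_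
  rw [kmap_eq, kmap_eq, ev, ev, List.map_map, List.map_map]
  congr 1
  refine List.map_congr_left fun x _ => ?_
  cases hb : Nat.blt x.1 C.l <;> simp [evT, hb]

end Ok

end Cfsg.Lib.Chev
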