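import Cfsg.Agent.Steinberg.Linear

/-! Certificates: separation of the characters of the diagonal subgroup on `U`; generation of `U` by simple roots. -/

set_option autoImplicit false

open Cfsg.Lie

namespace Cfsg.Lib.Chev

/-- The pairing with `m` of the reduced vector killing `k` supported on `i, j`. -/
noncomputable def redMinor (A : ℕ → ℕ → ℤ) (k m i j : ℕ) : ℤ :=
  let g : ℤ := Int.gcd (A i k) (A j k)
  Bool.rec (A j k / g * A i m - A i k / g * A j m) (A i m) (decide (g = 0))

/-- `r ∈ {1, g0}`. -/
noncomputable def unitOr (g0 : ℕ) (v : ℤ) : Bool := Nat.beq v.natAbs 1 || Nat.beq v.natAbs g0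

/-- Separation, with the excepted pairs. -/
noncomputable def okSep (D : ChevalleyDatum) (C : Cert) (g0 : ℕ) (exc : ℕ → ℕ → Bool) : Bool :=
  let h := Nat.div D.nroots 2
  kall (fun k => Nat.blt k h ||
    (!kall (fun i => !unitOr 2 (C.cart i k)) (krange 0 D.rank) &&
      kall (fun m => Nat.ble m k || exc k m ||
        !kall (fun i => kall (fun j => !unitOr g0 (redMinor C.cart k m i j)) (krange 0 D.rank)) (krange 0 D.rank))
        (krange 0 D.nroots))) (krange 0 D.nroots)

/-- The pairs without separation in type `G₂`. -/
noncomputable def excG2 (k m : ℕ) : Bool :=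
  (Nat.beq k 6 && (Nat.beq m 10 || Nat.beq m 11)) || (Nat.beq k 10 && Nat.beq m 11)

theorem G2.sep : okSep chevG2 G2.cert 2 excG2 = true := by decide +kernel
theorem B2.sep : okSep chevB2 B2.cert 2 (fun _ _ => false) = true := by decide +kernel
theorem D4.sep : okSep chevD4 D4.cert 2 (fun _ _ => false) = true := by decide +kernel
theorem F4.sep : okSep chevF4 F4.cert 2 (fun _ _ => false) = true := by decide +kernel
theorem E6.sep : okSep chevE6 E6.cert 1 (fun _ _ => false) = true := by decide +kernel
theorem E7.sep : okSep chevE7 E7.cert 1 (fun _ _ => false) = true := by decide +kernel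
theorem E8.sep : okSep chevE8 E8.cert 1 (fun _ _ => false) = true := by decide +kernel

/-- Strictly increasing indices, at least `k`. -/
noncomputable def incFrom : List (ℕ × ℤ × ℕ × ℕ) → ℕ → Bool :=
  @List.rec (ℕ × ℤ × ℕ × ℕ) (fun _ => ℕ → Bool) (fun _ => true)
    (fun q _ ih k => Nat.ble k q.1 && ih (Nat.add q.1 1))

/-- The commutator of `r` and `s` has a unit coordinate at `q`. -/
noncomputable def hitsUnit (D : ChevalleyDatum) (r s q : ℕ) : Bool :=
  let L := D.commTerms r s
  Nat.ble (Nat.div D.nroots 2) r && Nat.blt r D.nroots && !Nat.beq s r &&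
    incFrom L (Nat.div D.nroots 2) && !kall (fun e => !(Nat.beq e.1 q && Nat.beq e.2.1.natAbs 1)) L

/-- Every positive root that is not fundamental is reached by a commutator with a fundamental root. -/
noncomputable def okReach (D : ChevalleyDatum) (C : Cert) : Bool :=
  kall (fun q => Nat.blt q (Nat.div D.nroots 2) ||
    !kall (fun j => !(Nat.beq (C.sr j) q || hitsUnit D (C.sr j) (C.w j q) q ||
      !kall (fun i => !hitsUnit D (C.sr j) (C.sr i) q) (krange 0 (Bool.rec D.rank 0 (Nat.ble 50 D.nroots)))))
      (krange 0 D.rank)) (krange 0 D.nroots)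

theorem G2.reach : okReach chevG2 G2.cert = true := by decide +kernel
theorem B2.reach : okReach chevB2 B2.cert = true := by decide +kernel
theorem D4.reach : okReach chevD4 D4.cert = true := by decide +kernel
theorem F4.reach : okReach chevF4 F4.cert = true := by decide +kernel
theorem E6.reach : okReach chevE6 E6.cert = true := by decide +kernel
theorem E7.reach : okReach chevE7 E7.cert = true := by decide +kernel
theorem E8.reach : okReach chevE8 E8.cert = true := by decide +kernel

/-- The commutator terms used for the excepted pairs. -/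
theorem G2.excTerms : chevG2.commTerms 7 6 = [(8, -1, 1, 1), (9, 1, 2, 1), (10, 1, 3, 1), (11, 1, 3, 2)] ∧
    chevG2.commTerms 7 8 = [(9, -2, 1, 1), (10, -3, 2, 1), (11, 3, 1, 2)] ∧
    chevG2.commTerms 6 10 = [(11, 1, 1, 1)] := by decide +kernel

end Cfsg.Lib.Chev
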