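import Cfsg.Agent.Steinberg.Linear

/-! Certificates: connectedness of the root system and linearity of the Cartan integers. -/

set_option autoImplicit false

open Cfsg.Lie Cfsg.Lib.Chev

namespace Cfsg.Lib.Chev

/-- For all `i j` some root involving `i` may be extended by the `j`-th fundamental root. -/
noncomputable def okSpan (D : ChevalleyDatum) (T : List (List ℤ)) : Bool :=
  kall (fun i => kall (fun j => Nat.beq i j || !kall (fun r => !(decide (0 < htAt T r i) &&
    (D.chainRoot (D.simpleIdx.getD j 0) r 1).isSome)) (krange 0 D.nroots)) (krange 0 D.rank))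
    (krange 0 D.rank) &&
  kall (fun i => kall (fun r => decide ((D.cartanSR.getD i #[]).getD r 0 =
    ((krange 0 D.rank).map fun j =>
      htAt T r j * (D.cartanSR.getD i #[]).getD (D.simpleIdx.getD j 0) 0).sum))
    (krange 0 D.nroots)) (krange 0 D.rank)

theorem G2.span : okSpan chevG2 G2.htTab = true := by decide +kernel
theorem B2.span : okSpan chevB2 B2.htTab = true := by decide +kernel
theorem D4.span : okSpan chevD4 D4.htTab = true := by decide +kernel
theorem F4.span : okSpan chevF4 F4.htTab = true := by decide +kernel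
theorem E6.span : okSpan chevE6 E6.htTab = true := by decide +kernel
theorem E7.span : okSpan chevE7 E7.htTab = true := by decide +kernel
theorem E8.span : okSpan chevE8 E8.htTab = true := by decide +kernel

theorem span_of_mem {D : ChevalleyDatum}
    (hD : D ∈ [chevG2, chevB2, chevD4, chevF4, chevE6, chevE7, chevE8]) :
    ∃ C T, Struct D C ∧ okNeg D = true ∧ okHt D T = true ∧ okDescJ C T = true ∧
      Cfsg.Lib.Steinberg.okLin D C T = true ∧ okSpan D T = true := by
  simp only [List.mem_cons, List.not_mem_nil, or_false] at hD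
  rcases hD with rfl | rfl | rfl | rfl | rfl | rfl | rfl
  · exact ⟨_, _, ⟨G2.ok, G2.okChain_, G2.okBase_all, okOrder_G2⟩, okNeg_G2, G2.ht, G2.descJ, Steinberg.G2_lin, G2.span⟩
  · exact ⟨_, _, ⟨B2.ok, B2.okChain_, B2.okBase_all, okOrder_B2⟩, okNeg_B2, B2.ht, B2.descJ, Steinberg.B2_lin, B2.span⟩
  · exact ⟨_, _, ⟨D4.ok, D4.okChain_, D4.okBase_all, okOrder_D4⟩, okNeg_D4, D4.ht, D4.descJ, Steinberg.D4_lin, D4.span⟩
  · exact ⟨_, _, ⟨F4.ok, F4.okChain_, F4.okBase_all, okOrder_F4⟩, okNeg_F4, F4.ht, F4.descJ, Steinberg.F4_lin, F4.span⟩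
  · exact ⟨_, _, ⟨E6.ok, E6.okChain_, E6.okBase_all, okOrder_E6⟩, okNeg_E6, E6.ht, E6.descJ, Steinberg.E6_lin, E6.span⟩
  · exact ⟨_, _, ⟨E7.ok, E7.okChain_, E7.okBase_all, okOrder_E7⟩, okNeg_E7, E7.ht, E7.descJ, Steinberg.E7_lin, E7.span⟩
  · exact ⟨_, _, ⟨E8.ok, E8.okChain_, E8.okBase_all, okOrder_E8⟩, okNeg_E8, E8.ht, E8.descJ, Steinberg.E8_lin, E8.span⟩

variable {D : ChevalleyDatum} {T : List (List ℤ)}

theorem span_pair (hs : okSpan D T = true) {i j : ℕ} (hi : i < D.rank) (hj : j < D.rank) (hij : i ≠ j) :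
    ∃ r v, r < D.nroots ∧ 0 < htAt T r i ∧ D.chainRoot (D.simple j) r 1 = some v := by
  simp only [okSpan, Bool.and_eq_true, kall_iff] at hs
  have h := hs.1 i (by rw [krange_eq, List.mem_range'_1]; omega) j (by rw [krange_eq, List.mem_range'_1]; omega)
  simp only [Bool.or_eq_true, Bool.not_eq_true', ← Bool.not_eq_true, kall_iff, not_forall] at h
  rcases h with h | ⟨r, hr, h⟩
  · exact absurd (Nat.eq_of_beq_eq_true h) hij
  · simp only [Bool.not_eq_true', Bool.not_eq_false, Classical.not_not, Bool.and_eq_true, decide_eq_true_eq,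
      Option.isSome_iff_exists] at h
    obtain ⟨h1, v, h2⟩ := h
    rw [krange_eq, List.mem_range'_1] at hr
    exact ⟨r, v, by omega, h1, h2⟩

theorem cartan_lin (hs : okSpan D T = true) {i r : ℕ} (hi : i < D.rank) (hr : r < D.nroots) :
    D.cartan i r = ∑ j : Fin D.rank, htAt T r j * D.cartan i (D.simple j) := by
  simp only [okSpan, Bool.and_eq_true, kall_iff] at hs
  have h := of_decide_eq_true (hs.2 i (by rw [krange_eq, List.mem_range'_1]; omega) r
    (by rw [krange_eq, List.mem_range'_1]; omega))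
  exact h.trans (Cfsg.Lib.Steinberg.sum_krange _ _)

end Cfsg.Lib.Chev
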