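import Mathlib

/-!
Sparse matrices with coefficients polynomial in two variables, as lists of terms, with kernel-friendly
operations (raw recursors, accelerated `Nat` primitives) and their semantics over a commutative ring.
-/

set_option autoImplicit false

namespace Cfsg.Lib.Chev

/-- A term `k · t^i u^j` at position `(r, c)` of a matrix. -/
structure Tm where
  /-- exponent of the first variable -/
  i : ℕ
  /-- exponent of the second variable -/
  j : ℕ
  /-- row -/
  r : ℕ
  /-- column -/
  c : ℕ
  /-- coefficient -/
  k : ℤ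

/-- `List.map` by the raw recursor (fast in the kernel). -/
noncomputable def kmap {α β : Type} (f : α → β) (L : List α) : List β :=
  @List.rec α (fun _ => List β) [] (fun a _ ih => f a :: ih) L

theorem kmap_eq {α β : Type} (f : α → β) (L : List α) : kmap f L = L.map f := by
  induction L with
  | nil => rfl
  | cons a L ih => simp only [List.map_cons, ← ih]; rfl

/-- `List.filter` by the raw recursor. -/
noncomputable def kfilter {α : Type} (p : α → Bool) (L : List α) : List α :=
  @List.rec α (fun _ => List α) [] (fun a _ ih => Bool.rec ih (a :: ih) (p a)) L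

theorem kfilter_eq {α : Type} (p : α → Bool) (L : List α) : kfilter p L = L.filter p := by
  induction L with
  | nil => rfl
  | cons a L ih =>
    have : kfilter p (a :: L) = Bool.rec (kfilter p L) (a :: kfilter p L) (p a) := rfl
    rw [this, ih, List.filter_cons]
    cases p a <;> simp

/-- `List.append` by the raw recursor. -/
noncomputable def kapp {α : Type} (L M : List α) : List α :=
  @List.rec α (fun _ => List α) M (fun a _ ih => a :: ih) L

theorem kapp_eq {α : Type} (L M : List α) : kapp L M = L ++ M := by
  induction L with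
  | nil => rfl
  | cons a L ih => simp only [List.cons_append, ← ih]; rfl

/-- `List.all` by the raw recursor. -/
noncomputable def kall {α : Type} (p : α → Bool) (L : List α) : Bool :=
  @List.rec α (fun _ => Bool) true (fun a _ ih => Bool.rec false ih (p a)) L

theorem kall_iff {α : Type} (p : α → Bool) (L : List α) :
    kall p L = true ↔ ∀ a ∈ L, p a = true := by
  induction L with
  | nil => simp [kall]
  | cons a L ih =>
    have : kall p (a :: L) = Bool.rec false (kall p L) (p a) := rfl
    rw [this, List.forall_mem_cons, ← ih]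
    cases p a <;> simp

/-- `List.range` in the kernel: `[a, a+1, …, a+n-1]`. -/
noncomputable def krange (a n : ℕ) : List ℕ :=
  @Nat.rec (fun _ => ℕ → List ℕ) (fun _ => []) (fun _ ih a => a :: ih (Nat.succ a)) n a

theorem krange_eq (a n : ℕ) : krange a n = List.range' a n := by
  induction n generalizing a with
  | zero => rfl
  | succ n ih => rw [List.range'_succ, ← ih]; rfl

theorem kall_krange {p : ℕ → Bool} {n : ℕ} (h : kall p (krange 0 n) = true) :
    ∀ a < n, p a = true := by
  rw [kall_iff] at h
  intro a ha
  exact h a (by rw [krange_eq, List.mem_range'_1]; omega)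

/-- Concatenation of a list of lists. -/
noncomputable def kflat {α β : Type} (f : α → List β) (L : List α) : List β :=
  @List.rec α (fun _ => List β) [] (fun a _ ih => kapp (f a) ih) L

theorem kflat_eq {α β : Type} (f : α → List β) (L : List α) : kflat f L = L.flatMap f := by
  induction L with
  | nil => rfl
  | cons a L ih => simp only [List.flatMap_cons, ← ih, ← kapp_eq]; rfl

/-! ### Semantics -/

section Semantics

variable {R : Type*} [CommRing R] (l n : ℕ)

/-- Numbering of the coordinate set `Fin l ⊕ Fin n`. -/
def enc : Fin l ⊕ Fin n → ℕ := Sum.elim (fun i => i.val) (fun s => l + s.val)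

theorem enc_lt (x : Fin l ⊕ Fin n) : enc l n x < l + n := by
  rcases x with i | s <;> simp [enc] <;> omega

theorem enc_injective : Function.Injective (enc l n) := by
  intro x y h
  rcases x with i | s <;> rcases y with i' | s' <;> simp [enc] at h <;>
    first | omega | (congr 1; exact Fin.ext (by omega))

theorem exists_enc {a : ℕ} (h : a < l + n) : ∃ x, enc l n x = a := by
  by_cases ha : a < l
  · exact ⟨Sum.inl ⟨a, ha⟩, rfl⟩
  · exact ⟨Sum.inr ⟨a - l, by omega⟩, by simp [enc]; omega⟩

variable (R) in
/-- The matrix unit at the numbered position `(a, b)` (zero when out of range). -/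
def unit (a b : ℕ) : Matrix (Fin l ⊕ Fin n) (Fin l ⊕ Fin n) R :=
  Matrix.of fun x y => if enc l n x = a ∧ enc l n y = b then 1 else 0

theorem unit_mul_unit (a b b' c : ℕ) :
    unit R l n a b * unit R l n b' c = if b = b' ∧ b < l + n then unit R l n a c else 0 := by
  ext x z
  rw [Matrix.mul_apply]
  by_cases h : b = b' ∧ b < l + n
  · obtain ⟨rfl, hb⟩ := h
    obtain ⟨y, rfl⟩ := exists_enc l n hb
    rw [Finset.sum_eq_single y]
    · simp [hb, unit]
      grind
    · intro w _ hw
      simp [unit, (enc_injective l n).ne hw]
    · simp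
  · rw [if_neg h]
    refine Finset.sum_eq_zero fun w _ => ?_
    simp only [unit, Matrix.of_apply, mul_ite, mul_one, mul_zero, ite_mul, one_mul, zero_mul]
    split_ifs with h1 h2 <;> try rfl
    exfalso
    exact h ⟨h2.2.symm.trans h1.1, h2.2 ▸ enc_lt l n w⟩

/-- The value of a term. -/
def evT (t u : R) (e : Tm) : Matrix (Fin l ⊕ Fin n) (Fin l ⊕ Fin n) R :=
  ((e.k : R) * (t ^ e.i * u ^ e.j)) • unit R l n e.r e.c

/-- The value of a list of terms. -/
def ev (t u : R) (L : List Tm) : Matrix (Fin l ⊕ Fin n) (Fin l ⊕ Fin n) R :=
  (L.map (evT l n t u)).sum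

@[simp] theorem ev_nil (t u : R) : ev l n t u [] = 0 := rfl

@[simp] theorem ev_cons (t u : R) (e : Tm) (L : List Tm) :
    ev l n t u (e :: L) = evT l n t u e + ev l n t u L := by simp [ev]

@[simp] theorem ev_append (t u : R) (L M : List Tm) :
    ev l n t u (L ++ M) = ev l n t u L + ev l n t u M := by simp [ev]

theorem ev_filter_add (t u : R) (p : Tm → Bool) (L : List Tm) :
    ev l n t u (L.filter p) + ev l n t u (L.filter fun a => !p a) = ev l n t u L := by
  induction L with
  | nil => simp
  | cons a L ih =>
    cases h : p a <;> simp [h, ← ih] <;> abel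

theorem ev_map_entry (t u : R) (L : List Tm) (x y : Fin l ⊕ Fin n) :
    ev l n t u L x y =
      (L.map fun e => if enc l n x = e.r ∧ enc l n y = e.c then (e.k : R) * (t ^ e.i * u ^ e.j) else 0).sum := by
  induction L with
  | nil => simp
  | cons a L ih => simp [ih, evT, unit]

end Semantics

/-! ### Operations -/

/-- Negation. -/
noncomputable def kneg (L : List Tm) : List Tm := kmap (fun e => ⟨e.i, e.j, e.r, e.c, -e.k⟩) L

theorem ev_kneg {R : Type*} [CommRing R] (l n : ℕ) (t u : R) (L : List Tm) :
    ev l n t u (kneg L) = - ev l n t u L := by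
  rw [kneg, kmap_eq]
  induction L with
  | nil => simp
  | cons a L ih => simp [ih, evT]; abel

/-- Product of a term with a list (matching inner positions, in range). -/
noncomputable def mulT (N : ℕ) (a : Tm) (B : List Tm) : List Tm :=
  kmap (fun b => ⟨Nat.add a.i b.i, Nat.add a.j b.j, a.r, b.c, Int.mul a.k b.k⟩)
    (kfilter (fun b => Bool.rec false (Nat.blt a.c N) (Nat.beq a.c b.r)) B)

/-- Product of two sparse matrices. -/
noncomputable def kmul (N : ℕ) (A B : List Tm) : List Tm := kflat (fun a => mulT N a B) A

theorem ev_kmul {R : Type*} [CommRing R] (l n : ℕ) (t u : R) (A B : List Tm) :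
    ev l n t u (kmul (l + n) A B) = ev l n t u A * ev l n t u B := by
  rw [kmul, kflat_eq]
  induction A with
  | nil => simp
  | cons a A ih =>
    rw [List.flatMap_cons, ev_append, ih, ev_cons, add_mul]
    congr 1
    rw [mulT, kfilter_eq, kmap_eq]
    clear ih
    induction B with
    | nil => simp
    | cons b B ihb =>
      have hprod : evT l n t u a * evT l n t u b =
          if a.c = b.r ∧ a.c < l + n then
            evT l n t u ⟨Nat.add a.i b.i, Nat.add a.j b.j, a.r, b.c, Int.mul a.k b.k⟩ else 0 := by
        simp only [evT, smul_mul_smul_comm, unit_mul_unit, smul_ite, smul_zero]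
        congr 1
        congr 1
        simp [pow_add]
        ring
      rw [ev_cons, mul_add, ← ihb, hprod, List.filter_cons]
      by_cases h : a.c = b.r ∧ a.c < l + n
      · rw [if_pos h, if_pos, List.map_cons, ev_cons]
        rw [h.1, Nat.beq_refl]
        simpa [Nat.blt] using h.1 ▸ h.2
      · rw [if_neg h, zero_add, if_neg]
        intro hb
        apply h
        cases hq : Nat.beq a.c b.r
        · simp [hq] at hb
        · simp [hq, Nat.blt] at hb
          exact ⟨Nat.eq_of_beq_eq_true hq, by omega⟩

/-- If `A`, `B` stand for `1 + a`, `1 + b`, this stands for their product. -/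
noncomputable def kmul1 (N : ℕ) (A B : List Tm) : List Tm := kapp A (kapp B (kmul N A B))

theorem ev_kmul1 {R : Type*} [CommRing R] (l n : ℕ) (t u : R) (A B : List Tm) :
    1 + ev l n t u (kmul1 (l + n) A B) = (1 + ev l n t u A) * (1 + ev l n t u B) := by
  rw [kmul1, kapp_eq, kapp_eq, ev_append, ev_append, ev_kmul, add_mul, one_mul, mul_add, mul_one]
  abel

/-! ### Zero test -/

/-- The packed sum of the positive or negative coefficients. -/
noncomputable def pack (sgn : Bool) (L : List Tm) : ℕ :=
  @List.rec Tm (fun _ => ℕ) 0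
    (fun a _ ih => Nat.add (Nat.shiftLeft (Int.toNat (Bool.rec (-a.k) a.k sgn))
      (Nat.mul 16 (Nat.add (Nat.mul 256 a.r) a.c))) ih) L

/-- The sum of the absolute values of the coefficients. -/
noncomputable def absSum (L : List Tm) : ℕ :=
  @List.rec Tm (fun _ => ℕ) 0 (fun a _ ih => Nat.add (Int.natAbs a.k) ih) L

/-- Zero test for a list of terms with constant exponents. -/
noncomputable def zeroLeaf (L : List Tm) : Bool :=
  match L with
  | [] => true
  | h :: _ =>
    kall (fun a => Bool.rec false (Bool.rec false (Bool.rec false (Nat.blt a.c 256) (Nat.blt a.r 256))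
      (Nat.beq a.j h.j)) (Nat.beq a.i h.i)) L &&
    Nat.blt (absSum L) 32768 && Nat.beq (pack true L) (pack false L)

/-- Zero test: split by the bits of the exponents (up to `fuel` bits of each), then `zeroLeaf`. -/
noncomputable def zeroTest : ℕ → List Tm → Bool
  | 0, L => zeroLeaf L
  | f + 1, L =>
    let p : Tm → Bool := fun a => Nat.beq (Nat.mod (Nat.shiftRight (Nat.add (Nat.mul 64 a.i) a.j) f) 2) 0
    zeroTest f (kfilter p L) && zeroTest f (kfilter (fun a => !p a) L)

theorem int_digits_zero {B : ℤ} : ∀ (m : ℕ) (d : ℕ → ℤ), (∀ x, |d x| < B) →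
    ∑ x ∈ Finset.range m, d x * B ^ x = 0 → ∀ x < m, d x = 0 := by
  intro m
  induction m with
  | zero => intro d _ _ x hx; omega
  | succ m ih =>
    intro d hd hsum x hx
    have hB : B ≠ 0 := fun h => by have := hd 0; rw [h] at this; exact absurd this (by simp)
    rw [Finset.sum_range_succ'] at hsum
    simp only [pow_zero, mul_one, pow_succ, ← mul_assoc, ← Finset.sum_mul] at hsum
    have h0 : d 0 = 0 := by
      have hdvd : B ∣ d 0 := by
        have : d 0 = -((∑ i ∈ Finset.range m, d (i + 1) * B ^ i) * B) := by linarith
        rw [this]; exact (Dvd.intro_left _ rfl).neg_right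
      exact Int.eq_zero_of_abs_lt_dvd hdvd (hd 0)
    rw [h0, add_zero, mul_eq_zero] at hsum
    have hs := hsum.resolve_right hB
    rcases x with _ | x
    · exact h0
    · exact ih (fun i => d (i + 1)) (fun i => hd _) hs x (by omega)

/-- The position key of a term. -/
def pkey (e : Tm) : ℕ := 256 * e.r + e.c

/-- The total coefficient at a position key. -/
def tot (L : List Tm) (x : ℕ) : ℤ := (L.map fun e => if pkey e = x then e.k else 0).sum

theorem pack_sub (L : List Tm) :
    (pack true L : ℤ) - pack false L = (L.map fun e => e.k * (65536 : ℤ) ^ pkey e).sum := by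
  induction L with
  | nil => rfl
  | cons a L ih =>
    have hp : ∀ b, pack b (a :: L) = Nat.add (Nat.shiftLeft (Int.toNat (Bool.rec (-a.k) a.k b))
      (Nat.mul 16 (Nat.add (Nat.mul 256 a.r) a.c))) (pack b L) := fun b => rfl
    rw [hp, hp, List.map_cons, List.sum_cons, ← ih]
    simp only [Nat.add_eq, Nat.shiftLeft_eq', Nat.shiftLeft_eq, Nat.mul_eq, pkey]
    push_cast
    have h2 : (2 : ℤ) ^ (16 * (256 * a.r + a.c)) = 65536 ^ (256 * a.r + a.c) := by
      rw [pow_mul]; norm_num
    rw [h2]
    have h3 : (a.k.toNat : ℤ) - ((-a.k).toNat : ℤ) = a.k := by omega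
    linear_combination (65536 : ℤ) ^ (256 * a.r + a.c) * h3

theorem sum_eq_range {M : Type*} [AddCommGroup M] (L : List Tm) (g : ℕ → M) (m : ℕ)
    (hm : ∀ e ∈ L, pkey e < m) :
    (L.map fun e => e.k • g (pkey e)).sum = ∑ x ∈ Finset.range m, tot L x • g x := by
  induction L with
  | nil => simp [tot]
  | cons a L ih =>
    simp only [List.forall_mem_cons] at hm
    rw [List.map_cons, List.sum_cons, ih hm.2]
    simp only [tot, List.map_cons, List.sum_cons, add_smul, Finset.sum_add_distrib, ite_smul, zero_smul]
    rw [Finset.sum_ite_eq, if_pos (Finset.mem_range.2 hm.1)]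

theorem zeroLeaf_sound {R : Type*} [CommRing R] (l n : ℕ) (t u : R) {L : List Tm}
    (h : zeroLeaf L = true) : ev l n t u L = 0 := by
  match L, h with
  | [], _ => rfl
  | hd :: tl, h =>
    simp only [zeroLeaf, Bool.and_eq_true, kall_iff] at h
    obtain ⟨⟨hall, habs⟩, hpk⟩ := h
    have hfacts : ∀ e ∈ hd :: tl, e.i = hd.i ∧ e.j = hd.j ∧ e.r < 256 ∧ e.c < 256 := by
      intro e he
      have := hall e he
      cases h1 : Nat.beq e.i hd.i <;> simp [h1] at this
      cases h2 : Nat.beq e.j hd.j <;> simp [h2] at this
      cases h3 : Nat.blt e.r 256 <;> simp [h3] at this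
      exact ⟨Nat.eq_of_beq_eq_true h1, Nat.eq_of_beq_eq_true h2, by simpa [Nat.blt] using h3,
        by simpa [Nat.blt] using this⟩
    have habs' : ∀ x, |tot (hd :: tl) x| < 65536 := by
      intro x
      have hle : ∀ L : List Tm, |tot L x| ≤ (absSum L : ℤ) := by
        intro L
        induction L with
        | nil => simp [tot, absSum]
        | cons a L ih =>
          have h1 : absSum (a :: L) = a.k.natAbs + absSum L := rfl
          rw [h1]
          simp only [tot, List.map_cons, List.sum_cons] at ih ⊢
          push_cast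
          refine (abs_add_le _ _).trans (add_le_add ?_ ih)
          split_ifs <;> simp
      have : absSum (hd :: tl) < 32768 := by simpa [Nat.blt] using habs
      exact lt_of_le_of_lt (hle _) (by exact_mod_cast (show absSum (hd :: tl) < 65536 by omega))
    have hkey : ∀ e ∈ hd :: tl, pkey e < 65536 := fun e he => by
      obtain ⟨-, -, h3, h4⟩ := hfacts e he
      simp [pkey]; omega
    have hz : ∀ x < 65536, tot (hd :: tl) x = 0 := by
      refine int_digits_zero 65536 _ habs' ?_
      have h1 := sum_eq_range (hd :: tl) (fun x => (65536 : ℤ) ^ x) 65536 hkey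
      simp only [smul_eq_mul] at h1
      rw [← h1, ← pack_sub, Nat.eq_of_beq_eq_true hpk, sub_self]
    let g : ℕ → Matrix (Fin l ⊕ Fin n) (Fin l ⊕ Fin n) R :=
      fun x => (t ^ hd.i * u ^ hd.j) • unit R l n (x / 256) (x % 256)
    have hg : ∀ e ∈ hd :: tl, evT l n t u e = e.k • g (pkey e) := by
      intro e he
      obtain ⟨h1, h2, h3, h4⟩ := hfacts e he
      have hr : pkey e / 256 = e.r := by simp [pkey]; omega
      have hc : pkey e % 256 = e.c := by simp [pkey]; omega
      simp only [g, hr, hc, evT, h1, h2]
      rw [← smul_smul, Int.cast_smul_eq_zsmul]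
    unfold ev
    rw [List.map_congr_left hg, sum_eq_range (hd :: tl) g 65536 hkey]
    exact Finset.sum_eq_zero fun x hx => by rw [hz x (Finset.mem_range.1 hx), zero_smul]

theorem zeroTest_sound {R : Type*} [CommRing R] (l n : ℕ) (t u : R) :
    ∀ {f : ℕ} {L : List Tm}, zeroTest f L = true → ev l n t u L = 0 := by
  intro f
  induction f with
  | zero => intro L h; exact zeroLeaf_sound l n t u h
  | succ f ih =>
    intro L h
    simp only [zeroTest, Bool.and_eq_true, kfilter_eq] at h
    rw [← ev_filter_add l n t u
      (fun a => Nat.beq (Nat.mod (Nat.shiftRight (Nat.add (Nat.mul 64 a.i) a.j) f) 2) 0) L,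
      ih h.1, ih h.2, add_zero]

/-- Equality test: `A - B` is zero. -/
noncomputable def eqTest (f : ℕ) (A B : List Tm) : Bool := zeroTest f (kapp A (kneg B))

theorem eqTest_sound {R : Type*} [CommRing R] (l n : ℕ) (t u : R) {f : ℕ} {A B : List Tm}
    (h : eqTest f A B = true) : ev l n t u A = ev l n t u B := by
  have := zeroTest_sound l n t u h
  rwa [kapp_eq, ev_append, ev_kneg, add_neg_eq_zero] at this

end Cfsg.Lib.Chev
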