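import Cfsg.Agent.Chev.FixedPoints

/-! Centralisers and normalisers of subfield subgroups. -/

set_option autoImplicit false

open Cfsg.Lie

namespace Cfsg.Lib.Chev

variable {D : ChevalleyDatum} {F : Type*} [Field F] (σ : F →+* F)

theorem subfield_centralizer (hD : D ∈ [chevG2, chevB2, chevD4, chevF4, chevE6, chevE7, chevE8])
    {K : Subgroup (GL D.Idx F)} (hLK : ratGroup D σ ≤ K) :
    D.group F ⊓ Subgroup.centralizer (K : Set (GL D.Idx F)) = ⊥ := by
  rw [Subgroup.eq_bot_iff_forall]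
  intro x hx
  obtain ⟨hxG, hxC⟩ := Subgroup.mem_inf.1 hx
  refine eq_one_of_commutes hD hxG fun g hg => ?_
  obtain ⟨r, -, hr⟩ := hg
  exact (Subgroup.mem_centralizer_iff.1 hxC g (hLK (Subgroup.subset_closure ⟨r, 1, map_one σ, hr⟩))).symm

theorem subfield_normalizer (hD : D ∈ [chevG2, chevB2, chevD4, chevF4, chevE6, chevE7, chevE8])
    {K : Subgroup (GL D.Idx F)} (hKG : K ≤ D.group F) (hLK : ratGroup D σ ≤ K)
    (hfix : ∀ g ∈ K, phiG σ D g = g) {g : GL D.Idx F} (hg : g ∈ D.group F) :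
    g ∈ Subgroup.normalizer (K : Set (GL D.Idx F)) ↔ phiG σ D g = g := by
  obtain ⟨C, T, S, hN, -⟩ := span_of_mem hD
  constructor
  · intro hn
    have hx : g⁻¹ * phiG σ D g ∈ D.group F ⊓ Subgroup.centralizer (K : Set (GL D.Idx F)) := by
      refine Subgroup.mem_inf.2 ⟨mul_mem (inv_mem hg) (phiG_group σ S hg),
        Subgroup.mem_centralizer_iff.2 fun k hk => ?_⟩
      have h1 := hfix _ ((Subgroup.mem_normalizer_iff.1 hn k).1 hk)
      rw [map_mul, map_mul, map_inv, hfix k hk] at h1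
      calc k * (g⁻¹ * phiG σ D g) = g⁻¹ * (g * k * g⁻¹) * phiG σ D g := by group
        _ = g⁻¹ * (phiG σ D g * k * (phiG σ D g)⁻¹) * phiG σ D g := by rw [h1]
        _ = g⁻¹ * phiG σ D g * k := by group
    rw [subfield_centralizer σ hD hLK, Subgroup.mem_bot, inv_mul_eq_one] at hx
    exact hx.symm
  · intro hf
    have key : ∀ x ∈ D.group F, phiG σ D x = x → ∀ k ∈ K, x * k * x⁻¹ ∈ K := by
      intro x hxG hxf k hk
      obtain ⟨l, hl, d, hd, hdf, rfl⟩ := fixed_decomp σ S hN hxG hxf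
      obtain ⟨l', hl', d', hd', hdf', ek⟩ := fixed_decomp σ S hN (hKG hk) (hfix k hk)
      have hconj : ∀ e ∈ D.diagonalSubgroup F, phiG σ D e = e → ∀ y ∈ ratGroup D σ,
          e * y * e⁻¹ ∈ ratGroup D σ := by
        intro e he hef
        refine Struct.conj_closure_le ?_
        rintro y ⟨r, t, ht, hy⟩
        rw [S.ok.eq_xG hy]
        by_cases hr : r < D.nroots
        · obtain ⟨-, c, -, hc⟩ := S.act_diag he ⟨r, hr⟩
          have e1 := (hc t).1
          have e2 := congrArg (phiG σ D) e1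
          rw [map_mul, map_mul, map_inv, hef, phiG_xG σ S, ht, e1, phiG_xG σ S] at e2
          exact Subgroup.subset_closure ⟨r, c * t, (S.xG_left_inj hr e2).symm, by rw [e1]; exact S.ok.val_xG _ _⟩
        · have : S.ok.xG r t = 1 := Units.ext (by
            rw [S.ok.val_xG, Units.val_one]; exact dif_neg hr)
          rw [this, mul_one, mul_inv_cancel]
          exact one_mem _
      have hcomm : d * d' = d' * d := by
        rw [S.ok.diagonalSubgroup_eq] at hd hd'
        obtain ⟨c, rfl⟩ := hd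
        obtain ⟨c', rfl⟩ := hd'
        rw [← map_mul, ← map_mul, mul_comm]
      have e : l * d * k * (l * d)⁻¹ = l * (d * l' * d⁻¹) * (d' * l⁻¹ * d'⁻¹) * l'⁻¹ * k := by
        rw [ek]
        calc l * d * (l' * d') * (l * d)⁻¹ = l * (d * l' * d⁻¹) * ((d * d') * d⁻¹ * l⁻¹) := by group
          _ = l * (d * l' * d⁻¹) * ((d' * d) * d⁻¹ * l⁻¹) := by rw [hcomm]
          _ = _ := by group
      rw [e]
      exact mul_mem (hLK (mul_mem (mul_mem (mul_mem hl (hconj d hd hdf l' hl'))
        (hconj d' hd' hdf' _ (inv_mem hl))) (inv_mem hl'))) hk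
    refine Subgroup.mem_normalizer_iff.2 fun k => ⟨key g hg hf k, fun h => ?_⟩
    have := key g⁻¹ (inv_mem hg) (by rw [map_inv, hf]) _ h
    simpa [mul_assoc] using this

end Cfsg.Lib.Chev
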