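import Cfsg.Agent.Chev.GLRel

/-! The diagonal subgroup as the image of a split torus, and the monomial subgroup. -/

set_option autoImplicit false

open Cfsg.Lie

namespace Cfsg.Lib.Chev

variable {D : ChevalleyDatum} {C : Cert} {F : Type*} [Field F]

namespace Ok

theorem mul_unit_self_apply (M : Matrix D.Idx D.Idx F) (x y : D.Idx) :
    (M * unit F D.rank D.nroots (enc D.rank D.nroots y) (enc D.rank D.nroots y)) x y = M x y := by
  rw [Matrix.mul_apply, Finset.sum_eq_single y]
  · simp [unit]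
  · intro z _ hz
    simp [unit, (enc_injective D.rank D.nroots).ne hz]
  · simp

theorem nc_apply (h : Ok D C) (i : ℕ) (x y : D.Idx) :
    nc F D C i x y = ((C.nCol i (enc D.rank D.nroots y)).map fun e =>
      if enc D.rank D.nroots x = e.1 then (e.2 : F) else 0).sum := by
  rw [← mul_unit_self_apply (nc F D C i) x y, nc_mul_unit h i (enc_lt _ _ y)]
  generalize C.nCol i (enc D.rank D.nroots y) = L
  induction L with
  | nil => simp
  | cons e L ih =>
    rw [List.map_cons, List.sum_cons, List.map_cons, List.sum_cons, Matrix.add_apply, ih]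
    simp [unit]

theorem nc_apply_inr (h : Ok D C) {i : ℕ} (hi : i < D.rank) (x : D.Idx) (s : Fin D.nroots) :
    nc F D C i x (Sum.inr s) = Sum.elim (fun _ => (0 : F))
      (fun s' : Fin D.nroots => if (s' : ℕ) = D.reflectRoot i s then (C.eta i s : F) else 0) x := by
  have hb : Nat.blt (D.rank + s.val) D.rank = false := blt_false.2 (Nat.le_add_right _ _)
  have he : enc D.rank D.nroots (Sum.inr s : D.Idx) = D.rank + s.val := rfl
  rw [h.nc_apply i x, he, Cert.nCol, h.l_eq, hb]
  simp only [Nat.add_eq, Nat.sub_eq, Nat.add_sub_cancel_left, List.map_cons, List.map_nil,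
    List.sum_cons, List.sum_nil, add_zero, ← (h.refl_spec hi s.isLt).2.1]
  rcases x with a | s'
  · have ha := a.isLt
    exact if_neg (show ¬ a.val = D.rank + C.w i s.val by omega)
  · simp [enc]

theorem nc_apply_inl (h : Ok D C) {i : ℕ} (hi : i < D.rank) (x : D.Idx) (j : Fin D.rank) :
    nc F D C i x (Sum.inl j) = Sum.elim (fun j' : Fin D.rank => (if j' = j then (1 : F) else 0) -
      (if (j' : ℕ) = i then ((D.cartan j (D.simple i) : ℤ) : F) else 0)) (fun _ => 0) x := by
  have hb : Nat.blt j.val D.rank = true := blt_true.2 j.isLt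
  have he : enc D.rank D.nroots (Sum.inl j : D.Idx) = j.val := rfl
  rw [h.nc_apply i x, he, Cert.nCol, h.l_eq, hb]
  simp only [kfilter_eq, kmap_eq, krange_eq, ← List.range_eq_range']
  have key : ∀ L : List (ℕ × ℤ), ((L.filter fun e => !decide (e.2 = 0)).map fun e =>
      if enc D.rank D.nroots x = e.1 then (e.2 : F) else 0).sum =
      (L.map fun e => if enc D.rank D.nroots x = e.1 then (e.2 : F) else 0).sum := by
    intro L
    induction L with
    | nil => simp
    | cons e L ih =>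
      rw [List.filter_cons]
      by_cases h0 : e.2 = 0 <;> simp [h0, ih]
  rw [key, List.map_map]
  rcases x with a | s'
  · rw [sum_map_eq_single D.rank a.val a.isLt]
    · have hbeq : ∀ u v : ℕ, Nat.beq u v = decide (u = v) := fun u v => by
        by_cases huv : u = v
        · subst huv; simp
        · rw [decide_eq_false huv]
          cases hq : Nat.beq u v
          · rfl
          · exact absurd (Nat.eq_of_beq_eq_true hq) huv
      simp only [Function.comp_apply, enc, Sum.elim_inl, if_true, Cert.hRefl, h.sr_eq hi,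
        h.cart_eq j.isLt (h.sr_eq hi ▸ h.sr_lt hi), hbeq]
      rcases eq_or_ne a.val j.val with e1 | e1 <;> rcases eq_or_ne a.val i with e2 | e2 <;>
        simp_all [Fin.ext_iff]
    · intro b _ hb'
      simp [enc, Ne.symm hb']
  · refine List.sum_eq_zero fun z hz => ?_
    obtain ⟨b, hb', rfl⟩ := List.mem_map.1 hz
    rw [List.mem_range] at hb'
    exact if_neg (show ¬ D.rank + s'.val = b by omega)

/-- The split torus acting diagonally: coordinate `s` is scaled by `∏ c_i ^ A_{i,s}`. -/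
noncomputable def tG (D : ChevalleyDatum) (F : Type*) [Field F] : (Fin D.rank → Fˣ) →* GL D.Idx F :=
  ((Units.map (Matrix.diagonalRingHom D.Idx F).toMonoidHom).comp MulEquiv.piUnits.symm.toMonoidHom).comp
    { toFun := fun c => Sum.elim (fun _ => 1) fun s : Fin D.nroots => ∏ i, c i ^ D.cartan i s
      map_one' := by funext x; rcases x with a | s <;> simp
      map_mul' := fun c d => by
        funext x
        rcases x with a | s <;> simp [mul_zpow, Finset.prod_mul_distrib] }

theorem tG_val (c : Fin D.rank → Fˣ) : ((tG D F c : GL D.Idx F) : Matrix D.Idx D.Idx F) =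
    Matrix.diagonal (Sum.elim (fun _ => (1 : F))
      fun s : Fin D.nroots => ((∏ i, c i ^ D.cartan i s : Fˣ) : F)) := by
  show Matrix.diagonal _ = _
  congr 1
  funext x
  rcases x with a | s <;> rfl

theorem hG_simple_eq_tG (h : Ok D C) (i : Fin D.rank) (t : Fˣ) :
    h.hG (D.simple i) (t : F) = tG D F (Pi.mulSingle i t) := by
  apply Units.ext
  rw [h.hG_val_simple i.isLt t.ne_zero, dMat, tG_val]
  congr 1
  funext x
  rcases x with a | s
  · simp [cwt]
  · simp only [cwt, Sum.elim_inr]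
    rw [Finset.prod_eq_single i (fun j _ hj => by simp [Pi.mulSingle_eq_of_ne hj]) (by simp),
      Pi.mulSingle_eq_same, Units.val_zpow_eq_zpow_val]

theorem conj_nG_tG (h : Ok D C) (i : Fin D.rank) (c : Fin D.rank → Fˣ) :
    h.nG (D.simple i) 1 * tG D F c * (h.nG (D.simple i) 1)⁻¹ =
      tG D F (c * Pi.mulSingle i (∏ j, c j ^ (-D.cartan j (D.simple i)))) := by
  let f : ℕ → F := fun s => ((∏ j, c j ^ D.cartan j s : Fˣ) : F)
  apply Units.ext
  rw [Units.val_mul, Units.val_mul, h.nG_one_val i.isLt, h.nG_inv, h.nG_negOne_val i.isLt, tG_val, tG_val]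
  rw [show (Matrix.diagonal (Sum.elim (fun _ => (1 : F))
      fun s : Fin D.nroots => ((∏ j, c j ^ D.cartan j s : Fˣ) : F))) =
      Matrix.diagonal (Sum.elim (fun _ => (1 : F)) fun s : Fin D.nroots => f s) from rfl,
    h.conj_diag i.isLt f]
  congr 1
  funext x
  rcases x with a | s
  · rfl
  · simp only [Sum.elim_inr, f, Pi.mul_apply, mul_zpow, Finset.prod_mul_distrib]
    have hsingle : ∀ m : Fˣ, (∏ x : Fin D.rank, Pi.mulSingle (M := fun _ => Fˣ) i m x ^ D.cartan x s) =
        m ^ D.cartan i s := fun m => by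
      rw [Fintype.prod_eq_single i (fun j hj => by simp [Pi.mulSingle_eq_of_ne hj]), Pi.mulSingle_eq_same]
    rw [hsingle, ← Finset.prod_zpow, ← Finset.prod_mul_distrib]
    congr 1
    refine Finset.prod_congr rfl fun j _ => ?_
    rw [← zpow_mul, ← zpow_add, ← h.sr_eq i.isLt, ← h.cart_eq j.isLt (h.w_lt i.isLt s.isLt),
      ← h.cart_eq j.isLt s.isLt, ← h.cart_eq j.isLt (h.sr_lt i.isLt), ← h.cart_eq i.isLt s.isLt,
      (h.refl_spec i.isLt s.isLt).2.2.2.2.2.2.2 j j.isLt]
    congr 1
    ring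

theorem nG_conj_tRange (h : Ok D C) {i : ℕ} (hi : i < D.rank) {g : GL D.Idx F}
    (hg : g ∈ (tG D F).range) :
    h.nG (D.simple i) 1 * g * (h.nG (D.simple i) 1)⁻¹ ∈ (tG D F).range := by
  obtain ⟨c, rfl⟩ := hg
  exact ⟨_, (h.conj_nG_tG ⟨i, hi⟩ c).symm⟩

theorem hG_mem_tRange (h : Ok D C) {r : ℕ} (hr : r < D.nroots) {t : F} (ht : t ≠ 0) :
    h.hG r t ∈ (tG D F).range := by
  suffices H : ∀ r < D.nroots, ∀ t : F, t ≠ 0 → h.hG r t ∈ (tG D F).range from H r hr t ht
  clear hr ht r t
  refine h.root_induction (fun i hi => ?_) fun i r hi hr ih t ht => ?_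
  · have hp : ∀ t : F, t ≠ 0 → h.hG (C.sr i) t ∈ (tG D F).range := fun t ht => by
      rw [h.sr_eq hi]
      exact ⟨_, (h.hG_simple_eq_tG ⟨i, hi⟩ (Units.mk0 t ht)).symm⟩
    refine ⟨hp, fun t ht => ?_⟩
    rw [← (h.refl_simple hi).1, ← h.conj_nG_hG hi (h.sr_lt hi) ht]
    exact h.nG_conj_tRange hi (hp t ht)
  · have := h.nG_conj_tRange hi (ih t ht)
    rwa [h.conj_nG_hG hi (h.w_lt hi hr) ht, (h.refl_spec hi hr).1] at this

theorem diagonalSubgroup_eq (h : Ok D C) : D.diagonalSubgroup F = (tG D F).range := by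
  apply le_antisymm
  · refine (Subgroup.closure_le _).2 ?_
    rintro g ⟨r, t, hr, ht, hg⟩
    have : g = h.hG r t := Units.ext (by rw [hg, h.val_hG])
    rw [this]
    exact h.hG_mem_tRange hr ht
  · rintro g ⟨c, rfl⟩
    rw [← Finset.univ_prod_mulSingle c]
    refine (Subgroup.mem_comap (K := D.diagonalSubgroup F) (f := tG D F)).1
      (Subgroup.prod_mem _ fun i _ => Subgroup.mem_comap.2 ?_)
    rw [← h.hG_simple_eq_tG]
    exact Subgroup.subset_closure
      ⟨D.simple i, (c i : F), h.sr_eq i.isLt ▸ h.sr_lt i.isLt, (c i).ne_zero, h.val_hG _ _⟩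

theorem exists_hWord (h : Ok D C) {g : GL D.Idx F} (hg : g ∈ D.diagonalSubgroup F) :
    ∃ c : ℕ → F, (∀ i < D.rank, c i ≠ 0) ∧ (g : Matrix D.Idx D.Idx F) =
      D.wordMat F ((List.range D.rank).flatMap fun i => D.hWord (D.simple i) (c i)) := by
  rw [h.diagonalSubgroup_eq] at hg
  obtain ⟨c, rfl⟩ := hg
  refine ⟨fun i => if hi : i < D.rank then (c ⟨i, hi⟩ : F) else 1, fun i hi => ?_, ?_⟩
  · simp only [dif_pos hi]
    exact Units.ne_zero _
  · have key : ∀ (f : ℕ → F) (L : List ℕ), D.wordMat F (L.flatMap fun i => D.hWord (D.simple i) (f i)) =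
        (((L.map fun i => h.hG (D.simple i) (f i)).prod : GL D.Idx F) : Matrix D.Idx D.Idx F) := by
      intro f L
      induction L with
      | nil => simp [ChevalleyDatum.wordMat]
      | cons i L ih =>
        rw [List.map_cons, List.prod_cons, Units.val_mul, h.val_hG, ← ih]
        simp [ChevalleyDatum.wordMat, ChevalleyDatum.hMat, List.map_append, List.prod_append]
    rw [key, ← List.map_coe_finRange_eq_range, List.map_map]
    congr 1
    conv_lhs => rw [← Finset.univ_prod_mulSingle c, ← List.prod_ofFn, map_list_prod, List.map_ofFn,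
      List.ofFn_eq_map]
    congr 1
    refine List.map_congr_left fun i _ => ?_
    simp [h.hG_simple_eq_tG]

theorem nG_mem_gen (h : Ok D C) {r : ℕ} (hr : r < D.nroots) :
    h.nG r (1 : F) ∈ D.diagonalSubgroup F ⊔
      Subgroup.closure {g | ∃ i < D.rank, g = h.nG (D.simple i) (1 : F)} := by
  let M := D.diagonalSubgroup F ⊔
    Subgroup.closure {g | ∃ i < D.rank, g = h.nG (D.simple i) (1 : F)}
  have hn : ∀ i < D.rank, h.nG (D.simple i) (1 : F) ∈ M := fun i hi =>
    Subgroup.mem_sup_right (Subgroup.subset_closure ⟨i, hi, rfl⟩)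
  have hpm : ∀ (q : ℕ) (e : ℤ), (e = 1 ∨ e = -1) → h.nG q (e : F) ∈ M → h.nG q (1 : F) ∈ M := by
    rintro q e (rfl | rfl) hq
    · simpa using hq
    · have : h.nG q ((-1 : ℤ) : F) = (h.nG q 1)⁻¹ := by rw [h.nG_inv]; simp
      rw [this] at hq
      exact inv_mem_iff.1 hq
  suffices H : ∀ r < D.nroots, h.nG r (1 : F) ∈ M from H r hr
  refine h.root_induction (fun i hi => ⟨h.sr_eq hi ▸ hn i hi, ?_⟩) fun i r hi hr ih => ?_
  · have hq := h.conj_nG_nG (F := F) hi (h.sr_lt hi) 1
    rw [(h.refl_simple hi).1, mul_one, h.sr_eq hi] at hq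
    rw [h.sr_eq hi]
    refine hpm _ _ (eta_cases C i (D.simple i)) ?_
    rw [← hq]
    exact mul_mem (mul_mem (hn i hi) (hn i hi)) (inv_mem (hn i hi))
  · have hq := h.conj_nG_nG (F := F) hi (h.w_lt hi hr) 1
    rw [(h.refl_spec hi hr).1, mul_one] at hq
    refine hpm _ _ (eta_cases C i (C.w i r)) ?_
    rw [← hq]
    exact mul_mem (mul_mem (hn i hi) ih) (inv_mem (hn i hi))

theorem monomialSubgroup_eq (h : Ok D C) : D.monomialSubgroup F = D.diagonalSubgroup F ⊔
    Subgroup.closure {g | ∃ i < D.rank, g = h.nG (D.simple i) (1 : F)} := by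
  apply le_antisymm
  · refine sup_le le_sup_left ((Subgroup.closure_le _).2 ?_)
    rintro g ⟨r, hr, hg⟩
    have : g = h.nG r 1 := Units.ext (by rw [hg, h.val_nG])
    rw [this]
    exact h.nG_mem_gen hr
  · refine sup_le_sup_left (Subgroup.closure_mono ?_) _
    rintro g ⟨i, hi, rfl⟩
    exact ⟨D.simple i, h.sr_eq hi ▸ h.sr_lt hi, h.val_nG _ _⟩

theorem monomial_le_normalizer (h : Ok D C) :
    D.monomialSubgroup F ≤ Subgroup.normalizer (D.diagonalSubgroup F : Set (GL D.Idx F)) := by
  rw [h.monomialSubgroup_eq]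
  refine sup_le Subgroup.le_normalizer ((Subgroup.closure_le _).2 ?_)
  rintro g ⟨i, hi, rfl⟩
  rw [SetLike.mem_coe, Subgroup.mem_normalizer_iff]
  intro x
  refine ⟨fun hx => ?_, fun hx => ?_⟩
  · rw [h.diagonalSubgroup_eq] at hx ⊢
    exact h.nG_conj_tRange hi hx
  · have hsq : h.nG (D.simple i) (1 : F) * h.nG (D.simple i) 1 ∈ D.diagonalSubgroup F := by
      have e : h.nG (D.simple i) (1 : F) * h.nG (D.simple i) 1 = (h.hG (D.simple i) (-1 : F))⁻¹ := by
        simp [hG, h.nG_inv]
      rw [e]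
      exact inv_mem (Subgroup.subset_closure
        ⟨D.simple i, -1, h.sr_eq hi ▸ h.sr_lt hi, by simp, h.val_hG _ _⟩)
    have h2 : h.nG (D.simple i) 1 * (h.nG (D.simple i) 1 * x * (h.nG (D.simple i) 1)⁻¹) *
        (h.nG (D.simple i) 1)⁻¹ ∈ D.diagonalSubgroup F := by
      rw [h.diagonalSubgroup_eq] at hx ⊢
      exact h.nG_conj_tRange hi hx
    have h3 := mul_mem (mul_mem (inv_mem hsq) h2) hsq
    convert h3 using 1
    group

end Ok

end Cfsg.Lib.Chev
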