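import Cfsg.Agent.Chev.Order
import Cfsg.Agent.Chev.Basic

/-! The positive unipotent subgroup: filtration by index, unique ordered products, unipotence, nilpotency. -/

set_option autoImplicit false

open Cfsg.Lie
open scoped commutatorElement

namespace Cfsg.Lib.Chev

variable {D : ChevalleyDatum} {C : Cert} {F : Type*} [Field F]

/-- Numbering of the coordinates for which the positive root elements are lower unitriangular. -/
def ukey (D : ChevalleyDatum) : D.Idx → ℕ
  | Sum.inl i => D.nroots / 2 + i.val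
  | Sum.inr v => if v.val < D.nroots / 2 then v.val else D.rank + v.val

/-- `M` vanishes on and above the diagonal of the numbering `ukey`. -/
def Low (M : Matrix D.Idx D.Idx F) : Prop := ∀ x y, ukey D x ≤ ukey D y → M x y = 0

theorem Low.zero : Low (0 : Matrix D.Idx D.Idx F) := fun _ _ _ => rfl

theorem Low.add {A B : Matrix D.Idx D.Idx F} (hA : Low A) (hB : Low B) : Low (A + B) :=
  fun x y hxy => by simp [hA x y hxy, hB x y hxy]

theorem Low.mul {A B : Matrix D.Idx D.Idx F} (hA : Low A) (hB : Low B) : Low (A * B) := by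
  intro x y hxy
  rw [Matrix.mul_apply]
  refine Finset.sum_eq_zero fun z _ => ?_
  by_cases hz : ukey D x ≤ ukey D z
  · rw [hA x z hz, zero_mul]
  · rw [hB z y (by omega), mul_zero]

theorem Low.pow_apply {A : Matrix D.Idx D.Idx F} (hA : Low A) :
    ∀ (m : ℕ) (x y : D.Idx), ukey D x < ukey D y + m → (A ^ m) x y = 0
  | 0, x, y, h => by
    rw [pow_zero, Matrix.one_apply_ne]
    rintro rfl
    omega
  | m + 1, x, y, h => by
    rw [pow_succ', Matrix.mul_apply]
    refine Finset.sum_eq_zero fun z _ => ?_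
    by_cases hz : ukey D x ≤ ukey D z
    · rw [hA x z hz, zero_mul]
    · rw [hA.pow_apply m z y (by omega), mul_zero]

theorem ukey_lt (x : D.Idx) : ukey D x < D.rank + D.nroots := by
  rcases x with i | v
  · have := i.isLt; simp only [ukey]; omega
  · have := v.isLt; simp only [ukey]; split_ifs <;> omega

theorem Low.pow_eq_zero {A : Matrix D.Idx D.Idx F} (hA : Low A) : A ^ (D.rank + D.nroots) = 0 := by
  ext x y
  exact hA.pow_apply _ x y (lt_of_lt_of_le (ukey_lt x) (Nat.le_add_left _ _))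

theorem gcd_eq_one_imp (L : List ℤ) (p : ℕ) (h : ∀ c ∈ L, (p : ℤ) ∣ c) :
    p ∣ @List.rec ℤ (fun _ => ℕ) 0 (fun c _ ih => Nat.gcd (Int.natAbs c) ih) L := by
  induction L with
  | nil => exact dvd_zero p
  | cons c L ih =>
    exact Nat.dvd_gcd (Int.natCast_dvd.1 (h c List.mem_cons_self))
      (ih fun d hd => h d (List.mem_cons_of_mem c hd))

namespace Struct

theorem hsum (S : Struct D C) : D.nroots / 2 + D.nroots / 2 = D.nroots := by
  have h0 := S.ok.pos
  simp only [Cert.okPos, Bool.and_eq_true] at h0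
  have := Nat.eq_of_beq_eq_true h0.1.2
  rwa [Nat.add_eq, S.ok.n_eq] at this

theorem isPos_iff (S : Struct D C) {r : ℕ} : D.IsPosRoot r ↔ D.nroots / 2 ≤ r ∧ r < D.nroots :=
  ⟨fun h => ⟨((S.ok.pos_or_neg h.1).1.1 h), h.1⟩, fun h => (S.ok.pos_or_neg h.2).1.2 h.1⟩

theorem order_row (S : Struct D C) {r : ℕ} (hr : r < D.nroots) :
    D.neg r + (r + 1) = D.nroots ∧
      (∀ p : ℕ, (∀ i < D.rank, (p : ℤ) ∣ (D.coroot.getD r #[]).getD i 0) → p ∣ 1) ∧
      (D.nroots / 2 ≤ r → ∀ e ∈ (D.chain.getD r #[]).toList, ∀ q ∈ e.2.toList,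
        e.1 < q.1 ∧ (D.nroots / 2 ≤ e.1 → r < q.1)) := by
  have h := kall_krange S.order r hr
  simp only [Bool.and_eq_true, Bool.or_eq_true, kall_iff, Nat.blt, Nat.ble_eq, Nat.succ_le_iff] at h
  obtain ⟨⟨h1, h2⟩, h3⟩ := h
  refine ⟨Nat.eq_of_beq_eq_true h1, fun p hp => ?_, fun hpos e he q hq => ?_⟩
  · rw [← Nat.eq_of_beq_eq_true h3]
    refine gcd_eq_one_imp _ p fun c hc => ?_
    rw [kmap_eq, krange_eq, List.mem_map] at hc
    obtain ⟨i, hi, rfl⟩ := hc
    rw [List.mem_range'_1] at hi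
    exact hp i (by omega)
  · rcases h2 with h2 | h2
    · have : r < D.nroots / 2 := h2
      omega
    · obtain ⟨ha, hb⟩ := h2 e he q hq
      refine ⟨ha, fun he' => ?_⟩
      rcases hb with hb | hb
      · have : e.1 < D.nroots / 2 := hb
        omega
      · exact hb

theorem neg_lt_half (S : Struct D C) {r : ℕ} (hr : r < D.nroots) (h : D.nroots / 2 ≤ r) :
    D.neg r < D.nroots / 2 := by
  have := (S.order_row hr).1
  have := S.hsum
  omega

theorem chain_gt (S : Struct D C) {r s k v : ℕ} (hr : r < D.nroots) (hrp : D.nroots / 2 ≤ r)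
    (hk : D.chainRoot r s k = some v) : v < D.nroots ∧ s < v ∧ (D.nroots / 2 ≤ s → r < v) := by
  rw [ChevalleyDatum.chainRoot, chainEntry_eq] at hk
  cases hf : (D.chain.getD r #[]).toList.find? (fun e => e.1 = s) with
  | none => rw [hf] at hk; exact absurd hk (by simp)
  | some e =>
    have hes : e.1 = s := by simpa using List.find?_some hf
    simp only [hf, Option.toList_some, List.flatMap_cons, List.flatMap_nil, List.append_nil] at hk
    cases hq : e.2.toList[k - 1]? with
    | none => simp [hq] at hk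
    | some q =>
      simp only [hq, Option.map_some, Option.some.injEq] at hk
      have hmem := List.mem_of_find?_eq_some hf
      have hq' := List.mem_of_getElem? hq
      obtain ⟨a, b⟩ := (S.order_row hr).2.2 hrp e hmem q hq'
      obtain ⟨-, -, -, c, -⟩ := (okChain_row S.chain hr).2 e hmem
      exact ⟨hk ▸ (c q hq').1, by omega, fun hs => by have := b (hes ▸ hs); omega⟩

theorem commTerms_gt (S : Struct D C) {r s : ℕ} (hr : r < D.nroots) (hs : s < D.nroots)
    (hrp : D.nroots / 2 ≤ r) (hsp : D.nroots / 2 ≤ s)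
    {q : ℕ × ℤ × ℕ × ℕ} (hq : q ∈ D.commTerms r s) : r < q.1 ∧ s < q.1 ∧ q.1 < D.nroots := by
  simp only [ChevalleyDatum.commTerms, List.mem_filterMap] at hq
  obtain ⟨c, hc', he⟩ := hq
  simp only [Option.map_eq_some_iff] at he
  obtain ⟨k, hk, rfl⟩ := he
  have key : ∀ {a b j v : ℕ}, a < D.nroots → D.nroots / 2 ≤ a → D.nroots / 2 ≤ b →
      D.chainRoot a b j = some v → a < v ∧ b < v ∧ v < D.nroots := fun ha ha' hb hv =>
    ⟨(S.chain_gt ha ha' hv).2.2 hb, (S.chain_gt ha ha' hv).2.1, (S.chain_gt ha ha' hv).1⟩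
  simp only [List.mem_cons, List.not_mem_nil, or_false] at hc'
  rcases hc' with rfl | rfl | rfl | rfl | rfl | rfl | rfl
  · exact key hr hrp hsp hk
  · exact key hr hrp hsp hk
  · obtain ⟨a, b, c⟩ := key hs hsp hrp hk; exact ⟨b, a, c⟩
  · exact key hr hrp hsp hk
  · obtain ⟨a, b, c⟩ := key hs hsp hrp hk; exact ⟨b, a, c⟩
  · obtain ⟨k', h1, h2⟩ := Option.bind_eq_some_iff.1 hk
    obtain ⟨a, b, c⟩ := key hr hrp hsp h1
    obtain ⟨a', b', c'⟩ := key c (by omega) hsp h2
    exact ⟨show r < k by omega, b', c'⟩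
  · obtain ⟨k', h1, h2⟩ := Option.bind_eq_some_iff.1 hk
    obtain ⟨a, b, c⟩ := key hs hsp hrp h1
    obtain ⟨a', b', c'⟩ := key c (by omega) hrp h2
    exact ⟨b', show s < k by omega, c'⟩

/-- The subgroup generated by the root elements of index at least `k`. -/
noncomputable def Ugen (S : Struct D C) (F : Type*) [Field F] (k : ℕ) : Subgroup (GL D.Idx F) :=
  Subgroup.closure {g | ∃ (r : ℕ) (t : F), k ≤ r ∧ r < D.nroots ∧ g = S.ok.xG r t}

theorem xG_mem_Ugen (S : Struct D C) {k r : ℕ} (hk : k ≤ r) (hr : r < D.nroots) (t : F) :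
    S.ok.xG r t ∈ S.Ugen F k :=
  Subgroup.subset_closure ⟨r, t, hk, hr, rfl⟩

theorem Ugen_mono (S : Struct D C) {k k' : ℕ} (h : k ≤ k') : S.Ugen F k' ≤ S.Ugen F k := by
  refine (Subgroup.closure_le _).2 ?_
  rintro g ⟨r, t, a, b, rfl⟩
  exact S.xG_mem_Ugen (h.trans a) b t

theorem Ugen_top (S : Struct D C) {k : ℕ} (h : D.nroots ≤ k) : S.Ugen F k = ⊥ := by
  refine eq_bot_iff.2 ((Subgroup.closure_le _).2 ?_)
  rintro g ⟨r, t, a, b, rfl⟩
  omega

theorem posUnipotent_eq (S : Struct D C) : D.posUnipotent F = S.Ugen F (D.nroots / 2) := by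
  apply le_antisymm
  · refine (Subgroup.closure_le _).2 ?_
    rintro g ⟨r, t, hr, hg⟩
    obtain ⟨a, b⟩ := S.isPos_iff.1 hr
    rw [S.ok.eq_xG hg]
    exact S.xG_mem_Ugen a b t
  · refine (Subgroup.closure_le _).2 ?_
    rintro g ⟨r, t, a, b, rfl⟩
    exact Subgroup.subset_closure ⟨r, t, S.isPos_iff.2 ⟨a, b⟩, S.ok.val_xG r t⟩

theorem wG_mem (S : Struct D C) {r s k : ℕ} (hr : r < D.nroots) (hs : s < D.nroots)
    (hrp : D.nroots / 2 ≤ r) (hsp : D.nroots / 2 ≤ s) (hk : k ≤ max r s + 1) (t u : F) :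
    S.ok.wG (D.commWord F r s t u) ∈ S.Ugen F k := by
  unfold Ok.wG
  refine list_prod_mem fun g hg => ?_
  obtain ⟨p, hp, rfl⟩ := List.mem_map.1 hg
  simp only [ChevalleyDatum.commWord, List.mem_map] at hp
  obtain ⟨q, hq, rfl⟩ := hp
  obtain ⟨a, b, c⟩ := S.commTerms_gt hr hs hrp hsp hq
  exact S.xG_mem_Ugen (show k ≤ q.1 by omega) c _

theorem conj_xG (S : Struct D C) {r s : ℕ} (hr : r < D.nroots) (hs : s < D.nroots)
    (hrp : D.nroots / 2 ≤ r) (hsp : D.nroots / 2 ≤ s) (t u : F) :
    ∃ w ∈ S.Ugen F (max r s + 1), S.ok.xG r t * S.ok.xG s u * (S.ok.xG r t)⁻¹ = S.ok.xG s u * w := by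
  rcases eq_or_ne s r with rfl | hne
  · refine ⟨1, one_mem _, ?_⟩
    rw [mul_one, S.ok.xG_mul, S.ok.xG_inv, S.ok.xG_mul]
    congr 1
    ring
  · have hn : s ≠ D.neg r := by have := S.neg_lt_half hr hrp; omega
    refine ⟨S.ok.wG (D.commWord F r s (-t) u), S.wG_mem hr hs hrp hsp le_rfl _ _, ?_⟩
    have e := S.ok.commRel S.chain S.base hr hs hne hn (-t) u
    rw [mul_assoc, S.ok.xG_inv, e, ← mul_assoc, ← mul_assoc, S.ok.xG_mul, add_neg_cancel]
    congr 1
    have : S.ok.xG r (0 : F) = 1 := Units.ext (by rw [S.ok.val_xG, S.ok.x_zero, Units.val_one])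
    rw [this, one_mul]

theorem conj_Ugen (S : Struct D C) {r k : ℕ} (hr : r < D.nroots) (hrp : D.nroots / 2 ≤ r)
    (hk : D.nroots / 2 ≤ k) (t : F) {g : GL D.Idx F} (hg : g ∈ S.Ugen F k) :
    S.ok.xG r t * g * (S.ok.xG r t)⁻¹ ∈ S.Ugen F k := by
  have : S.Ugen F k ≤ (S.Ugen F k).comap (MulAut.conj (S.ok.xG r t)).toMonoidHom := by
    refine (Subgroup.closure_le _).2 ?_
    rintro x ⟨s, u, a, b, rfl⟩
    obtain ⟨w, hw, e⟩ := S.conj_xG hr b hrp (hk.trans a) t u
    show S.ok.xG r t * S.ok.xG s u * (S.ok.xG r t)⁻¹ ∈ S.Ugen F k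
    rw [e]
    exact mul_mem (S.xG_mem_Ugen a b u) (S.Ugen_mono (by omega) hw)
  exact this hg

theorem le_normalizer_Ugen (S : Struct D C) {j k : ℕ} (hj : D.nroots / 2 ≤ j) (hk : D.nroots / 2 ≤ k) :
    S.Ugen F j ≤ Subgroup.normalizer (S.Ugen F k : Set (GL D.Idx F)) := by
  refine (Subgroup.closure_le _).2 ?_
  rintro g ⟨r, t, a, b, rfl⟩
  rw [SetLike.mem_coe, Subgroup.mem_normalizer_iff]
  intro x
  refine ⟨fun hx => S.conj_Ugen b (hj.trans a) hk t hx, fun hx => ?_⟩
  have h2 := S.conj_Ugen b (hj.trans a) hk (-t) hx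
  rw [← S.ok.xG_inv, inv_inv, ← mul_assoc, ← mul_assoc, inv_mul_cancel, one_mul, mul_assoc,
    inv_mul_cancel, mul_one] at h2
  exact h2

/-- The root subgroup as the range of a homomorphism. -/
noncomputable def xHom (S : Struct D C) (F : Type*) [Field F] (r : ℕ) :
    Multiplicative F →* GL D.Idx F where
  toFun t := S.ok.xG r t.toAdd
  map_one' := Units.ext (by rw [S.ok.val_xG, Units.val_one]; exact S.ok.x_zero r)
  map_mul' a b := (S.ok.xG_mul r a.toAdd b.toAdd).symm

theorem Ugen_split (S : Struct D C) {k : ℕ} (hk : k < D.nroots) (hkp : D.nroots / 2 ≤ k)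
    {g : GL D.Idx F} (hg : g ∈ S.Ugen F k) :
    ∃ (t : F), ∃ v ∈ S.Ugen F (k + 1), g = S.ok.xG k t * v := by
  have hle : S.Ugen F k ≤ (S.xHom F k).range ⊔ S.Ugen F (k + 1) := by
    refine (Subgroup.closure_le _).2 ?_
    rintro x ⟨r, t, a, b, rfl⟩
    rcases eq_or_lt_of_le a with rfl | a'
    · exact Subgroup.mem_sup_left ⟨Multiplicative.ofAdd t, rfl⟩
    · exact Subgroup.mem_sup_right (S.xG_mem_Ugen a' b t)
  have hn : (S.xHom F k).range ≤ Subgroup.normalizer (S.Ugen F (k + 1) : Set (GL D.Idx F)) := by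
    rintro x ⟨a, rfl⟩
    exact S.le_normalizer_Ugen hkp (by omega) (S.xG_mem_Ugen le_rfl hk a.toAdd)
  have hset : g ∈ (((S.xHom F k).range ⊔ S.Ugen F (k + 1) : Subgroup (GL D.Idx F)) : Set (GL D.Idx F)) :=
    hle hg
  rw [Subgroup.coe_mul_of_left_le_normalizer_right _ _ hn] at hset
  obtain ⟨x, ⟨a, rfl⟩, v, hv, rfl⟩ := Set.mem_mul.1 hset
  exact ⟨a.toAdd, v, hv, rfl⟩

/-- The ordered product of root elements of index at least `k`. -/
noncomputable def pw (S : Struct D C) (k : ℕ) (t : ℕ → F) : GL D.Idx F :=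
  ((List.range' k (D.nroots - k)).map fun r => S.ok.xG r (t r)).prod

theorem pw_succ (S : Struct D C) {k : ℕ} (hk : k < D.nroots) (t : ℕ → F) :
    S.pw k t = S.ok.xG k (t k) * S.pw (k + 1) t := by
  rw [pw, pw, show D.nroots - k = (D.nroots - (k + 1)) + 1 by omega, List.range'_succ, List.map_cons,
    List.prod_cons]

theorem pw_top (S : Struct D C) {k : ℕ} (hk : D.nroots ≤ k) (t : ℕ → F) : S.pw k t = 1 := by
  simp [pw, Nat.sub_eq_zero_of_le hk]

theorem pw_mem (S : Struct D C) (k : ℕ) (t : ℕ → F) : S.pw k t ∈ S.Ugen F k := by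
  refine list_prod_mem fun g hg => ?_
  obtain ⟨r, hr, rfl⟩ := List.mem_map.1 hg
  rw [List.mem_range'_1] at hr
  exact S.xG_mem_Ugen hr.1 (by omega) _

theorem pw_congr (S : Struct D C) {k : ℕ} {t t' : ℕ → F}
    (h : ∀ r, k ≤ r → r < D.nroots → t r = t' r) : S.pw k t = S.pw k t' := by
  unfold pw
  congr 1
  refine List.map_congr_left fun r hr => ?_
  rw [List.mem_range'_1] at hr
  rw [h r hr.1 (by omega)]

theorem exists_pw (S : Struct D C) : ∀ (d k : ℕ), d + k = D.nroots → D.nroots / 2 ≤ k →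
    ∀ g ∈ S.Ugen F k, ∃ t : ℕ → F, g = S.pw k t := by
  intro d
  induction d with
  | zero =>
    intro k hk _ g hg
    rw [S.Ugen_top (by omega)] at hg
    exact ⟨0, by rw [Subgroup.mem_bot.1 hg, S.pw_top (by omega)]⟩
  | succ d ih =>
    intro k hk hkp g hg
    obtain ⟨a, v, hv, rfl⟩ := S.Ugen_split (by omega) hkp hg
    obtain ⟨t, rfl⟩ := ih (k + 1) (by omega) (by omega) v hv
    refine ⟨Function.update t k a, ?_⟩
    rw [S.pw_succ (show k < D.nroots by omega), Function.update_self]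
    congr 1
    exact S.pw_congr fun r hr _ => (Function.update_of_ne (by omega) _ _).symm

theorem chainCoeff_eq_nil (S : Struct D C) {r s u : ℕ} (hr : r < D.nroots) (hrp : D.nroots / 2 ≤ r)
    (hu : u ≤ s) : D.chainCoeff r s u = [] := by
  rw [ChevalleyDatum.chainCoeff, List.eq_nil_iff_forall_not_mem]
  intro km hkm
  simp only [List.mem_flatMap, List.mem_filter, decide_eq_true_eq, List.mem_map] at hkm
  obtain ⟨e, ⟨he, hes⟩, q, ⟨hq, hqu⟩, -⟩ := hkm
  have := ((S.order_row hr).2.2 hrp e he q.1 (by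
    obtain ⟨qv, qi⟩ := q
    exact (List.mem_zipIdx hq).2.2 ▸ List.getElem_mem _)).1
  omega

/-- The coordinates of root vectors of index at least `-k`. -/
def InSpan (D : ChevalleyDatum) (k : ℕ) : D.Idx → Prop
  | Sum.inl _ => False
  | Sum.inr v => D.neg k ≤ v.val

/-- The matrices leaving that span invariant. -/
def Stab (k : ℕ) (M : Matrix D.Idx D.Idx F) : Prop :=
  ∀ x y, InSpan D k y → ¬ InSpan D k x → M x y = 0

theorem stab_gen (S : Struct D C) {k s : ℕ} (hkn : k < D.nroots) (hkp : D.nroots / 2 ≤ k) (hks : k < s)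
    (hs : s < D.nroots) (u : F) : Stab k (D.x F s u) := by
  rintro x (i | v) hy hx
  · exact absurd hy id
  have hy' : D.neg k ≤ v.val := hy
  have hk1 := (S.order_row hkn).1
  have hs1 := (S.order_row hs).1
  have hv2 : v.val ≠ D.neg s := by omega
  rcases x with i | w
  · rw [ChevalleyDatum.x, dif_pos hs]
    simp only [ChevalleyDatum.xMat, Matrix.of_apply]
    rw [if_neg (show ¬ v.val = D.negIdx.getD s 0 from hv2)]
    split_ifs <;> rfl
  · have hx' : ¬ D.neg k ≤ w.val := hx
    have hwv : w ≠ v := fun e => hx' (e ▸ hy')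
    by_cases hvs : v.val = s
    · rw [ChevalleyDatum.x, dif_pos hs]
      simp only [ChevalleyDatum.xMat, Matrix.of_apply]
      rw [if_pos (show v = ⟨s, hs⟩ from Fin.ext hvs), if_neg]
      exact fun e => hwv (e.trans (Fin.ext hvs).symm)
    · rw [xMat_root_entry hs v w hvs hv2, if_neg hwv, S.chainCoeff_eq_nil hs (by omega) (by omega)]
      simp

theorem stab_Ugen (S : Struct D C) {k : ℕ} (hkn : k < D.nroots) (hkp : D.nroots / 2 ≤ k)
    {g : GL D.Idx F} (hg : g ∈ S.Ugen F (k + 1)) : Stab k (g : Matrix D.Idx D.Idx F) := by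
  induction hg using Subgroup.closure_induction'' with
  | mem g hg =>
    obtain ⟨r, t, a, b, rfl⟩ := hg
    rw [S.ok.val_xG]
    exact S.stab_gen hkn hkp a b t
  | inv_mem g hg =>
    obtain ⟨r, t, a, b, rfl⟩ := hg
    rw [S.ok.xG_inv, S.ok.val_xG]
    exact S.stab_gen hkn hkp a b _
  | one =>
    intro x y hy hx
    rw [Units.val_one, Matrix.one_apply_ne]
    rintro rfl
    exact hx hy
  | mul a b _ _ iha ihb =>
    intro x y hy hx
    rw [Units.val_mul, Matrix.mul_apply]
    refine Finset.sum_eq_zero fun z _ => ?_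
    by_cases hz : InSpan D k z
    · rw [iha x z hz hx, zero_mul]
    · rw [ihb z y hy hz, mul_zero]

theorem xG_inf_Ugen (S : Struct D C) {k : ℕ} (hkn : k < D.nroots) (hkp : D.nroots / 2 ≤ k) {t : F}
    (h : S.ok.xG k t ∈ S.Ugen F (k + 1)) : t = 0 := by
  have hnk : D.neg k < D.nroots := by have := (S.order_row hkn).1; omega
  have hne : D.neg k ≠ k := by have := S.neg_lt_half hkn hkp; omega
  have hst := S.stab_Ugen hkn hkp h
  have hc : ∀ i : Fin D.rank, (((D.coroot.getD k #[]).getD i.val 0 : ℤ) : F) * t = 0 := by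
    intro i
    have e := hst (Sum.inl i) (Sum.inr ⟨D.neg k, hnk⟩) (Nat.le_refl _) id
    rw [S.ok.val_xG, ChevalleyDatum.x, dif_pos hkn] at e
    simp only [ChevalleyDatum.xMat, Matrix.of_apply] at e
    rw [if_neg (fun he => hne (congrArg Fin.val he)), if_pos (show D.neg k = D.negIdx.getD k 0 from rfl)] at e
    exact e
  by_contra ht
  have hp := (S.order_row hkn).2.1 (ringChar F) fun i hi =>
    (CharP.intCast_eq_zero_iff F (ringChar F) _).1 ((mul_eq_zero.1 (hc ⟨i, hi⟩)).resolve_right ht)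
  exact CharP.ringChar_ne_one (Nat.dvd_one.1 hp)

theorem pw_inj (S : Struct D C) : ∀ (d k : ℕ), d + k = D.nroots → D.nroots / 2 ≤ k →
    ∀ t t' : ℕ → F, S.pw k t = S.pw k t' → ∀ r, k ≤ r → r < D.nroots → t r = t' r := by
  intro d
  induction d with
  | zero => intro k hk _ t t' _ r hr hr'; exact absurd hr' (by omega)
  | succ d ih =>
    intro k hk hkp t t' e r hr hr'
    have hkn : k < D.nroots := by omega
    rw [S.pw_succ hkn t, S.pw_succ hkn t'] at e
    have h0 : t k = t' k := by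
      have : S.ok.xG k (-(t' k) + t k) = S.pw (k + 1) t' * (S.pw (k + 1) t)⁻¹ := by
        rw [← S.ok.xG_mul, ← S.ok.xG_inv, eq_mul_inv_iff_mul_eq, mul_assoc, e, inv_mul_cancel_left]
      have hmem : S.ok.xG k (-(t' k) + t k) ∈ S.Ugen F (k + 1) := by
        rw [this]
        exact mul_mem (S.pw_mem _ _) (inv_mem (S.pw_mem _ _))
      have h1 := S.xG_inf_Ugen hkn hkp hmem
      linear_combination h1
    rw [h0] at e
    rcases eq_or_lt_of_le hr with rfl | hr2
    · exact h0
    · exact ih (k + 1) (by omega) (by omega) t t' (mul_left_cancel e) r hr2 hr'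

theorem posRoots_eq (S : Struct D C) :
    D.posRoots = List.range' (D.nroots / 2) (D.nroots - D.nroots / 2) := by
  have hs := S.hsum
  unfold ChevalleyDatum.posRoots
  rw [show List.range D.nroots = List.range' 0 (D.nroots / 2) ++
      List.range' (D.nroots / 2) (D.nroots - D.nroots / 2) by
    rw [List.range_eq_range']
    conv_lhs => rw [show D.nroots = D.nroots / 2 + (D.nroots - D.nroots / 2) by omega]
    rw [← List.range'_append_1, Nat.zero_add], List.filter_append,
    List.filter_eq_nil_iff.2, List.nil_append, List.filter_eq_self.2]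
  · intro r hr
    rw [List.mem_range'_1] at hr
    exact decide_eq_true (S.isPos_iff.2 ⟨hr.1, by omega⟩)
  · intro r hr
    rw [List.mem_range'_1] at hr
    simp only [decide_eq_true_eq, S.isPos_iff, not_and]
    omega

theorem val_pw (S : Struct D C) (t : ℕ → F) :
    ((S.pw (D.nroots / 2) t : GL D.Idx F) : Matrix D.Idx D.Idx F) =
      D.wordMat F (D.posRoots.map fun r => (r, t r)) := by
  rw [S.posRoots_eq, ← S.ok.val_wG]
  congr 1
  simp [pw, Ok.wG, List.map_map, Function.comp_def]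

theorem low_x (S : Struct D C) {r : ℕ} (hr : r < D.nroots) (hrp : D.nroots / 2 ≤ r) (t : F) :
    Low (D.x F r t - 1) := by
  intro x y hxy
  have hnr := S.neg_lt_half hr hrp
  rw [Matrix.sub_apply]
  rcases y with i | s
  · rw [ChevalleyDatum.x, dif_pos hr]
    simp only [ChevalleyDatum.xMat, Matrix.of_apply]
    rcases x with j | u
    · simp only [Matrix.one_apply, Sum.inl.injEq]
      exact sub_self _
    · have h1 : (1 : Matrix D.Idx D.Idx F) (Sum.inr u) (Sum.inl i) = 0 := Matrix.one_apply_ne (by simp)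
      rw [h1, sub_zero]
      refine if_neg ?_
      rintro rfl
      simp only [ukey] at hxy
      rw [if_neg (show ¬ r < D.nroots / 2 by omega)] at hxy
      have := i.isLt
      omega
  · by_cases hsr : s.val = r
    · rw [ChevalleyDatum.x, dif_pos hr]
      simp only [ChevalleyDatum.xMat, Matrix.of_apply]
      rw [if_pos (show s = ⟨r, hr⟩ from Fin.ext hsr)]
      rcases x with j | u
      · simp
      · simp [Matrix.one_apply, Fin.ext_iff, hsr]
    · by_cases hsn : s.val = D.neg r
      · rw [ChevalleyDatum.x, dif_pos hr]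
        simp only [ChevalleyDatum.xMat, Matrix.of_apply]
        rw [if_neg (fun e => hsr (congrArg Fin.val e)), if_pos (show s.val = D.negIdx.getD r 0 from hsn)]
        simp only [ukey] at hxy
        rw [if_pos (show s.val < D.nroots / 2 by omega)] at hxy
        rcases x with j | u
        · simp only [ukey] at hxy; omega
        · simp only [ukey] at hxy
          have hur : u.val ≠ r := by
            intro e
            rw [if_neg (show ¬ u.val < D.nroots / 2 by omega)] at hxy
            omega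
          rcases eq_or_ne u s with rfl | hus
          · simp
          · simp [hus, Fin.ext_iff, hur]
      · rcases x with j | u
        · rw [ChevalleyDatum.x, dif_pos hr]
          simp only [ChevalleyDatum.xMat, Matrix.of_apply]
          rw [if_neg (fun e => hsr (congrArg Fin.val e)),
            if_neg (show ¬ s.val = D.negIdx.getD r 0 from hsn)]
          simp
        · rw [xMat_root_entry hr s u hsr hsn]
          have hle : u.val ≤ s.val := by
            simp only [ukey] at hxy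
            split_ifs at hxy <;> omega
          rw [S.chainCoeff_eq_nil hr hrp hle]
          simp [Matrix.one_apply]

theorem low_of_mem (S : Struct D C) {g : GL D.Idx F} (hg : g ∈ D.posUnipotent F) :
    Low ((g : Matrix D.Idx D.Idx F) - 1) := by
  rw [S.posUnipotent_eq] at hg
  induction hg using Subgroup.closure_induction'' with
  | mem g hg =>
    obtain ⟨r, t, a, b, rfl⟩ := hg
    rw [S.ok.val_xG]
    exact S.low_x b a t
  | inv_mem g hg =>
    obtain ⟨r, t, a, b, rfl⟩ := hg
    rw [S.ok.xG_inv, S.ok.val_xG]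
    exact S.low_x b a _
  | one => rw [Units.val_one, sub_self]; exact Low.zero
  | mul a b _ _ iha ihb =>
    have e : ((a * b : GL D.Idx F) : Matrix D.Idx D.Idx F) - 1 =
        ((a : Matrix D.Idx D.Idx F) - 1) + ((b : Matrix D.Idx D.Idx F) - 1) +
          ((a : Matrix D.Idx D.Idx F) - 1) * ((b : Matrix D.Idx D.Idx F) - 1) := by
      rw [Units.val_mul]; noncomm_ring
    rw [e]
    exact (iha.add ihb).add (iha.mul ihb)

theorem existsUnique_coeff (S : Struct D C) {g : GL D.Idx F} (hg : g ∈ D.posUnipotent F) :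
    ∃! t : ℕ → F, (∀ r, ¬ D.IsPosRoot r → t r = 0) ∧
      (g : Matrix D.Idx D.Idx F) = D.wordMat F (D.posRoots.map fun r => (r, t r)) := by
  classical
  have hs := S.hsum
  rw [S.posUnipotent_eq] at hg
  obtain ⟨t, rfl⟩ := S.exists_pw (D.nroots - D.nroots / 2) (D.nroots / 2) (by omega) le_rfl g hg
  refine ⟨fun r => if D.IsPosRoot r then t r else 0, ⟨fun r hr => if_neg hr, ?_⟩, ?_⟩
  · rw [← S.val_pw]
    congr 1
    exact S.pw_congr fun r a b => (if_pos (S.isPos_iff.2 ⟨a, b⟩)).symm
  · rintro t' ⟨h0, he⟩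
    rw [← S.val_pw] at he
    funext r
    by_cases hr : D.IsPosRoot r
    · simp only [if_pos hr]
      obtain ⟨a, b⟩ := S.isPos_iff.1 hr
      exact (S.pw_inj (D.nroots - D.nroots / 2) (D.nroots / 2) (by omega) le_rfl t t' (Units.ext he) r a b).symm
    · simp only [if_neg hr]
      exact h0 r hr

theorem card_posUnipotent (S : Struct D C) [Fintype F] :
    Nat.card (D.posUnipotent F) = Fintype.card F ^ (D.nroots / 2) := by
  classical
  have hs := S.hsum
  let ext' : (Fin (D.nroots / 2) → F) → ℕ → F := fun c r =>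
    if h : r - D.nroots / 2 < D.nroots / 2 then c ⟨r - D.nroots / 2, h⟩ else 0
  let f : (Fin (D.nroots / 2) → F) → ↥(D.posUnipotent F) := fun c =>
    ⟨S.pw (D.nroots / 2) (ext' c), by rw [S.posUnipotent_eq]; exact S.pw_mem _ _⟩
  have hf : Function.Bijective f := by
    constructor
    · intro c c' e
      funext i
      have h2 := S.pw_inj (D.nroots - D.nroots / 2) (D.nroots / 2) (by omega) le_rfl (ext' c) (ext' c')
        (congrArg Subtype.val e) (D.nroots / 2 + i.val) (by omega) (by omega)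
      simpa [ext', i.isLt] using h2
    · rintro ⟨g, hg⟩
      rw [S.posUnipotent_eq] at hg
      obtain ⟨t, rfl⟩ := S.exists_pw (D.nroots - D.nroots / 2) (D.nroots / 2) (by omega) le_rfl g hg
      refine ⟨fun i => t (D.nroots / 2 + i.val), Subtype.ext (S.pw_congr fun r a b => ?_)⟩
      simp only [ext']
      rw [dif_pos (show r - D.nroots / 2 < D.nroots / 2 by omega)]
      congr 1
      omega
  rw [← Nat.card_eq_of_bijective f hf, Nat.card_eq_fintype_card, Fintype.card_fun, Fintype.card_fin]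

end Struct

/-- A commutator bound on generators passes to the subgroups they generate. -/
theorem commutator_closure_le {G : Type*} [Group G] (A B : Set G) (N : Subgroup G)
    (hA : Subgroup.closure A ≤ Subgroup.normalizer (N : Set G))
    (hB : Subgroup.closure B ≤ Subgroup.normalizer (N : Set G))
    (h : ∀ a ∈ A, ∀ b ∈ B, ⁅a, b⁆ ∈ N) : ⁅Subgroup.closure A, Subgroup.closure B⁆ ≤ N := by
  have h1 : ∀ x ∈ Subgroup.closure A, ∀ b ∈ B, ⁅x, b⁆ ∈ N := by
    intro x hx b hb
    induction hx using Subgroup.closure_induction with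
    | mem a ha => exact h a ha b hb
    | one => simp [one_mem]
    | mul a c ha _ iha ihc =>
      rw [show ⁅a * c, b⁆ = (a * ⁅c, b⁆ * a⁻¹) * ⁅a, b⁆ by simp only [commutatorElement_def]; group]
      exact mul_mem ((Subgroup.mem_normalizer_iff.1 (hA ha) _).1 ihc) iha
    | inv a ha iha =>
      rw [show ⁅a⁻¹, b⁆ = a⁻¹ * ⁅a, b⁆⁻¹ * a⁻¹⁻¹ by simp only [commutatorElement_def]; group]
      exact (Subgroup.mem_normalizer_iff.1 (hA (inv_mem ha)) _).1 (inv_mem iha)
  rw [Subgroup.commutator_le]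
  intro x hx y hy
  induction hy using Subgroup.closure_induction with
  | mem b hb => exact h1 x hx b hb
  | one => simp [one_mem]
  | mul b c hb _ ihb ihc =>
    rw [show ⁅x, b * c⁆ = ⁅x, b⁆ * (b * ⁅x, c⁆ * b⁻¹) by simp only [commutatorElement_def]; group]
    exact mul_mem ihb ((Subgroup.mem_normalizer_iff.1 (hB hb) _).1 ihc)
  | inv b hb ihb =>
    rw [show ⁅x, b⁻¹⁆ = b⁻¹ * ⁅x, b⁆⁻¹ * b⁻¹⁻¹ by simp only [commutatorElement_def]; group]
    exact (Subgroup.mem_normalizer_iff.1 (hB (inv_mem hb)) _).1 (inv_mem ihb)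

theorem Struct.isNilpotent_pos (S : Struct D C) : Group.IsNilpotent (D.posUnipotent F) := by
  rw [Subgroup.isNilpotent_iff_lowerCentralSeries]
  refine ⟨D.nroots, ?_⟩
  have key : ∀ m, (D.posUnipotent F).lowerCentralSeries m ≤ S.Ugen F (D.nroots / 2 + m) := by
    intro m
    induction m with
    | zero => rw [Subgroup.lowerCentralSeries_zero, Nat.add_zero, S.posUnipotent_eq]
    | succ m ih =>
      rw [Subgroup.lowerCentralSeries_succ]
      refine (Subgroup.commutator_mono ih S.posUnipotent_eq.le).trans ?_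
      refine commutator_closure_le _ _ _ (S.le_normalizer_Ugen (by omega) (by omega))
        (S.le_normalizer_Ugen le_rfl (by omega)) ?_
      rintro a ⟨r, t, a1, a2, rfl⟩ b ⟨s, u, b1, b2, rfl⟩
      obtain ⟨w, hw, e⟩ := S.conj_xG a2 b2 (by omega) b1 t u
      rw [commutatorElement_def, e]
      refine (Subgroup.mem_normalizer_iff.1 (S.le_normalizer_Ugen (j := D.nroots / 2) le_rfl (by omega)
        (S.xG_mem_Ugen b1 b2 u)) _).1 ?_
      exact S.Ugen_mono (by omega) hw
  refine eq_bot_iff.2 ((key D.nroots).trans ?_)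
  rw [S.Ugen_top (by omega)]

end Cfsg.Lib.Chev
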