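import Cfsg.Agent.Chev.WeaklyClosed

/-! The pairs of roots of `G₂` with equal characters over the field with four elements. -/

set_option autoImplicit false

open Cfsg.Lie

namespace Cfsg.Lib.Chev

theorem G2.excWitness : ∀ k ∈ [6, 10], ∀ m ∈ [10, 11], k = m ∨
    ∃ i : Fin 2, ∃ j : Fin 2, unitOr 3 (redMinor G2.cert.cart k m i.val j.val) = true := by decide +kernel

theorem G2.excCases {k m : ℕ} (h : excG2 k m = true) : (k = 6 ∧ (m = 10 ∨ m = 11)) ∨ (k = 10 ∧ m = 11) := by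
  simp only [excG2, Bool.or_eq_true, Bool.and_eq_true] at h
  rcases h with ⟨h1, h2⟩ | ⟨h1, h2⟩
  · exact Or.inl ⟨Nat.eq_of_beq_eq_true h1, h2.imp Nat.eq_of_beq_eq_true Nat.eq_of_beq_eq_true⟩
  · exact Or.inr ⟨Nat.eq_of_beq_eq_true h1, Nat.eq_of_beq_eq_true h2⟩

variable {F : Type*} [Field F] [Fintype F]

theorem G2.forces_exc (hF : 3 < Fintype.card F) (S : Struct chevG2 G2.cert)
    (Y : Subgroup (GL chevG2.Idx F)) (hYU : Y ≤ chevG2.posUnipotent F)
    (hH : ∀ d ∈ chevG2.diagonalSubgroup F, ∀ x ∈ Y, d * x * d⁻¹ ∈ Y)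
    (hU : ∀ u ∈ chevG2.posUnipotent F, ∀ x ∈ Y, u * x * u⁻¹ ∈ Y)
    (hsq : ∀ k, chevG2.nroots / 2 ≤ k → k < chevG2.nroots →
      ∃ i : Fin chevG2.rank, ∃ e : ℤ, chevG2.cartan i k * e = 2)
    {k m : ℕ} (_hk : chevG2.nroots / 2 ≤ k) (hkm : k < m) (hm : m < chevG2.nroots) (he : excG2 k m = true)
    (hsep : ¬ ∃ c : Fin chevG2.rank → Fˣ, (∏ l, c l ^ chevG2.cartan l k : Fˣ) = 1 ∧
      (∏ l, c l ^ chevG2.cartan l m : Fˣ) ≠ 1) : Forces S Y k m := by
  obtain ⟨hn6, hn12⟩ : chevG2.nroots / 2 = 6 ∧ chevG2.nroots = 12 := by decide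
  have hcases := G2.excCases he
  have h4 : Fintype.card F = 4 := by
    by_contra h4
    have hrank : chevG2.rank = 2 := rfl
    obtain ⟨i, j, hu⟩ := (G2.excWitness k (by rcases hcases with ⟨e, -⟩ | ⟨e, -⟩ <;> simp [e]) m
      (by rcases hcases with ⟨-, e | e⟩ | ⟨-, e⟩ <;> simp [e])).resolve_left hkm.ne
    refine hsep (exists_sep S (g0 := 3) (by rw [hrank]; exact i.isLt) (by rw [hrank]; exact j.isLt) (by omega) hm ?_ ?_ hu)
    · rw [Nat.dvd_one]; omega
    · intro h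
      rcases (Nat.dvd_prime Nat.prime_three).1 h with h | h <;> omega
  haveI h2 : CharP F 2 := by
    obtain ⟨p, hp⟩ := CharP.exists F
    obtain ⟨n, hp', hc⟩ := FiniteField.card F p
    rw [h4] at hc
    have : p ∣ 2 := by
      have hd : p ∣ 2 ^ 2 := by rw [show (2 : ℕ) ^ 2 = 4 by norm_num, hc]; exact dvd_pow_self p n.ne_zero
      exact hp'.dvd_of_dvd_pow hd
    rw [(Nat.prime_dvd_prime_iff_eq hp' Nat.prime_two).1 this] at hp
    exact hp
  have h3 : ((3 : ℤ) : F) = 1 := by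
    have : (2 : F) = 0 := CharP.cast_eq_zero F 2
    push_cast
    linear_combination this
  obtain ⟨e76, e78, e610⟩ := G2.excTerms
  intro IH a ha t ht hx
  have hY : ∀ {g : GL chevG2.Idx F}, g ∈ Y → ∀ l, 6 ≤ l → g ∈ S.Ugen F l →
      ∀ u : GL chevG2.Idx F, u ∈ chevG2.posUnipotent F → u * g * u⁻¹ ∈ S.Ugen F l := by
    intro g _ l hl hg u hu
    rw [S.posUnipotent_eq] at hu
    exact (Subgroup.mem_normalizer_iff.1 (S.le_normalizer_Ugen le_rfl (by omega) hu) g).1 hg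
  rcases hcases with ⟨rfl, hm'⟩ | ⟨rfl, rfl⟩
  · -- the commutator with `x_a` has a coordinate at `a + b`
    have hm10 : 10 ≤ m := by omega
    have hz := comm_mem S hU (r := 7) (s := 6) (by omega) (by omega) (by omega) (by omega) (by decide) 1 a hx
    obtain ⟨w, ew, hw⟩ := S.pw_word
      (fun c : ℕ × ℤ × ℕ × ℕ => (c.2.1 : F) * (-(-1 : F)) ^ c.2.2.1 * a ^ c.2.2.2)
      (chevG2.commTerms 7 6) 8 (by omega) (by rw [e76]; decide) (by rw [e76]; simp [hn12])
    rw [show S.ok.wG (chevG2.commWord F 7 6 (-1) a) = S.pw 8 w from ew] at hz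
    have hv : S.pw m t ∈ S.Ugen F 10 := S.Ugen_mono hm10 (S.pw_mem m t)
    have hU10 : ∀ u ∈ chevG2.posUnipotent F, ∀ g ∈ S.Ugen F 10, u * g * u⁻¹ ∈ S.Ugen F 10 := by
      intro u hu g hg
      rw [S.posUnipotent_eq] at hu
      exact (Subgroup.mem_normalizer_iff.1 (S.le_normalizer_Ugen le_rfl (by omega) hu) g).1 hg
    have hwU : S.pw 8 w ∈ chevG2.posUnipotent F := by
      rw [S.posUnipotent_eq]; exact S.Ugen_mono (by omega) (S.pw_mem 8 w)
    have hrest : ((S.pw 8 w)⁻¹ * (S.pw m t)⁻¹ * S.pw 8 w) *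
        (S.ok.xG 7 1 * S.pw m t * (S.ok.xG 7 1)⁻¹) ∈ S.Ugen F 10 := by
      refine mul_mem ?_ (hU10 _ (S.xG_mem_U (by omega) (by omega) 1) _ hv)
      have := hU10 _ (inv_mem hwU) _ (inv_mem hv)
      rwa [inv_inv] at this
    obtain ⟨w', ew', hag⟩ := S.pw_high 4 8 (by omega) (by omega) w 10 (by omega) _ hrest
    have hz' : S.pw 8 w' ∈ Y := by
      rw [← ew']
      convert hz using 1
      group
    have h8 : RootIn S Y 8 := by
      refine IH 8 w' (by omega) (by omega) hz' 8 le_rfl (by omega) ?_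
      rw [hag 8 le_rfl (by omega), (hw (8, -1, 1, 1) (by rw [e76]; simp)).2]
      simp [ha]
    have hz2 := comm_mem S hU (r := 7) (s := 8) (by omega) (by omega) (by omega) (by omega) (by decide) 1 1
      (v := 1) (by rw [mul_one]; exact h8 1)
    rw [inv_one, one_mul, mul_one, mul_inv_cancel, mul_one] at hz2
    obtain ⟨w2, ew2, hw2⟩ := S.pw_word
      (fun c : ℕ × ℤ × ℕ × ℕ => (c.2.1 : F) * (-(-1 : F)) ^ c.2.2.1 * (1 : F) ^ c.2.2.2)
      (chevG2.commTerms 7 8) 8 (by omega) (by rw [e78]; decide) (by rw [e78]; simp [hn12])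
    rw [show S.ok.wG (chevG2.commWord F 7 8 (-1) 1) = S.pw 8 w2 from ew2] at hz2
    refine IH 8 w2 (by omega) (by omega) hz2 m (by omega) hm ?_
    rcases hm' with rfl | rfl
    · rw [(hw2 (10, -3, 2, 1) (by rw [e78]; simp)).2]
      show ((-3 : ℤ) : F) * (- -1) ^ 2 * 1 ^ 1 ≠ 0
      rw [Int.cast_neg, h3]; simp
    · rw [(hw2 (11, 3, 1, 2) (by rw [e78]; simp)).2]
      show ((3 : ℤ) : F) * (- -1) ^ 1 * 1 ^ 2 ≠ 0
      rw [h3]; simp
  · -- the commutator with `x_b` is `x_{3a+2b}`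
    have hz := comm_mem S hU (r := 6) (s := 10) (by omega) (by omega) (by omega) (by omega) (by decide) 1 a hx
    obtain ⟨c, hc, ec⟩ := S.conj_xG (r := 6) (s := 11) (by omega) (by omega) (by omega) (by omega) (1 : F) (t 11)
    rw [S.Ugen_top (by omega), Subgroup.mem_bot] at hc
    rw [hc, mul_one] at ec
    have hv : S.pw 11 t = S.ok.xG 11 (t 11) := by
      rw [S.pw_succ (by omega), S.pw_top (by omega), mul_one]
    simp only [Ok.wG, ChevalleyDatum.commWord, e610, List.map_cons, List.map_nil, List.prod_cons, List.prod_nil,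
      mul_one, hv, ec, neg_neg, Int.cast_one, one_mul, pow_one] at hz
    rw [S.ok.xG_inv, S.ok.xG_mul, S.ok.xG_mul, show -t 11 + a + t 11 = a by ring] at hz
    exact rootIn_of_ne_zero S hH (by omega) (hsq 11 (by omega) (by omega)) ha hz

end Cfsg.Lib.Chev
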