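import Cfsg.Agent.Chev.WeightsBase
import Cfsg.Agent.Modular.Hecke

/-!
# Weights of irreducible modular representations of Chevalley groups (Curtis, Richen)

In the defining characteristic every irreducible representation has one line fixed by the positive
unipotent subgroup, and the character of the torus on it together with the action of the fundamental
Hecke operators determines the representation.
-/

set_option autoImplicit false
set_option linter.unusedSectionVars false

open Cfsg.Lie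

namespace Cfsg.Lib.Chev

open Cfsg.Lib.Modular

noncomputable instance instFintypeUG (D : ChevalleyDatum) (F : Type*) [Field F] [Finite F] :
    Fintype ↥(UG D F) :=
  Fintype.ofFinite _

variable {D : ChevalleyDatum} {C : Cert} {F : Type*} [Field F] [Fintype F]
variable {k : Type*} [Field k] {V : Type*} [AddCommGroup V] [Module k V]
  {W : Type*} [AddCommGroup W] [Module k W]

/-- A character is trivial on the torus of a fundamental root. -/
def Triv (χ : (Fin D.rank → Fˣ) →* kˣ) (i : Fin D.rank) : Prop := ∀ a : Fˣ, χ (Pi.mulSingle i a) = 1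

namespace Struct

variable (S : Struct D C)
include S

/-- The torus acts on `v` through `χ`. -/
def Weight (ρ : Representation k ↥(D.group F) V) (χ : (Fin D.rank → Fˣ) →* kˣ) (v : V) : Prop :=
  ∀ c, ρ (S.tI F c) v = (χ c : k) • v

/-- A fixed weight vector that is an eigenvector of every fundamental Hecke operator. -/
structure Eig (ρ : Representation k ↥(D.group F) V) (χ : (Fin D.rank → Fˣ) →* kˣ)
    (A : Set (Fin D.rank)) (v : V) : Prop where
  ne : v ≠ 0
  fixed : Fixed ρ (UG D F) v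
  weight : S.Weight ρ χ v
  triv : ∀ i ∈ A, Triv χ i
  mem : ∀ i ∈ A, hop ρ (UG D F) (S.gS F i) v = -v
  not_mem : ∀ i ∉ A, hop ρ (UG D F) (S.gS F i) v = 0

theorem wp_ne_one (i : Fin D.rank) : S.wp i ≠ 1 := by
  intro h
  have h1 := congrArg (fun w : Equiv.Perm (Fin D.nroots) => (w (S.sp i)).val) h
  simp only [Struct.wp_val, Struct.sp, Equiv.Perm.one_apply, (S.ok.refl_simple i.isLt).1,
    S.ok.neg_eq (S.ok.sr_lt i.isLt)] at h1
  have := S.sr_pos i.isLt
  have := S.neg_lt_half (S.ok.sr_lt i.isLt) (S.sr_pos i.isLt)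
  omega

variable {ρ : Representation k ↥(D.group F) V} {σ : Representation k ↥(D.group F) W}

theorem gS_sum (hN : okNeg D = true) (i : Fin D.rank) {v : V} (hv : Fixed ρ (UG D F) v) :
    hop ρ (UG D F) (S.gS F i) v = ∑ a : F, ρ (S.xI i a * S.gS F i) v := by
  refine hop_eq_sum hv (fun a => S.xI i a * S.gS F i)
    (fun a => mem_cosets.2 ⟨_, S.xI_mem_U i a, by simp⟩) (fun a b h => ?_) fun u hu => ?_
  · have h1 : (S.gS F i)⁻¹ * S.xI i (-a + b) * S.gS F i ∈ UG D F := by
      rw [← S.xI_add, ← S.xI_inv]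
      convert h using 1
      group
    have := S.xI_conj_gS h1 hN
    rwa [neg_add_eq_zero] at this
  · obtain ⟨a, u', -, e, h⟩ := S.U_split_left i hu
    refine ⟨a, ?_⟩
    have := S.gS_inv_conj_mem i h
    subst e
    convert this using 1
    group

theorem hop_gS_hop (hN : okNeg D = true) {i : Fin D.rank} {n : ↥(D.group F)}
    {w : Equiv.Perm (Fin D.nroots)} (hn : S.Nd n w) (hpos : D.nroots / 2 ≤ (w⁻¹ (S.sp i)).val) {v : V}
    (hv : Fixed ρ (UG D F) v) :
    hop ρ (UG D F) (S.gS F i) (hop ρ (UG D F) n v) = hop ρ (UG D F) (S.gS F i * n) v := by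
  have hXn : ∀ b : F, n⁻¹ * S.xI i b * n ∈ UG D F := fun b => by
    have := S.conj_xI_mem (S.nd_inv hn) hpos b
    rwa [inv_inv] at this
  have hout : ∀ c : {c // c ∈ cosets (UG D F) n}, ∃ u ∈ UG D F, (u * n)⁻¹ * c.1.out ∈ UG D F := fun c =>
    mem_cosets.1 (by rw [QuotientGroup.out_eq']; exact c.2)
  rw [S.gS_sum hN i (fixed_hop hv n),
    hop_eq_sum (n := S.gS F i * n) hv (J := F × {c // c ∈ cosets (UG D F) n}) (fun x => S.xI i x.1 * S.gS F i * x.2.1.out)]
  · rw [Fintype.sum_prod_type]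
    refine Finset.sum_congr rfl fun a _ => ?_
    rw [hop, map_sum, ← Finset.sum_coe_sort (cosets (UG D F) n) (fun c : ↥(D.group F) ⧸ UG D F => ρ (S.xI i a * S.gS F i) (ρ c.out v))]
    simp only [map_mul, Module.End.mul_apply]
  · rintro ⟨a, c⟩
    obtain ⟨u, hu, h⟩ := hout c
    obtain ⟨u', hu', b, rfl, hg⟩ := S.U_split_right i hu
    refine mem_cosets.2 ⟨S.xI i a * (S.gS F i * u' * (S.gS F i)⁻¹), mul_mem (S.xI_mem_U i a) hg, ?_⟩
    have := mul_mem (hXn b) h
    convert this using 1
    group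
  · rintro ⟨a, c⟩ ⟨b, c'⟩ h
    dsimp only at h
    have key : c.1.out⁻¹ * ((S.gS F i)⁻¹ * S.xI i (-a + b) * S.gS F i) * c'.1.out ∈ UG D F := by
      rw [← S.xI_add, ← S.xI_inv]
      convert h using 1
      group
    by_cases hd : -a + b = 0
    · rw [hd, S.xI_zero] at key
      have e : (c.1.out)⁻¹ * c'.1.out ∈ UG D F := by
        convert key using 1
        group
      have h1 : c.1 = c'.1 := by
        rw [← QuotientGroup.out_eq' c.1, ← QuotientGroup.out_eq' c'.1]
        exact QuotientGroup.eq.2 e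
      exact Prod.ext (neg_add_eq_zero.1 hd) (Subtype.ext h1)
    · exfalso
      obtain ⟨u1, hu1, h1⟩ := hout c
      obtain ⟨u2, hu2, h2⟩ := hout c'
      rw [← Units.val_mk0 hd, S.inv_conj_xI] at key
      set d := Units.mk0 (-a + b) hd
      set X := S.xI i (-1 / (d : F))
      set t := S.tI F (Pi.mulSingle i d⁻¹)
      obtain ⟨u', hu', e, he, hg⟩ := S.U_split_right i (mul_mem (S.xI_mem_U i (-1 / (d : F))) hu2)
      set h1e := (u1 * n)⁻¹ * c.1.out with hh1
      set h2e := (u2 * n)⁻¹ * c'.1.out with hh2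
      have hh' : h1e * (c.1.out⁻¹ * (X * (t * S.gS F i) * X) * c'.1.out) * h2e⁻¹ ∈ UG D F :=
        mul_mem (mul_mem h1 key) (inv_mem h2)
      set h' := h1e * (c.1.out⁻¹ * (X * (t * S.gS F i) * X) * c'.1.out) * h2e⁻¹ with hh
      have hlhs : u1⁻¹ * X * (t * (S.gS F i * u' * (S.gS F i)⁻¹) * t⁻¹) * (t * S.gS F i * n) *
          ((n⁻¹ * S.xI i e * n) * h'⁻¹) = n := by
        calc _ = u1⁻¹ * X * (t * S.gS F i) * (u' * S.xI i e) * n * h'⁻¹ := by group
          _ = u1⁻¹ * X * (t * S.gS F i) * (X * u2) * n * h'⁻¹ := by rw [he]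
          _ = n := by rw [hh, hh1, hh2]; group
      have hperm := S.bruhat_perm hN
        (mul_mem (mul_mem (inv_mem hu1) (S.xI_mem_U i _)) ((S.tI_normalises _ _).1 hg))
        (mul_mem (hXn e) (inv_mem hh')) (S.nd_mul (S.nd_mul (S.nd_tI _) (S.nd_gS i)) hn) hn hlhs
      rw [one_mul, mul_eq_right] at hperm
      exact S.wp_ne_one i hperm
  · intro u hu
    obtain ⟨a, u', -, rfl, hg⟩ := S.U_split_left i hu
    have hu'' := S.gS_inv_conj_mem i hg
    refine ⟨⟨a, ⟨(((S.gS F i)⁻¹ * u' * S.gS F i * n : ↥(D.group F)) : ↥(D.group F) ⧸ UG D F),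
      mem_cosets.2 ⟨_, hu'', by rw [inv_mul_cancel]; exact one_mem _⟩⟩⟩, ?_⟩
    obtain ⟨h, hh⟩ := QuotientGroup.mk_out_eq_mul (UG D F) ((S.gS F i)⁻¹ * u' * S.gS F i * n)
    dsimp only
    rw [hh]
    convert inv_mem h.2 using 1
    group

theorem weight_hop {n : ↥(D.group F)} {χ : (Fin D.rank → Fˣ) →* kˣ} {v : V}
    (hv : Fixed ρ (UG D F) v) (hw : S.Weight ρ χ v) {c c' : Fin D.rank → Fˣ}
    (h : n⁻¹ * S.tI F c * n = S.tI F c') :
    ρ (S.tI F c) (hop ρ (UG D F) n v) = (χ c' : k) • hop ρ (UG D F) n v := by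
  have e : S.tI F c * n = n * S.tI F c' := by rw [← h]; group
  rw [← hop_left hv (S.tI_normalises c), e, hop_right hv (S.tI_normalises c'), hw c', hop_smul]

theorem inv_gS_conj_tI (i : Fin D.rank) (c : Fin D.rank → Fˣ) :
    (S.gS F i)⁻¹ * S.tI F c * S.gS F i = S.tI F (conjT i c) := by
  conv_lhs => rw [← S.conjT_conjT i c, ← S.gS_conj_tI i (conjT i c)]
  group

theorem weight_gS (i : Fin D.rank) {χ : (Fin D.rank → Fˣ) →* kˣ} {v : V} (hv : Fixed ρ (UG D F) v)
    (hw : S.Weight ρ χ v) (c : Fin D.rank → Fˣ) :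
    ρ (S.tI F c) (hop ρ (UG D F) (S.gS F i) v) = (χ (conjT i c) : k) • hop ρ (UG D F) (S.gS F i) v :=
  S.weight_hop hv hw (S.inv_gS_conj_tI i c)

theorem exists_weight_hop {n : ↥(D.group F)} {w : Equiv.Perm (Fin D.nroots)} (hn : S.Nd n w)
    {χ : (Fin D.rank → Fˣ) →* kˣ} {v : V} (hv : Fixed ρ (UG D F) v) (hw : S.Weight ρ χ v)
    (h0 : hop ρ (UG D F) n v ≠ 0) :
    ∃ μ : (Fin D.rank → Fˣ) →* kˣ, S.Weight ρ μ (hop ρ (UG D F) n v) := by
  choose c' hc' using S.conj_tI hn
  set u := hop ρ (UG D F) n v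
  have hu : ∀ c, ρ (S.tI F c) u = (χ (c' c) : k) • u := fun c => S.weight_hop hv hw (hc' c)
  refine ⟨{ toFun := fun c => χ (c' c), map_one' := ?_, map_mul' := fun a b => ?_ }, hu⟩
  · refine Units.ext (smul_left_injective k h0 ?_)
    show (χ (c' 1) : k) • u = ((1 : kˣ) : k) • u
    rw [← hu, map_one, map_one, Units.val_one, one_smul, Module.End.one_apply]
  · refine Units.ext (smul_left_injective k h0 ?_)
    show (χ (c' (a * b)) : k) • u = ((χ (c' a) * χ (c' b) : kˣ) : k) • u
    rw [← hu, map_mul, map_mul, Module.End.mul_apply, hu, map_smul, hu, smul_smul, Units.val_mul, mul_comm]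

variable {p : ℕ} [Fact p.Prime] [CharP k p] [CharP F p]
include p

theorem card_F_zero : (Fintype.card F : k) = 0 := by
  obtain ⟨e, -, he⟩ := FiniteField.card F p
  rw [he, Nat.cast_pow, CharP.cast_eq_zero, zero_pow e.pos.ne']

open Classical in
theorem sum_units_single (μ : (Fin D.rank → Fˣ) →* kˣ) (i : Fin D.rank) :
    (∑ b : Fˣ, ((μ (Pi.mulSingle i (-b)) : kˣ) : k)) = if Triv μ i then -1 else 0 := by
  let f : Fˣ →* k := (Units.coeHom k).comp (μ.comp (MonoidHom.mulSingle (fun _ => Fˣ) i))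
  rw [← Equiv.sum_comp (Equiv.neg Fˣ)]
  simp only [Equiv.neg_apply, neg_neg]
  have h := sum_hom_units f
  have hiff : f = 1 ↔ Triv μ i := by
    constructor
    · exact fun e a => Units.ext (by simpa [f] using DFunLike.congr_fun e a)
    · intro e; ext a; simp [f, e a]
  have hq : (Fintype.card Fˣ : k) = -1 := by
    rw [Fintype.card_units, Nat.cast_sub Fintype.card_pos, S.card_F_zero (F := F) (p := p), zero_sub, Nat.cast_one]
  refine (show _ = ∑ b : Fˣ, f b from rfl).trans (h.trans ?_)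
  by_cases hT : Triv μ i
  · rw [if_pos (hiff.2 hT), if_pos hT, hq]
  · rw [if_neg (fun e => hT (hiff.1 e)), if_neg hT, Nat.cast_zero]

open Classical in
theorem hop_gS_sq (hN : okNeg D = true) (i : Fin D.rank) {μ : (Fin D.rank → Fˣ) →* kˣ} {v : V}
    (hv : Fixed ρ (UG D F) v) (hw : S.Weight ρ μ v) :
    hop ρ (UG D F) (S.gS F i) (hop ρ (UG D F) (S.gS F i) v) =
      (if Triv μ i then -1 else 0 : k) • hop ρ (UG D F) (S.gS F i) v := by
  set s := S.gS F i
  rw [S.gS_sum hN i (fixed_hop hv s)]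
  set sv := hop ρ (UG D F) s v with hsv
  have h1 : ∀ a : F, ρ (S.xI i a * s) sv = ∑ b : F, ρ (S.xI i a * s * S.xI i b * s) v := by
    intro a
    rw [hsv, S.gS_sum hN i hv, map_sum]
    refine Finset.sum_congr rfl fun b _ => ?_
    rw [← Module.End.mul_apply, ← map_mul]
    congr 2
    simp only [s]
    group
  rw [Finset.sum_congr rfl fun a _ => h1 a]
  rw [Finset.sum_comm, ← Finset.add_sum_erase Finset.univ _ (Finset.mem_univ (0 : F))]
  have h0 : (∑ a : F, ρ (S.xI i a * s * S.xI i 0 * s) v) = 0 := by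
    have : ∀ a : F, ρ (S.xI i a * s * S.xI i 0 * s) v = (μ (Pi.mulSingle i (-1)) : k) • v := by
      intro a
      rw [S.xI_zero, mul_one, mul_assoc, S.gS_sq, map_mul, Module.End.mul_apply, hw, map_smul,
        hv _ (S.xI_mem_U i a)]
    rw [Finset.sum_congr rfl fun a _ => this a, Finset.sum_const, Finset.card_univ,
      ← Nat.cast_smul_eq_nsmul k, S.card_F_zero (F := F) (p := p), zero_smul]
  rw [h0, zero_add]
  have hterm : ∀ b : Fˣ, (∑ a : F, ρ (S.xI i a * s * S.xI i (b : F) * s) v) =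
      (μ (Pi.mulSingle i (-b)) : k) • sv := by
    intro b
    rw [hsv, S.gS_sum hN i hv, Finset.smul_sum]
    refine Fintype.sum_equiv (Equiv.addRight (-1 / (b : F))) _ _ fun a => ?_
    have e : S.xI i a * s * S.xI i (b : F) * s = S.xI i (a + -1 / (b : F)) * s *
        S.tI F (Pi.mulSingle i (-b)) * S.xI i (-1 / (b : F)) := by
      rw [show S.xI i a * s * S.xI i (b : F) * s = S.xI i a * (s * S.xI i (b : F) * s) by group,
        S.gS_xI_gS, ← S.xI_add, show -b = (-b⁻¹)⁻¹ by simp, ← S.conjT_single i,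
        ← S.inv_gS_conj_tI i]
      simp only [s, inv_neg, inv_inv]
      group
    rw [e, map_mul, Module.End.mul_apply, hv _ (S.xI_mem_U i _), map_mul, Module.End.mul_apply, hw, map_smul]
    rfl
  rw [← S.sum_units_single (p := p) μ i, Finset.sum_smul]
  symm
  refine Finset.sum_bij (fun b _ => (b : F)) (fun b _ => by simp) (fun a _ b _ e => Units.ext e)
    (fun b hb => ⟨Units.mk0 b (Finset.ne_of_mem_erase hb), Finset.mem_univ _, rfl⟩)
    fun b _ => (hterm b).symm

theorem isPGroup_UG : IsPGroup p ↥(UG D F) := by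
  obtain ⟨e, -, he⟩ := FiniteField.card F p
  refine IsPGroup.of_card (n := e * (D.nroots / 2)) ?_
  have e1 : Nat.card ↥(UG D F) = Nat.card ↥(D.posUnipotent F) := Nat.card_congr (Subgroup.subgroupOfEquivOfLe
    (show D.posUnipotent F ≤ D.group F from fun u hu => S.borel_le_group (S.B_le_of hu))).toEquiv
  rw [e1, S.card_posUnipotent, he, ← pow_mul]

variable [IsAlgClosed k] [FiniteDimensional k V] [FiniteDimensional k W]

/-- Every nonzero representation has an eigenvector. -/
theorem exists_eig (hN : okNeg D = true) (ρ : Representation k ↥(D.group F) V) [Nontrivial V] :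
    ∃ χ A v, S.Eig ρ χ A v := by
  classical
  obtain ⟨x, hx⟩ := exists_ne (0 : V)
  obtain ⟨w0, hw0, hw0f⟩ := exists_fixed (S.isPGroup_UG (F := F) (p := p)) ρ hx
  let τ : Representation k (Fin D.rank → Fˣ) V := ρ.comp (S.tI F)
  obtain ⟨v0, χ0, hv0mem, hv0, hv0w⟩ := exists_common_eigenvector τ hw0
  have hv0f : Fixed ρ (UG D F) v0 := by
    have : ∀ x ∈ orbitSpan τ w0, Fixed ρ (UG D F) x := by
      intro x hx
      induction hx using Submodule.span_induction with
      | mem y hy =>
        obtain ⟨c, rfl⟩ := hy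
        intro u hu
        show ρ u (ρ (S.tI F c) w0) = ρ (S.tI F c) w0
        have h1 := hw0f _ ((S.tI_normalises c ((S.tI F c)⁻¹ * u * S.tI F c)).2 (by simpa [mul_assoc] using hu))
        conv_rhs => rw [← h1]
        rw [← Module.End.mul_apply, ← Module.End.mul_apply, ← map_mul, ← map_mul]
        congr 2
        group
      | zero => intro u _; exact map_zero _
      | add a b _ _ ha hb => intro u hu; rw [map_add, ha u hu, hb u hu]
      | smul c a _ ha => intro u hu; rw [map_smul, ha u hu]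
    exact this _ hv0mem
  have hW0 : S.Weight ρ χ0 v0 := hv0w
  let P := {w : Equiv.Perm (Fin D.nroots) // ∃ n, S.Nd n w ∧ hop ρ (UG D F) n v0 ≠ 0}
  haveI : Nonempty P := ⟨⟨1, 1, S.nd_one, by rw [hop_one hv0f]; exact hv0⟩⟩
  obtain ⟨⟨w, n, hn, hne⟩, hmax⟩ := Finite.exists_max fun w : P => Nw D (w.1⁻¹)
  set v := hop ρ (UG D F) n v0
  obtain ⟨χ, hχ⟩ := S.exists_weight_hop hn hv0f hW0 hne
  have hvf : Fixed ρ (UG D F) v := fixed_hop hv0f n
  have hdich : ∀ i, hop ρ (UG D F) (S.gS F i) v = 0 ∨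
      (Triv χ i ∧ hop ρ (UG D F) (S.gS F i) v = -v) := by
    intro i
    by_cases hp : D.nroots / 2 ≤ (w⁻¹ (S.sp i)).val
    · left
      by_contra h
      rw [S.hop_gS_hop hN hn hp hv0f] at h
      have h1 := hmax ⟨S.wp i * w, _, S.nd_mul (S.nd_gS i) hn, h⟩
      have h2 := S.Nw_lt (S.nd_wpL (S.nd_inv hn)) hp
      simp only at h1
      rw [mul_inv_rev, inv_eq_of_mul_eq_one_right (S.wp_mul_self i)] at h1
      omega
    · push Not at hp
      set n' := (S.gS F i)⁻¹ * n with hn'def
      have hn' : S.Nd n' ((S.wp i)⁻¹ * w) := S.nd_mul (S.nd_inv (S.nd_gS i)) hn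
      have hp' : D.nroots / 2 ≤ (((S.wp i)⁻¹ * w)⁻¹ (S.sp i)).val := by
        rw [mul_inv_rev, inv_inv]
        exact S.wp_sp_neg (S.nd_wpL (S.nd_inv hn)) i hp
      have hv' : v = hop ρ (UG D F) (S.gS F i) (hop ρ (UG D F) n' v0) := by
        rw [S.hop_gS_hop hN hn' hp' hv0f, hn'def, mul_inv_cancel_left]
      have hne' : hop ρ (UG D F) n' v0 ≠ 0 := fun h => hne (by rw [hv', h]; simp [hop])
      obtain ⟨μ, hμ⟩ := S.exists_weight_hop hn' hv0f hW0 hne'
      have hsq := S.hop_gS_sq (p := p) hN i (fixed_hop hv0f n') hμ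
      rw [← hv'] at hsq
      by_cases hT : Triv μ i
      · right
        rw [if_pos hT, neg_smul, one_smul] at hsq
        refine ⟨fun a => ?_, hsq⟩
        have h3 := S.weight_gS i (fixed_hop hv0f n') hμ (Pi.mulSingle i a)
        rw [← hv', hχ, S.conjT_single, hT] at h3
        exact Units.ext (smul_left_injective k hne h3)
      · left
        rw [if_neg hT, zero_smul] at hsq
        exact hsq
  refine ⟨χ, {i | hop ρ (UG D F) (S.gS F i) v = -v ∧ Triv χ i}, v, hne, hvf, hχ, fun i hi => hi.2,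
    fun i hi => hi.1, fun i hi => ?_⟩
  rcases hdich i with h | h
  · exact h
  · exact absurd ⟨h.2, h.1⟩ hi

variable {χ : (Fin D.rank → Fˣ) →* kˣ} {A : Set (Fin D.rank)}

/-- The representation generated by an eigenvector is spanned by the `U`-translates of one vector. -/
theorem exists_top (hN : okNeg D = true) {T : List (List ℤ)} (hT : okHt D T = true)
    (hl : Cfsg.Lib.Steinberg.okLin D C T = true) {v : V} (hv : S.Eig ρ χ A v) :
    ∃ z, z ∈ orbitSpan ρ v ∧
      orbitSpan ρ v ≤ Submodule.span k (Set.range fun u : UG D F => ρ u z) := by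
  classical
  let P := {w : Equiv.Perm (Fin D.nroots) // ∃ n : ↥(D.group F), S.Nd n w}
  haveI : Nonempty P := ⟨⟨1, 1, S.nd_one⟩⟩
  obtain ⟨⟨w0, n0, hn0⟩, hmax⟩ := Finite.exists_max fun w : P => Nw D w.1
  refine ⟨ρ n0 v, Submodule.subset_span ⟨n0, rfl⟩, ?_⟩
  set Y := Submodule.span k (Set.range fun u : UG D F => ρ u (ρ n0 v))
  have hstab : ∀ u ∈ UG D F, ∀ x ∈ Y, ρ u x ∈ Y := by
    intro u hu x hx
    induction hx using Submodule.span_induction with
    | mem y hy =>
      obtain ⟨u', rfl⟩ := hy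
      refine Submodule.subset_span ⟨⟨u, hu⟩ * u', ?_⟩
      simp [map_mul]
    | zero => rw [map_zero]; exact Y.zero_mem
    | add a b _ _ ha hb => rw [map_add]; exact Y.add_mem ha hb
    | smul c a _ ha => rw [map_smul]; exact Y.smul_mem c ha
  have hmove : ∀ i : Fin D.rank,
      v ∈ Submodule.span k (Set.range fun a : F => ρ (S.xI i a * S.gS F i) v) := by
    intro i
    set Z := Submodule.span k (Set.range fun a : F => ρ (S.xI i a * S.gS F i) v)
    set s := S.gS F i
    have hgv : ρ s⁻¹ v ∈ Z := by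
      have e : s⁻¹ = s * (S.tI F (Pi.mulSingle i (-1 : Fˣ)))⁻¹ := by
        rw [← S.gS_sq]; simp only [s]; group
      rw [e, map_mul, Module.End.mul_apply, ← map_inv, hv.weight, map_smul]
      refine Z.smul_mem _ (Submodule.subset_span ⟨0, ?_⟩)
      simp [s, S.xI_zero]
    have hsum : hop ρ (UG D F) s v = ∑ a : F, ρ (S.xI i a * s) v := S.gS_sum hN i hv.fixed
    rw [← Finset.add_sum_erase Finset.univ _ (Finset.mem_univ (0 : F)), S.xI_zero, one_mul] at hsum
    obtain ⟨lam, hlam⟩ : ∃ lam : k, hop ρ (UG D F) s v = lam • v := by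
      by_cases hi : i ∈ A
      · exact ⟨-1, by rw [hv.mem i hi]; simp⟩
      · exact ⟨0, by rw [hv.not_mem i hi]; simp⟩
    have e : v = lam • ρ s⁻¹ v - ∑ a ∈ Finset.univ.erase (0 : F), ρ (s⁻¹ * (S.xI i a * s)) v := by
      have h := congrArg (ρ s⁻¹) hsum
      rw [hlam, map_smul, map_add, map_sum, ← Module.End.mul_apply, ← map_mul, inv_mul_cancel, map_one,
        Module.End.one_apply] at h
      simp only [← Module.End.mul_apply, ← map_mul] at h
      exact eq_sub_of_add_eq h.symm
    rw [e]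
    refine Z.sub_mem (Z.smul_mem _ hgv) (Z.sum_mem fun a ha => ?_)
    set d := Units.mk0 a (Finset.ne_of_mem_erase ha)
    rw [← mul_assoc, show s⁻¹ * S.xI i a * s = _ from S.inv_conj_xI i d, map_mul, Module.End.mul_apply,
      hv.fixed _ (S.xI_mem_U i _)]
    have h2 : S.tI F (Pi.mulSingle i d⁻¹) * s = s * S.tI F (Pi.mulSingle i d) := by
      rw [show S.tI F (Pi.mulSingle i d⁻¹) = s * S.tI F (Pi.mulSingle i d) * s⁻¹ by
        rw [S.gS_conj_tI, S.conjT_single]]
      group
    rw [h2, ← mul_assoc, map_mul, Module.End.mul_apply, hv.weight, map_smul]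
    exact Z.smul_mem _ (Submodule.subset_span ⟨_, rfl⟩)
  have main : ∀ m, ∀ (n : ↥(D.group F)) (w : Equiv.Perm (Fin D.nroots)), S.Nd n w →
      Nw D w0 - Nw D w = m → ρ n v ∈ Y := by
    intro m
    induction m using Nat.strong_induction_on with
    | _ m ih =>
      intro n w hn hm
      obtain ⟨L, rfl⟩ := S.nd_wpL hn
      by_cases hall : ∀ i, (S.wpL L (S.sp i)).val < D.nroots / 2
      · obtain ⟨L0, hL0⟩ := S.nd_wpL hn0
        have htop0 : ∀ i, (S.wpL L0 (S.sp i)).val < D.nroots / 2 := fun i => by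
          by_contra h
          push Not at h
          have h1 := S.Nw_lt ⟨L0, rfl⟩ h
          have h2 := hmax ⟨_, _, S.nd_mul hn0 (S.nd_gS i)⟩
          simp only [hL0] at h2
          omega
        have hw : S.wpL L = w0 := by rw [hL0]; exact S.top_unique hT hl hall htop0
        obtain ⟨c, hc⟩ := S.nd_eq_tI hn0 (hw ▸ hn)
        rw [hc, map_mul, Module.End.mul_apply, hv.weight, map_smul]
        exact Y.smul_mem _ (Submodule.subset_span ⟨1, by simp⟩)
      · push Not at hall
        obtain ⟨i, hi⟩ := hall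
        have hlt := S.Nw_lt ⟨L, rfl⟩ hi
        have hle := hmax ⟨_, _, S.nd_mul hn (S.nd_gS i)⟩
        simp only at hle
        have hY : ρ (n * S.gS F i) v ∈ Y :=
          ih (Nw D w0 - Nw D (S.wpL L * S.wp i)) (by omega) _ _ (S.nd_mul hn (S.nd_gS i)) rfl
        have h1 := Submodule.mem_map_of_mem (f := ρ n) (hmove i)
        rw [Submodule.map_span] at h1
        refine (Submodule.span_le.2 ?_) h1
        rintro _ ⟨_, ⟨a, rfl⟩, rfl⟩
        have e : n * (S.xI i a * S.gS F i) = n * S.xI i a * n⁻¹ * (n * S.gS F i) := by group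
        show ρ n (ρ (S.xI i a * S.gS F i) v) ∈ Y
        rw [← Module.End.mul_apply, ← map_mul, e, map_mul, Module.End.mul_apply]
        exact hstab _ (S.conj_xI_mem hn hi a) _ hY
  refine Submodule.span_le.2 ?_
  rintro _ ⟨g, rfl⟩
  obtain ⟨u, hu, n, w, hn, c, u', hu', rfl⟩ := S.bruhat_form hN g
  show ρ (u * (n * S.tI F c) * u') v ∈ Y
  rw [map_mul, Module.End.mul_apply, hv.fixed _ hu', map_mul, Module.End.mul_apply]
  refine hstab _ hu _ ?_
  rw [map_mul, Module.End.mul_apply, hv.weight, map_smul]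
  exact Y.smul_mem _ (main _ n w hn rfl)

theorem irred_dual (hρ : Irred ρ) : Irred ρ.dual := by
  haveI := hρ.nontrivial
  refine ⟨inferInstance, fun Y hY => ?_⟩
  have hco : ∀ g, ∀ x ∈ Y.dualCoannihilator, ρ g x ∈ Y.dualCoannihilator := by
    intro g x hx
    rw [Submodule.mem_dualCoannihilator] at hx ⊢
    intro φ hφ
    have := hx _ (hY g⁻¹ φ hφ)
    simpa [Representation.dual_apply, Module.Dual.transpose_apply] using this
  rcases hρ.eq_bot_or_top _ hco with h | h
  · right
    have := Subspace.dualCoannihilator_dualAnnihilator_eq (W := Y)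
    rw [h, Submodule.dualAnnihilator_bot] at this
    exact this.symm
  · left
    have := Subspace.dualCoannihilator_dualAnnihilator_eq (W := Y)
    rw [h, Submodule.dualAnnihilator_top] at this
    exact this.symm

/-- The fixed line of an irreducible representation. -/
theorem fixed_line (hN : okNeg D = true) {T : List (List ℤ)} (hT : okHt D T = true)
    (hl : Cfsg.Lib.Steinberg.okLin D C T = true) (hρ : Irred ρ) {v x : V} (hv : v ≠ 0)
    (hvf : Fixed ρ (UG D F) v) (hxf : Fixed ρ (UG D F) x) : ∃ c : k, x = c • v := by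
  have hd := S.irred_dual hρ
  haveI := hd.nontrivial
  obtain ⟨χ', A', f, hf⟩ := S.exists_eig (p := p) hN ρ.dual
  obtain ⟨z, -, hle⟩ := S.exists_top (p := p) hN hT hl hf
  have htop : orbitSpan ρ.dual f = ⊤ :=
    (hd.eq_bot_or_top _ (orbitSpan_invariant _ f)).resolve_left
      fun h => hf.ne ((Submodule.mem_bot k).1 (h ▸ Submodule.subset_span ⟨1, show ρ.dual 1 f = f by rw [map_one]; rfl⟩))
  have key : ∀ y, Fixed ρ (UG D F) y → z y = 0 → y = 0 := by
    intro y hy hzy
    refine (Module.forall_dual_apply_eq_zero_iff k y).1 fun φ => ?_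
    have hφ : φ ∈ Submodule.span k (Set.range fun u : UG D F => ρ.dual u z) := hle (htop ▸ Submodule.mem_top)
    induction hφ using Submodule.span_induction with
    | mem ψ hψ =>
      obtain ⟨u, rfl⟩ := hψ
      show ρ.dual (u : ↥(D.group F)) z y = 0
      rw [Representation.dual_apply]
      show z (ρ (u : ↥(D.group F))⁻¹ y) = 0
      rw [hy _ (inv_mem u.2), hzy]
    | zero => rfl
    | add a b _ _ ha hb => rw [LinearMap.add_apply, ha, hb, add_zero]
    | smul c a _ ha => rw [LinearMap.smul_apply, ha, smul_zero]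
  have hzv : z v ≠ 0 := fun h => hv (key v hvf h)
  refine ⟨z x / z v, sub_eq_zero.1 (key _ (fun u hu => by rw [map_sub, map_smul, hxf u hu, hvf u hu]) ?_)⟩
  rw [map_sub, map_smul, smul_eq_mul, div_mul_cancel₀ _ hzv, sub_self]

theorem exists_invariant_functional (hρ : Irred ρ) :
    ∃ φ : Module.Dual k V, φ ≠ 0 ∧ ∀ u ∈ UG D F, ∀ x, φ (ρ u x) = φ x := by
  haveI := hρ.nontrivial
  obtain ⟨f, hf⟩ := exists_ne (0 : Module.Dual k V)
  obtain ⟨φ, hφ, hfix⟩ := exists_fixed (S.isPGroup_UG (F := F) (p := p)) ρ.dual hf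
  refine ⟨φ, hφ, fun u hu x => ?_⟩
  have h1 := LinearMap.congr_fun (hfix u⁻¹ (inv_mem hu)) x
  rw [Representation.dual_apply] at h1
  simpa [Module.Dual.transpose_apply] using h1

/-- The weight determines the representation. -/
theorem iso_of_eig (hN : okNeg D = true) {T : List (List ℤ)} (hT : okHt D T = true)
    (hl : Cfsg.Lib.Steinberg.okLin D C T = true) (hρ : Irred ρ) (hσ : Irred σ) {v : V} {x : W}
    (hv : S.Eig ρ χ A v) (hx : S.Eig σ χ A x) : Iso ρ σ := by
  let π : Representation k ↥(D.group F) (V × W) := ρ.prod σ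
  have hπ : ∀ g (a : V × W), π g a = (ρ g a.1, σ g a.2) := fun g a => rfl
  have hf1 : Equivariant π ρ (LinearMap.fst k V W) := fun g a => by rw [hπ]; rfl
  have hf2 : Equivariant π σ (LinearMap.snd k V W) := fun g a => by rw [hπ]; rfl
  have hpair : S.Eig π χ A (v, x) := by
    refine ⟨fun h => hv.ne (congrArg Prod.fst h), fun u hu => ?_, fun c => ?_, hv.triv, fun i hi => ?_,
      fun i hi => ?_⟩
    · rw [hπ, hv.fixed u hu, hx.fixed u hu]
    · rw [hπ, hv.weight c, hx.weight c]; rfl
    · refine Prod.ext ?_ ?_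
      · exact (hop_map hf1 _ _).trans (hv.mem i hi)
      · exact (hop_map hf2 _ _).trans (hx.mem i hi)
    · refine Prod.ext ?_ ?_
      · exact (hop_map hf1 _ _).trans (hv.not_mem i hi)
      · exact (hop_map hf2 _ _).trans (hx.not_mem i hi)
  obtain ⟨z, -, hle⟩ := S.exists_top (p := p) hN hT hl hpair
  set Y := orbitSpan π (v, x) with hY
  have hmem : (v, x) ∈ Y := Submodule.subset_span ⟨1, by simp⟩
  have hinv : ∀ g, ∀ a ∈ Y, π g a ∈ Y := orbitSpan_invariant π _
  have hnot : Y ≠ ⊤ := by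
    intro htop
    obtain ⟨φ, hφ, hφu⟩ := S.exists_invariant_functional (p := p) hρ
    obtain ⟨ψ, hψ, hψu⟩ := S.exists_invariant_functional (p := p) hσ
    let f1 := φ.comp (LinearMap.fst k V W)
    let f2 := ψ.comp (LinearMap.snd k V W)
    have hf : ∀ (f : Module.Dual k (V × W)), (∀ u ∈ UG D F, ∀ a, f (π u a) = f a) → f z = 0 → f = 0 := by
      intro f hfu hfz
      refine LinearMap.ext fun a => ?_
      have ha : a ∈ Submodule.span k (Set.range fun u : UG D F => π u z) := hle (htop ▸ Submodule.mem_top)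
      induction ha using Submodule.span_induction with
      | mem y hy => obtain ⟨u, rfl⟩ := hy; exact (hfu _ u.2 z).trans hfz
      | zero => simp
      | add a b _ _ ha hb => rw [map_add, map_add, ha, hb]
      | smul c a _ ha => rw [map_smul, map_smul, ha]
    have h1u : ∀ u ∈ UG D F, ∀ a, f1 (π u a) = f1 a := fun u hu a => by
      simp [f1, hπ, hφu u hu]
    have h2u : ∀ u ∈ UG D F, ∀ a, f2 (π u a) = f2 a := fun u hu a => by
      simp [f2, hπ, hψu u hu]
    have hg := hf (f2 z • f1 - f1 z • f2) (fun u hu a => by simp [h1u u hu, h2u u hu]) (by simp [mul_comm])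
    obtain ⟨y, hy⟩ := not_forall.1 fun h => hφ (LinearMap.ext fun y => h y)
    have h3 := LinearMap.congr_fun hg ((y, 0) : V × W)
    have h5 : f2 z * φ y = 0 := by simpa [f1, f2] using h3
    have h4 : f2 z = 0 := (mul_eq_zero.1 h5).resolve_right (by simpa using hy)
    exact hψ (LinearMap.ext fun y => by simpa [f2] using LinearMap.congr_fun (hf f2 h2u h4) ((0, y) : V × W))
  let f : Y →ₗ[k] V := (LinearMap.fst k V W).comp Y.subtype
  let g : Y →ₗ[k] W := (LinearMap.snd k V W).comp Y.subtype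
  have hfsurj : Function.Surjective f := by
    rw [← LinearMap.range_eq_top]
    refine (hρ.eq_bot_or_top _ fun g' a ha => ?_).resolve_left fun h => hv.ne ?_
    · obtain ⟨b, rfl⟩ := ha
      exact ⟨⟨π g' b.1, hinv g' _ b.2⟩, rfl⟩
    · exact (Submodule.mem_bot k).1 (h ▸ (⟨⟨_, hmem⟩, rfl⟩ : v ∈ LinearMap.range f))
  have hgsurj : Function.Surjective g := by
    rw [← LinearMap.range_eq_top]
    refine (hσ.eq_bot_or_top _ fun g' a ha => ?_).resolve_left fun h => hx.ne ?_
    · obtain ⟨b, rfl⟩ := ha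
      exact ⟨⟨π g' b.1, hinv g' _ b.2⟩, rfl⟩
    · exact (Submodule.mem_bot k).1 (h ▸ (⟨⟨_, hmem⟩, rfl⟩ : x ∈ LinearMap.range g))
  have hfinj : Function.Injective f := by
    rw [← LinearMap.ker_eq_bot]
    by_contra hker
    apply hnot
    let K : Submodule k W := Y.comap (LinearMap.inr k V W)
    have hK : K = ⊤ := by
      refine (hσ.eq_bot_or_top K fun g' a ha => ?_).resolve_left fun h => hker ?_
      · show ((0 : V), σ g' a) ∈ Y
        have := hinv g' _ (show ((0 : V), a) ∈ Y from ha)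
        simpa [hπ] using this
      · refine (Submodule.eq_bot_iff _).2 fun b hb => ?_
        have hb1 : b.1.1 = 0 := LinearMap.mem_ker.1 hb
        have hb2 : b.1.2 ∈ K := by
          show ((0 : V), b.1.2) ∈ Y
          rw [← hb1]; exact b.2
        rw [h, Submodule.mem_bot] at hb2
        exact Subtype.ext (Prod.ext hb1 hb2)
    refine Submodule.eq_top_iff'.2 fun a => ?_
    obtain ⟨b, hb⟩ := hfsurj a.1
    have h1 : ((0 : V), a.2 - b.1.2) ∈ Y := show a.2 - b.1.2 ∈ K by rw [hK]; trivial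
    convert Y.add_mem b.2 h1 using 1
    exact Prod.ext (by simpa [f] using hb.symm) (by simp)
  let e1 := LinearEquiv.ofBijective f ⟨hfinj, hfsurj⟩
  let e : V →ₗ[k] W := g.comp e1.symm.toLinearMap
  have he : Equivariant ρ σ e := by
    intro g' a
    obtain ⟨b, rfl⟩ := hfsurj a
    have h2 : ρ g' (f b) = f ⟨π g' b.1, hinv g' _ b.2⟩ := rfl
    rw [h2]
    simp only [e, LinearMap.comp_apply, LinearEquiv.coe_coe]
    rw [show e1.symm (f ⟨π g' b.1, hinv g' _ b.2⟩) = ⟨π g' b.1, hinv g' _ b.2⟩ from e1.symm_apply_apply _,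
      show e1.symm (f b) = b from e1.symm_apply_apply b]
    rfl
  rcases hρ.bijective_or_zero hσ he with h | h
  · exact ⟨LinearEquiv.ofBijective e h, he⟩
  · exfalso
    apply hx.ne
    have h2 := LinearMap.congr_fun h (f ⟨_, hmem⟩)
    simp only [e, LinearMap.comp_apply, LinearEquiv.coe_coe, LinearMap.zero_apply] at h2
    rw [show e1.symm (f ⟨_, hmem⟩) = ⟨_, hmem⟩ from e1.symm_apply_apply _] at h2
    exact h2

/-- Isomorphic irreducible representations have equal weights. -/
theorem eig_unique (hN : okNeg D = true) {T : List (List ℤ)} (hT : okHt D T = true)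
    (hl : Cfsg.Lib.Steinberg.okLin D C T = true) (hσ : Irred σ) (hiso : Iso ρ σ) {v : V} {x : W}
    {χ' : (Fin D.rank → Fˣ) →* kˣ} {A' : Set (Fin D.rank)}
    (hv : S.Eig ρ χ A v) (hx : S.Eig σ χ' A' x) : χ = χ' ∧ A = A' := by
  obtain ⟨e, he⟩ := hiso
  have hevf : Fixed σ (UG D F) (e v) := fun u hu => by
    have := he u v
    rw [hv.fixed u hu] at this
    exact this.symm
  obtain ⟨c, hc⟩ := S.fixed_line (p := p) hN hT hl hσ hx.ne hx.fixed hevf
  have hne : e v ≠ 0 := e.map_ne_zero_iff.2 hv.ne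
  constructor
  · refine MonoidHom.ext fun t => Units.ext (smul_left_injective k hne ?_)
    show (χ t : k) • e v = (χ' t : k) • e v
    have h1 := he (S.tI F t) v
    simp only [LinearEquiv.coe_coe, hv.weight t, map_smul] at h1
    rw [h1, hc, map_smul, hx.weight t, smul_comm]
  · have hhop : ∀ i, hop σ (UG D F) (S.gS F i) (e v) = c • hop σ (UG D F) (S.gS F i) x := fun i => by
      rw [hc, hop_smul]
    have hneg : ∀ y : W, y ≠ 0 → -y ≠ 0 := fun y h => neg_ne_zero.2 h
    ext i
    have h1 := hop_map (U := UG D F) he (S.gS F i) v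
    simp only [LinearEquiv.coe_coe] at h1
    rw [hhop i] at h1
    constructor
    · intro hi
      by_contra hi'
      rw [hv.mem i hi, hx.not_mem i hi', map_neg, smul_zero] at h1
      exact hneg _ hne h1
    · intro hi
      by_contra hi'
      rw [hv.not_mem i hi', hx.mem i hi, map_zero, smul_neg, ← hc] at h1
      exact hneg _ hne h1.symm

end Struct

end Cfsg.Lib.Chev
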