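import Cfsg.Agent.Chev.WeightsExist
import Cfsg.Agent.Chev.TorusInj
import Cfsg.Agent.Modular.Count

/-!
# The number of p-regular classes of a Chevalley group of simply connected type

The irreducible representations in the defining characteristic correspond to the weights, of which
there are `q ^ rank`; by Brauer's theorem this is also the number of `p`-regular classes.
-/

set_option autoImplicit false
set_option linter.unusedSectionVars false

open Cfsg.Lie

namespace Cfsg.Lib.Chev

open Cfsg.Lib.Modular

variable {D : ChevalleyDatum} {C : Cert} {F : Type*} [Field F] [Fintype F]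

/-- The weights. -/
abbrev Wt (k : Type*) [Field k] (D : ChevalleyDatum) (F : Type*) [Field F] :=
  {ω : ((Fin D.rank → Fˣ) →* kˣ) × Set (Fin D.rank) // ∀ i ∈ ω.2, Triv ω.1 i}

theorem card_Wt (k : Type*) [Field k] [IsAlgClosed k] (p : ℕ) [Fact p.Prime] [CharP k p] [CharP F p]
    (D : ChevalleyDatum) : Nat.card (Wt k D F) = Fintype.card F ^ D.rank := by
  classical
  let P : Type _ := {x : (Fˣ →* kˣ) × Bool // x.2 = true → x.1 = 1}
  have hsum : Nat.card P = Fintype.card F := by
    let e : P ≃ (Fˣ →* kˣ) ⊕ Unit :=
      { toFun := fun x => if x.1.2 then Sum.inr () else Sum.inl x.1.1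
        invFun := fun y => y.elim (fun f => ⟨(f, false), fun h => absurd h Bool.false_ne_true⟩)
          (fun _ => ⟨(1, true), fun _ => rfl⟩)
        left_inv := fun x => by
          obtain ⟨⟨f, b⟩, h⟩ := x
          cases b
          · rfl
          · cases h rfl; rfl
        right_inv := fun y => by rcases y with f | u <;> rfl }
    haveI : NeZero (Monoid.exponent Fˣ : k) := by
      refine ⟨fun h => ?_⟩
      have h1 := (CharP.cast_eq_zero_iff k p _).1 h
      have h2 := h1.trans (Group.exponent_dvd_card (G := Fˣ))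
      rw [Fintype.card_units] at h2
      obtain ⟨n, -, hn⟩ := FiniteField.card F p
      have h3 : p ∣ Fintype.card F := hn ▸ dvd_pow_self p n.pos.ne'
      have h4 := Nat.dvd_sub h3 h2
      rw [Nat.sub_sub_self Fintype.card_pos] at h4
      exact (Fact.out : p.Prime).not_dvd_one h4
    have hh : Nat.card (Fˣ →* kˣ) = Fintype.card F - 1 := by
      rw [CommGroup.card_monoidHom_of_hasEnoughRootsOfUnity, Nat.card_eq_fintype_card, Fintype.card_units]
    haveI : Finite (Fˣ →* kˣ) := Nat.finite_of_card_ne_zero (by rw [hh]; have := Fintype.one_lt_card (α := F); omega)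
    rw [Nat.card_congr e, Nat.card_sum, hh, Nat.card_unique]
    have := Fintype.card_pos (α := F)
    omega
  have hdec : ∀ (χ : (Fin D.rank → Fˣ) →* kˣ) c, χ c = ∏ i, χ (Pi.mulSingle i (c i)) := fun χ c => by
    rw [← map_prod, Finset.univ_prod_mulSingle]
  let e : Wt k D F ≃ (Fin D.rank → P) :=
    { toFun := fun ω i => ⟨(ω.1.1.comp (MonoidHom.mulSingle (fun _ => Fˣ) i), decide (i ∈ ω.1.2)),
        fun h => MonoidHom.ext fun a => ω.2 i (of_decide_eq_true h) a⟩
      invFun := fun f => ⟨({ toFun := fun c => ∏ i, (f i).1.1 (c i)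
                             map_one' := by simp
                             map_mul' := fun a b => by simp [Finset.prod_mul_distrib] }, {i | (f i).1.2 = true}),
        fun i hi a => by
          have h1 : (f i).1.1 = 1 := (f i).2 hi
          show ∏ j, (f j).1.1 (Pi.mulSingle (M := fun _ => Fˣ) i a j) = 1
          rw [Fintype.prod_eq_single i (fun j hj => by simp [Pi.mulSingle_eq_of_ne hj]), h1]
          rfl⟩
      left_inv := fun ω => by
        refine Subtype.ext (Prod.ext (MonoidHom.ext fun c => ?_) ?_)
        · exact (hdec ω.1.1 c).symm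
        · ext i; simp
      right_inv := fun f => by
        funext i
        refine Subtype.ext (Prod.ext (MonoidHom.ext fun a => ?_) ?_)
        · show ∏ j, (f j).1.1 (Pi.mulSingle (M := fun _ => Fˣ) i a j) = _
          rw [Fintype.prod_eq_single i (fun j hj => by simp [Pi.mulSingle_eq_of_ne hj]), Pi.mulSingle_eq_same]
        · simp }
  rw [Nat.card_congr e, Nat.card_fun, hsum, Nat.card_fin]

theorem Struct.card_pRegular (S : Struct D C) (p : ℕ) [Fact p.Prime] [CharP F p] (hN : okNeg D = true)
    {T : List (List ℤ)} (hT : okHt D T = true) (hl : Cfsg.Lib.Steinberg.okLin D C T = true)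
    (hinj : Function.Injective (Ok.tG D F)) :
    Nat.card {c : ConjClasses ↥(D.group F) // ∃ g : ↥(D.group F), ConjClasses.mk g = c ∧ (orderOf g).Coprime p} =
      Fintype.card F ^ D.rank := by
  classical
  let k := AlgebraicClosure (ZMod p)
  haveI : CharP k p := charP_of_injective_algebraMap (algebraMap (ZMod p) k).injective p
  have hcard := card_Wt (F := F) k p D
  haveI : Finite (Wt k D F) := Nat.finite_of_card_ne_zero (by rw [hcard]; exact pow_ne_zero _ Fintype.card_ne_zero)
  haveI : Fintype (Wt k D F) := Fintype.ofFinite _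
  choose X U σ x hirr heig using fun ω : Wt k D F =>
    S.exists_irred (p := p) hN hT hl hinj ω.1.1 ω.1.2 ω.2
  haveI : Fintype (↥(D.group F) ⧸ UG D F) := Fintype.ofFinite _
  have h := brauer_count (p := p) (M := fun ω => ↥(X ω) ⧸ U ω) σ hirr (fun i j hne hiso => hne (by
      obtain ⟨h1, h2⟩ := S.eig_unique (p := p) hN hT hl (hirr j) hiso (heig i) (heig j)
      exact Subtype.ext (Prod.ext h1 h2)))
    (fun N _ _ _ τ hτ => by
      haveI := hτ.nontrivial
      obtain ⟨χ, A, v, hv⟩ := S.exists_eig (p := p) hN τ
      exact ⟨⟨(χ, A), hv.triv⟩, S.iso_of_eig (p := p) hN hT hl (hirr _) hτ (heig ⟨(χ, A), hv.triv⟩) hv⟩)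
  rw [h, ← Nat.card_eq_fintype_card, hcard]

end Cfsg.Lib.Chev
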