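import Cfsg.Agent.Chev.Unip

/-!
The monomial subgroup acts on the root subgroups through permutations of the roots; its kernel is the diagonal
subgroup (exchange argument).
-/

set_option autoImplicit false

open Cfsg.Lie

namespace Cfsg.Lib.Chev

variable {D : ChevalleyDatum} {C : Cert} {F : Type*} [Field F]

/-- `g` permutes the root subgroups and the root coordinates by `w`. -/
def Act (h : Ok D C) (g : GL D.Idx F) (w : Equiv.Perm (Fin D.nroots)) : Prop :=
  ∀ r : Fin D.nroots, (∀ x : D.Idx, x ≠ Sum.inr (w r) → (g : Matrix D.Idx D.Idx F) x (Sum.inr r) = 0) ∧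
    ∃ c : F, c ≠ 0 ∧ ∀ t : F, g * h.xG r.val t * g⁻¹ = h.xG (w r).val (c * t) ∧
      g * h.nG r.val t * g⁻¹ = h.nG (w r).val (c * t)

namespace Struct

/-- The fundamental reflection as a permutation of the roots. -/
noncomputable def wp (S : Struct D C) (i : Fin D.rank) : Equiv.Perm (Fin D.nroots) :=
  Function.Involutive.toPerm (fun s => ⟨C.w i.val s.val, S.ok.w_lt i.isLt s.isLt⟩)
    (fun s => Fin.ext (S.ok.w_w i.isLt s.isLt))

theorem wp_val (S : Struct D C) (i : Fin D.rank) (s : Fin D.nroots) : (S.wp i s).val = C.w i.val s.val := rfl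

theorem wp_mul_self (S : Struct D C) (i : Fin D.rank) : S.wp i * S.wp i = 1 :=
  Equiv.ext fun s => Fin.ext (S.ok.w_w i.isLt s.isLt)

/-- The permutation of a word of fundamental reflections. -/
noncomputable def wpL (S : Struct D C) (L : List (Fin D.rank)) : Equiv.Perm (Fin D.nroots) := (L.map S.wp).prod

/-- The product of a word of the elements `n_p`. -/
noncomputable def nL (S : Struct D C) (F : Type*) [Field F] (L : List (Fin D.rank)) : GL D.Idx F :=
  (L.map fun i : Fin D.rank => S.ok.nG (D.simple i.val) (1 : F)).prod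

theorem act_one (S : Struct D C) : Act S.ok (1 : GL D.Idx F) 1 :=
  fun r => ⟨fun x hx => by rw [Units.val_one, Matrix.one_apply_ne]; exact hx,
    1, one_ne_zero, fun t => ⟨by simp, by simp⟩⟩

theorem act_mul (S : Struct D C) {g g' : GL D.Idx F} {w w' : Equiv.Perm (Fin D.nroots)}
    (hg : Act S.ok g w) (hg' : Act S.ok g' w') : Act S.ok (g * g') (w * w') := by
  intro r
  obtain ⟨z', c', hc', e'⟩ := hg' r
  obtain ⟨z, c, hc, e⟩ := hg (w' r)
  refine ⟨fun x hx => ?_, c * c', mul_ne_zero hc hc', fun t => ⟨?_, ?_⟩⟩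
  · rw [Units.val_mul, Matrix.mul_apply, Finset.sum_eq_single (Sum.inr (w' r) : D.Idx)]
    · rw [z x hx, zero_mul]
    · intro y _ hy
      rw [z' y hy, mul_zero]
    · simp
  · rw [mul_inv_rev, show g * g' * S.ok.xG r.val t * (g'⁻¹ * g⁻¹) = g * (g' * S.ok.xG r.val t * g'⁻¹) * g⁻¹ by
      group, (e' t).1, (e (c' * t)).1, mul_assoc]
    rfl
  · rw [mul_inv_rev, show g * g' * S.ok.nG r.val t * (g'⁻¹ * g⁻¹) = g * (g' * S.ok.nG r.val t * g'⁻¹) * g⁻¹ by
      group, (e' t).2, (e (c' * t)).2, mul_assoc]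
    rfl

theorem act_nG (S : Struct D C) (i : Fin D.rank) :
    Act S.ok (S.ok.nG (D.simple i) (1 : F)) (S.wp i) := by
  intro r
  refine ⟨fun x hx => ?_, (C.eta i r : F), Ok.eta_ne_zero C i r,
    fun t => ⟨S.ok.conj_nG_xG i.isLt r.isLt t, S.ok.conj_nG_nG i.isLt r.isLt t⟩⟩
  rw [S.ok.nG_one_val i.isLt, S.ok.nc_apply_inr i.isLt]
  rcases x with a | s
  · rfl
  · simp only [Sum.elim_inr, ← (S.ok.refl_spec i.isLt r.isLt).2.1]
    rw [if_neg]
    exact fun e => hx (congrArg Sum.inr (Fin.ext e))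

theorem tG_conj_xG (S : Struct D C) {s : ℕ} (hs : s < D.nroots) (c : Fin D.rank → Fˣ) (t : F) :
    Ok.tG D F c * S.ok.xG s t * (Ok.tG D F c)⁻¹ =
      S.ok.xG s (((∏ i, c i ^ D.cartan i s : Fˣ) : F) * t) := by
  let K : Subgroup (Fin D.rank → Fˣ) :=
    { carrier := {c | ∀ t : F, Ok.tG D F c * S.ok.xG s t * (Ok.tG D F c)⁻¹ =
        S.ok.xG s (((∏ i, c i ^ D.cartan i s : Fˣ) : F) * t)}
      one_mem' := fun t => by simp
      mul_mem' := fun {a b} ha hb t => by
        rw [map_mul, mul_inv_rev,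
          show Ok.tG D F a * Ok.tG D F b * S.ok.xG s t * ((Ok.tG D F b)⁻¹ * (Ok.tG D F a)⁻¹) =
            Ok.tG D F a * (Ok.tG D F b * S.ok.xG s t * (Ok.tG D F b)⁻¹) * (Ok.tG D F a)⁻¹ by group, hb, ha]
        congr 1
        rw [← mul_assoc, ← Units.val_mul, ← Finset.prod_mul_distrib]
        simp [mul_zpow]
      inv_mem' := fun {a} ha t => by
        have hu : (∏ i, a⁻¹ i ^ D.cartan i s : Fˣ) = (∏ i, a i ^ D.cartan i s : Fˣ)⁻¹ := by
          rw [← Finset.prod_inv_distrib]; simp [inv_zpow]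
        have h1 := ha (((∏ i, a⁻¹ i ^ D.cartan i s : Fˣ) : F) * t)
        rw [hu, ← mul_assoc, Units.mul_inv, one_mul] at h1
        rw [map_inv, inv_inv, hu]
        conv_lhs => rw [← h1]
        group }
  have hc : c ∈ K := by
    rw [← Finset.univ_prod_mulSingle c]
    refine Subgroup.prod_mem _ fun i _ t => ?_
    rw [← S.ok.hG_simple_eq_tG, S.ok.hG_mul_xG_simple i.isLt hs (c i).ne_zero, mul_inv_cancel_right,
      Fintype.prod_eq_single i (fun j hj => by simp [Pi.mulSingle_eq_of_ne hj]), Pi.mulSingle_eq_same,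
      Units.val_zpow_eq_zpow_val]
  exact hc t

theorem act_diag (S : Struct D C) {g : GL D.Idx F} (hg : g ∈ D.diagonalSubgroup F) : Act S.ok g 1 := by
  rw [S.ok.diagonalSubgroup_eq] at hg
  obtain ⟨c, rfl⟩ := hg
  intro r
  have hnr : D.neg r < D.nroots := by have := (S.order_row r.isLt).1; omega
  refine ⟨fun x hx => ?_, ((∏ i, c i ^ D.cartan i r : Fˣ) : F), Units.ne_zero _,
    fun t => ⟨S.tG_conj_xG r.isLt c t, ?_⟩⟩
  · rw [Ok.tG_val, Matrix.diagonal_apply_ne]
    exact hx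
  · have hcart : (∏ i, c i ^ D.cartan i (D.neg r) : Fˣ) = (∏ i, c i ^ D.cartan i r : Fˣ)⁻¹ := by
      rw [← Finset.prod_inv_distrib]
      refine Finset.prod_congr rfl fun i _ => ?_
      rw [← zpow_neg, ← S.ok.cart_eq i.isLt hnr, ← S.ok.cart_eq i.isLt r.isLt, ← S.ok.neg_eq r.isLt,
        (S.ok.refl_spec i.isLt r.isLt).2.2.2.2.1]
    have e : ∀ (a : ℕ) (v : F), S.ok.nG a v = S.ok.xG a v * S.ok.xG (D.neg a) (-v⁻¹) * S.ok.xG a v :=
      fun _ _ => rfl
    rw [e, e, ← conj_mul, ← conj_mul, S.tG_conj_xG r.isLt, S.tG_conj_xG hnr, hcart]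
    simp only [Equiv.Perm.one_apply, Units.val_inv_eq_inv_val, mul_inv, mul_neg]

theorem act_nL (S : Struct D C) : ∀ L : List (Fin D.rank), Act S.ok (S.nL F L) (S.wpL L)
  | [] => by simpa [nL, wpL] using S.act_one (F := F)
  | i :: L => by
    simp only [nL, wpL, List.map_cons, List.prod_cons]
    exact S.act_mul (S.act_nG i) (S.act_nL L)

theorem act_unique (S : Struct D C) {g : GL D.Idx F} {w w' : Equiv.Perm (Fin D.nroots)}
    (hw : Act S.ok g w) (hw' : Act S.ok g w') : w = w' := by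
  refine Equiv.ext fun r => ?_
  by_contra hne
  have hcol : ∀ x, (g : Matrix D.Idx D.Idx F) x (Sum.inr r) = 0 := fun x => by
    by_cases hx : x = Sum.inr (w r)
    · exact (hw' r).1 x (by rw [hx]; exact fun e => hne (Sum.inr.inj e))
    · exact (hw r).1 x hx
  have h1 : (((g⁻¹ : GL D.Idx F) : Matrix D.Idx D.Idx F) * (g : Matrix D.Idx D.Idx F)) (Sum.inr r) (Sum.inr r) = 1 := by
    rw [← Units.val_mul, inv_mul_cancel, Units.val_one, Matrix.one_apply_eq]
  rw [Matrix.mul_apply, Finset.sum_eq_zero fun x _ => by rw [hcol x, mul_zero]] at h1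
  exact zero_ne_one h1

theorem wp_neg (S : Struct D C) (L : List (Fin D.rank)) (r : Fin D.nroots) (hr : D.neg r < D.nroots) :
    (S.wpL L ⟨D.neg r, hr⟩).val = D.neg (S.wpL L r).val := by
  induction L with
  | nil => rfl
  | cons i L ih =>
    simp only [wpL, List.map_cons, List.prod_cons, Equiv.Perm.mul_apply, wp_val] at ih ⊢
    rw [ih, S.ok.neg_w i.isLt]
    exact Fin.isLt _

theorem pos_w (S : Struct D C) {i s : ℕ} (hi : i < D.rank) (hs : D.nroots / 2 ≤ s) (hs' : s < D.nroots)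
    (hne : s ≠ C.sr i) : D.nroots / 2 ≤ C.w i s := by
  have h0 := S.ok.pos
  simp only [Cert.okPos, Bool.and_eq_true, kall_iff] at h0
  have h1 := (h0.2 i (by rw [krange_eq, List.mem_range'_1, S.ok.l_eq]; omega)).2 s
    (by rw [krange_eq, List.mem_range'_1, S.ok.n_eq]; omega)
  have e : Nat.div C.n 2 = D.nroots / 2 := by rw [S.ok.n_eq]; rfl
  rw [e] at h1
  simp only [Bool.or_eq_true, Nat.ble_eq, blt_true] at h1
  rcases h1 with (h1 | h1) | h1
  · exact h1
  · exact absurd (Nat.eq_of_beq_eq_true h1) hne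
  · omega

theorem sr_pos (S : Struct D C) {i : ℕ} (hi : i < D.rank) : D.nroots / 2 ≤ C.sr i := by
  have h0 := S.ok.pos
  simp only [Cert.okPos, Bool.and_eq_true, kall_iff] at h0
  have h1 := (h0.2 i (by rw [krange_eq, List.mem_range'_1, S.ok.l_eq]; omega)).1
  have e : Nat.div C.n 2 = D.nroots / 2 := by rw [S.ok.n_eq]; rfl
  rw [e, Nat.ble_eq] at h1
  exact h1

/-- The fundamental root as an index. -/
noncomputable def sp (S : Struct D C) (i : Fin D.rank) : Fin D.nroots := ⟨C.sr i.val, S.ok.sr_lt i.isLt⟩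

theorem nG_mul_self_mem (S : Struct D C) {i : ℕ} (hi : i < D.rank) :
    S.ok.nG (D.simple i) (1 : F) * S.ok.nG (D.simple i) 1 ∈ D.diagonalSubgroup F := by
  have e : S.ok.nG (D.simple i) (1 : F) * S.ok.nG (D.simple i) 1 = (S.ok.hG (D.simple i) (-1 : F))⁻¹ := by
    simp [Ok.hG, S.ok.nG_inv]
  rw [e]
  exact inv_mem (Subgroup.subset_closure
    ⟨D.simple i, -1, S.ok.sr_eq hi ▸ S.ok.sr_lt hi, by simp, S.ok.val_hG _ _⟩)

theorem hG_mem_diag (S : Struct D C) {i : ℕ} (hi : i < D.rank) {c : F} (hc : c ≠ 0) :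
    S.ok.hG (D.simple i) c ∈ D.diagonalSubgroup F :=
  Subgroup.subset_closure ⟨D.simple i, c, S.ok.sr_eq hi ▸ S.ok.sr_lt hi, hc, S.ok.val_hG _ _⟩

theorem nG_mem_mono (S : Struct D C) (i : Fin D.rank) :
    S.ok.nG (D.simple i) (1 : F) ∈ D.monomialSubgroup F := by
  rw [S.ok.monomialSubgroup_eq]
  exact Subgroup.mem_sup_right (Subgroup.subset_closure ⟨i, i.isLt, rfl⟩)

theorem nL_mem_mono (S : Struct D C) (L : List (Fin D.rank)) : S.nL F L ∈ D.monomialSubgroup F := by
  refine list_prod_mem fun g hg => ?_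
  obtain ⟨i, -, rfl⟩ := List.mem_map.1 hg
  exact S.nG_mem_mono i

theorem norm_diag (S : Struct D C) {g x : GL D.Idx F} (hg : g ∈ D.monomialSubgroup F)
    (hx : x ∈ D.diagonalSubgroup F) : g * x * g⁻¹ ∈ D.diagonalSubgroup F :=
  (Subgroup.mem_normalizer_iff.1 (S.ok.monomial_le_normalizer hg) x).1 hx

/-- Exchange: a word sending the fundamental root `i` to a negative root absorbs `n_i`. -/
theorem exchange (S : Struct D C) (i : Fin D.rank) : ∀ (L : List (Fin D.rank)),
    (S.wpL L (S.sp i)).val < D.nroots / 2 →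
    ∃ (L' : List (Fin D.rank)), ∃ h' ∈ D.diagonalSubgroup F, L'.length + 1 = L.length ∧
      S.nL F L * S.ok.nG (D.simple i) 1 = h' * S.nL F L'
  | [], hneg => by
    simp only [wpL, List.map_nil, List.prod_nil, Equiv.Perm.one_apply, sp] at hneg
    exact absurd hneg (by have := S.sr_pos i.isLt; omega)
  | a :: M, hneg => by
    simp only [wpL, List.map_cons, List.prod_cons, Equiv.Perm.mul_apply] at hneg
    by_cases hv : (S.wpL M (S.sp i)).val < D.nroots / 2
    · obtain ⟨M', h', hh', hlen, e⟩ := exchange S i M hv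
      refine ⟨a :: M', S.ok.nG (D.simple a) 1 * h' * (S.ok.nG (D.simple a) 1)⁻¹,
        S.norm_diag (S.nG_mem_mono a) hh', by simp [← hlen], ?_⟩
      simp only [nL, List.map_cons, List.prod_cons] at e ⊢
      rw [mul_assoc, e]
      group
    · have hva : (S.wpL M (S.sp i)).val = C.sr a.val := by
        by_contra hne
        have := S.pos_w a.isLt (by omega) (S.wpL M (S.sp i)).isLt hne
        simp only [wpL] at this
        rw [wp_val] at hneg
        omega
      obtain ⟨-, c, hc, e⟩ := S.act_nL (F := F) M (S.sp i)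
      have e1 := (e 1).2
      rw [hva, S.ok.sr_eq a.isLt, mul_one, show (S.sp i).val = C.sr i.val from rfl,
        S.ok.sr_eq i.isLt, S.ok.nG_eq_hG_mul a.isLt hc, mul_inv_eq_iff_eq_mul] at e1
      refine ⟨M, S.ok.nG (D.simple a) 1 * S.ok.hG (D.simple a) c * (S.ok.nG (D.simple a) 1)⁻¹ *
        (S.ok.nG (D.simple a) 1 * S.ok.nG (D.simple a) 1),
        mul_mem (S.norm_diag (S.nG_mem_mono a) (S.hG_mem_diag a.isLt hc)) (S.nG_mul_self_mem a.isLt),
        by simp, ?_⟩
      simp only [nL, List.map_cons, List.prod_cons] at e1 ⊢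
      rw [mul_assoc, e1]
      group

theorem nL_mem_diag (S : Struct D C) : ∀ (m : ℕ) (L : List (Fin D.rank)), L.length = m → S.wpL L = 1 →
    S.nL F L ∈ D.diagonalSubgroup F := by
  intro m
  induction m using Nat.strong_induction_on with
  | _ m ih =>
    intro L hm hL
    rcases eq_or_ne L [] with rfl | hne
    · simp [nL, one_mem]
    obtain ⟨M, i, rfl⟩ : ∃ M i, L = M ++ [i] := ⟨L.dropLast, L.getLast hne, (List.dropLast_append_getLast hne).symm⟩
    have hwM : S.wpL M = S.wp i := by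
      have h1 : S.wpL M * S.wp i = 1 := by simpa [wpL] using hL
      rw [eq_inv_of_mul_eq_one_left h1, inv_eq_of_mul_eq_one_right (S.wp_mul_self i)]
    have hneg : (S.wpL M (S.sp i)).val < D.nroots / 2 := by
      rw [hwM, wp_val, show (S.sp i).val = C.sr i.val from rfl, (S.ok.refl_simple i.isLt).1,
        S.ok.neg_eq (S.ok.sr_lt i.isLt)]
      exact S.neg_lt_half (S.ok.sr_lt i.isLt) (S.sr_pos i.isLt)
    obtain ⟨M', h', hh', hlen, e⟩ := S.exchange (F := F) i M hneg
    have hperm : S.wpL M' = 1 := by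
      have h1 := S.act_mul (S.act_diag hh') (S.act_nL (F := F) M')
      have h2 := S.act_mul (S.act_nL (F := F) M) (S.act_nG i)
      rw [e] at h2
      have := S.act_unique h1 h2
      rw [one_mul, hwM, S.wp_mul_self] at this
      exact this
    have : S.nL F (M ++ [i]) = h' * S.nL F M' := by
      rw [← e]; simp [nL]
    rw [this]
    refine mul_mem hh' (ih M'.length ?_ M' rfl hperm)
    simp at hm
    omega

theorem exists_word (S : Struct D C) {g : GL D.Idx F} (hg : g ∈ D.monomialSubgroup F) :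
    ∃ h' ∈ D.diagonalSubgroup F, ∃ L, g = h' * S.nL F L := by
  rw [S.ok.monomialSubgroup_eq, ← Subgroup.closure_eq (D.diagonalSubgroup F), ← Subgroup.closure_union] at hg
  induction hg using Subgroup.closure_induction_right with
  | one => exact ⟨1, one_mem _, [], by simp [nL]⟩
  | mul_right x _ y hy ih =>
    obtain ⟨h', hh', L, rfl⟩ := ih
    rcases hy with hy | ⟨i, hi, rfl⟩
    · refine ⟨h' * (S.nL F L * y * (S.nL F L)⁻¹), mul_mem hh' (S.norm_diag (S.nL_mem_mono L) hy), L, ?_⟩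
      group
    · exact ⟨h', hh', L ++ [⟨i, hi⟩], by simp [nL, mul_assoc]⟩
  | mul_inv_cancel x _ y hy ih =>
    obtain ⟨h', hh', L, rfl⟩ := ih
    rcases hy with hy | ⟨i, hi, rfl⟩
    · refine ⟨h' * (S.nL F L * y⁻¹ * (S.nL F L)⁻¹),
        mul_mem hh' (S.norm_diag (S.nL_mem_mono L) (inv_mem hy)), L, ?_⟩
      group
    · refine ⟨h' * (S.nL F L * (S.ok.nG (D.simple i) 1 * S.ok.nG (D.simple i) 1)⁻¹ * (S.nL F L)⁻¹),
        mul_mem hh' (S.norm_diag (S.nL_mem_mono L) (inv_mem (S.nG_mul_self_mem hi))), L ++ [⟨i, hi⟩], ?_⟩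
      simp [nL, mul_assoc]

theorem exists_act (S : Struct D C) {g : GL D.Idx F} (hg : g ∈ D.monomialSubgroup F) :
    ∃ L, Act S.ok g (S.wpL L) ∧ (S.wpL L = 1 ↔ g ∈ D.diagonalSubgroup F) := by
  obtain ⟨h', hh', L, rfl⟩ := S.exists_word hg
  have hact : Act S.ok (h' * S.nL F L) (S.wpL L) := by
    simpa using S.act_mul (S.act_diag hh') (S.act_nL (F := F) L)
  refine ⟨L, hact, fun h => mul_mem hh' (S.nL_mem_diag _ L rfl h), fun h => S.act_unique hact (S.act_diag h)⟩

end Struct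

end Cfsg.Lib.Chev
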